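import Groth.Agent.H12AlgSp.LocP

/-!
Cancellation for properties etale local on source and target; consequences for etale morphisms.
-/

set_option linter.unusedVariables false

universe u

open CategoryTheory CategoryTheory.Limits AlgebraicGeometry Opposite
open AlgSp

namespace Groth.Agent.H12AlgSp

theorem lfp_of_comp {X Y Z : Scheme.{u}} (f : X ⟶ Y) (g : Y ⟶ Z) [h : LocallyOfFinitePresentation (f ≫ g)]
    [LocallyOfFiniteType g] : LocallyOfFinitePresentation f := by
  rw [HasRingHomProperty.iff_exists_appLE (P := @LocallyOfFinitePresentation)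
    (RingHom.finitePresentation_stableUnderComposition.stableUnderCompositionWithLocalizationAway
      RingHom.finitePresentation_holdsForLocalizationAway).1]
  intro x
  obtain ⟨W, hW, hxW, -⟩ := TopologicalSpace.Opens.isBasis_iff_nbhd.mp Z.isBasis_affineOpens
    (TopologicalSpace.Opens.mem_top (g (f x)))
  obtain ⟨U, hU, hxU, hUW⟩ := TopologicalSpace.Opens.isBasis_iff_nbhd.mp Y.isBasis_affineOpens
    (show f x ∈ g ⁻¹ᵁ W from hxW)
  obtain ⟨V, hV, hxV, hVU⟩ := TopologicalSpace.Opens.isBasis_iff_nbhd.mp X.isBasis_affineOpens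
    (show x ∈ f ⁻¹ᵁ U from hxU)
  refine ⟨⟨U, hU⟩, ⟨V, hV⟩, hxV, hVU, ?_⟩
  have hg : (g.appLE W U hUW).hom.FiniteType :=
    HasRingHomProperty.appLE @LocallyOfFiniteType g ‹_› ⟨W, hW⟩ ⟨U, hU⟩ hUW
  have hfg := HasRingHomProperty.appLE @LocallyOfFinitePresentation (f ≫ g) h ⟨W, hW⟩ ⟨V, hV⟩
    (hVU.trans ((TopologicalSpace.Opens.map f.base).map (homOfLE hUW)).le)
  rw [← Scheme.Hom.appLE_comp_appLE f g W U V hUW hVU, CommRingCat.hom_comp] at hfg
  exact RingHom.FinitePresentation.of_comp_finiteType _ hfg hg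

theorem lfp_of_lft_of_isLocallyNoetherian {X Y : Scheme.{u}} (f : X ⟶ Y) [h : LocallyOfFiniteType f]
    [IsLocallyNoetherian Y] : LocallyOfFinitePresentation f := by
  rw [HasRingHomProperty.iff_appLE (P := @LocallyOfFinitePresentation)]
  intro U V e
  have : IsNoetherianRing Γ(Y, U.1) := IsLocallyNoetherian.component_noetherian U
  exact RingHom.FinitePresentation.of_finiteType.1
    (HasRingHomProperty.appLE @LocallyOfFiniteType f h U V e)

variable {S : Scheme.{u}} {P Q R : MorphismProperty Scheme.{u}}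

/-- If `f ≫ g` has `Q` and `g` has `R`, then `f` has `P`, as soon as this holds for schemes. -/
theorem locP_of_postcomp (hP : EtLocal P)
    (H : ∀ ⦃A B C : Scheme.{u}⦄ (f : A ⟶ B) (g : B ⟶ C), Q (f ≫ g) → R g → P f) {X Y Z : Sp S}
    (hZ : IsAlgSpace Z) {f : X ⟶ Y} {g : Y ⟶ Z} (h : LocP Q (f ≫ g)) (hg : LocP R g) : LocP P f := by
  have := hP.comp
  obtain ⟨W, c, hc, hcs⟩ := hZ.atlas
  intro U V a b e ha hb w
  obtain ⟨T, t, k, sq⟩ := hc.rep (b ≫ g)
  obtain ⟨k, rfl⟩ := (yon S).map_surjective k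
  have ht : Etale t.left := hc.property _ _ t sq
  have hts : Surjective t.left := hcs.property _ _ t sq
  obtain ⟨A, p, q, sqA⟩ : ∃ (A : Over S) (p : A ⟶ U) (q : A ⟶ T), IsPullback p q e t :=
    ⟨_, _, _, IsPullback.of_hasPullback e t⟩
  have sqA' := sqA.map (Over.forget S)
  have hp : Etale p.left := MorphismProperty.of_isPullback sqA'.flip ht
  have hps : Surjective p.left := MorphismProperty.of_isPullback sqA'.flip hts
  refine hP.descends p.left e.left hp hps ?_
  rw [← Over.comp_left, sqA.w, Over.comp_left]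
  refine P.comp_mem _ _ (H q.left k.left ?_ ?_) (hP.etale_le _ _ _ ht)
  · rw [← Over.comp_left]
    refine h ((yon S).map p ≫ a) c (q ≫ k) (repWith_comp ((repWith_yon_map_iff _ _).2 hp) ha) hc ?_
    have := (yon S).congr_map sqA.w
    simp only [Functor.map_comp, Category.assoc] at this ⊢
    rw [reassoc_of% w, reassoc_of% this, sq.w]
  · refine hg ((yon S).map t ≫ b) c k (repWith_comp ((repWith_yon_map_iff _ _).2 ht) hb) hc ?_
    rw [Category.assoc, sq.w]

theorem locP_top {F G : Sp S} (f : F ⟶ G) : LocP (⊤ : MorphismProperty Scheme.{u}) f :=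
  fun _ _ _ _ _ _ _ _ => trivial

/-- If `f ≫ g` has `P` and `P` cancels on the left for schemes, then `f` has `P`. -/
theorem locP_of_comp (hP : EtLocal P)
    (H : ∀ ⦃A B C : Scheme.{u}⦄ (f : A ⟶ B) (g : B ⟶ C), P (f ≫ g) → P f) {X Y Z : Sp S}
    (hZ : IsAlgSpace Z) {f : X ⟶ Y} {g : Y ⟶ Z} (h : LocP P (f ≫ g)) : LocP P f :=
  locP_of_postcomp (R := ⊤) hP (fun _ _ _ f g hfg _ => H f g hfg) hZ h (locP_top g)

/-- An etale morphism induces an open map on points. -/
theorem isOpenMap_map_of_isEtaleMor {F G : Sp S} (hF : IsAlgSpace F) {f : F ⟶ G} (h : IsEtaleMor f) :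
    IsOpenMap (Points.map f) := by
  obtain ⟨U, p, hp, hps⟩ := hF.atlas
  intro W hW
  have hq := (isQuotientMap_ofPt hp hps)
  rw [← Set.image_preimage_eq W hq.surjective, Set.image_image]
  simp only [Points.map_ofPt]
  exact isOpenMap_ofPt_of_repWith etale_le_universallyOpen (h p hp) _
    (hW.preimage (Points.continuous_ofPt p))

end Groth.Agent.H12AlgSp
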