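import Groth.Agent.H12AlgSp.Sep

/-!
Consequences for morphisms of algebraic spaces.
-/

universe u

open CategoryTheory CategoryTheory.Limits AlgebraicGeometry Opposite
open AlgSp

namespace Groth.Agent.H12AlgSp

variable {S : Scheme.{u}} {X Y : Sp S}

theorem repWith_lqfft_diag (hX : IsAlgSpace X) :
    RepWith ((@LocallyQuasiFinite : MorphismProperty Scheme.{u}) ⊓ @LocallyOfFiniteType) (Limits.diag X) :=
  repWith_inf_iff.2 ⟨repWith_lqf_diag hX, repWith_lft_diag hX⟩

theorem repWith_isSeparated_diag (hX : IsAlgSpace X) : RepWith @IsSeparated (Limits.diag X) :=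
  repWith_le monomorphisms_le_isSeparated (repWith_mono_diag hX)

/-- The five properties of the relative diagonal of a morphism from an algebraic space. -/
theorem diagonal_properties (hX : IsAlgSpace X) (f : X ⟶ Y) :
    Representable (pullback.diagonal f) ∧
    RepWith @LocallyOfFiniteType (pullback.diagonal f) ∧
    RepWith ((@LocallyQuasiFinite : MorphismProperty Scheme.{u}) ⊓ @LocallyOfFiniteType) (pullback.diagonal f) ∧
    RepWith @IsSeparated (pullback.diagonal f) ∧
    RepWith (MorphismProperty.monomorphisms Scheme.{u}) (pullback.diagonal f) :=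
  ⟨representable_diagonal f hX.diag, repWith_diagonal f (repWith_lft_diag hX),
    repWith_diagonal f (repWith_lqfft_diag hX), repWith_diagonal f (repWith_isSeparated_diag hX),
    repWith_diagonal f (repWith_mono_diag hX)⟩

end Groth.Agent.H12AlgSp

set_option backward.isDefEq.respectTransparency false

namespace Groth.Agent.H12AlgSp

variable {S : Scheme.{u}}

/-- Being a monomorphism descends along etale surjective charts of the target. -/
theorem mono_of_cover {X Y V Q : Sp S} (hX : IsAlgSpace X) {f : X ⟶ Y} {p : V ⟶ Y}
    (hp : RepWith @Etale p) (hps : RepWith @Surjective p) {fst : Q ⟶ X} {snd : Q ⟶ V}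
    (sq : IsPullback fst snd f p) [Mono snd] : Mono f := by
  have h0 : RepWith (MorphismProperty.isomorphisms Scheme.{u}) (pullback.diagonal snd) :=
    repWith_of_isIso _
  have h := repWith_diagonal_of_cover hX hp hps sq h0
  refine mono_of_yon fun T a b e => ?_
  obtain ⟨W, w, k, sqW⟩ := h.rep (pullback.lift a b e)
  have hw : IsIso w.left := h.property _ k w sqW
  have : IsIso w := by
    have : IsIso ((Over.forget S).map w) := hw
    exact isIso_of_reflects_iso w (Over.forget S)
  have e1 : ((yon S).map (inv w) ≫ k) ≫ pullback.diagonal f = pullback.lift a b e := by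
    rw [Category.assoc, sqW.w, Functor.map_inv, IsIso.inv_hom_id_assoc]
  have e2 := e1 =≫ pullback.fst f f
  have e3 := e1 =≫ pullback.snd f f
  simp only [Category.assoc, pullback.diagonal_fst, pullback.diagonal_snd, Category.comp_id,
    pullback.lift_fst, pullback.lift_snd] at e2 e3
  exact e2.symm.trans e3

end Groth.Agent.H12AlgSp
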