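import Groth.Agent.H12AlgSp.Univ
import Groth.Agent.H12AlgSp.SepSpace
import Groth.Agent.H12AlgSp.LocPCancel
import Mathlib.AlgebraicGeometry.Morphisms.FlatMono
import Mathlib.AlgebraicGeometry.Morphisms.IsIso
import Mathlib.AlgebraicGeometry.Morphisms.UniversallyInjective

/-!
Field-valued points, universally injective morphisms.
-/

set_option linter.unusedVariables false

universe u

open CategoryTheory CategoryTheory.Limits AlgebraicGeometry Opposite Topology
open AlgSp

namespace Groth.Agent.H12AlgSp

theorem flat_to_field {W : Scheme.{u}} {K : Type u} [Field K] (w : W ⟶ Spec (CommRingCat.of K)) :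
    Flat w := by
  refine (HasRingHomProperty.iff_of_source_openCover (P := @Flat) W.affineCover).2 fun i => ?_
  set φ := (W.affineCover.f i ≫ w).appTop.hom
  have hK : IsField Γ(Spec (CommRingCat.of K), ⊤) :=
    MulEquiv.isField (Field.toIsField K) (Scheme.ΓSpecIso (CommRingCat.of K)).commRingCatIsoToRingEquiv.toMulEquiv
  let := hK.toField
  let := φ.toAlgebra
  exact RingHom.flat_algebraMap_iff.2 inferInstance

theorem isIso_of_mono_to_field {W : Scheme.{u}} {K : Type u} [Field K]
    (w : W ⟶ Spec (CommRingCat.of K)) [Mono w] [LocallyOfFiniteType w] [Nonempty W] : IsIso w := by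
  have := flat_to_field w
  have : LocallyOfFinitePresentation w := lfp_of_lft_of_isLocallyNoetherian w
  have : IsOpenImmersion w := IsOpenImmersion.of_flat_of_mono w
  exact (isIso_iff_isOpenImmersion_and_surjective w).2
    ⟨inferInstance, ⟨fun y => ⟨Classical.arbitrary W, Subsingleton.elim _ _⟩⟩⟩

variable {S : Scheme.{u}} {X Y : Sp S}

/-- Two field-valued points whose pair is in the image of the diagonal are equal. -/
theorem eq_of_mem_range_diagonal (hX : IsAlgSpace X) (f : X ⟶ Y) {K : Type u} [Field K]
    {str : Spec (CommRingCat.of K) ⟶ S} (a b : (yon S).obj (Over.mk str) ⟶ X) (e : a ≫ f = b ≫ f)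
    (h : ∃ t, Points.ofPt (pullback.lift a b e) t ∈ Set.range (Points.map (pullback.diagonal f))) :
    a = b := by
  obtain ⟨t, ht⟩ := h
  have hΔ : RepWith (MorphismProperty.monomorphisms Scheme.{u}) (pullback.diagonal f) :=
    repWith_diagonal f (repWith_mono_diag hX)
  have hl : RepWith @LocallyOfFiniteType (pullback.diagonal f) :=
    repWith_diagonal f (repWith_lft_diag hX)
  let x := pullback.lift a b e
  obtain ⟨W, w, k, sq⟩ := hΔ.rep x
  have hmem := (preimage_ofPt_range sq).le ht
  have : Nonempty W.left := ⟨hmem.choose⟩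
  have : Mono w.left := hΔ.property x k w sq
  have : LocallyOfFiniteType w.left := hl.property x k w sq
  have hw : IsIso w.left :=
    isIso_of_mono_to_field (W := W.left) (K := K) (w.left : W.left ⟶ Spec (CommRingCat.of K))
  have : IsIso w := by
    have : IsIso ((Over.forget S).map w) := hw
    exact isIso_of_reflects_iso w (Over.forget S)
  have e1 : ((yon S).map (inv w) ≫ k) ≫ pullback.diagonal f = x := by
    rw [Category.assoc, sq.w, Functor.map_inv, IsIso.inv_hom_id_assoc]
  have e2 := e1 =≫ pullback.fst f f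
  have e3 := e1 =≫ pullback.snd f f
  simp only [x, Category.assoc, pullback.diagonal_fst, pullback.diagonal_snd, Category.comp_id,
    pullback.lift_fst, pullback.lift_snd] at e2 e3
  exact e2.symm.trans e3

/-- Field-valued points equal after a field extension are equal. -/
theorem eq_of_field_extension (hX : IsAlgSpace X) (f : X ⟶ Y) {K : Type u} [Field K]
    {str : Spec (CommRingCat.of K) ⟶ S} (a b : (yon S).obj (Over.mk str) ⟶ X) (e : a ≫ f = b ≫ f)
    {T : Over S} (j : T ⟶ Over.mk str) [Nonempty T.left]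
    (h : (yon S).map j ≫ a = (yon S).map j ≫ b) : a = b := by
  refine eq_of_mem_range_diagonal hX f a b e ⟨j.left (Classical.arbitrary T.left),
    Points.ofPt ((yon S).map j ≫ a) (Classical.arbitrary T.left), ?_⟩
  rw [Points.map_ofPt, ← ofPt_map]
  congr 1
  apply pullback.hom_ext
  · simp only [Category.assoc, pullback.diagonal_fst, Category.comp_id, pullback.lift_fst]
  · simp only [Category.assoc, pullback.diagonal_snd, Category.comp_id, pullback.lift_snd]
    exact h

theorem injective_on_fields_of_diagonal (hX : IsAlgSpace X) {f : X ⟶ Y}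
    (h : Function.Surjective (Points.map (pullback.diagonal f))) (K : Type u) [Field K]
    (str : Spec (CommRingCat.of K) ⟶ S) :
    Function.Injective (fun a : (yon S).obj (Over.mk str) ⟶ X => a ≫ f) :=
  fun a b e =>
    let t : ↥(Over.mk str).left := IsLocalRing.closedPoint K
    eq_of_mem_range_diagonal hX f a b e ⟨t, h _⟩

theorem diagonal_surjective_of_injective_on_fields {f : X ⟶ Y}
    (h : ∀ (K : Type u) [Field K] (str : Spec (CommRingCat.of K) ⟶ S),
      Function.Injective (fun a : (yon S).obj (Over.mk str) ⟶ X => a ≫ f)) :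
    Function.Surjective (Points.map (pullback.diagonal f)) := by
  intro z
  induction z using Points.ind with | h p =>
  have e : p.toHom ≫ pullback.fst f f = p.toHom ≫ pullback.snd f f :=
    h p.K p.str (by simp only [Category.assoc, pullback.condition])
  refine ⟨Points.mk (fieldPtOfHom (p.toHom ≫ pullback.fst f f)), ?_⟩
  rw [map_mk_fieldPtOfHom]
  have : (p.toHom ≫ pullback.fst f f) ≫ pullback.diagonal f = p.toHom := by
    apply pullback.hom_ext
    · simp only [Category.assoc, pullback.diagonal_fst, Category.comp_id]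
    · simp only [Category.assoc, pullback.diagonal_snd, Category.comp_id]
      exact e
  rw [this]
  exact congrArg Points.mk (congrArg (FieldPt.mk p.K p.str) (FieldPt.uliftYonedaEquiv_toHom p))

theorem isUnivInjectiveMor_of_injective_on_fields {f : X ⟶ Y}
    (h : ∀ (K : Type u) [Field K] (str : Spec (CommRingCat.of K) ⟶ S),
      Function.Injective (fun a : (yon S).obj (Over.mk str) ⟶ X => a ≫ f)) :
    IsUnivInjectiveMor f := by
  intro Z Z' hZ g fst snd sq z₁ z₂ e
  induction z₁ using Points.ind with | h p =>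
  induction z₂ using Points.ind with | h q =>
  rw [Points.map_mk, Points.map_mk, Points.mk_eq_mk_iff, rel_iff_toHom] at e
  obtain ⟨Ω, _, w, a, b, e⟩ := e
  simp only [FieldPt.toHom_map] at e
  rw [Points.mk_eq_mk_iff, rel_iff_toHom]
  refine ⟨Ω, inferInstance, w, a, b, sq.hom_ext (h Ω w ?_) ?_⟩
  · have := e =≫ g
    simp only [Category.assoc] at this ⊢
    rw [sq.w]
    exact this
  · exact (Category.assoc _ _ _).trans (e.trans (Category.assoc _ _ _).symm)

theorem injective_on_fields_of_isUnivInjectiveMor (hX : IsAlgSpace X) {f : X ⟶ Y}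
    (h : IsUnivInjectiveMor f) (K : Type u) [Field K] (str : Spec (CommRingCat.of K) ⟶ S) :
    Function.Injective (fun a : (yon S).obj (Over.mk str) ⟶ X => a ≫ f) := by
  intro a b e
  let g := a ≫ f
  have sq := IsPullback.of_hasPullback f g
  obtain ⟨σ, hσ₁, hσ₂⟩ := sq.exists_lift a (𝟙 _) (Category.id_comp g).symm
  obtain ⟨τ, hτ₁, hτ₂⟩ := sq.exists_lift b (𝟙 _) (e.symm.trans (Category.id_comp g).symm)
  have heq : Points.mk (fieldPtOfHom σ) = Points.mk (fieldPtOfHom τ) := by
    refine h (IsAlgSpace.yon_obj _) g _ _ sq ?_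
    rw [map_mk_fieldPtOfHom, map_mk_fieldPtOfHom, hσ₂, hτ₂]
  rw [Points.mk_eq_mk_iff, rel_iff_toHom] at heq
  obtain ⟨Ω, _, w, i', j', he'⟩ := heq
  obtain ⟨i, j, he⟩ : ∃ i j : Over.mk w ⟶ Over.mk str, (yon S).map i ≫ σ = (yon S).map j ≫ τ := by
    simp only [toHom_fieldPtOfHom] at he'
    exact ⟨i', j', he'⟩
  have hij : i = j := (yon S).map_injective (by
    have := he =≫ pullback.snd f g
    rw [Category.assoc, Category.assoc, hσ₂, hτ₂, Category.comp_id, Category.comp_id] at this
    exact this)
  subst hij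
  have : Nonempty (Over.mk w).left := ⟨(IsLocalRing.closedPoint Ω : Spec (CommRingCat.of Ω))⟩
  refine eq_of_field_extension hX f a b e i ?_
  have := he =≫ pullback.fst f g
  rw [Category.assoc, Category.assoc, hσ₁, hτ₁] at this
  exact this

theorem isUnivInjectiveMor_iff (hX : IsAlgSpace X) (f : X ⟶ Y) :
    ((∀ (K : Type u) [Field K] (str : Spec (CommRingCat.of K) ⟶ S),
        Function.Injective (fun a : (yon S).obj (Over.mk str) ⟶ X => a ≫ f)) ↔ IsUnivInjectiveMor f) ∧
      (IsUnivInjectiveMor f ↔ IsSurjectiveMor (pullback.diagonal f)) :=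
  ⟨⟨isUnivInjectiveMor_of_injective_on_fields, fun h K _ str => injective_on_fields_of_isUnivInjectiveMor hX h K str⟩,
    ⟨fun h => diagonal_surjective_of_injective_on_fields fun K _ str =>
        injective_on_fields_of_isUnivInjectiveMor hX h K str,
      fun h => isUnivInjectiveMor_of_injective_on_fields fun K _ str => injective_on_fields_of_diagonal hX h K str⟩⟩

theorem repWith_universallyInjective_iff (hX : IsAlgSpace X) {f : X ⟶ Y} (hf : Representable f) :
    RepWith @UniversallyInjective f ↔
      ∀ (K : Type u) [Field K] (str : Spec (CommRingCat.of K) ⟶ S),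
        Function.Injective (fun a : (yon S).obj (Over.mk str) ⟶ X => a ≫ f) := by
  rw [universallyInjective_eq_diagonal, ← repWith_diagonal_iff hf]
  refine ⟨fun h K _ str => injective_on_fields_of_diagonal hX (surjective_map_of_repWith le_rfl h) K str,
    fun h => repWith_surjective_of_map (representable_diagonal f hX.diag)
      (diagonal_surjective_of_injective_on_fields h)⟩

theorem isUnivInjectiveMor_of_surjective_baseChange (hX : IsAlgSpace X) {Z P : Sp S} {f : X ⟶ Y}
    {g : Z ⟶ Y} (hg : Function.Surjective (Points.map g)) (hP : IsAlgSpace P) {fst : P ⟶ X} {snd : P ⟶ Z}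
    (sq : IsPullback fst snd f g) (h : IsUnivInjectiveMor snd) : IsUnivInjectiveMor f := by
  refine isUnivInjectiveMor_of_injective_on_fields fun K _ str a b e => ?_
  obtain ⟨z, hz⟩ := hg (Points.mk (fieldPtOfHom (a ≫ f)))
  induction z using Points.ind with | h q =>
  rw [Points.map_mk, Points.mk_eq_mk_iff, rel_iff_toHom] at hz
  obtain ⟨Ω, _, w, i', j', hij'⟩ := hz
  obtain ⟨i, j, hij⟩ : ∃ (i : Over.mk w ⟶ Over.mk q.str) (j : Over.mk w ⟶ Over.mk str),
      (yon S).map i ≫ q.toHom ≫ g = (yon S).map j ≫ a ≫ f := by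
    simp only [FieldPt.toHom_map, toHom_fieldPtOfHom] at hij'
    exact ⟨i', j', hij'⟩
  have e₁ : ((yon S).map j ≫ a) ≫ f = ((yon S).map i ≫ q.toHom) ≫ g := by
    simp only [Category.assoc]; exact hij.symm
  have e₂ : ((yon S).map j ≫ b) ≫ f = ((yon S).map i ≫ q.toHom) ≫ g := by
    simp only [Category.assoc]; rw [← show a ≫ f = b ≫ f from e]; exact hij.symm
  obtain ⟨σ, hσ₁, hσ₂⟩ := sq.exists_lift _ _ e₁
  obtain ⟨τ, hτ₁, hτ₂⟩ := sq.exists_lift _ _ e₂
  have hst : σ = τ := injective_on_fields_of_isUnivInjectiveMor hP h Ω w (hσ₂.trans hτ₂.symm)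
  have : Nonempty (Over.mk w).left := ⟨(IsLocalRing.closedPoint Ω : Spec (CommRingCat.of Ω))⟩
  refine eq_of_field_extension hX f a b e j ?_
  rw [← hσ₁, hst, hτ₁]

end Groth.Agent.H12AlgSp
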