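import Groth.Agent.H12AlgSp.Points
import Groth.Agent.H18Descent.Basic

/-!
Properties of representable morphisms descend along surjective, flat, locally finitely presented charts.
-/

universe u

open CategoryTheory CategoryTheory.Limits AlgebraicGeometry Opposite
open AlgSp

namespace Groth.Agent.H12AlgSp

variable {S : Scheme.{u}} {F G H : Sp S}

/-- surjective, flat and locally of finite presentation -/
abbrev fppfMor : MorphismProperty Scheme.{u} := @Surjective ⊓ @Flat ⊓ @LocallyOfFinitePresentation

theorem fppfMor_of_isLocalAtTarget (P : MorphismProperty Scheme.{u}) [P.IsStableUnderBaseChange]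
    [P.IsLocalAtTarget Scheme.fppfPrecoverage] : P.DescendsAlong fppfMor.{u} := by
  constructor
  intro A X Y Z fst snd f g h ⟨⟨hf₁, hf₂⟩, hf₃⟩ hfst
  refine MorphismProperty.IsLocalAtTarget.of_forall_pullbackSnd (f := g)
    (Scheme.Hom.singleton_mem_fppfPrecoverage f) ?_
  intro U j _ hj
  obtain ⟨⟩ := hj
  exact (MorphismProperty.cancel_left_of_respectsIso P h.flip.isoPullback.inv fst).2 hfst |> fun h' => by
    simpa using h'

theorem etale_surjective_fppf {X Y : Scheme.{u}} (f : X ⟶ Y) [Etale f] [Surjective f] : fppfMor f :=
  ⟨⟨inferInstance, inferInstance⟩, inferInstance⟩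

theorem repWith_fppf_of_etale {a : F ⟶ G} (he : RepWith @Etale a) (hs : RepWith @Surjective a) :
    RepWith fppfMor a :=
  ⟨he.1, fun _ _ g fst snd sq => by
    have : Etale snd.left := he.2 g fst snd sq
    have : Surjective snd.left := hs.2 g fst snd sq
    exact etale_surjective_fppf snd.left⟩

/-- To check `P` for a representable morphism, it suffices to check it after base change along a representable map
of a class along which `P` descends. -/
theorem repWith_of_fppf_base {P Qc : MorphismProperty Scheme.{u}} [P.IsStableUnderBaseChange]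
    [P.DescendsAlong Qc] {f : F ⟶ G} (hf : Representable f) {b : H ⟶ G}
    (hb : RepWith Qc b) {Q : Sp S} {fst : Q ⟶ F} {f' : Q ⟶ H} (sq : IsPullback fst f' f b)
    (h : RepWith P f') : RepWith P f := by
  refine repWith_of_snd hf fun T g => ?_
  obtain ⟨T', t, k, sqT⟩ := hb.rep g
  have hT : Qc t.left := hb.property g k t sqT
  obtain ⟨V', v', v, sqV⟩ := h.rep k
  have hV : P v'.left := h.property k v v' sqV
  have big : IsPullback (v ≫ fst) ((yon S).map v') f ((yon S).map t ≫ g) := by
    have := IsPullback.paste_horiz sqV sq
    rwa [sqT.w] at this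
  let m : V' ⟶ hf.pullback g := hf.lift (v ≫ fst) (v' ≫ t) (by
    simp only [Functor.map_comp, Category.assoc]; simpa using big.w)
  have left : IsPullback ((yon S).map m) ((yon S).map v') ((yon S).map (hf.snd g)) ((yon S).map t) := by
    refine IsPullback.of_right ?_ ?_ (hf.isPullback g)
    · simpa [m] using big
    · rw [← Functor.map_comp, ← Functor.map_comp, hf.lift_snd]
  have leftO : IsPullback m v' (hf.snd g) t := IsPullback.of_map (yon S) (by simp [m]) left
  exact MorphismProperty.of_isPullback_of_descendsAlong (P := P) (Q := Qc)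
    (leftO.map (Over.forget S)).flip hT hV

/-- The chart criterion: check `P` on the base change to one fppf (e.g. surjective etale) chart. -/
theorem repWith_of_chart {P : MorphismProperty Scheme.{u}} [P.IsStableUnderBaseChange]
    [P.DescendsAlong fppfMor.{u}] {f : F ⟶ G} (hf : Representable f) {U V : Over S}
    {q : (yon S).obj U ⟶ G} (hqe : RepWith @Etale q) (hqs : RepWith @Surjective q)
    {fst : (yon S).obj V ⟶ F} {g : V ⟶ U} (sq : IsPullback fst ((yon S).map g) f q)
    (h : P g.left) : RepWith P f :=
  repWith_of_fppf_base hf (repWith_fppf_of_etale hqe hqs) sq ((repWith_yon_map_iff P g).2 h)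

end Groth.Agent.H12AlgSp
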