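import Groth.Agent.H12AlgSp.Presentation
import Groth.Agent.H13AlgSp.Refinement
import Groth.Prelude.Def_AlgSpRep
import Mathlib.CategoryTheory.Sites.LocallySurjective

/-!
The fppf quotient sheaf of an equivalence relation of schemes.
-/

universe u

open CategoryTheory CategoryTheory.Limits AlgebraicGeometry Opposite
open AlgSp Groth.Agent.H13AlgSp

namespace Groth.Agent.H12AlgSp

variable {S : Scheme.{u}} {R U : Over S} {s t : R ⟶ U}

/-- The relation on `T`-valued points. -/
def relOn (s t : R ⟶ U) (T : Over S) (a b : T ⟶ U) : Prop := ∃ r : T ⟶ R, r ≫ t = a ∧ r ≫ s = b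

/-- The presheaf quotient. -/
def quotPsh (s t : R ⟶ U) : PSp S where
  obj T := ULift.{u + 1} (Quot (relOn s t T.unop))
  map f := ↾(fun x => ULift.up (Quot.map (f.unop ≫ ·)
    (fun _ _ ⟨r, h₁, h₂⟩ => ⟨f.unop ≫ r, (Category.assoc _ _ _).trans (congrArg _ h₁), (Category.assoc _ _ _).trans (congrArg _ h₂)⟩) x.down))
  map_id T := by
    ext ⟨x⟩
    induction x using Quot.ind
    exact congrArg (Quot.mk _) (Category.id_comp _)
  map_comp f g := by
    ext ⟨x⟩
    induction x using Quot.ind
    exact congrArg (Quot.mk _) (Category.assoc _ _ _)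

/-- An equivalence relation is effective in fppf sheaves. -/
theorem exists_quotient_sheaf (h : IsEqvRel s t) :
    ∃ (Q : Sp S) (p : (yon S).obj U ⟶ Q), Epi p ∧ IsPullback ((yon S).map t) ((yon S).map s) p p := by
  let Q₀ := quotPsh s t
  let Q : Sp S := (presheafToSheaf (J S) (Type (u + 1))).obj Q₀
  let η : Q₀ ⟶ Q.obj := CategoryTheory.toSheafify (J S) Q₀
  let p : (yon S).obj U ⟶ Q := (J S).uliftYonedaEquiv.symm (η.app (op U) (ULift.up (Quot.mk _ (𝟙 U))))
  have hp : ∀ {T : Over S} (a : T ⟶ U),
      (J S).uliftYonedaEquiv ((yon S).map a ≫ p) = η.app (op T) (ULift.up (Quot.mk _ a)) := by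
    intro T a
    rw [← GrothendieckTopology.uliftYonedaEquiv_naturality, Equiv.apply_symm_apply]
    refine (NatTrans.naturality_apply η a.op _).symm.trans (congrArg (η.app (op T)) ?_)
    exact congrArg ULift.up (congrArg (Quot.mk _) (Category.comp_id a))
  have hrel : ∀ {T : Over S} (a b : T ⟶ U), (yon S).map a ≫ p = (yon S).map b ≫ p →
      ∃ r : T ⟶ R, r ≫ t = a ∧ r ≫ s = b := by
    intro T a b e
    have e' := congrArg (J S).uliftYonedaEquiv e
    rw [hp, hp] at e'
    have hi : Presheaf.IsLocallyInjective (J S) η := inferInstance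
    obtain ⟨κ, C, c, hfl, hfp, hsur, hc⟩ :=
      exists_cover_of_mem_J (hi.equalizerSieve_mem _ _ e')
    have hex : ∀ i, ∃ r : C i ⟶ R, r ≫ t = c i ≫ a ∧ r ≫ s = c i ≫ b := fun i => by
      have := congrArg ULift.down (hc i)
      exact ((h.equivalence (C i)).quot_mk_eq_iff _ _).1 this
    choose r hr₁ hr₂ using hex
    have hJ := ofArrows_mem_J c hfl hfp hsur
    obtain ⟨g, hg, -⟩ := (Presieve.isSheafFor_arrows_iff _ _).1
      ((Presieve.isSheafFor_iff_generate _).2 (((isSheaf_iff_isSheaf_of_type _ _).1 ((yon S).obj R).property) _ hJ))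
      (fun i => ULift.up (r i)) (fun i j W x y e => by
        apply ULift.ext
        refine h.injective W (x ≫ r i) (y ≫ r j) ?_ ?_
        · rw [Category.assoc, Category.assoc, hr₁, hr₁, reassoc_of% e]
        · rw [Category.assoc, Category.assoc, hr₂, hr₂, reassoc_of% e])
    obtain ⟨g⟩ := g
    have hg' : ∀ i, c i ≫ g = r i := fun i => congrArg ULift.down (hg i)
    refine ⟨g, (yon S).map_injective (hom_ext_of_cover c hJ fun i => ?_),
      (yon S).map_injective (hom_ext_of_cover c hJ fun i => ?_)⟩
    · rw [← Functor.map_comp, ← Functor.map_comp, reassoc_of% hg', hr₁]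
    · rw [← Functor.map_comp, ← Functor.map_comp, reassoc_of% hg', hr₂]
  have w : (yon S).map t ≫ p = (yon S).map s ≫ p := (J S).uliftYonedaEquiv.injective (by
    rw [hp, hp]
    exact congrArg (fun q => η.app (op R) (ULift.up q)) (Quot.sound ⟨𝟙 R, Category.id_comp t, Category.id_comp s⟩))
  refine ⟨Q, p, ?_, ?_⟩
  · refine epi_of_local_lifts p fun T y => ?_
    have hs : Presheaf.IsLocallySurjective (J S) η := inferInstance
    obtain ⟨κ, C, c, hfl, hfp, hsur, hc⟩ :=
      exists_cover_of_mem_J (hs.imageSieve_mem ((J S).uliftYonedaEquiv y))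
    refine ⟨κ, C, c, ofArrows_mem_J c hfl hfp hsur, fun i => ?_⟩
    obtain ⟨⟨x⟩, hx⟩ := hc i
    obtain ⟨a, rfl⟩ := Quot.exists_rep x
    refine ⟨(yon S).map a, (J S).uliftYonedaEquiv.injective ?_⟩
    rw [hp, ← GrothendieckTopology.uliftYonedaEquiv_naturality]
    exact hx
  · have : Mono (pullback.lift ((yon S).map t) ((yon S).map s) w) := mono_of_yon fun T a b e => by
      obtain ⟨a, rfl⟩ := (yon S).map_surjective a
      obtain ⟨b, rfl⟩ := (yon S).map_surjective b
      have e₁ := e =≫ pullback.fst p p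
      have e₂ := e =≫ pullback.snd p p
      simp only [Category.assoc, pullback.lift_fst, pullback.lift_snd, ← Functor.map_comp] at e₁ e₂
      exact congrArg _ (h.injective T a b ((yon S).map_injective e₁) ((yon S).map_injective e₂))
    have : IsIso (pullback.lift ((yon S).map t) ((yon S).map s) w) :=
      isIso_of_mono_of_local_lifts _ fun T y => by
        obtain ⟨a, ha⟩ := (yon S).map_surjective (y ≫ pullback.fst p p)
        obtain ⟨b, hb⟩ := (yon S).map_surjective (y ≫ pullback.snd p p)
        obtain ⟨r, hr₁, hr₂⟩ := hrel a b (by rw [ha, hb, Category.assoc, Category.assoc, pullback.condition])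
        refine ⟨PUnit.{u + 1}, fun _ => T, fun _ => 𝟙 T, identity_cover T, fun _ => ⟨(yon S).map r, ?_⟩⟩
        rw [CategoryTheory.Functor.map_id, Category.id_comp]
        apply pullback.hom_ext
        · rw [Category.assoc, pullback.lift_fst, ← Functor.map_comp, hr₁, ha]
        · rw [Category.assoc, pullback.lift_snd, ← Functor.map_comp, hr₂, hb]
    exact IsPullback.of_iso_pullback ⟨w⟩ (asIso (pullback.lift ((yon S).map t) ((yon S).map s) w))
      (pullback.lift_fst _ _ _) (pullback.lift_snd _ _ _)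

theorem repIso_natural {V W : Over S} (g : V ⟶ W) :
    QuotSh.repMap Scheme.fppfPrecoverage g ≫ (QuotSh.repIsoUliftYoneda Scheme.fppfPrecoverage W).hom =
      (QuotSh.repIsoUliftYoneda Scheme.fppfPrecoverage V).hom ≫ (yon S).map g := by
  apply (ObjectProperty.ι _).map_injective
  apply CategoryTheory.sheafify_hom_ext _ _ _ ((yon S).obj W).property
  simp [QuotSh.repIsoUliftYoneda, sheafificationIso]
  erw [← toSheafify_naturality_assoc, toSheafify_sheafifyLift, toSheafify_sheafifyLift_assoc]
  rfl

/-- The quotient map from the representable sheaf. -/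
noncomputable def quotMap (s t : R ⟶ U) : (yon S).obj U ⟶ QuotSh.quot Scheme.fppfPrecoverage s t :=
  (QuotSh.repIsoUliftYoneda Scheme.fppfPrecoverage U).inv ≫ QuotSh.quotπ Scheme.fppfPrecoverage s t

theorem isPullback_quotMap (h : IsEqvRel s t) :
    IsPullback ((yon S).map t) ((yon S).map s) (quotMap s t) (quotMap s t) ∧ Epi (quotMap s t) := by
  obtain ⟨Q, p, hp, sq⟩ := exists_quotient_sheaf h
  have r := IsRegularEpiCategory.regularEpiOfEpi p
  have : IsRegularEpi p := r
  let hcol := IsKernelPair.toCoequalizer' sq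
  let e := fun V : Over S => QuotSh.repIsoUliftYoneda Scheme.fppfPrecoverage V
  have w : (yon S).map t ≫ quotMap s t = (yon S).map s ≫ quotMap s t := by
    rw [← cancel_epi (e R).hom, ← Category.assoc, ← repIso_natural, ← Category.assoc, ← repIso_natural,
      Category.assoc, Category.assoc, quotMap, Iso.hom_inv_id_assoc]
    exact (QuotSh.quot_condition Scheme.fppfPrecoverage s t).symm
  let ψ : Q ⟶ QuotSh.quot Scheme.fppfPrecoverage s t := Cofork.IsColimit.desc hcol (quotMap s t) w
  have hψ : p ≫ ψ = quotMap s t := Cofork.IsColimit.π_desc' hcol _ _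
  let φ : QuotSh.quot Scheme.fppfPrecoverage s t ⟶ Q := coequalizer.desc ((e U).hom ≫ p) (by
    rw [← Category.assoc, repIso_natural, ← Category.assoc, repIso_natural, Category.assoc, Category.assoc, sq.w])
  have hπ : Epi (QuotSh.quotπ Scheme.fppfPrecoverage s t) := coequalizer.π_epi
  have hqe : Epi (quotMap s t) := by unfold quotMap; exact epi_comp _ _
  have hφ : quotMap s t ≫ φ = p := by
    simp only [quotMap, φ, Category.assoc]
    erw [coequalizer.π_desc]
    rw [Iso.inv_hom_id_assoc]
  have h1 : ψ ≫ φ = 𝟙 Q := by rw [← cancel_epi p, reassoc_of% hψ, hφ, Category.comp_id]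
  have h2 : φ ≫ ψ = 𝟙 _ := by
    rw [← cancel_epi (quotMap s t), reassoc_of% hφ, hψ, Category.comp_id]
  refine ⟨?_, inferInstance⟩
  have : Mono ψ := ⟨fun a b e => by
    have := e =≫ φ
    simpa only [Category.assoc, h1, Category.comp_id] using this⟩
  exact IsPullback.of_iso sq (Iso.refl _) (Iso.refl _) (Iso.refl _) ⟨ψ, φ, h1, h2⟩ (by simp) (by simp)
    (by simpa using hψ) (by simpa using hψ)

end Groth.Agent.H12AlgSp
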