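import Groth.Agent.H12AlgSp.DescentLQF
import Groth.Agent.H12AlgSp.QuotSheaf
import Groth.Agent.H12AlgSp.Descent
import Mathlib.AlgebraicGeometry.Morphisms.LocalFlatDescent

/-!
Bootstrap: quotients by etale equivalence relations are algebraic spaces.
-/

universe u

open CategoryTheory CategoryTheory.Limits AlgebraicGeometry Opposite Topology
open AlgSp Groth.Agent.H13AlgSp

namespace Groth.Agent.H12AlgSp

variable {S : Scheme.{u}}

theorem lqf_of_etale {X Y : Scheme.{u}} (g : X ⟶ Y) [Etale g] : LocallyQuasiFinite g := by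
  rw [HasRingHomProperty.iff_appLE (P := @LocallyQuasiFinite)]
  intro W O e
  have h := HasRingHomProperty.appLE @Etale g ‹_› W O e
  algebraize [(g.appLE W.1 O.1 e).hom]
  exact (inferInstance : Algebra.QuasiFinite Γ(Y, W.1) Γ(X, O.1))

/-- The corestriction of a flat, locally finitely presented morphism to an open containing its image. -/
theorem exists_corestrict {W T : Over S} (c : W ⟶ T) [Flat c.left] [LocallyOfFinitePresentation c.left]
    (V : T.left.Opens) (hV : Set.range c.left = (V : Set T.left)) :
    ∃ c' : W ⟶ openOver T V, c' ≫ openIncl T V = c ∧ Flat c'.left ∧ LocallyOfFinitePresentation c'.left ∧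
      Surjective c'.left ∧ IsPullback (𝟙 W.left) c'.left c.left V.ι := by
  have hsub : Set.range c.left ⊆ Set.range V.ι := by rw [Scheme.Opens.range_ι, hV]
  let k : W.left ⟶ V.toScheme := IsOpenImmersion.lift V.ι c.left hsub
  have hk : k ≫ V.ι = c.left := IsOpenImmersion.lift_fac _ _ _
  let c' : W ⟶ openOver T V := Over.homMk k (by
    change k ≫ V.ι ≫ T.hom = W.hom
    rw [reassoc_of% hk]
    exact Over.w c)
  have sq : IsPullback (𝟙 W.left) k c.left V.ι := by
    refine ⟨⟨by rw [Category.id_comp, hk]⟩, ⟨PullbackCone.IsLimit.mk _ (fun s => s.fst)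
      (fun s => Category.comp_id _) (fun s => ?_) (fun s m h₁ _ => ?_)⟩⟩
    · rw [← cancel_mono V.ι, Category.assoc, hk]; exact s.condition
    · rw [← h₁]; exact (Category.comp_id _).symm
  refine ⟨c', Over.OverMorphism.ext hk, MorphismProperty.of_isPullback sq ‹Flat c.left›,
    MorphismProperty.of_isPullback sq ‹LocallyOfFinitePresentation c.left›, ⟨fun v => ?_⟩, sq⟩
  obtain ⟨w, hw⟩ := hV.ge v.2
  exact ⟨w, V.ι.isOpenEmbedding.injective ((congrArg (fun f : W.left ⟶ T.left => f w) hk).trans hw)⟩

/-- A property local on the target which descends along fppf morphisms can be checked on an fppf family. -/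
theorem of_fppf_family {P : MorphismProperty Scheme.{u}} [P.IsStableUnderBaseChange] [IsZariskiLocalAtTarget P]
    [P.DescendsAlong fppfMor.{u}] {X T : Over S} (h : X ⟶ T) {κ : Type u} {C : κ → Over S} (c : ∀ i, C i ⟶ T)
    (hfl : ∀ i, Flat (c i).left) (hfp : ∀ i, LocallyOfFinitePresentation (c i).left)
    (hs : ∀ t : T.left, ∃ i, t ∈ Set.range (c i).left) (hP : ∀ i, P (pullback.snd h.left (c i).left)) :
    P h.left := by
  let V : κ → T.left.Opens := fun i => ⟨Set.range (c i).left, (c i).left.isOpenMap.isOpen_range⟩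
  refine IsZariskiLocalAtTarget.of_iSup_eq_top (U := V) ?_ fun i => ?_
  · rw [eq_top_iff]
    intro t _
    exact TopologicalSpace.Opens.mem_iSup.2 (hs t)
  obtain ⟨c', hc', h1, h2, h3, -⟩ := exists_corestrict (c i) (V i) rfl
  rw [morphismRestrict, MorphismProperty.cancel_left_of_respectsIso P]
  let k : (C i).left ⟶ (V i).toScheme := c'.left
  have h1' : Flat k := h1
  have h2' : LocallyOfFinitePresentation k := h2
  have h3' : Surjective k := h3
  have e : k ≫ (V i).ι = (c i).left := congrArg (fun t => Over.Hom.left t) hc'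
  let sqA := IsPullback.of_hasPullback h.left (V i).ι
  let m : pullback h.left (c i).left ⟶ pullback h.left (V i).ι :=
    pullback.lift (pullback.fst _ _) (pullback.snd _ _ ≫ k) (by rw [Category.assoc, e]; exact pullback.condition)
  have sq : IsPullback m (pullback.snd h.left (c i).left) (pullback.snd h.left (V i).ι) k := by
    refine IsPullback.of_right ?_ (pullback.lift_snd _ _ _) sqA
    rw [pullback.lift_fst, e]
    exact IsPullback.of_hasPullback _ _
  exact MorphismProperty.of_isPullback_of_descendsAlong (Q := fppfMor.{u}) sq.flip ⟨⟨h3', h1'⟩, h2'⟩ (hP i)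

/-- A sheaf over a scheme which is fppf locally representable, separated and locally quasi-finite, is representable. -/
theorem exists_rep_of_local {Q : Sp S} {T : Over S} (q : Q ⟶ (yon S).obj T)
    (h : ∀ t : T.left, ∃ (W : Over S) (c : W ⟶ T), Flat c.left ∧ LocallyOfFinitePresentation c.left ∧
      t ∈ Set.range c.left ∧ ∃ (Q' : Over S) (q' : (yon S).obj Q' ⟶ Q) (b' : Q' ⟶ W),
        IsPullback q' ((yon S).map b') q ((yon S).map c) ∧ LocallyQuasiFinite b'.left ∧
          LocallyOfFiniteType b'.left ∧ IsSeparated b'.left) :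
    ∃ (GT : Over S) (γ : GT ⟶ T) (μ : (yon S).obj GT ⟶ Q), IsIso μ ∧ μ ≫ q = (yon S).map γ := by
  choose W c hfl hfp hmem Q' q' b' sq hb₁ hb₂ hb₃ using h
  let V : T.left → T.left.Opens := fun t => ⟨Set.range (c t).left, (c t).left.isOpenMap.isOpen_range⟩
  have key : ∀ t, ∃ (GT : Over S) (j : (yon S).obj GT ⟶ Q), RepWith @IsOpenImmersion j ∧
      Set.range (Points.map (pullback.fst q ((yon S).map (openIncl T (V t))))) ⊆ Set.range (Points.map j) := by
    intro t
    obtain ⟨c', hc', h1, h2, h3, -⟩ := exists_corestrict (c t) (V t) rfl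
    let j := (yon S).map (openIncl T (V t))
    let q₁ := pullback.lift (q' t) ((yon S).map (b' t ≫ c'))
      (f := q) (g := j) (by rw [(sq t).w, ← Functor.map_comp, ← Functor.map_comp, Category.assoc, hc'])
    have sq₁ : IsPullback q₁ ((yon S).map (b' t)) (pullback.snd q j) ((yon S).map c') := by
      refine IsPullback.of_right ?_ (by rw [pullback.lift_snd, Functor.map_comp]) (IsPullback.of_hasPullback q j)
      rw [pullback.lift_fst, ← Functor.map_comp, hc']
      exact sq t
    have := hb₁ t
    have := hb₂ t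
    have := hb₃ t
    obtain ⟨GT, γ, μ, hμ, -⟩ := exists_iso_of_lqf (pullback.snd q j) c' q₁ (b' t) sq₁
    refine ⟨GT, μ ≫ pullback.fst q j, repWith_comp (repWith_of_isIso _) (repWith_of_isPullback
      (IsPullback.of_hasPullback q j).flip ((yon S).map (openIncl T (V t))
        |> fun _ => (repWith_yon_map_iff _ _).2 (inferInstanceAs (IsOpenImmersion (V t).ι)))), ?_⟩
    rintro _ ⟨x, rfl⟩
    exact ⟨Points.map (inv μ) x, by rw [← Points.map_comp, IsIso.inv_hom_id_assoc]⟩
  choose GT j hj hjr using key
  obtain ⟨G, μ, hμ⟩ := exists_iso_of_openCover GT j hj fun A y a => by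
    obtain ⟨g, hg⟩ := (yon S).map_surjective (y ≫ q)
    refine ⟨g.left a, hjr _ ?_⟩
    obtain ⟨p, hp, -⟩ := exists_point_of_isPullback (IsPullback.of_hasPullback q ((yon S).map (openIncl T (V (g.left a)))))
      (Points.ofPt y a) (Points.ofScheme _ (⟨g.left a, hmem _⟩ : (V (g.left a)).toScheme)) (by
        rw [Points.map_ofPt, ← hg, ← Category.comp_id ((yon S).map g), ofPt_map, ← Points.ofPt_eq_map_ofScheme,
          ← Category.comp_id ((yon S).map (openIncl T (V (g.left a)))), ofPt_map]
        rfl)
    exact ⟨p, hp⟩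
  obtain ⟨γ, hγ⟩ := (yon S).map_surjective (μ ≫ q)
  exact ⟨G, γ, μ, hμ, hγ.symm⟩

theorem exists_local_lifts' {F G : Sp S} (f : F ⟶ G) [Epi f] {A : Over S} (y : (yon S).obj A ⟶ G) :
    ∃ (κ : Type u) (C : κ → Over S) (c : ∀ i, C i ⟶ A), (∀ i, Flat (c i).left) ∧
      (∀ i, LocallyOfFinitePresentation (c i).left) ∧ (∀ a : A.left, ∃ i, a ∈ Set.range (c i).left) ∧
      ∀ i, ∃ l : (yon S).obj (C i) ⟶ F, l ≫ f = (yon S).map (c i) ≫ y :=
  exists_local_lifts ((Sheaf.isLocallySurjective_iff_epi f).2 ‹Epi f›) y

/-- A sheaf covered by a scheme with locally quasi-finite, separated relation has representable diagonal. -/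
theorem representable_diag_of_epi {R U : Over S} {s t : R ⟶ U} {F : Sp S} {p : (yon S).obj U ⟶ F} [Epi p]
    (sq : IsPullback ((yon S).map t) ((yon S).map s) p p) [LocallyQuasiFinite t.left]
    [LocallyOfFiniteType t.left] : Representable (Limits.diag F) := by
  refine Functor.relativelyRepresentable.diag_of_map_from_obj fun T x A y => ?_
  let B : Over S := T ⨯ A
  let π₁ : B ⟶ T := prod.fst
  let π₂ : B ⟶ A := prod.snd
  have hterm : IsTerminal ((yon S).obj (Over.mk (𝟙 S))) := IsTerminal.isTerminalObj (yon S) _ Over.mkIdTerminal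
  have sqB : IsPullback ((yon S).map π₁) ((yon S).map π₂) ((yon S).map (Over.mkIdTerminal.from T))
      ((yon S).map (Over.mkIdTerminal.from A)) :=
    (IsPullback.of_is_product (IsLimit.ofIsoLimit (prodIsProd T A) (Iso.refl _)) Over.mkIdTerminal).map (yon S)
  let P := pullback x y
  let q : P ⟶ (yon S).obj B := sqB.lift (pullback.fst x y) (pullback.snd x y) (hterm.hom_ext _ _)
  have hq₁ : q ≫ (yon S).map π₁ = pullback.fst x y := sqB.lift_fst _ _ _
  have hq₂ : q ≫ (yon S).map π₂ = pullback.snd x y := sqB.lift_snd _ _ _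
  have hlocal : ∀ b : B.left, ∃ (W : Over S) (c : W ⟶ B), Flat c.left ∧ LocallyOfFinitePresentation c.left ∧
      b ∈ Set.range c.left ∧ ∃ (Q' : Over S) (q' : (yon S).obj Q' ⟶ P) (b' : Q' ⟶ W),
        IsPullback q' ((yon S).map b') q ((yon S).map c) ∧ LocallyQuasiFinite b'.left ∧
          LocallyOfFiniteType b'.left ∧ IsSeparated b'.left := by
    intro b
    obtain ⟨κ, C, c, hfl, hfp, hs, hl⟩ := exists_local_lifts' p ((yon S).map π₁ ≫ x)
    obtain ⟨i, w₀, rfl⟩ := hs b
    obtain ⟨a, ha⟩ := hl i
    obtain ⟨a, rfl⟩ := (yon S).map_surjective a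
    obtain ⟨κ', D, d, dfl, dfp, ds, dl⟩ := exists_local_lifts' p ((yon S).map (c i ≫ π₂) ≫ y)
    obtain ⟨k, w₁, rfl⟩ := ds w₀
    obtain ⟨b₁, hb₁⟩ := dl k
    obtain ⟨b₁, rfl⟩ := (yon S).map_surjective b₁
    have := hfl i; have := hfp i; have := dfl k; have := dfp k
    obtain ⟨cc, hcc⟩ : ∃ cc, cc = d k ≫ c i := ⟨_, rfl⟩
    obtain ⟨a₁, hadef⟩ : ∃ a₁, a₁ = d k ≫ a := ⟨_, rfl⟩
    have ha₁ : (yon S).map a₁ ≫ p = (yon S).map (cc ≫ π₁) ≫ x := by
      simp only [hadef, hcc, Functor.map_comp, Category.assoc]
      rw [ha]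
    have hb₁' : (yon S).map b₁ ≫ p = (yon S).map (cc ≫ π₂) ≫ y := by
      rw [hb₁]; simp only [hcc, Functor.map_comp, Category.assoc]
    refine ⟨D k, cc, hcc ▸ inferInstanceAs (Flat ((d k).left ≫ (c i).left)),
      hcc ▸ inferInstanceAs (LocallyOfFinitePresentation ((d k).left ≫ (c i).left)), ⟨w₁, hcc ▸ rfl⟩, ?_⟩
    let ts : R ⟶ U ⨯ U := prod.lift t s
    let Q' := pullback ts (prod.lift a₁ b₁)
    let r : Q' ⟶ R := pullback.fst ts _
    let b' : Q' ⟶ D k := pullback.snd ts _
    have hr₁ : r ≫ t = b' ≫ a₁ := by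
      have := congrArg (· ≫ prod.fst) (pullback.condition (f := ts) (g := prod.lift a₁ b₁))
      simpa only [ts, Category.assoc, prod.lift_fst] using this
    have hr₂ : r ≫ s = b' ≫ b₁ := by
      have := congrArg (· ≫ prod.snd) (pullback.condition (f := ts) (g := prod.lift a₁ b₁))
      simpa only [ts, Category.assoc, prod.lift_snd] using this
    let q' : (yon S).obj Q' ⟶ P := pullback.lift ((yon S).map (b' ≫ cc ≫ π₁)) ((yon S).map (b' ≫ cc ≫ π₂)) (by
      rw [(yon S).map_comp b', (yon S).map_comp b', Category.assoc, Category.assoc, ← ha₁, ← hb₁', ← Category.assoc,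
        ← Category.assoc, ← (yon S).map_comp b', ← (yon S).map_comp b', ← hr₁, ← hr₂, Functor.map_comp,
        Functor.map_comp, Category.assoc, Category.assoc, sq.w])
    have w : q' ≫ q = (yon S).map b' ≫ (yon S).map cc := sqB.hom_ext
      (by rw [Category.assoc, hq₁, pullback.lift_fst, ← Functor.map_comp, ← Functor.map_comp, Category.assoc])
      (by rw [Category.assoc, hq₂, pullback.lift_snd, ← Functor.map_comp, ← Functor.map_comp, Category.assoc])
    have hext : ∀ {Z : Over S} (z z' : Z ⟶ Q'), z ≫ b' = z' ≫ b' → z = z' := by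
      intro Z z z' e
      refine pullback.hom_ext ((yon S).map_injective (sq.hom_ext ?_ ?_)) e
      · rw [← Functor.map_comp, ← Functor.map_comp, Category.assoc, Category.assoc, hr₁, reassoc_of% e]
      · rw [← Functor.map_comp, ← Functor.map_comp, Category.assoc, Category.assoc, hr₂, reassoc_of% e]
    have hbm : Mono b' := ⟨fun z z' e => hext z z' e⟩
    have sqP : IsPullback q' ((yon S).map b') q ((yon S).map cc) := by
      have : Mono (pullback.lift q' ((yon S).map b') w) := mono_of_yon fun Z z z' e => by
        obtain ⟨z, rfl⟩ := (yon S).map_surjective z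
        obtain ⟨z', rfl⟩ := (yon S).map_surjective z'
        have e₂ := e =≫ pullback.snd q ((yon S).map cc)
        simp only [Category.assoc, pullback.lift_snd, ← Functor.map_comp] at e₂
        exact congrArg _ (hext _ _ ((yon S).map_injective e₂))
      have : IsIso (pullback.lift q' ((yon S).map b') w) := isIso_of_mono_of_local_lifts _ fun Z z => by
        obtain ⟨g, hg⟩ := (yon S).map_surjective (z ≫ pullback.snd q ((yon S).map cc))
        let z₁ := z ≫ pullback.fst q ((yon S).map cc)
        have hz : z₁ ≫ q = (yon S).map (g ≫ cc) := by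
          rw [Functor.map_comp, hg, Category.assoc, Category.assoc, pullback.condition]
        obtain ⟨r₀, hr₀⟩ := (yon S).map_surjective (sq.lift ((yon S).map (g ≫ a₁)) ((yon S).map (g ≫ b₁)) (by
          rw [(yon S).map_comp g, (yon S).map_comp g, Category.assoc, Category.assoc, ha₁, hb₁', ← Category.assoc,
            ← Category.assoc, ← (yon S).map_comp g, ← (yon S).map_comp g, ← Category.assoc g, ← Category.assoc g,
            Functor.map_comp (g := π₁), Functor.map_comp (g := π₂), ← hz]
          simp only [Category.assoc]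
          rw [reassoc_of% hq₁, reassoc_of% hq₂, pullback.condition]))
        let l : Z ⟶ Q' := pullback.lift r₀ g (by
          apply prod.hom_ext
          · simp only [ts, Category.assoc, prod.lift_fst]
            exact (yon S).map_injective (by rw [Functor.map_comp, hr₀, sq.lift_fst])
          · simp only [ts, Category.assoc, prod.lift_snd]
            exact (yon S).map_injective (by rw [Functor.map_comp, hr₀, sq.lift_snd]))
        have hl : l ≫ b' = g := pullback.lift_snd _ _ _
        refine ⟨PUnit.{u + 1}, fun _ => Z, fun _ => 𝟙 Z, identity_cover Z, fun _ => ⟨(yon S).map l, ?_⟩⟩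
        rw [CategoryTheory.Functor.map_id, Category.id_comp]
        apply pullback.hom_ext
        · rw [Category.assoc, pullback.lift_fst]
          apply pullback.hom_ext
          · rw [Category.assoc, pullback.lift_fst, ← Functor.map_comp, reassoc_of% hl, ← hq₁, ← Category.assoc g,
              (yon S).map_comp (g ≫ cc), ← hz]
            simp only [z₁, Category.assoc]
          · rw [Category.assoc, pullback.lift_snd, ← Functor.map_comp, reassoc_of% hl, ← hq₂, ← Category.assoc g,
              (yon S).map_comp (g ≫ cc), ← hz]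
            simp only [z₁, Category.assoc]
        · rw [Category.assoc, pullback.lift_snd, ← Functor.map_comp, hl, hg]
      exact IsPullback.of_iso_pullback ⟨w⟩ (asIso (pullback.lift q' ((yon S).map b') w))
        (pullback.lift_fst _ _ _) (pullback.lift_snd _ _ _)
    refine ⟨Q', q', b', sqP, ?_⟩
    have hsq : IsPullback r.left b'.left ts.left (prod.lift a₁ b₁).left :=
      (IsPullback.of_hasPullback ts (prod.lift a₁ b₁)).map (Over.forget S)
    have e : ts.left ≫ (prod.fst : U ⨯ U ⟶ U).left = t.left := by rw [← Over.comp_left, prod.lift_fst]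
    have : LocallyOfFiniteType (ts.left ≫ (prod.fst : U ⨯ U ⟶ U).left) := by rw [e]; infer_instance
    have h1 : LocallyOfFiniteType ts.left := locallyOfFiniteType_of_comp ts.left (prod.fst : U ⨯ U ⟶ U).left
    have : LocallyQuasiFinite (ts.left ≫ (prod.fst : U ⨯ U ⟶ U).left) := by rw [e]; infer_instance
    have h2 : LocallyQuasiFinite ts.left := LocallyQuasiFinite.of_comp ts.left (prod.fst : U ⨯ U ⟶ U).left
    have : Mono b'.left := inferInstanceAs (Mono ((Over.forget S).map b'))
    exact ⟨MorphismProperty.of_isPullback hsq h2, MorphismProperty.of_isPullback hsq h1, inferInstance⟩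
  obtain ⟨G, γ, μ, hμ, hμq⟩ := exists_rep_of_local q hlocal
  refine ⟨G, γ ≫ π₂, μ ≫ pullback.fst x y, ?_⟩
  refine IsPullback.of_iso_pullback ⟨?_⟩ (asIso μ) rfl ?_
  · rw [Category.assoc, pullback.condition, Functor.map_comp, ← hμq, Category.assoc, Category.assoc,
      reassoc_of% hq₂]
  · rw [asIso_hom, Functor.map_comp, ← hμq, Category.assoc, hq₂]

/-- A sheaf which is a quotient of a scheme by an etale equivalence relation is an algebraic space. -/
theorem isAlgSpace_of_epi_etale {R U : Over S} {s t : R ⟶ U} {F : Sp S} {p : (yon S).obj U ⟶ F} [Epi p]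
    (sq : IsPullback ((yon S).map t) ((yon S).map s) p p) [Etale t.left] [Etale s.left] :
    IsAlgSpace F ∧ RepWith @Etale p ∧ RepWith @Surjective p := by
  have := lqf_of_etale t.left
  have hd : Representable (Limits.diag F) := representable_diag_of_epi sq
  have hr : Representable p := Functor.relativelyRepresentable.of_diag hd p
  have key : ∀ (T : Over S) (g : (yon S).obj T ⟶ F) (X : Over S) (fst : (yon S).obj X ⟶ (yon S).obj U)
      (h : X ⟶ T), IsPullback fst ((yon S).map h) p g → Etale h.left ∧ Surjective h.left := by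
    intro T g X fst h sqX
    obtain ⟨κ, C, c, hfl, hfp, hs, hl⟩ := exists_local_lifts' p g
    choose a ha using hl
    choose a' ha' using fun i => (yon S).map_surjective (a i)
    have hpb : ∀ i, Etale (pullback.snd h.left (c i).left) ∧ Surjective (pullback.snd h.left (c i).left) := by
      intro i
      have e1 : IsPullback (pullback.snd h (c i)).left (pullback.fst h (c i)).left (c i).left h.left :=
        ((IsPullback.of_hasPullback h (c i)).map (Over.forget S)).flip
      have big := ((IsPullback.of_hasPullback h (c i)).map (yon S)).paste_horiz sqX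
      rw [← ha i, ← ha' i] at big
      have hgraph : IsPullback ((yon S).map (pullback.fst s (a' i)) ≫ (yon S).map t)
          ((yon S).map (pullback.snd s (a' i))) p ((yon S).map (a' i) ≫ p) :=
        ((IsPullback.of_hasPullback s (a' i)).map (yon S)).paste_horiz sq
      obtain ⟨η, hη⟩ := (yon S).map_surjective (big.isoIsPullback _ _ hgraph).hom
      have : IsIso ((yon S).map η) := by rw [hη]; infer_instance
      have : IsIso η := isIso_of_reflects_iso η (yon S)
      have h2 : η ≫ pullback.snd s (a' i) = pullback.snd h (c i) := (yon S).map_injective (by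
        rw [Functor.map_comp, hη, IsPullback.isoIsPullback_hom_snd])
      have hs' : IsPullback (pullback.fst s (a' i)).left (pullback.snd s (a' i)).left s.left (a' i).left :=
        (IsPullback.of_hasPullback s (a' i)).map (Over.forget S)
      have : Etale (pullback.snd s (a' i)).left := MorphismProperty.of_isPullback hs' ‹Etale s.left›
      have : IsIso η.left := inferInstanceAs (IsIso ((Over.forget S).map η))
      have he : Etale (pullback.snd h (c i)).left := by
        rw [← h2, Over.comp_left]; infer_instance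
      have hsur : Surjective (pullback.snd h (c i)).left := by
        obtain ⟨σ, hσ⟩ := (yon S).map_surjective (hgraph.lift ((yon S).map (a' i)) (𝟙 _) (by rw [Category.id_comp]))
        have : σ ≫ pullback.snd s (a' i) = 𝟙 _ := (yon S).map_injective (by
          rw [Functor.map_comp, hσ, hgraph.lift_snd, CategoryTheory.Functor.map_id])
        refine ⟨fun w => ⟨(σ ≫ inv η).left w, ?_⟩⟩
        rw [← h2, ← Scheme.Hom.comp_apply, ← Over.comp_left, Category.assoc, IsIso.inv_hom_id_assoc, this]
        rfl
      let ε := e1.flip.isoPullback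
      have hε : ε.inv ≫ (pullback.snd h (c i)).left = pullback.snd h.left (c i).left :=
        e1.flip.isoPullback_inv_snd
      rw [← hε]
      exact ⟨inferInstance, inferInstance⟩
    have hsd : MorphismProperty.DescendsAlong (@Surjective : MorphismProperty Scheme.{u}) fppfMor.{u} := by
      constructor
      intro A' X' Y' Z' fst' snd' f' g' hsq hf' hfst
      refine ⟨fun z => ?_⟩
      obtain ⟨y, rfl⟩ := hf'.1.1.surj z
      obtain ⟨p', rfl⟩ := hfst.surj y
      exact ⟨snd' p', by rw [← Scheme.Hom.comp_apply, ← hsq.w, Scheme.Hom.comp_apply]⟩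
    exact ⟨of_fppf_family (P := @Etale) h c hfl hfp hs fun i => (hpb i).1,
      of_fppf_family (P := @Surjective) h c hfl hfp hs fun i => (hpb i).2⟩
  refine ⟨⟨hd, U, p, ?_, ?_⟩, ?_, ?_⟩ <;>
    refine ⟨hr, fun T X g fst snd sqX => ?_⟩
  exacts [(key T g X fst snd sqX).1, (key T g X fst snd sqX).2, (key T g X fst snd sqX).1, (key T g X fst snd sqX).2]

theorem isAlgSpace_quot {R U : Over S} (s t : R ⟶ U) (h : IsEtaleEqvRel s t) :
    IsAlgSpace (QuotSh.quot Scheme.fppfPrecoverage s t) ∧ IsPresentation s t (quotMap s t) := by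
  obtain ⟨sq, hp⟩ := isPullback_quotMap h.toIsEqvRel
  have := h.etale_left
  have := h.etale_right
  obtain ⟨hA, he, hs⟩ := isAlgSpace_of_epi_etale sq
  exact ⟨hA, h, he, hs, sq⟩

end Groth.Agent.H12AlgSp

namespace Groth.Agent.H12AlgSp

variable {S : Scheme.{u}}

/-- The target of a representable etale surjection from an algebraic space is an algebraic space. -/
theorem isAlgSpace_of_repWith_etale_surjective {X F : Sp S} (hX : IsAlgSpace X) (f : X ⟶ F)
    (he : RepWith @Etale f) (hs : RepWith @Surjective f) : IsAlgSpace F := by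
  obtain ⟨U, d, hde, hds⟩ := hX.atlas
  have he' : RepWith @Etale (d ≫ f) := repWith_comp hde he
  have hs' : RepWith @Surjective (d ≫ f) := repWith_comp hds hs
  have := epi_of_etale_surjective he' hs'
  obtain ⟨R, s, t', sqR⟩ := he'.rep (d ≫ f)
  obtain ⟨t, rfl⟩ := (yon S).map_surjective t'
  have : Etale s.left := he'.property _ _ s sqR
  have : Etale t.left := he'.property _ _ t sqR.flip
  exact (isAlgSpace_of_epi_etale (t := t) (s := s) sqR).1

end Groth.Agent.H12AlgSp
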