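import Groth.Agent.H12AlgSp.SourceDescent
import Groth.Agent.H12AlgSp.Descent
import Groth.Prelude.Def_AlgSp3
import Mathlib.RingTheory.Unramified.LocalStructure

/-!
Properties of morphisms of algebraic spaces that are etale local on source and target.
-/

set_option linter.unusedVariables false

universe u

open CategoryTheory CategoryTheory.Limits AlgebraicGeometry Opposite
open AlgSp

namespace Groth.Agent.H12AlgSp

/-- Properties of morphisms of schemes to which the chart criterion applies. -/
structure EtLocal (P : MorphismProperty Scheme.{u}) : Prop where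
  baseChange : P.IsStableUnderBaseChange
  comp : P.IsStableUnderComposition
  etale_le : (@Etale : MorphismProperty Scheme.{u}) ≤ P
  descends : ∀ {X' X Y : Scheme.{u}} (f : X' ⟶ X) (g : X ⟶ Y), Etale f → Surjective f →
    P (f ≫ g) → P g

theorem etale_section {X Y : Scheme.{u}} (f : X ⟶ Y) (σ : Y ⟶ X) [Etale f] (h : σ ≫ f = 𝟙 Y) :
    Etale σ := by
  have : Etale (σ ≫ f) := by rw [h]; infer_instance
  exact Etale.of_comp σ f

namespace EtLocal

variable {P : MorphismProperty Scheme.{u}} (hP : EtLocal P)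

include hP

theorem of_postcomp {X Y Z : Scheme.{u}} (f : X ⟶ Y) (g : Y ⟶ Z) (hg : Etale g) (h : P (f ≫ g)) :
    P f := by
  have := hP.baseChange
  have := hP.comp
  have hσ : Etale (pullback.lift (𝟙 X) f (Category.id_comp _) : X ⟶ pullback (f ≫ g) g) :=
    etale_section (pullback.fst (f ≫ g) g) _ (pullback.lift_fst _ _ _)
  have h2 : P (pullback.snd (f ≫ g) g) := MorphismProperty.pullback_snd _ _ h
  have h3 := P.comp_mem _ _ (hP.etale_le _ _ _ hσ) h2
  rwa [pullback.lift_snd] at h3

theorem respectsIso : P.RespectsIso :=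
  have := hP.baseChange
  MorphismProperty.IsStableUnderBaseChange.respectsIso

theorem id_mem (X : Scheme.{u}) : P (𝟙 X) := hP.etale_le _ _ _ (inferInstanceAs (Etale (𝟙 X)))

theorem descendsAlong :
    P.DescendsAlong ((@Etale : MorphismProperty Scheme.{u}) ⊓ @Surjective) := by
  constructor
  intro A X Y Z fst snd f g h ⟨hf₁, hf₂⟩ hfst
  have := hP.baseChange
  have := hP.comp
  have h1 : Etale snd := MorphismProperty.of_isPullback h (show Etale f from hf₁)
  have h2 : Surjective snd := MorphismProperty.of_isPullback h (show Surjective f from hf₂)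
  refine hP.descends snd g h1 h2 ?_
  rw [← h.w]
  exact P.comp_mem _ _ hfst (hP.etale_le _ _ _ hf₁)

end EtLocal

theorem etLocal_inf {P Q : MorphismProperty Scheme.{u}} (hP : EtLocal P) (hQ : EtLocal Q) :
    EtLocal (P ⊓ Q) where
  baseChange :=
    have := hP.baseChange
    have := hQ.baseChange
    inferInstance
  comp :=
    have := hP.comp
    have := hQ.comp
    inferInstance
  etale_le := le_inf hP.etale_le hQ.etale_le
  descends f g h₁ h₂ h := ⟨hP.descends f g h₁ h₂ h.1, hQ.descends f g h₁ h₂ h.2⟩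

theorem etLocal_lft : EtLocal @LocallyOfFiniteType where
  baseChange := inferInstance
  comp := inferInstance
  etale_le _ _ f (h : Etale f) := inferInstanceAs (LocallyOfFiniteType f)
  descends f g _ _ h := EtaleSource.locallyOfFiniteType f g (h := h)

theorem etLocal_lfp : EtLocal @LocallyOfFinitePresentation where
  baseChange := inferInstance
  comp := inferInstance
  etale_le _ _ f (h : Etale f) := inferInstanceAs (LocallyOfFinitePresentation f)
  descends f g _ _ h := EtaleSource.locallyOfFinitePresentation f g (h := h)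

theorem etLocal_flat : EtLocal @Flat where
  baseChange := inferInstance
  comp := inferInstance
  etale_le _ _ f (h : Etale f) := inferInstanceAs (Flat f)
  descends f g _ _ h := EtaleSource.flat' f g (h := h)

theorem etLocal_smooth : EtLocal @Smooth where
  baseChange := inferInstance
  comp := inferInstance
  etale_le _ _ f (h : Etale f) := inferInstanceAs (Smooth f)
  descends f g _ _ h := EtaleSource.smooth' f g (h := h)

theorem etLocal_etale : EtLocal @Etale where
  baseChange := inferInstance
  comp := inferInstance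
  etale_le _ _ _ h := h
  descends f g _ _ h := EtaleSource.etale' f g (h := h)

theorem etLocal_formallyUnramified : EtLocal @FormallyUnramified where
  baseChange := inferInstance
  comp := inferInstance
  etale_le _ _ f (h : Etale f) := inferInstanceAs (FormallyUnramified f)
  descends f g _ _ h := EtaleSource.formallyUnramified' f g (h := h)

theorem etLocal_lqf : EtLocal @LocallyQuasiFinite where
  baseChange := inferInstance
  comp := inferInstance
  etale_le _ _ f (h : Etale f) := by
    rw [HasRingHomProperty.iff_appLE (P := @LocallyQuasiFinite)]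
    intro U V e
    have he : (f.appLE U V e).hom.Etale := HasRingHomProperty.appLE @Etale f h U V e
    let := (f.appLE U V e).hom.toAlgebra
    have : Algebra.Etale Γ(_, U.1) Γ(_, V.1) := he
    exact inferInstanceAs (Algebra.QuasiFinite Γ(_, U.1) Γ(_, V.1))
  descends f g _ _ h := EtaleSource.locallyQuasiFinite f g (h := h)

/-- The seven classes used in the statements on chart criteria. -/
theorem etLocal_of_listed {P : MorphismProperty Scheme.{u}}
    (hP : P = @LocallyOfFiniteType ∨ P = @LocallyOfFinitePresentation ∨ P = @Flat ∨ P = @Smooth ∨ P = @Etale ∨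
      (∀ ⦃A B : Scheme.{u}⦄ (g : A ⟶ B), P g ↔ (LocallyQuasiFinite g ∧ LocallyOfFiniteType g)) ∨
      (∀ ⦃A B : Scheme.{u}⦄ (g : A ⟶ B), P g ↔ (LocallyOfFiniteType g ∧ FormallyUnramified g))) :
    EtLocal P := by
  rcases hP with rfl | rfl | rfl | rfl | rfl | h | h
  · exact etLocal_lft
  · exact etLocal_lfp
  · exact etLocal_flat
  · exact etLocal_smooth
  · exact etLocal_etale
  · convert etLocal_inf etLocal_lqf.{u} etLocal_lft.{u} using 1
    ext A B g; exact h g
  · convert etLocal_inf etLocal_lft.{u} etLocal_formallyUnramified.{u} using 1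
    ext A B g; exact h g

variable {S : Scheme.{u}} {P : MorphismProperty Scheme.{u}}

/-- Cancellation: a scheme map has `P` if its composite with a representable etale map has. -/
theorem left_of_repWith_comp (hP : EtLocal P) {U V : Over S} {G : Sp S} {b : (yon S).obj V ⟶ G}
    (h : U ⟶ V) (hb : RepWith @Etale b) {a : (yon S).obj U ⟶ G} (ha : RepWith P a)
    (w : a = (yon S).map h ≫ b) : P h.left := by
  obtain ⟨Z, z, k, sq⟩ := hb.rep a
  obtain ⟨k', rfl⟩ := (yon S).map_surjective k
  have hz : Etale z.left := hb.property a _ z sq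
  have hk : P k'.left := ha.property b ((yon S).map z) k' sq.flip
  obtain ⟨σ₀, hσ₁, hσ₂⟩ := sq.exists_lift ((yon S).map h) (𝟙 _) (by simp [w])
  obtain ⟨σ, rfl⟩ := (yon S).map_surjective σ₀
  have e1 : σ ≫ k' = h := (yon S).map_injective (by rw [Functor.map_comp, hσ₁])
  have e2 : σ ≫ z = 𝟙 U := (yon S).map_injective (by rw [Functor.map_comp, hσ₂]; exact ((yon S).map_id U).symm)
  have hσ : Etale σ.left := etale_section z.left σ.left (by rw [← Over.comp_left, e2, Over.id_left])
  have := hP.comp
  rw [← e1, Over.comp_left]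
  exact P.comp_mem _ _ (hP.etale_le _ _ _ hσ) hk

theorem etale_of_repWith {U V : Over S} {G : Sp S} {b : (yon S).obj V ⟶ G} (h : U ⟶ V)
    (hb : RepWith @Etale b) (hc : RepWith @Etale ((yon S).map h ≫ b)) : Etale h.left :=
  left_of_repWith_comp etLocal_etale h hb hc rfl

/-- One chart diagram with surjective source chart suffices. -/
theorem locP_of_one_chart (hP : EtLocal P) {F G : Sp S} {f : F ⟶ G} {U V : Over S}
    {a : (yon S).obj U ⟶ F} {b : (yon S).obj V ⟶ G} (h : U ⟶ V)
    (ha : RepWith @Etale a) (has : RepWith @Surjective a) (hb : RepWith @Etale b)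
    (comm : a ≫ f = (yon S).map h ≫ b) (hh : P h.left) : LocP P f := by
  have := hP.comp
  intro U' V' a' b' h' ha' hb' comm'
  obtain ⟨W, t, k, sq⟩ := ha.rep a'
  obtain ⟨k, rfl⟩ := (yon S).map_surjective k
  have ht : Etale t.left := ha.property a' _ t sq
  have hts : Surjective t.left := has.property a' _ t sq
  have hk : Etale k.left := ha'.property a ((yon S).map t) k sq.flip
  obtain ⟨R, r₁, r₂, sqR⟩ := hb.rep b'
  obtain ⟨r₂, rfl⟩ := (yon S).map_surjective r₂
  have h₁ : Etale r₁.left := hb.property b' _ r₁ sqR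
  have h₂ : Etale r₂.left := hb'.property b ((yon S).map r₁) r₂ sqR.flip
  obtain ⟨r₀, hr₀₁, hr₀₂⟩ := sqR.exists_lift ((yon S).map (k ≫ h)) ((yon S).map (t ≫ h')) (by
    simp only [Functor.map_comp, Category.assoc, ← comm, ← comm']
    rw [← Category.assoc, sq.w, Category.assoc])
  obtain ⟨r, rfl⟩ := (yon S).map_surjective r₀
  have e1 : r ≫ r₂ = k ≫ h := (yon S).map_injective (by rw [Functor.map_comp, hr₀₁])
  have e2 : r ≫ r₁ = t ≫ h' := (yon S).map_injective (by rw [Functor.map_comp, hr₀₂])
  refine hP.descends t.left h'.left ht hts ?_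
  rw [← Over.comp_left, ← e2, Over.comp_left]
  refine P.comp_mem _ _ (hP.of_postcomp r.left r₂.left h₂ ?_) (hP.etale_le _ _ _ h₁)
  rw [← Over.comp_left, e1, Over.comp_left]
  exact P.comp_mem _ _ (hP.etale_le _ _ _ hk) hh

/-- Every morphism to an algebraic space from one has a chart diagram with surjective charts. -/
theorem exists_chart {F G : Sp S} (hF : IsAlgSpace F) (hG : IsAlgSpace G) (f : F ⟶ G) :
    ∃ (U V : Over S) (a : (yon S).obj U ⟶ F) (b : (yon S).obj V ⟶ G) (h : U ⟶ V),
      RepWith @Etale a ∧ RepWith @Surjective a ∧ RepWith @Etale b ∧ RepWith @Surjective b ∧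
      a ≫ f = (yon S).map h ≫ b := by
  obtain ⟨V, b, hb, hbs⟩ := hG.atlas
  obtain ⟨U, p, hp, hps⟩ := (isAlgSpace_pullback hG.diag hF (IsAlgSpace.yon_obj V) f b).atlas
  obtain ⟨h, hh⟩ := (yon S).map_surjective (p ≫ pullback.snd f b)
  refine ⟨U, V, p ≫ pullback.fst f b, b, h, ?_, ?_, hb, hbs, ?_⟩
  · exact repWith_comp hp (repWith_of_isPullback (IsPullback.of_hasPullback f b).flip hb)
  · exact repWith_comp hps (repWith_of_isPullback (IsPullback.of_hasPullback f b).flip hbs)
  · rw [hh, Category.assoc, Category.assoc, pullback.condition]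

theorem locP_etale_precomp {F F' G : Sp S} {φ : F' ⟶ F} {f : F ⟶ G} (hφ : RepWith @Etale φ)
    (h : LocP P f) : LocP P (φ ≫ f) :=
  fun _ _ a b g ha hb w => h (a ≫ φ) b g (repWith_comp ha hφ) hb (by simpa using w)

/-- A representable morphism with `P` has `P` etale locally on source and target. -/
theorem locP_of_repWith (hP : EtLocal P) {F G : Sp S} {f : F ⟶ G} (hf : RepWith P f) : LocP P f := by
  have := hP.comp
  have := hP.respectsIso
  intro U V a b h ha hb w
  refine left_of_repWith_comp hP h hb ?_ w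
  exact repWith_comp (repWith_le hP.etale_le ha) hf

/-- For a representable morphism to an algebraic space the two notions agree. -/
theorem repWith_of_locP (hP : EtLocal P) {F G : Sp S} {f : F ⟶ G} (hG : IsAlgSpace G)
    (hf : Representable f) (h : LocP P f) : RepWith P f := by
  have := hP.baseChange
  have := hP.descendsAlong
  obtain ⟨V, b, hb, hbs⟩ := hG.atlas
  refine repWith_of_fppf_base (Qc := (@Etale : MorphismProperty Scheme.{u}) ⊓ @Surjective) hf
    (repWith_inf_iff.2 ⟨hb, hbs⟩) (hf.isPullback b) ((repWith_yon_map_iff P _).2 ?_)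
  exact h (hf.fst b) b (hf.snd b) (repWith_of_isPullback (hf.isPullback b).flip hb) hb (hf.isPullback b).w

theorem locP_iff_repWith (hP : EtLocal P) {F G : Sp S} {f : F ⟶ G} (hG : IsAlgSpace G)
    (hf : Representable f) : LocP P f ↔ RepWith P f :=
  ⟨repWith_of_locP hP hG hf, locP_of_repWith hP⟩

theorem locP_comp (hP : EtLocal P) {F G H : Sp S} {f : F ⟶ G} {g : G ⟶ H} (hF : IsAlgSpace F)
    (hG : IsAlgSpace G) (hH : IsAlgSpace H) (hf : LocP P f) (hg : LocP P g) : LocP P (f ≫ g) := by
  have := hP.comp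
  obtain ⟨V, W, b, c, h₂, hb, hbs, hc, -, w₂⟩ := exists_chart hG hH g
  obtain ⟨U, p, hp, hps⟩ := (isAlgSpace_pullback hG.diag hF (IsAlgSpace.yon_obj V) f b).atlas
  obtain ⟨h₁, hh₁⟩ := (yon S).map_surjective (p ≫ pullback.snd f b)
  let a := p ≫ pullback.fst f b
  have ha : RepWith @Etale a :=
    repWith_comp hp (repWith_of_isPullback (IsPullback.of_hasPullback f b).flip hb)
  have has : RepWith @Surjective a :=
    repWith_comp hps (repWith_of_isPullback (IsPullback.of_hasPullback f b).flip hbs)
  have w₁ : a ≫ f = (yon S).map h₁ ≫ b := by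
    simp only [a, hh₁, Category.assoc, pullback.condition]
  refine locP_of_one_chart hP (h₁ ≫ h₂) ha has hc (b := c) ?_ ?_
  · rw [← Category.assoc, w₁, Category.assoc, w₂, Functor.map_comp, Category.assoc]
  · rw [Over.comp_left]; exact P.comp_mem _ _ (hf a b h₁ ha hb w₁) (hg b c h₂ hb hc w₂)

theorem locP_of_isPullback (hP : EtLocal P) {X Y Y' X' : Sp S} {f : X ⟶ Y} {g : Y' ⟶ Y}
    {fst : X' ⟶ X} {f' : X' ⟶ Y'} (sq : IsPullback fst f' f g) (hX : IsAlgSpace X)
    (hY : IsAlgSpace Y) (hY' : IsAlgSpace Y') (hf : LocP P f) : LocP P f' := by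
  have := hP.baseChange
  obtain ⟨V, q, hq, hqs⟩ := hY.atlas
  obtain ⟨U, p, hp, hps⟩ := (isAlgSpace_pullback hY.diag hX (IsAlgSpace.yon_obj V) f q).atlas
  obtain ⟨h, hh⟩ := (yon S).map_surjective (p ≫ pullback.snd f q)
  have hPh : P h.left := hf (p ≫ pullback.fst f q) q h
    (repWith_comp hp (repWith_of_isPullback (IsPullback.of_hasPullback f q).flip hq)) hq
    (by rw [hh, Category.assoc, Category.assoc, pullback.condition])
  obtain ⟨V₀, b₀, hb₀, hb₀s⟩ := hY'.atlas
  obtain ⟨T, t, k, sqT⟩ := hq.rep (b₀ ≫ g)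
  obtain ⟨k, rfl⟩ := (yon S).map_surjective k
  obtain ⟨b, hbdef⟩ : ∃ b : (yon S).obj T ⟶ Y', b = (yon S).map t ≫ b₀ := ⟨_, rfl⟩
  have hb : RepWith @Etale b := hbdef ▸
    repWith_comp ((repWith_yon_map_iff _ _).2 (hq.property _ _ t sqT)) hb₀
  have hbs : RepWith @Surjective b := hbdef ▸
    repWith_comp ((repWith_yon_map_iff _ _).2 (hqs.property _ _ t sqT)) hb₀s
  have hkb : (yon S).map k ≫ q = b ≫ g := by simpa [hbdef] using sqT.w
  let n : pullback f' b ⟶ pullback f q :=
    pullback.lift (pullback.fst f' b ≫ fst) (pullback.snd f' b ≫ (yon S).map k) (by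
      rw [Category.assoc, sq.w, pullback.condition_assoc, Category.assoc, hkb])
  have hn : IsPullback n (pullback.snd f' b) (pullback.snd f q) ((yon S).map k) := by
    refine IsPullback.of_right ?_ (pullback.lift_snd _ _ _) (IsPullback.of_hasPullback f q)
    have := (IsPullback.of_hasPullback f' b).paste_horiz sq
    rw [← hkb] at this
    rwa [show n ≫ pullback.fst f q = pullback.fst f' b ≫ fst from pullback.lift_fst _ _ _]
  have sqO : IsPullback (pullback.fst h k) (pullback.snd h k) h k := IsPullback.of_hasPullback h k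
  have sqY := sqO.map (yon S)
  obtain ⟨m, hm₁, hm₂⟩ := hn.exists_lift ((yon S).map (pullback.fst h k) ≫ p)
    ((yon S).map (pullback.snd h k)) (by rw [Category.assoc, ← hh]; exact sqY.w)
  have sqm : IsPullback ((yon S).map (pullback.fst h k)) m p n := by
    refine IsPullback.of_bot ?_ hm₁.symm hn
    rw [hm₂, ← hh]
    exact sqY
  refine locP_of_one_chart hP (pullback.snd h k) (a := m ≫ pullback.fst f' b) (b := b) ?_ ?_ hb ?_ ?_
  · exact repWith_comp (repWith_of_isPullback sqm hp)
      (repWith_of_isPullback (IsPullback.of_hasPullback f' b).flip hb)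
  · exact repWith_comp (repWith_of_isPullback sqm hps)
      (repWith_of_isPullback (IsPullback.of_hasPullback f' b).flip hbs)
  · rw [Category.assoc, pullback.condition, ← Category.assoc, hm₂]
  · exact MorphismProperty.of_isPullback (sqO.map (Over.forget S)) hPh

theorem locP_of_source_cover (hP : EtLocal P) {F F' G : Sp S} (f : F ⟶ G) {φ : F' ⟶ F}
    (hF' : IsAlgSpace F') (hG : IsAlgSpace G) (hφ : RepWith @Etale φ) (hφs : RepWith @Surjective φ)
    (h : LocP P (φ ≫ f)) : LocP P f := by
  obtain ⟨U, V, a, b, g, ha, has, hb, -, w⟩ := exists_chart hF' hG (φ ≫ f)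
  exact locP_of_one_chart hP g (repWith_comp ha hφ) (repWith_comp has hφs) hb (by simpa using w)
    (h a b g ha hb w)

theorem locP_of_target_cover (hP : EtLocal P) {F G : Sp S} {f : F ⟶ G} (hF : IsAlgSpace F)
    (hG : IsAlgSpace G) {V : Over S} {p : (yon S).obj V ⟶ G} (hp : RepWith @Etale p)
    (hps : RepWith @Surjective p) {Q : Sp S} {fst : Q ⟶ F} {snd : Q ⟶ (yon S).obj V}
    (sq : IsPullback fst snd f p) (h : LocP P snd) : LocP P f := by
  obtain ⟨U, a, ha, has⟩ := (isAlgSpace_of_isPullback hG.diag hF (IsAlgSpace.yon_obj V) sq).atlas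
  obtain ⟨g, hg⟩ := (yon S).map_surjective (a ≫ snd)
  refine locP_of_one_chart hP g (repWith_comp ha (repWith_of_isPullback sq.flip hp))
    (repWith_comp has (repWith_of_isPullback sq.flip hps)) hp ?_
    (h a (𝟙 _) g ha (repWith_id _ V) (by simp [hg]))
  rw [hg, Category.assoc, Category.assoc, sq.w]

theorem locP_mono {Q : MorphismProperty Scheme.{u}} (hPQ : P ≤ Q) {F G : Sp S} {f : F ⟶ G}
    (h : LocP P f) : LocP Q f :=
  fun _ _ a b g ha hb w => hPQ _ (h a b g ha hb w)

theorem locP_inf_iff {Q : MorphismProperty Scheme.{u}} {F G : Sp S} {f : F ⟶ G} :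
    LocP (P ⊓ Q) f ↔ LocP P f ∧ LocP Q f :=
  ⟨fun h => ⟨locP_mono inf_le_left h, locP_mono inf_le_right h⟩,
    fun h _ _ a b g ha hb w => ⟨h.1 a b g ha hb w, h.2 a b g ha hb w⟩⟩

/-- Etale morphisms are etale locally on source and target etale. -/
theorem locP_etale_of_isEtaleMor {F G : Sp S} {f : F ⟶ G} (h : IsEtaleMor f) : LocP @Etale f :=
  fun _ _ a _ g ha hb w => left_of_repWith_comp etLocal_etale g hb (h a ha) w

theorem isEtaleMor_of_locP_etale {F G : Sp S} {f : F ⟶ G} (hG : IsAlgSpace G) (h : LocP @Etale f) :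
    IsEtaleMor f :=
  fun _ φ hφ => repWith_of_locP etLocal_etale hG (hG.representable_from_yon _) (locP_etale_precomp hφ h)

theorem isEtaleMor_iff_locP_etale {F G : Sp S} {f : F ⟶ G} (hG : IsAlgSpace G) :
    IsEtaleMor f ↔ LocP @Etale f :=
  ⟨locP_etale_of_isEtaleMor, isEtaleMor_of_locP_etale hG⟩

end Groth.Agent.H12AlgSp
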