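import Groth.Agent.H12AlgSp.EtaleLocal
import Groth.Agent.H12AlgSp.LocP
import Groth.Agent.H12AlgSp.Bootstrap
import Groth.Agent.H8Props.Generic
import Groth.Agent.H8Props.Reduced
import Groth.Agent.H19Grp.Reduced
import Groth.Agent.H05EGA4.Topo
import Groth.Agent.H17.Dim
import Groth.Prelude.Def_AlgSpSub
import Groth.Prelude.Def_AlgSpDec

/-!
Points of codimension zero, reducedness at points, dimension of algebraic spaces.
-/

universe u

open CategoryTheory CategoryTheory.Limits AlgebraicGeometry Topology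
open AlgSp

namespace Groth.Agent.H12AlgSp

theorem ringKrullDim_stalk_eq_zero_iff {X : Scheme.{u}} (x : X) :
    ringKrullDim (X.presheaf.stalk x) = 0 ↔ x ∈ genericPoints X := by
  rw [ringKrullDim_stalk_eq_coheight, WithBot.coe_eq_zero, Order.coheight_eq_zero,
    Groth.Agent.H8Props.mem_genericPoints_iff]
  exact ⟨fun h y hy => (Specializes.antisymm (h hy) hy).eq.symm ▸ rfl,
    fun h y hy => (h y hy).symm ▸ le_rfl⟩

/-- A point over a generic point under a locally quasi-finite morphism is a generic point. -/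
theorem mem_genericPoints_of_lqf {X Y : Scheme.{u}} (g : X ⟶ Y) [LocallyQuasiFinite g] {x : X}
    (hx : g x ∈ genericPoints Y) : x ∈ genericPoints X := by
  rw [Groth.Agent.H8Props.mem_genericPoints_iff] at hx ⊢
  intro y hy
  exact Groth.Agent.H05EGA4.eq_of_specializes_of_fibre g hy (hx _ (hy.map g.continuous))

/-- Reducedness of local rings goes up along etale morphisms. -/
theorem isReduced_stalk_of_etale {X Y : Scheme.{u}} (g : X ⟶ Y) [Etale g] (x : X)
    [_root_.IsReduced (Y.presheaf.stalk (g x))] : _root_.IsReduced (X.presheaf.stalk x) := by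
  let j := Y.fromSpecStalk (g x)
  have : IsReduced (Spec (Y.presheaf.stalk (g x))) := inferInstance
  have : IsReduced (pullback g j) :=
    Groth.Agent.H13AlgSp.isReduced_of_smooth_mor (pullback.snd g j)
  obtain ⟨z, hz⟩ : x ∈ Set.range (pullback.fst g j) := by
    rw [Scheme.Pullback.range_fst]
    exact Scheme.range_fromSpecStalk.ge (specializes_refl (g x))
  have := Flat.stalkMap (pullback.fst g j) z
  rw [← hz]
  exact isReduced_of_injective _ (Groth.Agent.H8Props.bijective_stalkMap_of_flat _ z this).1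

/-- Reducedness of local rings goes down along flat morphisms. -/
theorem isReduced_stalk_of_flat {X Y : Scheme.{u}} (g : X ⟶ Y) [Flat g] (x : X)
    [_root_.IsReduced (X.presheaf.stalk x)] : _root_.IsReduced (Y.presheaf.stalk (g x)) :=
  isReduced_of_injective _
    (Groth.Agent.H8Props.injective_of_flat_of_isLocalHom (g.stalkMap x).hom (Flat.stalkMap g x))

variable {S : Scheme.{u}}

/-- Two etale charts through a point have a common etale refinement through the point. -/
theorem exists_common_chart {F : Sp S} (hF : IsAlgSpace F) {U V : Over S} {a : (yon S).obj U ⟶ F}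
    {b : (yon S).obj V ⟶ F} (ha : RepWith @Etale a) (hb : RepWith @Etale b) {u : U.left} {v : V.left}
    (e : Points.ofPt a u = Points.ofPt b v) :
    ∃ (W : Over S) (g : W ⟶ U) (h : W ⟶ V) (w : W.left), Etale g.left ∧ Etale h.left ∧
      g.left w = u ∧ h.left w = v := by
  obtain ⟨W, h, g', sq⟩ := ha.1 b
  obtain ⟨g, rfl⟩ := (yon S).map_surjective g'
  have : Etale h.left := ha.2 b _ h sq
  have hg : Etale g.left := by
    refine etale_of_repWith g ha ?_
    rw [sq.w]
    exact repWith_comp ((repWith_yon_map_iff _ h).2 this) hb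
  have hw : (yon S).map g ≫ a = (yon S).map h ≫ b := sq.w
  obtain ⟨p, hp₁, hp₂⟩ := exists_point_of_isPullback sq (Points.ofScheme U u) (Points.ofScheme V v)
    (by rw [← Points.ofPt_eq_map_ofScheme, ← Points.ofPt_eq_map_ofScheme, e])
  obtain ⟨w, rfl⟩ := (Points.schemeEquiv W).surjective p
  refine ⟨W, g, h, w, hg, this, ?_, ?_⟩
  · apply (Points.schemeEquiv U).injective
    change Points.ofScheme U (g.left w) = Points.ofScheme U u
    rw [← hp₁]
    change Points.ofPt (𝟙 _) (g.left w) = Points.map _ (Points.ofPt (𝟙 _) w)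
    rw [Points.map_ofPt, ← ofPt_map, Category.id_comp, Category.comp_id]
  · apply (Points.schemeEquiv V).injective
    change Points.ofScheme V (h.left w) = Points.ofScheme V v
    rw [← hp₂]
    change Points.ofPt (𝟙 _) (h.left w) = Points.map _ (Points.ofPt (𝟙 _) w)
    rw [Points.map_ofPt, ← ofPt_map, Category.id_comp, Category.comp_id]

theorem hasAt_isReduced_iff {F : Sp S} (hF : IsAlgSpace F) :
    IsReducedSp F ↔ ∀ x : Points F, HasAt (fun U u => _root_.IsReduced ↥(U.presheaf.stalk u)) F x := by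
  constructor
  · rintro ⟨U, p, hp, hs, hU⟩ x
    obtain ⟨u, rfl⟩ := surjective_ofPt_of_repWith le_rfl hs x
    have : IsReduced U.left := hU
    exact ⟨U, p, u, hp, rfl, inferInstance⟩
  · intro h
    obtain ⟨V, p, hp, hs⟩ := hF.atlas
    have key : ∀ v : V.left, _root_.IsReduced (V.left.presheaf.stalk v) := by
      intro v
      obtain ⟨U, a, u, ha, e, hu⟩ := h (Points.ofPt p v)
      obtain ⟨W, g, h', w, hg, hh, rfl, rfl⟩ := exists_common_chart hF ha hp e
      have := isReduced_stalk_of_etale g.left w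
      exact isReduced_stalk_of_flat h'.left w
    exact ⟨V, p, hp, hs, isReduced_of_isReduced_stalk _⟩

theorem hasAt_codimZero_map {F G : Sp S} (hF : IsAlgSpace F) (hG : IsAlgSpace G) {f : F ⟶ G}
    (hf : LocP @Flat f) {x : Points F}
    (hx : HasAt (fun U u => ringKrullDim ↥(U.presheaf.stalk u) = 0) F x) :
    HasAt (fun U u => ringKrullDim ↥(U.presheaf.stalk u) = 0) G (Points.map f x) := by
  obtain ⟨U, a, u, ha, rfl, hu⟩ := hx
  obtain ⟨V, b, hb, hbs⟩ := hG.atlas
  obtain ⟨W, w₂, w₁, sq⟩ := hb.1 (a ≫ f)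
  obtain ⟨w₁, rfl⟩ := (yon S).map_surjective w₁
  have he : Etale w₂.left := hb.2 _ _ w₂ sq
  have : Surjective w₂.left := hbs.2 _ _ w₂ sq
  obtain ⟨w, rfl⟩ := w₂.left.surjective u
  have hflat : Flat w₁.left :=
    hf ((yon S).map w₂ ≫ a) b w₁ (repWith_comp ((repWith_yon_map_iff _ w₂).2 he) ha) hb
      (by rw [Category.assoc, sq.w])
  refine ⟨V, b, w₁.left w, hb, ?_, (ringKrullDim_stalk_eq_zero_iff _).2
    (Groth.Agent.H8Props.flat_map_genericPoints w₁.left
      (@mem_genericPoints_of_lqf _ _ w₂.left (lqf_of_etale w₂.left) _ ((ringKrullDim_stalk_eq_zero_iff _).1 hu)))⟩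
  rw [Points.map_ofPt, ← ofPt_map, ← ofPt_map, sq.w]

theorem dense_codimZero {F : Sp S} (hF : IsAlgSpace F) :
    Dense {x : Points F | HasAt (fun U u => ringKrullDim ↥(U.presheaf.stalk u) = 0) F x} := by
  rw [dense_iff_inter_open]
  rintro W hW ⟨x, hx⟩
  obtain ⟨U, p, hp, hs⟩ := hF.atlas
  obtain ⟨u, rfl⟩ := surjective_ofPt_of_repWith le_rfl hs x
  obtain ⟨η, hη, hηu⟩ := Groth.Agent.H8Props.exists_genericPoints_specializes u
  exact ⟨Points.ofPt p η, hηu.mem_open (hW.preimage (Points.continuous_ofPt p)) hx,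
    U, p, η, hp, rfl, (ringKrullDim_stalk_eq_zero_iff _).2 hη⟩

theorem dim_eq_of_etale_surjective {F G : Sp S} (hF : IsAlgSpace F) (hG : IsAlgSpace G) {f : F ⟶ G}
    (hf : IsEtaleMor f) (hs : IsSurjectiveMor f) : dim F = dim G := by
  refine le_antisymm (iSup_le fun U => iSup₂_le fun a ha => ?_) (iSup_le fun V => iSup₂_le fun b hb => ?_)
  · exact le_iSup_of_le U (le_iSup₂_of_le (a ≫ f) (hf a ha) le_rfl)
  · have sq := IsPullback.of_hasPullback f b
    obtain ⟨T, d, hde, hds⟩ :=
      (isAlgSpace_of_isPullback hG.diag hF (IsAlgSpace.yon_obj V) sq).atlas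
    obtain ⟨k, hk⟩ := (yon S).map_surjective (d ≫ pullback.snd f b)
    have hte : RepWith @Etale (d ≫ pullback.fst f b) := repWith_comp hde (repWith_of_isPullback sq.flip hb)
    have hke : Etale k.left := by
      refine etale_of_repWith k hb ?_
      rw [hk, Category.assoc, ← sq.w, ← Category.assoc]
      exact hf _ hte
    have hks : Function.Surjective k.left := fun v => by
      obtain ⟨y, hy⟩ := hs (Points.ofPt b v)
      obtain ⟨r, -, hr⟩ := exists_point_of_isPullback sq y (Points.ofScheme V v)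
        (by rw [hy, ← Points.ofPt_eq_map_ofScheme])
      obtain ⟨t, rfl⟩ := surjective_ofPt_of_repWith le_rfl hds r
      refine ⟨t, (Points.schemeEquiv V).injective (Eq.trans ?_ hr)⟩
      rw [Points.map_ofPt, ← hk, ← Category.comp_id ((yon S).map k), ofPt_map]
      rfl
    exact (Groth.Agent.H17.topologicalKrullDim_le_of_generalizingMap k.left
      (Flat.generalizingMap _) hks).trans (le_iSup_of_le T (le_iSup₂_of_le _ hte le_rfl))

end Groth.Agent.H12AlgSp
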