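import Groth.Agent.H12AlgSp.Basic
import Groth.Prelude.Def_AlgSpDec
import Groth.Prelude.Def_AlgSp4

/-!
Points of sheaves: fibre products, surjectivity and openness of the maps induced by
morphisms representable by schemes.
-/

universe u

open CategoryTheory CategoryTheory.Limits AlgebraicGeometry Opposite Topology
open AlgSp

namespace Groth.Agent.H12AlgSp

variable {S : Scheme.{u}} {F G H : Sp S}

/-- The field-valued point given by a morphism from the spectrum of a field. -/
noncomputable def fieldPtOfHom {K : Type u} [Field K] {str : Spec (CommRingCat.of K) ⟶ S}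
    (x : (yon S).obj (Over.mk str) ⟶ F) : FieldPt F :=
  ⟨K, str, (J S).uliftYonedaEquiv x⟩

@[simp] theorem toHom_fieldPtOfHom {K : Type u} [Field K] {str : Spec (CommRingCat.of K) ⟶ S}
    (x : (yon S).obj (Over.mk str) ⟶ F) : (fieldPtOfHom x).toHom = x :=
  Equiv.symm_apply_apply _ _

theorem toHom_injective (p : FieldPt F) {v : F.obj.obj (op p.pt)}
    (h : p.toHom = (J S).uliftYonedaEquiv.symm v) : p.val = v :=
  (J S).uliftYonedaEquiv.symm.injective h

theorem map_op_val (p : FieldPt F) {T : Over S} (a : T ⟶ p.pt) :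
    F.obj.map a.op p.val = (J S).uliftYonedaEquiv ((yon S).map a ≫ p.toHom) := by
  rw [← FieldPt.uliftYonedaEquiv_toHom p]
  simp only [FieldPt.toHom, Equiv.apply_symm_apply]
  rw [GrothendieckTopology.uliftYonedaEquiv_symm_naturality_left, Equiv.apply_symm_apply]

theorem rel_iff_toHom {p q : FieldPt F} : FieldPt.Rel p q ↔
    ∃ (Ω : Type u) (_ : Field Ω) (w : Spec (CommRingCat.of Ω) ⟶ S) (a : Over.mk w ⟶ p.pt)
      (b : Over.mk w ⟶ q.pt), (yon S).map a ≫ p.toHom = (yon S).map b ≫ q.toHom := by
  simp only [FieldPt.Rel, map_op_val, EmbeddingLike.apply_eq_iff_eq]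

theorem ofPt_mem_range {H' : Over S} (g : (yon S).obj H' ⟶ F) (t : ↥H'.left) :
    Points.ofPt g t ∈ Set.range (Points.map g) :=
  ⟨Points.ofScheme H' t, (Points.ofPt_eq_map_ofScheme g t).symm⟩

theorem ofPt_map {T T' : Over S} (φ : T ⟶ T') (g : (yon S).obj T' ⟶ F) (t : ↥T.left) :
    Points.ofPt ((yon S).map φ ≫ g) t = Points.ofPt g (φ.left t) := by
  rw [← Points.map_ofPt, Points.ofPt_eq_map_ofScheme g (φ.left t)]
  exact congrArg _ ((Points.schemeEquiv T').symm.injective
    ((Points.toScheme_ofPt φ t).trans (Points.toScheme_ofScheme T' _).symm))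

theorem range_map_yon {T : Over S} (g : (yon S).obj T ⟶ F) :
    Set.range (Points.map g) = Set.range (Points.ofPt g) := by
  ext x
  constructor
  · rintro ⟨y, rfl⟩
    obtain ⟨t, rfl⟩ := (Points.schemeEquiv T).surjective y
    exact ⟨t, Points.ofPt_eq_map_ofScheme g t⟩
  · rintro ⟨t, rfl⟩
    exact ⟨_, (Points.ofPt_eq_map_ofScheme g t).symm⟩

theorem map_mk_fieldPtOfHom {K : Type u} [Field K] {str : Spec (CommRingCat.of K) ⟶ S}
    (x : (yon S).obj (Over.mk str) ⟶ F) (f : F ⟶ G) :
    Points.map f (Points.mk (fieldPtOfHom x)) = Points.mk (fieldPtOfHom (x ≫ f)) := by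
  refine congrArg Points.mk ?_
  simp only [fieldPtOfHom, FieldPt.map]
  rw [GrothendieckTopology.uliftYonedaEquiv_comp]; rfl

/-- Points of a fibre product surject onto compatible pairs of points. -/
theorem exists_point_of_isPullback {X Y Z P : Sp S} {fst : P ⟶ X} {snd : P ⟶ Y} {f : X ⟶ Z}
    {g : Y ⟶ Z} (sq : IsPullback fst snd f g) (x : Points X) (y : Points Y)
    (e : Points.map f x = Points.map g y) :
    ∃ p : Points P, Points.map fst p = x ∧ Points.map snd p = y := by
  induction x using Points.ind with | h p =>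
  induction y using Points.ind with | h q =>
  rw [Points.map_mk, Points.map_mk, Points.mk_eq_mk_iff, rel_iff_toHom] at e
  obtain ⟨Ω, hΩ, w, a, b, e⟩ := e
  simp only [FieldPt.toHom_map] at e
  let l := sq.lift ((yon S).map a ≫ p.toHom) ((yon S).map b ≫ q.toHom)
    ((Category.assoc _ _ _).trans (e.trans (Category.assoc _ _ _).symm))
  let t : ↥(Over.mk w).left := IsLocalRing.closedPoint Ω
  refine ⟨Points.ofPt l t, ?_, ?_⟩
  · refine ((Points.map_ofPt l fst t).trans ?_).trans (Points.ofPt_toHom p (a.left t))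
    rw [sq.lift_fst]
    exact ofPt_map a _ _
  · refine ((Points.map_ofPt l snd t).trans ?_).trans (Points.ofPt_toHom q (b.left t))
    rw [sq.lift_snd]
    exact ofPt_map b _ _

theorem image_eq_preimage_image_of_isPullback {X Y Z P : Sp S} {fst : P ⟶ X} {snd : P ⟶ Y}
    {f : X ⟶ Z} {g : Y ⟶ Z} (sq : IsPullback fst snd f g) (W : Set (Points X)) :
    Points.map g ⁻¹' (Points.map f '' W) = Points.map snd '' (Points.map fst ⁻¹' W) := by
  ext y
  constructor
  · rintro ⟨x, hx, e⟩
    obtain ⟨p, rfl, rfl⟩ := exists_point_of_isPullback sq x y e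
    exact ⟨p, hx, rfl⟩
  · rintro ⟨p, hp, rfl⟩
    exact ⟨_, hp, by rw [← Points.map_comp, ← Points.map_comp, sq.w]⟩

theorem range_snd_of_isPullback {X Y Z P : Sp S} {fst : P ⟶ X} {snd : P ⟶ Y}
    {f : X ⟶ Z} {g : Y ⟶ Z} (sq : IsPullback fst snd f g) :
    Set.range (Points.map snd) = Points.map g ⁻¹' Set.range (Points.map f) := by
  simpa using (image_eq_preimage_image_of_isPullback sq Set.univ).symm

/-- The image of a set along a representable morphism, pulled back to a scheme. -/
theorem preimage_ofPt_image {V T : Over S} {f : F ⟶ G} {g : (yon S).obj T ⟶ G}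
    {fst : (yon S).obj V ⟶ F} {snd : V ⟶ T} (sq : IsPullback fst ((yon S).map snd) f g)
    (W : Set (Points F)) :
    Points.ofPt g ⁻¹' (Points.map f '' W) = snd.left '' (Points.ofPt fst ⁻¹' W) := by
  ext t
  constructor
  · rintro ⟨x, hx, e⟩
    obtain ⟨p, rfl, hp⟩ := exists_point_of_isPullback sq x (Points.ofScheme T t)
      (e.trans (Points.ofPt_eq_map_ofScheme g t))
    obtain ⟨v, rfl⟩ := (Points.schemeEquiv V).surjective p
    refine ⟨v, by rw [Set.mem_preimage, Points.ofPt_eq_map_ofScheme]; exact hx, ?_⟩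
    apply (Points.schemeEquiv T).injective
    refine Eq.trans ?_ hp
    exact (Points.map_yon_map_apply snd v).symm
  · rintro ⟨v, hv, rfl⟩
    refine ⟨_, hv, ?_⟩
    rw [Points.map_ofPt, sq.w, ofPt_map]

theorem preimage_ofPt_range {V T : Over S} {f : F ⟶ G} {g : (yon S).obj T ⟶ G}
    {fst : (yon S).obj V ⟶ F} {snd : V ⟶ T} (sq : IsPullback fst ((yon S).map snd) f g) :
    Points.ofPt g ⁻¹' Set.range (Points.map f) = Set.range snd.left := by
  simpa using preimage_ofPt_image sq Set.univ

theorem surjective_map_of_repWith {P : MorphismProperty Scheme.{u}} (hP : P ≤ @Surjective)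
    {f : F ⟶ G} (hf : RepWith P f) : Function.Surjective (Points.map f) := by
  intro y
  induction y using Points.ind with | h q =>
  have := preimage_ofPt_range (hf.rep.isPullback q.toHom)
  have hs : Surjective (hf.rep.snd q.toHom).left := hP _ (hf.property_snd _)
  rw [hs.surj.range_eq] at this
  let s : ↥q.pt.left := IsLocalRing.closedPoint q.K
  have h0 := this.ge (Set.mem_univ s)
  exact (Points.ofPt_toHom q s) ▸ h0

theorem repWith_surjective_of_map {f : F ⟶ G} (hf : Representable f)
    (hs : Function.Surjective (Points.map f)) : RepWith @Surjective f := by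
  refine repWith_of_snd hf fun T g => ⟨fun t => ?_⟩
  have := (preimage_ofPt_range (hf.isPullback g)).le (hs (Points.ofPt g t))
  exact this

theorem isOpenMap_map_of_repWith {P : MorphismProperty Scheme.{u}} (hP : P ≤ @UniversallyOpen)
    {f : F ⟶ G} (hf : RepWith P f) : IsOpenMap (Points.map f) := by
  intro W hW
  rw [Points.isOpen_iff]
  intro T g
  rw [preimage_ofPt_image (hf.rep.isPullback g)]
  have : UniversallyOpen (hf.rep.snd g).left := hP _ (hf.property_snd g)
  exact (hf.rep.snd g).left.isOpenMap _ (Points.isOpen_iff.1 hW _ _)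

theorem isClosed_iff_ofPt {Z : Set (Points F)} :
    IsClosed Z ↔ ∀ (T : Over S) (g : (yon S).obj T ⟶ F), IsClosed (Points.ofPt g ⁻¹' Z) := by
  simp only [← isOpen_compl_iff, Points.isOpen_iff, Set.preimage_compl]

theorem isClosedMap_map_of_repWith {P : MorphismProperty Scheme.{u}} (hP : P ≤ @UniversallyClosed)
    {f : F ⟶ G} (hf : RepWith P f) : IsClosedMap (Points.map f) := by
  intro W hW
  rw [isClosed_iff_ofPt]
  intro T g
  rw [preimage_ofPt_image (hf.rep.isPullback g)]
  have : UniversallyClosed (hf.rep.snd g).left := hP _ (hf.property_snd g)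
  exact (hf.rep.snd g).left.isClosedMap _ (isClosed_iff_ofPt.1 hW _ _)

theorem isOpenMap_ofPt_of_repWith {P : MorphismProperty Scheme.{u}} (hP : P ≤ @UniversallyOpen)
    {T : Over S} {g : (yon S).obj T ⟶ F} (hg : RepWith P g) : IsOpenMap (Points.ofPt g) := by
  rw [show Points.ofPt g = Points.map g ∘ Points.schemeHomeo T from
    funext fun t => Points.ofPt_eq_map_ofScheme g t]
  exact (isOpenMap_map_of_repWith hP hg).comp (Points.schemeHomeo T).isOpenMap

theorem surjective_ofPt_of_repWith {P : MorphismProperty Scheme.{u}} (hP : P ≤ @Surjective)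
    {T : Over S} {g : (yon S).obj T ⟶ F} (hg : RepWith P g) : Function.Surjective (Points.ofPt g) := by
  rw [← Set.range_eq_univ, ← range_map_yon, (surjective_map_of_repWith hP hg).range_eq]

theorem etale_le_universallyOpen : (@Etale : MorphismProperty Scheme.{u}) ≤ @UniversallyOpen :=
  fun _ _ f (_ : Etale f) => inferInstance

theorem isQuotientMap_ofPt {U : Over S} {p : (yon S).obj U ⟶ F} (hp : RepWith @Etale p)
    (hs : RepWith @Surjective p) : IsQuotientMap (Points.ofPt p) :=
  ((isOpenMap_ofPt_of_repWith etale_le_universallyOpen hp).isQuotientMap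
    (Points.continuous_ofPt p) (surjective_ofPt_of_repWith le_rfl hs))

end Groth.Agent.H12AlgSp
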