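import Groth.Agent.H12AlgSp.Basic
import Groth.Agent.H12AlgSp.Points
import Mathlib.Topology.LocallyClosed
import Mathlib.Topology.NoetherianSpace
import Mathlib.AlgebraicGeometry.Noetherian

/-!
Topology of the points of algebraic spaces through charts.
-/

set_option linter.unusedVariables false

universe u

open CategoryTheory CategoryTheory.Limits AlgebraicGeometry Opposite Topology TopologicalSpace
open AlgSp

namespace Groth.Agent.H12AlgSp

variable {S : Scheme.{u}} {X Z : Sp S}

theorem injective_map_of_mono (i : Z ⟶ X) [Mono i] : Function.Injective (Points.map i) := fun z z' h => by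
  obtain ⟨p, h₁, h₂⟩ := exists_point_of_isPullback (IsKernelPair.id_of_mono i) z z' h
  exact h₁.symm.trans h₂

/-- Immersions of spaces are topological embeddings with locally closed image. -/
theorem isEmbedding_of_immersion (hX : IsAlgSpace X) (i : Z ⟶ X) (hi : RepWith @IsImmersion i) :
    IsEmbedding (Points.map i) ∧ IsLocallyClosed (Set.range (Points.map i)) := by
  obtain ⟨U, p, hp, hps⟩ := hX.atlas
  obtain ⟨V, fst, snd, sq⟩ : ∃ (V : Over S) (fst : (yon S).obj V ⟶ Z) (snd : V ⟶ U),
      IsPullback fst ((yon S).map snd) i p := ⟨_, _, _, hi.1.isPullback p⟩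
  have : IsImmersion snd.left := hi.2 p fst snd sq
  have : Mono i := mono_of_repWith (fun _ _ f (_ : IsImmersion f) => (inferInstance : Mono f)) hi
  have hq := isQuotientMap_ofPt hp hps
  have hopen := isOpenMap_ofPt_of_repWith etale_le_universallyOpen hp
  have hse : IsEmbedding snd.left := snd.left.isEmbedding
  refine ⟨⟨⟨le_antisymm (continuous_iff_le_induced.1 (Points.continuous_map i)) fun W hW => ?_⟩,
    injective_map_of_mono i⟩, ?_⟩
  · obtain ⟨O, hO, hOW⟩ := hse.isInducing.isOpen_iff.1 (hW.preimage (Points.continuous_ofPt fst))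
    refine isOpen_induced_iff.2 ⟨Points.ofPt p '' O, hopen _ hO, ?_⟩
    ext z
    constructor
    · rintro ⟨o, ho, e⟩
      obtain ⟨v, rfl⟩ : o ∈ Set.range snd.left := (preimage_ofPt_range sq).le ⟨z, e.symm⟩
      have : Points.map i (Points.ofPt fst v) = Points.map i z := by
        rw [Points.map_ofPt, sq.w, ofPt_map, e]
      rw [← injective_map_of_mono i this]
      exact hOW.le ho
    · intro hz
      obtain ⟨o, ho⟩ := hq.surjective (Points.map i z)
      obtain ⟨v, rfl⟩ : o ∈ Set.range snd.left := (preimage_ofPt_range sq).le ⟨z, ho.symm⟩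
      have e : Points.map i (Points.ofPt fst v) = Points.map i z := by
        rw [Points.map_ofPt, sq.w, ofPt_map, ho]
      refine ⟨snd.left v, hOW.ge (?_ : Points.ofPt fst v ∈ W), ho⟩
      rw [injective_map_of_mono i e]
      exact hz
  · have h : IsLocallyClosed (Points.ofPt p ⁻¹' Set.range (Points.map i)) := by
      rw [preimage_ofPt_range sq]
      exact snd.left.isLocallyClosed_range
    rw [isLocallyClosed_iff_isOpen_coborder, ← hq.isOpen_preimage,
      ← coborder_preimage hopen (Points.continuous_ofPt p)]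
    exact isLocallyClosed_iff_isOpen_coborder.1 h

/-- A fundamental system of quasi-compact open neighbourhoods. -/
theorem exists_compact_open_nhd (hX : IsAlgSpace X) (x : Points X) {W : Set (Points X)} (hW : IsOpen W)
    (hx : x ∈ W) : ∃ V : Set (Points X), IsOpen V ∧ IsCompact V ∧ x ∈ V ∧ V ⊆ W := by
  obtain ⟨U, p, hp, hps⟩ := hX.atlas
  obtain ⟨u, rfl⟩ := surjective_ofPt_of_repWith le_rfl hps x
  obtain ⟨A, hA, hu, hAW⟩ := TopologicalSpace.Opens.isBasis_iff_nbhd.mp U.left.isBasis_affineOpens
    (show u ∈ (⟨_, hW.preimage (Points.continuous_ofPt p)⟩ : TopologicalSpace.Opens U.left) from hx)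
  exact ⟨Points.ofPt p '' (A : Set U.left), isOpenMap_ofPt_of_repWith etale_le_universallyOpen hp _ A.2,
    hA.isCompact.image (Points.continuous_ofPt p), ⟨u, hu, rfl⟩, Set.image_subset_iff.2 hAW⟩

theorem exists_noetherian_nhd (hX : IsLocNoethSp X) (x : Points X) :
    ∃ W : Set (Points X), IsOpen W ∧ x ∈ W ∧ NoetherianSpace ↥W := by
  obtain ⟨U, p, hp, hps, hU⟩ := hX
  obtain ⟨u, rfl⟩ := surjective_ofPt_of_repWith le_rfl hps x
  obtain ⟨A, hA, hu, -⟩ := TopologicalSpace.Opens.isBasis_iff_nbhd.mp U.left.isBasis_affineOpens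
    (TopologicalSpace.Opens.mem_top u)
  refine ⟨Points.ofPt p '' (A : Set U.left), isOpenMap_ofPt_of_repWith etale_le_universallyOpen hp _ A.2,
    ⟨u, hu, rfl⟩, ?_⟩
  have : IsLocallyNoetherian U.left := hU
  have : IsNoetherianRing Γ(U.left, A) := IsLocallyNoetherian.component_noetherian ⟨A, hA⟩
  have : NoetherianSpace (A : Set U.left) := noetherianSpace_of_isAffineOpen A hA
  exact noetherianSpace_of_surjective (Set.MapsTo.restrict (Points.ofPt p) (A : Set U.left) _ (Set.mapsTo_image _ _))
    ((Points.continuous_ofPt p).restrict _) (by rintro ⟨_, a, ha, rfl⟩; exact ⟨⟨a, ha⟩, rfl⟩)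

end Groth.Agent.H12AlgSp
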