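import Groth.Agent.H12AlgSp.EtDim
import Groth.Agent.H12AlgSp.PointsTop
import Groth.Agent.H12AlgSp.LocP
import Groth.Agent.H8Props.FibreDimSemicont
import Groth.Agent.H8Props.FieldDimFibre
import Groth.Agent.H8Props.FieldDimSmooth
import Groth.Agent.H17.ConsPropBasic
import Groth.Prelude.Def_AlgSpDec
import Groth.Prelude.Def_Dual3
import Groth.Prelude.Def_Cyc

/-!
Pointwise invariants of morphisms which are etale local on source and target: relative dimension and
transcendence degree of residue field extensions.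
-/

set_option backward.isDefEq.respectTransparency false

universe u

open CategoryTheory CategoryTheory.Limits AlgebraicGeometry Topology TopologicalSpace
open AlgSp

namespace Groth.Agent.H12AlgSp

/-- An invariant of pointed morphisms with `P` which does not see etale maps on either side. -/
structure EtInvAt (P : MorphismProperty Scheme.{u}) (Q : ∀ U V : Scheme.{u}, (U ⟶ V) → ↥U → Prop) :
    Prop where
  precomp : ∀ {W U V : Scheme.{u}} (g : W ⟶ U) (f : U ⟶ V), Etale g → P f → ∀ w : W,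
    (Q W V (g ≫ f) w ↔ Q U V f (g w))
  postcomp : ∀ {U V V' : Scheme.{u}} (f : U ⟶ V) (g : V ⟶ V'), Etale g → P f → ∀ u : U,
    (Q U V' (f ≫ g) u ↔ Q U V f u)

variable {S : Scheme.{u}} {P : MorphismProperty Scheme.{u}}
  {Q : ∀ U V : Scheme.{u}, (U ⟶ V) → ↥U → Prop}

section

variable {F G : Sp S} {f : F ⟶ G} {U V U' V' : Over S} {a : (yon S).obj U ⟶ F}
  {b : (yon S).obj V ⟶ G} {a' : (yon S).obj U' ⟶ F} {b' : (yon S).obj V' ⟶ G} {h : U ⟶ V}
  {h' : U' ⟶ V'}

/-- The invariant does not depend on the chart diagram. -/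
theorem EtInvAt.chart_iff (hQ : EtInvAt P Q) (hf : LocP P f)
    (ha : RepWith @Etale a) (hb : RepWith @Etale b) (ha' : RepWith @Etale a') (hb' : RepWith @Etale b')
    (w : a ≫ f = (yon S).map h ≫ b) (w' : a' ≫ f = (yon S).map h' ≫ b') {u : U.left} {u' : U'.left}
    (e : Points.ofPt a u = Points.ofPt a' u') :
    Q U.left V.left h.left u ↔ Q U'.left V'.left h'.left u' := by
  obtain ⟨W, g, hW, sq⟩ := ha.rep a'
  obtain ⟨hW, rfl⟩ := (yon S).map_surjective hW
  obtain ⟨R, r₁, r₂, sqR⟩ := hb.rep b'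
  obtain ⟨r₂, rfl⟩ := (yon S).map_surjective r₂
  have h₁ : Etale r₁.left := hb.property b' _ r₁ sqR
  have h₂ : Etale r₂.left := hb'.property b ((yon S).map r₁) r₂ sqR.flip
  have hg : Etale g.left := ha.property a' _ g sq
  have hk : Etale hW.left := ha'.property a ((yon S).map g) hW sq.flip
  obtain ⟨p, hp₁, hp₂⟩ := exists_point_of_isPullback sq (Points.ofScheme U u) (Points.ofScheme U' u')
    (by rw [← Points.ofPt_eq_map_ofScheme, ← Points.ofPt_eq_map_ofScheme, e])
  obtain ⟨x, rfl⟩ : ∃ x : W.left, Points.ofScheme W x = p :=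
    (Points.schemeHomeo W).surjective p
  obtain ⟨r₀, hr₀₁, hr₀₂⟩ := sqR.exists_lift ((yon S).map (hW ≫ h)) ((yon S).map (g ≫ h')) (by
    simp only [Functor.map_comp, Category.assoc, ← w, ← w']
    rw [← Category.assoc, sq.w, Category.assoc])
  obtain ⟨r, rfl⟩ := (yon S).map_surjective r₀
  have e1 : r ≫ r₂ = hW ≫ h := (yon S).map_injective (by rw [Functor.map_comp, hr₀₁])
  have e2 : r ≫ r₁ = g ≫ h' := (yon S).map_injective (by rw [Functor.map_comp, hr₀₂])
  have hPh : P h.left := hf a b h ha hb w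
  have hPh' : P h'.left := hf a' b' h' ha' hb' w'
  have hPr : P r.left := by
    refine hf ((yon S).map hW ≫ a) ((yon S).map r₂ ≫ b) r ?_ ?_ ?_
    · exact repWith_comp ((repWith_yon_map_iff _ _).2 hk) ha
    · exact repWith_comp ((repWith_yon_map_iff _ _).2 h₂) hb
    · rw [Category.assoc, w, ← Category.assoc, ← Category.assoc, ← Functor.map_comp,
        ← Functor.map_comp, e1]
  have hux : hW.left x = u := by
    have := hp₁
    rw [← Points.ofPt_eq_map_ofScheme, ← Category.comp_id ((yon S).map hW), ofPt_map] at this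
    exact (Points.schemeHomeo U).injective this
  have hu'x : g.left x = u' := by
    have := hp₂
    rw [← Points.ofPt_eq_map_ofScheme, ← Category.comp_id ((yon S).map g), ofPt_map] at this
    exact (Points.schemeHomeo U').injective this
  rw [← hux, ← hu'x, ← hQ.precomp hW.left h.left hk hPh x, ← hQ.precomp g.left h'.left hg hPh' x,
    ← Over.comp_left, ← Over.comp_left, ← e1, ← e2, Over.comp_left, Over.comp_left,
    hQ.postcomp r.left r₂.left h₂ hPr x, hQ.postcomp r.left r₁.left h₁ hPr x]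

/-- The some-diagram form agrees with the invariant on any diagram through the point. -/
theorem EtInvAt.hasAtMor_iff (hQ : EtInvAt P Q) (hf : LocP P f)
    (ha : RepWith @Etale a) (hb : RepWith @Etale b) (w : a ≫ f = (yon S).map h ≫ b) (u : U.left) :
    HasAtMor Q f (Points.ofPt a u) ↔ Q U.left V.left h.left u := by
  refine ⟨?_, fun hu => ⟨U, V, a, b, h, u, ha, hb, w, rfl, hu⟩⟩
  rintro ⟨U', V', a', b', h', u', ha', hb', w', e, hu⟩
  exact (hQ.chart_iff hf ha' hb' ha hb w' w e).1 hu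

end

theorem exists_chart_at {F G : Sp S} (hF : IsAlgSpace F) (hG : IsAlgSpace G) (f : F ⟶ G)
    (x : Points F) : ∃ (U V : Over S) (a : (yon S).obj U ⟶ F) (b : (yon S).obj V ⟶ G) (h : U ⟶ V)
      (u : U.left), RepWith @Etale a ∧ RepWith @Etale b ∧ a ≫ f = (yon S).map h ≫ b ∧
        Points.ofPt a u = x := by
  obtain ⟨U, V, a, b, h, ha, has, hb, -, w⟩ := exists_chart hF hG f
  obtain ⟨u, hu⟩ := surjective_ofPt_of_repWith le_rfl has x
  exact ⟨U, V, a, b, h, u, ha, hb, w, hu⟩

theorem exists_chart_comp_at {F G H : Sp S} (hF : IsAlgSpace F) (hG : IsAlgSpace G) (hH : IsAlgSpace H)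
    (f : F ⟶ G) (g : G ⟶ H) (x : Points F) :
    ∃ (U V W : Over S) (a : (yon S).obj U ⟶ F) (b : (yon S).obj V ⟶ G) (c : (yon S).obj W ⟶ H)
      (h₁ : U ⟶ V) (h₂ : V ⟶ W) (u : U.left), RepWith @Etale a ∧ RepWith @Etale b ∧ RepWith @Etale c ∧
        a ≫ f = (yon S).map h₁ ≫ b ∧ b ≫ g = (yon S).map h₂ ≫ c ∧
        a ≫ f ≫ g = (yon S).map (h₁ ≫ h₂) ≫ c ∧ Points.ofPt a u = x ∧
        Points.ofPt b (h₁.left u) = Points.map f x := by
  obtain ⟨V, W, b, c, h₂, hb, hbs, hc, -, w₂⟩ := exists_chart hG hH g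
  obtain ⟨U, p, hp, hps⟩ := (isAlgSpace_pullback hG.diag hF (IsAlgSpace.yon_obj V) f b).atlas
  obtain ⟨h₁, hh₁⟩ := (yon S).map_surjective (p ≫ pullback.snd f b)
  obtain ⟨u, hu⟩ := surjective_ofPt_of_repWith le_rfl
    (repWith_comp hps (repWith_of_isPullback (IsPullback.of_hasPullback f b).flip hbs)) x
  have w₁ : (p ≫ pullback.fst f b) ≫ f = (yon S).map h₁ ≫ b := by
    simp only [hh₁, Category.assoc, pullback.condition]
  refine ⟨U, V, W, p ≫ pullback.fst f b, b, c, h₁, h₂, u,
    repWith_comp hp (repWith_of_isPullback (IsPullback.of_hasPullback f b).flip hb), hb, hc,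
    w₁, w₂, ?_, hu, ?_⟩
  · rw [← Category.assoc, w₁, Category.assoc, w₂, Functor.map_comp, Category.assoc]
  · rw [← hu, Points.map_ofPt, w₁, ofPt_map]

/-- A chart diagram of a base change through a given point, over a chart diagram of the original map. -/
theorem exists_baseChange_chart_at' {X Y Y' X' : Sp S} {f : X ⟶ Y} {g : Y' ⟶ Y} {fst : X' ⟶ X}
    {f' : X' ⟶ Y'} (sq : IsPullback fst f' f g) (hX : IsAlgSpace X) (hY : IsAlgSpace Y)
    (hY' : IsAlgSpace Y') (x' : Points X') :
    ∃ (U V O T : Over S) (a : (yon S).obj U ⟶ X) (b : (yon S).obj V ⟶ Y) (h : U ⟶ V)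
      (a' : (yon S).obj O ⟶ X') (b' : (yon S).obj T ⟶ Y') (m : O ⟶ U) (h' : O ⟶ T) (k : T ⟶ V)
      (o : O.left),
      RepWith @Etale a ∧ RepWith @Etale b ∧ a ≫ f = (yon S).map h ≫ b ∧
        RepWith @Etale a' ∧ RepWith @Etale b' ∧ a' ≫ f' = (yon S).map h' ≫ b' ∧
        IsPullback m.left h'.left h.left k.left ∧ Points.ofPt a' o = x' ∧
        Points.ofPt a (m.left o) = Points.map fst x' ∧ a' ≫ fst = (yon S).map m ≫ a := by
  obtain ⟨V, q, hq, hqs⟩ := hY.atlas
  obtain ⟨U, p, hp, hps⟩ := (isAlgSpace_pullback hY.diag hX (IsAlgSpace.yon_obj V) f q).atlas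
  obtain ⟨h, hh⟩ := (yon S).map_surjective (p ≫ pullback.snd f q)
  obtain ⟨V₀, b₀, hb₀, hb₀s⟩ := hY'.atlas
  obtain ⟨T, t, k, sqT⟩ := hq.rep (b₀ ≫ g)
  obtain ⟨k, rfl⟩ := (yon S).map_surjective k
  obtain ⟨b, hbdef⟩ : ∃ b : (yon S).obj T ⟶ Y', b = (yon S).map t ≫ b₀ := ⟨_, rfl⟩
  have hb : RepWith @Etale b := hbdef ▸
    repWith_comp ((repWith_yon_map_iff _ _).2 (hq.property _ _ t sqT)) hb₀
  have hbs : RepWith @Surjective b := hbdef ▸
    repWith_comp ((repWith_yon_map_iff _ _).2 (hqs.property _ _ t sqT)) hb₀s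
  have hkb : (yon S).map k ≫ q = b ≫ g := by simpa [hbdef] using sqT.w
  let n : pullback f' b ⟶ pullback f q :=
    pullback.lift (pullback.fst f' b ≫ fst) (pullback.snd f' b ≫ (yon S).map k) (by
      rw [Category.assoc, sq.w, pullback.condition_assoc, Category.assoc, hkb])
  have hn : IsPullback n (pullback.snd f' b) (pullback.snd f q) ((yon S).map k) := by
    refine IsPullback.of_right ?_ (pullback.lift_snd _ _ _) (IsPullback.of_hasPullback f q)
    have := (IsPullback.of_hasPullback f' b).paste_horiz sq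
    rw [← hkb] at this
    rwa [show n ≫ pullback.fst f q = pullback.fst f' b ≫ fst from pullback.lift_fst _ _ _]
  have sqO : IsPullback (pullback.fst h k) (pullback.snd h k) h k := IsPullback.of_hasPullback h k
  have sqY := sqO.map (yon S)
  obtain ⟨m, hm₁, hm₂⟩ := hn.exists_lift ((yon S).map (pullback.fst h k) ≫ p)
    ((yon S).map (pullback.snd h k)) (by rw [Category.assoc, ← hh]; exact sqY.w)
  have sqm : IsPullback ((yon S).map (pullback.fst h k)) m p n := by
    refine IsPullback.of_bot ?_ hm₁.symm hn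
    rw [hm₂, ← hh]
    exact sqY
  obtain ⟨o, ho⟩ := surjective_ofPt_of_repWith le_rfl (repWith_comp (repWith_of_isPullback sqm hps)
    (repWith_of_isPullback (IsPullback.of_hasPullback f' b).flip hbs)) x'
  refine ⟨U, V, pullback h k, T, p ≫ pullback.fst f q, q, h, m ≫ pullback.fst f' b, b,
    pullback.fst h k, pullback.snd h k, k, o,
    repWith_comp hp (repWith_of_isPullback (IsPullback.of_hasPullback f q).flip hq), hq, ?_,
    repWith_comp (repWith_of_isPullback sqm hp)
      (repWith_of_isPullback (IsPullback.of_hasPullback f' b).flip hb), hb, ?_,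
    sqO.map (Over.forget S), ho, ?_, ?_⟩
  · rw [hh, Category.assoc, Category.assoc, pullback.condition]
  · rw [Category.assoc, pullback.condition, ← Category.assoc, hm₂]
  · rw [← ho, Points.map_ofPt, ← ofPt_map]
    congr 1
    rw [Category.assoc, ← Category.assoc, ← hm₁, Category.assoc]
    exact congrArg (m ≫ ·) (pullback.lift_fst _ _ _)
  · rw [Category.assoc, ← Category.assoc _ p, ← hm₁, Category.assoc]
    exact congrArg (m ≫ ·) (pullback.lift_fst _ _ _).symm

theorem exists_baseChange_chart_at {X Y Y' X' : Sp S} {f : X ⟶ Y} {g : Y' ⟶ Y} {fst : X' ⟶ X}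
    {f' : X' ⟶ Y'} (sq : IsPullback fst f' f g) (hX : IsAlgSpace X) (hY : IsAlgSpace Y)
    (hY' : IsAlgSpace Y') (x' : Points X') :
    ∃ (U V O T : Over S) (a : (yon S).obj U ⟶ X) (b : (yon S).obj V ⟶ Y) (h : U ⟶ V)
      (a' : (yon S).obj O ⟶ X') (b' : (yon S).obj T ⟶ Y') (m : O ⟶ U) (h' : O ⟶ T) (k : T ⟶ V)
      (o : O.left),
      RepWith @Etale a ∧ RepWith @Etale b ∧ a ≫ f = (yon S).map h ≫ b ∧
        RepWith @Etale a' ∧ RepWith @Etale b' ∧ a' ≫ f' = (yon S).map h' ≫ b' ∧
        IsPullback m.left h'.left h.left k.left ∧ Points.ofPt a' o = x' ∧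
        Points.ofPt a (m.left o) = Points.map fst x' := by
  obtain ⟨U, V, O, T, a, b, h, a', b', m, h', k, o, h1, h2, h3, h4, h5, h6, h7, h8, h9, -⟩ :=
    exists_baseChange_chart_at' sq hX hY hY' x'
  exact ⟨U, V, O, T, a, b, h, a', b', m, h', k, o, h1, h2, h3, h4, h5, h6, h7, h8, h9⟩

/-! ### Relative dimension -/

theorem fibreDimAt_etale_precomp {W U V : Scheme.{u}} (g : W ⟶ U) (f : U ⟶ V) [Etale g]
    [LocallyOfFiniteType f] (w : W) : FlatMor.fibreDimAt (g ≫ f) w = FlatMor.fibreDimAt f (g w) := by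
  have := lqf_of_etale g
  rw [(H8Props.FieldDim.fibreDimAt_comp_le g f w).2 (Flat.stalkMap g w),
    H8Props.FieldDim.fibreDimAt_eq_zero_of_lqf g w, zero_add]

theorem exists_etale_graph {U V V' : Scheme.{u}} (f : U ⟶ V) (g : V ⟶ V') [Etale g] :
    ∃ σ : U ⟶ pullback (f ≫ g) g, Etale σ ∧ σ ≫ pullback.fst _ _ = 𝟙 U ∧
      σ ≫ pullback.snd _ _ = f :=
  ⟨pullback.lift (𝟙 U) f (by simp),
    etale_section (pullback.fst (f ≫ g) g) _ (pullback.lift_fst _ _ _),
    pullback.lift_fst _ _ _, pullback.lift_snd _ _ _⟩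

theorem fibreDimAt_etale_postcomp {U V V' : Scheme.{u}} (f : U ⟶ V) (g : V ⟶ V') [Etale g]
    [LocallyOfFiniteType f] (u : U) : FlatMor.fibreDimAt (f ≫ g) u = FlatMor.fibreDimAt f u := by
  obtain ⟨σ, hσ, hσ₁, hσ₂⟩ := exists_etale_graph f g
  have hb := H8Props.FieldDim.fibreDimAt_baseChange (f ≫ g)
    (IsPullback.of_hasPullback (f ≫ g) g) (σ u)
  rw [← Scheme.Hom.comp_apply, hσ₁] at hb
  have hp := fibreDimAt_etale_precomp σ (pullback.snd (f ≫ g) g) u
  rw [hσ₂, hb] at hp
  exact hp.symm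

theorem etInvAt_fibreDimAt (p : WithBot ℕ∞ → Prop) :
    EtInvAt @LocallyOfFiniteType.{u} fun _ _ h u => p (FlatMor.fibreDimAt h u) where
  precomp g f _ hf w := by
    have : LocallyOfFiniteType f := hf
    rw [fibreDimAt_etale_precomp g f w]
  postcomp f g _ hf u := by
    have : LocallyOfFiniteType f := hf
    rw [fibreDimAt_etale_postcomp f g u]

theorem locallyQuasiFinite_iff_fibreDimAt {X Y : Scheme.{u}} (f : X ⟶ Y) [LocallyOfFiniteType f] :
    LocallyQuasiFinite f ↔ ∀ x, FlatMor.fibreDimAt f x = 0 := by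
  refine ⟨fun _ x => H8Props.FieldDim.fibreDimAt_eq_zero_of_lqf f x, fun h => ?_⟩
  choose V hV hxV _ using fun x : X => TopologicalSpace.Opens.isBasis_iff_nbhd.mp
    Y.isBasis_affineOpens (show f x ∈ (⊤ : Y.Opens) from trivial)
  choose U hU hxU hUV using fun x : X => TopologicalSpace.Opens.isBasis_iff_nbhd.mp
    X.isBasis_affineOpens (show x ∈ f ⁻¹ᵁ V x from hxV x)
  refine (IsZariskiLocalAtSource.iff_of_openCover (P := @LocallyQuasiFinite)
    (X.openCoverOfIsOpenCover U (.mk (eq_top_iff.2 fun x _ =>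
      TopologicalSpace.Opens.mem_iSup.2 ⟨x, hxU x⟩)))).2 fun x => ?_
  show LocallyQuasiFinite (Scheme.Opens.ι (U x) ≫ f)
  have : IsAffine (Scheme.Opens.toScheme (U x)) := hU x
  have : IsAffine (Scheme.Opens.toScheme (V x)) := hV x
  rw [← Scheme.Hom.resLE_comp_ι f (hUV x)]
  have : LocallyQuasiFinite (f.resLE (V x) (U x) (hUV x)) := by
    refine (H17.ConsProp.lqf_iff_fibreDimAt _).2 fun z => le_of_eq ?_
    rw [← H8Props.FieldDim.fibreDimAt_comp_openImmersion _ (Scheme.Opens.ι (V x)), Scheme.Hom.resLE_comp_ι,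
      H8Props.FieldDim.fibreDimAt_openImmersion_comp, h]
  infer_instance

/-! ### Transcendence degree of residue field extensions -/

theorem resTrdeg_comp {W U V : Scheme.{u}} (g : W ⟶ U) (f : U ⟶ V) (w : W) :
    Dual3.resTrdeg (g ≫ f) w = Dual3.resTrdeg f (g w) + Dual3.resTrdeg g w := by
  letI iA : Algebra (V.residueField (f (g w))) (U.residueField (g w)) :=
    (f.residueFieldMap (g w)).hom.toAlgebra
  letI iB : Algebra (U.residueField (g w)) (W.residueField w) := (g.residueFieldMap w).hom.toAlgebra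
  letI iC : Algebra (V.residueField (f (g w))) (W.residueField w) :=
    ((g ≫ f).residueFieldMap w).hom.toAlgebra
  haveI : IsScalarTower (V.residueField (f (g w))) (U.residueField (g w)) (W.residueField w) :=
    IsScalarTower.of_algebraMap_eq'
      (congrArg CommRingCat.Hom.hom (Scheme.residueFieldMap_comp g f w))
  haveI : FaithfulSMul (U.residueField (g w)) (W.residueField w) :=
    (faithfulSMul_iff_algebraMap_injective _ _).mpr (RingHom.injective _)
  exact (trdeg_add_eq (V.residueField (f (g w))) (U.residueField (g w))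
    (A := W.residueField w)).symm

theorem resTrdeg_eq_zero_of_lqf {W U : Scheme.{u}} (g : W ⟶ U) [LocallyQuasiFinite g]
    [LocallyOfFiniteType g] (w : W) : Dual3.resTrdeg g w = 0 := by
  obtain ⟨t, ht, ht'⟩ := H8Props.FieldDim.fibreDimAt_eq g w
  rw [H8Props.FieldDim.fibreDimAt_eq_zero_of_lqf g w] at ht
  have h0 : t = 0 := by
    haveI : Nontrivial (W.presheaf.stalk w ⧸
        (IsLocalRing.maximalIdeal (U.presheaf.stalk (g w))).map (g.stalkMap w).hom) :=
      Ideal.Quotient.nontrivial_iff.mpr (ne_top_of_le_ne_top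
        (IsLocalRing.maximalIdeal.isMaximal _).ne_top (IsLocalRing.map_maximalIdeal_le _))
    by_contra hne
    refine absurd ht (ne_of_lt ?_)
    refine lt_of_lt_of_le (b := (t : WithBot ℕ∞)) (by exact_mod_cast Nat.pos_of_ne_zero hne) ?_
    exact le_add_of_nonneg_left ringKrullDim_nonneg_of_nontrivial
  rw [h0, Nat.cast_zero] at ht'
  exact ht'

theorem etInvAt_resTrdeg (p : Cardinal.{u} → Prop) :
    EtInvAt ⊤ fun _ _ h u => p (Dual3.resTrdeg h u) where
  precomp g f _ _ w := by
    have := lqf_of_etale g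
    rw [resTrdeg_comp, resTrdeg_eq_zero_of_lqf g w, add_zero]
  postcomp f g _ _ u := by
    have := lqf_of_etale g
    rw [resTrdeg_comp, resTrdeg_eq_zero_of_lqf g _, zero_add]

/-- A morphism whose fibre dimension is `d` at every point is of pure relative dimension `d`. -/
theorem hasRelDim_of_fibreDimAt {X Y : Scheme.{u}} (f : X ⟶ Y) [LocallyOfFiniteType f] (d : ℕ)
    (h : ∀ x, FlatMor.fibreDimAt f x = d) : Cyc.HasRelDim f d := by
  intro y T hT
  haveI := H8Props.FieldDim.locallyOfFiniteType_fiberToSpec f y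
  obtain ⟨η, rfl, hη⟩ := H8Props.FieldDim.mem_irreducibleComponents_iff hT
  rw [← h (f.fiberι y η), H8Props.FieldDim.fibreDimAt_eq_localDim f η,
    H8Props.FieldDim.localDim_of_maximal (k := Y.residueField y) (f.fiberToSpecResidueField y) η hη]
  rfl

/-- The relative dimension of a smooth morphism is locally constant and given by the presentations. -/
theorem exists_nhd_smooth_fibreDimAt {X Y : Scheme.{u}} (f : X ⟶ Y) [Smooth f] (x : X) :
    ∃ (W : X.Opens) (n : ℕ), x ∈ W ∧ ∀ w ∈ W, FlatMor.fibreDimAt f w = n := by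
  obtain ⟨U, hU, V, hV, hxV, e, hst⟩ := Smooth.exists_isStandardSmooth f x
  let := (f.appLE U V e).hom.toAlgebra
  have : Algebra.IsStandardSmooth Γ(Y, U) Γ(X, V) := hst
  obtain ⟨ι, σ, _, _, ⟨P⟩⟩ := Algebra.IsStandardSmooth.out (R := Γ(Y, U)) (S := Γ(X, V))
  have hn : Algebra.IsStandardSmoothOfRelativeDimension P.dimension Γ(Y, U) Γ(X, V) :=
    ⟨_, _, _, ‹_›, P, rfl⟩
  let φ := Spec.map (f.appLE U V e)
  have : SmoothOfRelativeDimension P.dimension φ := by
    refine (HasRingHomProperty.Spec_iff (P := @SmoothOfRelativeDimension P.dimension)).2 ?_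
    exact RingHom.locally_of RingHom.isStandardSmoothOfRelativeDimension_respectsIso _ hn
  have : Smooth φ := SmoothOfRelativeDimension.smooth P.dimension φ
  have hsq : φ ≫ hU.fromSpec = hV.fromSpec ≫ f := IsAffineOpen.SpecMap_appLE_fromSpec f hU hV e
  refine ⟨V, P.dimension, hxV, fun w hw => ?_⟩
  obtain ⟨z, rfl⟩ : w ∈ Set.range hV.fromSpec := by rw [hV.range_fromSpec]; exact hw
  rw [← H8Props.FieldDim.fibreDimAt_openImmersion_comp hV.fromSpec f z, ← hsq,
    H8Props.FieldDim.fibreDimAt_comp_openImmersion φ hU.fromSpec z]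
  exact H8Props.FieldDim.fibreDimAt_of_smoothOfRelativeDimension φ P.dimension z

end Groth.Agent.H12AlgSp
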