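import Mathlib.RingTheory.Etale.StandardEtale
import Mathlib.RingTheory.Etale.Kaehler
import Mathlib.RingTheory.Smooth.NoetherianDescent
import Mathlib.RingTheory.Finiteness.Descent
import Mathlib.RingTheory.Flat.FaithfullyFlat.Algebra
import Mathlib.RingTheory.Flat.FaithfullyFlat.Descent
import Mathlib.RingTheory.Spectrum.Prime.Chevalley
import Mathlib.RingTheory.Smooth.Flat
import Mathlib.RingTheory.RingHom.QuasiFinite

/-!
Properties of `A → B` can be checked after a standard etale, faithfully flat `B → C`.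
-/

universe u

open TensorProduct Polynomial

namespace Groth.Agent.H12AlgSp.EtaleSource

set_option backward.isDefEq.respectTransparency.types false in
theorem exists_standardEtale_lift {P S T : Type u} [CommRing P] [CommRing S] [CommRing T]
    [Algebra P S] [Algebra S T] [Algebra.IsStandardEtale S T]
    (hs : Function.Surjective (algebraMap P S)) :
    ∃ (Tl : Type u) (_ : CommRing Tl) (_ : Algebra P Tl),
      Algebra.IsStandardEtale P Tl ∧ Nonempty (S ⊗[P] Tl ≃ₐ[S] T) := by
  let P0 : StandardEtalePresentation S T := Algebra.IsStandardEtale.nonempty_standardEtalePresentation.some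
  obtain ⟨f', hf', hfm⟩ : ∃ f' : P[X], f'.map (algebraMap P S) = P0.f ∧ f'.Monic := by
    obtain ⟨q, h1, -, h3⟩ := Polynomial.lifts_and_natDegree_eq_and_monic (f := algebraMap P S)
      ((Polynomial.lifts_iff_coeff_lifts _).2 fun n => hs _) P0.monic_f
    exact ⟨q, h1, h3⟩
  obtain ⟨g', hg'⟩ := Polynomial.map_surjective (algebraMap P S) hs P0.g
  let Q : StandardEtalePair P := ⟨f', hfm, g' * derivative f', ⟨g', 0, 1, by ring⟩⟩
  have hf : (Q.map (algebraMap P S)).f = P0.f := hf'
  have hg : (Q.map (algebraMap P S)).g = P0.g * derivative P0.f := by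
    simp [Q, Polynomial.derivative_map, ← hf', hg']
  have h : (Q.map (algebraMap P S)).HasMap P0.x := by
    refine ⟨by rw [hf]; exact P0.hasMap.1, ?_⟩
    rw [hg, map_mul]
    exact P0.hasMap.2.mul P0.hasMap.isUnit_derivative_f
  have h' : P0.HasMap (Q.map (algebraMap P S)).X := by
    refine ⟨by rw [← hf]; exact (Q.map (algebraMap P S)).hasMap_X.1, ?_⟩
    have := (Q.map (algebraMap P S)).hasMap_X.2
    rw [hg, map_mul] at this
    exact isUnit_of_mul_isUnit_left this
  let pres : StandardEtalePresentation S T :=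
    { P := Q.map (algebraMap P S), x := P0.x, hasMap := h
      lift_bijective := (AlgEquiv.ofAlgHom ((Q.map (algebraMap P S)).lift P0.x h)
        ((P0.lift _ h').comp P0.equivRing.toAlgHom)
        (P0.hom_ext (by simp)) ((Q.map (algebraMap P S)).hom_ext (by simp))).bijective }
  let pQ : StandardEtalePresentation P Q.Ring :=
    ⟨Q, Q.X, Q.hasMap_X, by simpa [StandardEtalePair.lift_X_left] using Function.bijective_id⟩
  exact ⟨Q.Ring, inferInstance, inferInstance, ⟨⟨pQ⟩⟩,
    ⟨(pQ.baseChange (T := S)).equivRing.trans pres.equivRing.symm⟩⟩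

theorem exists_prime_tensor {B₀ B₁ C₀ : Type u} [CommRing B₀] [CommRing B₁] [CommRing C₀]
    [Algebra B₀ B₁] [Algebra B₀ C₀] (p : PrimeSpectrum B₁)
    (h : p.comap (algebraMap B₀ B₁) ∈ Set.range (PrimeSpectrum.comap (algebraMap B₀ C₀))) :
    p ∈ Set.range (PrimeSpectrum.comap (algebraMap B₁ (B₁ ⊗[B₀] C₀))) := by
  obtain ⟨q, hq⟩ := h
  let p₀ := (p.comap (algebraMap B₀ B₁)).asIdeal
  have : p.asIdeal.LiesOver p₀ := ⟨rfl⟩
  have : q.asIdeal.LiesOver p₀ := ⟨congrArg PrimeSpectrum.asIdeal hq.symm⟩
  let := Localization.AtPrime.algebraOfLiesOver p₀ p.asIdeal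
  let := Localization.AtPrime.algebraOfLiesOver p₀ q.asIdeal
  obtain ⟨m, hm⟩ := Ideal.exists_maximal (p.asIdeal.ResidueField ⊗[p₀.ResidueField] q.asIdeal.ResidueField)
  have := hm.isPrime
  let φ : B₁ ⊗[B₀] C₀ →ₐ[B₀]
      (p.asIdeal.ResidueField ⊗[p₀.ResidueField] q.asIdeal.ResidueField) :=
    Algebra.TensorProduct.lift
      (((Algebra.TensorProduct.includeLeft (R := p₀.ResidueField) (S := p₀.ResidueField)).restrictScalars B₀).comp
        (IsScalarTower.toAlgHom B₀ B₁ p.asIdeal.ResidueField))
      (((Algebra.TensorProduct.includeRight (R := p₀.ResidueField)).restrictScalars B₀).comp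
        (IsScalarTower.toAlgHom B₀ C₀ _))
      fun _ _ => .all _ _
  refine ⟨PrimeSpectrum.comap φ.toRingHom ⟨m, inferInstance⟩, PrimeSpectrum.ext ?_⟩
  ext b
  change φ (algebraMap B₁ _ b) ∈ m ↔ b ∈ p.asIdeal
  let i : p.asIdeal.ResidueField →+* _ ⧸ m :=
    (Ideal.Quotient.mk m).comp Algebra.TensorProduct.includeLeftRingHom
  rw [← Ideal.Quotient.eq_zero_iff_mem]
  have e : Ideal.Quotient.mk m (φ (algebraMap B₁ _ b)) = i (algebraMap B₁ _ b) := by
    simp [φ, i, Algebra.TensorProduct.algebraMap_apply]
  rw [e, map_eq_zero_iff i i.injective, Ideal.algebraMap_residueField_eq_zero]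

set_option synthInstance.maxHeartbeats 200000 in
set_option maxHeartbeats 1000000 in
theorem finiteType {A B C : Type u} [CommRing A] [CommRing B] [CommRing C]
    [Algebra A B] [Algebra A C] [Algebra B C] [IsScalarTower A B C]
    [Algebra.Etale B C] [Module.FaithfullyFlat B C] [Algebra.FiniteType A C] :
    Algebra.FiniteType A B := by
  classical
  obtain ⟨B₀, C₀, _, _, hB₀, _, ⟨e⟩⟩ := Algebra.Etale.exists_subalgebra_fg A B C
  have hopen : IsOpen (Set.range (PrimeSpectrum.comap (algebraMap B₀ C₀))) :=
    (PrimeSpectrum.isOpenMap_comap_of_hasGoingDown_of_finitePresentation).isOpen_range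
  obtain ⟨J, hJ⟩ := (PrimeSpectrum.isClosed_iff_zeroLocus_ideal _).1 hopen.isClosed_compl
  have hJB : J.map (algebraMap B₀ B) = ⊤ := by
    by_contra hne
    obtain ⟨m, hm, hle⟩ := Ideal.exists_le_maximal _ hne
    obtain ⟨⟨Q, _⟩, hQm⟩ := PrimeSpectrum.comap_surjective_of_faithfullyFlat (B := C) ⟨m, hm.isPrime⟩
    have h1 : PrimeSpectrum.comap (algebraMap B₀ B) ⟨m, hm.isPrime⟩ ∈
        Set.range (PrimeSpectrum.comap (algebraMap B₀ C₀)) := by
      refine ⟨PrimeSpectrum.comap ((e.symm.toRingHom).comp
        (Algebra.TensorProduct.includeRight (R := B₀) (A := B) (B := C₀)).toRingHom) ⟨Q, ‹_›⟩, ?_⟩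
      rw [← hQm, ← PrimeSpectrum.comap_comp_apply, ← PrimeSpectrum.comap_comp_apply]
      congr 1
      ext x
      simp only [RingHom.comp_apply, AlgHom.toRingHom_eq_coe, RingHom.coe_coe]
      rw [show (Algebra.TensorProduct.includeRight (R := B₀) (A := B) (B := C₀))
          (algebraMap B₀ C₀ x) = algebraMap B (B ⊗[B₀] C₀) (algebraMap B₀ B x) by
        rw [Algebra.TensorProduct.includeRight_apply, Algebra.TensorProduct.algebraMap_apply,
          Algebra.algebraMap_eq_smul_one, Algebra.algebraMap_eq_smul_one, ← TensorProduct.smul_tmul]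
        simp [Subalgebra.smul_def]]
      exact e.symm.commutes _
    have h2 : PrimeSpectrum.comap (algebraMap B₀ B) ⟨m, hm.isPrime⟩ ∈
        PrimeSpectrum.zeroLocus (J : Set B₀) := Ideal.map_le_iff_le_comap.1 hle
    rw [← hJ] at h2
    exact h2 h1
  obtain ⟨c, hc⟩ := Algebra.FiniteType.out (R := A) (A := C)
  have hrep : ∀ x : C, ∃ s : Finset (B × C₀), x = e.symm (∑ i ∈ s, i.1 ⊗ₜ[B₀] i.2) := fun x => by
    obtain ⟨s, hs⟩ := TensorProduct.exists_finset (R := B₀) (e x)
    exact ⟨s, by rw [← hs, e.symm_apply_apply]⟩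
  choose rep hrep using hrep
  obtain ⟨l, hl⟩ : ∃ l : B₀ →₀ B, (∀ j ∈ l.support, j ∈ J) ∧
      (1 : B) = l.sum fun j b => b * algebraMap B₀ B j := by
    have : (1 : B) ∈ J.map (algebraMap B₀ B) := by rw [hJB]; trivial
    change (1 : B) ∈ Submodule.span B (algebraMap B₀ B '' J) at this
    obtain ⟨l, hl, hl'⟩ := (Finsupp.mem_span_image_iff_linearCombination B).1 this
    exact ⟨l, fun j hj => hl hj, by rw [← hl', Finsupp.linearCombination_apply]; rfl⟩
  let B₁ : Subalgebra A B := B₀ ⊔ Algebra.adjoin A
    ((c.biUnion fun x => (rep x).image Prod.fst) ∪ l.support.image l : Finset B)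
  have hB₁ : B₁.FG := hB₀.sup ⟨_, rfl⟩
  let := (Subalgebra.inclusion (le_sup_left : B₀ ≤ B₁)).toAlgebra
  have : IsScalarTower B₀ B₁ B := .of_algebraMap_eq' rfl
  have hmem₁ : ∀ x ∈ c, ∀ i ∈ rep x, i.1 ∈ B₁ := fun x hx i hi =>
    (le_sup_right : _ ≤ B₁) (Algebra.subset_adjoin (Finset.mem_union_left _
      (Finset.mem_biUnion.2 ⟨x, hx, Finset.mem_image.2 ⟨i, hi, rfl⟩⟩)))
  have hmem₂ : ∀ j ∈ l.support, l j ∈ B₁ := fun j hj =>
    (le_sup_right : _ ≤ B₁) (Algebra.subset_adjoin (Finset.mem_union_right _
      (Finset.mem_image.2 ⟨j, hj, rfl⟩)))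
  have hJ₁ : (1 : B₁) ∈ J.map (algebraMap B₀ B₁) := by
    have e1 : (1 : B₁) = ∑ j ∈ l.support.attach,
        (⟨l j.1, hmem₂ _ j.2⟩ : B₁) * algebraMap B₀ B₁ j.1 := by
      apply Subtype.ext
      simp only [AddSubmonoidClass.coe_finsetSum, MulMemClass.coe_mul, OneMemClass.coe_one]
      rw [hl.2, Finsupp.sum]
      exact (Finset.sum_attach l.support fun j => l j * algebraMap B₀ B j).symm
    rw [e1]
    exact Ideal.sum_mem _ fun j _ => Ideal.mul_mem_left _ _ (Ideal.mem_map_of_mem _ (hl.1 _ j.2))
  have : Module.FaithfullyFlat B₁ (B₁ ⊗[B₀] C₀) := by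
    refine Module.FaithfullyFlat.of_comap_surjective fun p => exists_prime_tensor p ?_
    by_contra hp
    have : PrimeSpectrum.comap (algebraMap B₀ B₁) p ∈ PrimeSpectrum.zeroLocus (J : Set B₀) := hJ ▸ hp
    exact p.isPrime.ne_top' (top_le_iff.1 (fun x _ => by
      simpa using p.asIdeal.mul_mem_left x ((Ideal.map_le_iff_le_comap.2 this) hJ₁)))
  let φ : B₁ ⊗[B₀] C₀ →ₐ[B₁] B ⊗[B₀] C₀ :=
    Algebra.TensorProduct.map (Algebra.ofId B₁ B) (AlgHom.id B₀ C₀)
  have hφ : Function.Surjective φ := by
    let := Algebra.compHom (B ⊗[B₀] C₀) (algebraMap A B)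
    intro y
    obtain ⟨x, rfl⟩ := e.surjective y
    have hA : ∀ a : A, e (algebraMap A C a) ∈ φ.range := fun a => by
      rw [IsScalarTower.algebraMap_apply A B C, e.commutes]
      refine ⟨algebraMap A B₁ a ⊗ₜ 1, ?_⟩
      rw [Algebra.TensorProduct.algebraMap_apply]
      exact Algebra.TensorProduct.map_tmul _ _ _ _
    have : Algebra.adjoin A (c : Set C) ≤
        { (φ.range.toSubsemiring.comap e.toRingHom) with algebraMap_mem' := hA } := by
      refine Algebra.adjoin_le fun x hx => ?_
      change e x ∈ φ.range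
      rw [hrep x, e.apply_symm_apply]
      exact Subalgebra.sum_mem _ fun i hi => ⟨(⟨i.1, hmem₁ x hx i hi⟩ : B₁) ⊗ₜ i.2, Algebra.TensorProduct.map_tmul _ _ _ _⟩
    exact this (hc ▸ Algebra.mem_top)
  have key : Function.Surjective ((Algebra.linearMap B₁ B).lTensor (B₁ ⊗[B₀] C₀)) := by
    intro z
    let ε : B ⊗[B₀] C₀ ≃ₗ[B₁] (B₁ ⊗[B₀] C₀) ⊗[B₁] B :=
      ((Algebra.TensorProduct.cancelBaseChange B₀ B₁ B₁ B C₀).symm.toLinearEquiv).trans
        (TensorProduct.comm B₁ B (B₁ ⊗[B₀] C₀))
    obtain ⟨w, hw⟩ := hφ (ε.symm z)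
    refine ⟨w ⊗ₜ 1, ?_⟩
    rw [LinearMap.lTensor_tmul, ← ε.apply_symm_apply z, ← hw]
    have : ∀ w, ε (φ w) = w ⊗ₜ[B₁] (1 : B) := fun w => by
      induction w with
      | zero => simp
      | add x y hx hy => simp only [map_add, add_tmul, hx, hy]
      | tmul b x =>
        change (TensorProduct.comm B₁ B _)
          ((Algebra.TensorProduct.cancelBaseChange B₀ B₁ B₁ B C₀).symm ((b : B) ⊗ₜ x)) = _
        erw [Algebra.TensorProduct.cancelBaseChange_symm_tmul]
        erw [TensorProduct.comm_tmul]
        rw [show (b : B) = b • (1 : B) by simp [Subalgebra.smul_def],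
          ← TensorProduct.smul_tmul, TensorProduct.smul_tmul', smul_eq_mul, mul_one]
    simp [this]
  have hsurj := (Module.FaithfullyFlat.lTensor_surjective_iff_surjective _ (B₁ ⊗[B₀] C₀) _).1 key
  have : Algebra.FiniteType A B₁ := B₁.fg_iff_finiteType.1 hB₁
  exact this.of_surjective B₁.val hsurj

theorem formallyUnramified {A B C : Type u} [CommRing A] [CommRing B] [CommRing C]
    [Algebra A B] [Algebra A C] [Algebra B C] [IsScalarTower A B C]
    [Algebra.FormallyEtale B C] [Module.FaithfullyFlat B C] [Algebra.FormallyUnramified A C] :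
    Algebra.FormallyUnramified A B := by
  refine ⟨?_⟩
  have : Subsingleton (C ⊗[B] Ω[B⁄A]) :=
    (KaehlerDifferential.tensorKaehlerEquivOfFormallyEtale A B C).subsingleton
  exact Module.FaithfullyFlat.lTensor_reflects_triviality B C _

theorem flat {A B C : Type u} [CommRing A] [CommRing B] [CommRing C]
    [Algebra A B] [Algebra A C] [Algebra B C] [IsScalarTower A B C]
    [Module.FaithfullyFlat B C] [Module.Flat A C] : Module.Flat A B := by
  rw [Module.Flat.iff_rTensor_preserves_injective_linearMap]
  intro N N' _ _ _ _ j hj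
  let g : B →ₗ[A] C := (IsScalarTower.toAlgHom A B C).toLinearMap
  have key : Function.Injective (LinearMap.lTensor N g) := by
    rw [LinearMap.lTensor_inj_iff_rTensor_inj]
    have : ∀ x : B ⊗[A] N, LinearMap.rTensor N g x =
        AlgebraTensorModule.cancelBaseChange A B B C N (TensorProduct.mk B C (B ⊗[A] N) 1 x) := by
      intro x
      induction x with
      | zero => simp
      | add x y hx hy => rw [map_add, map_add, map_add, hx, hy]
      | tmul b n => simp [g, Algebra.smul_def]
    intro x y h
    rw [this, this] at h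
    exact Module.FaithfullyFlat.tensorProduct_mk_injective _
      ((AlgebraTensorModule.cancelBaseChange A B B C N).injective h)
  have hC := Module.Flat.rTensor_preserves_injective_linearMap (M := C) j hj
  have hc : ∀ x, LinearMap.lTensor N' g (LinearMap.rTensor B j x) =
      LinearMap.rTensor C j (LinearMap.lTensor N g x) := fun x => by
    induction x with
    | zero => simp
    | add x y hx hy => simp only [map_add, hx, hy]
    | tmul n b => simp
  intro x y hxy
  apply key
  apply hC
  rw [← hc, ← hc, hxy]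

theorem quasiFinite {A B C : Type u} [CommRing A] [CommRing B] [CommRing C]
    [Algebra A B] [Algebra A C] [Algebra B C] [IsScalarTower A B C]
    [Module.FaithfullyFlat B C] [Algebra.QuasiFinite A C] : Algebra.QuasiFinite A B := by
  refine ⟨fun P _ => ?_⟩
  let ψ : P.Fiber B →ₐ[P.ResidueField] P.Fiber C :=
    Algebra.TensorProduct.map (.id _ _) (IsScalarTower.toAlgHom A B C)
  have : Module.Finite P.ResidueField (P.Fiber C) := Algebra.QuasiFinite.finite_fiber P
  have hψ : Function.Injective ψ := by
    intro x y h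
    apply (TensorProduct.comm A P.ResidueField B).injective
    apply Module.FaithfullyFlat.tensorProduct_mk_injective (A := B) (B := C) (B ⊗[A] P.ResidueField)
    apply (AlgebraTensorModule.cancelBaseChange A B B C P.ResidueField).injective
    have e : ∀ z, AlgebraTensorModule.cancelBaseChange A B B C P.ResidueField
        (TensorProduct.mk B C (B ⊗[A] P.ResidueField) 1 (TensorProduct.comm A P.ResidueField B z)) =
        TensorProduct.comm A P.ResidueField C (ψ z) := by
      intro z
      induction z with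
      | zero => simp
      | add a b ha hb => simp only [map_add, ha, hb]
      | tmul a b => simp [ψ, Algebra.smul_def]
    rw [e, e, h]
  have : IsNoetherian P.ResidueField (P.Fiber C) := isNoetherian_of_isNoetherianRing_of_finite ..
  exact Module.Finite.of_injective ψ.toLinearMap hψ

theorem ker_includeRight {P B Tl : Type u} [CommRing P] [CommRing B] [CommRing Tl]
    [Algebra P B] [Algebra P Tl] (hπ : Function.Surjective (algebraMap P B)) :
    RingHom.ker (Algebra.TensorProduct.includeRight (R := P) (A := B) (B := Tl)).toRingHom =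
      (RingHom.ker (algebraMap P B)).map (algebraMap P Tl) := by
  have h := Algebra.TensorProduct.rTensor_ker (R := P) (S := P) (C := Tl) (Algebra.ofId P B) hπ
  let l := Algebra.TensorProduct.lid P Tl
  refine le_antisymm (fun x hx => ?_) (Ideal.map_le_iff_le_comap.2 fun y hy => ?_)
  · have h1 : (1 : P) ⊗ₜ[P] x ∈
        Ideal.map (Algebra.TensorProduct.includeLeft (S := P)) (RingHom.ker (Algebra.ofId P B)) := by
      refine h.le ?_
      rw [RingHom.mem_ker]
      simpa using hx
    have h2 := Ideal.mem_map_of_mem l.toRingEquiv.toRingHom h1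
    rw [show l.toRingEquiv.toRingHom ((1 : P) ⊗ₜ x) = x by simp [l]] at h2
    refine Ideal.map_le_iff_le_comap.2 (Ideal.map_le_iff_le_comap.2 fun y hy => ?_) h2
    rw [Ideal.mem_comap, Ideal.mem_comap, show l.toRingEquiv.toRingHom
      (Algebra.TensorProduct.includeLeft (S := P) (B := Tl) y) = algebraMap _ Tl y by
        simp [l, Algebra.smul_def]]
    exact Ideal.mem_map_of_mem _ hy
  · change Algebra.TensorProduct.includeRight (algebraMap _ Tl y) = 0
    rw [AlgHom.commutes, Algebra.TensorProduct.algebraMap_apply]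
    rw [show algebraMap P B y = 0 from hy, TensorProduct.zero_tmul]

theorem finitePresentation {A B C : Type u} [CommRing A] [CommRing B] [CommRing C]
    [Algebra A B] [Algebra A C] [Algebra B C] [IsScalarTower A B C]
    [Algebra.IsStandardEtale B C] [Module.FaithfullyFlat B C] [Algebra.FinitePresentation A C] :
    Algebra.FinitePresentation A B := by
  have : Algebra.Etale B C := inferInstance
  have hft : Algebra.FiniteType A B := finiteType (C := C)
  obtain ⟨n, π, hπ⟩ := Algebra.FiniteType.iff_quotient_mvPolynomial''.1 hft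
  let := π.toRingHom.toAlgebra
  have : IsScalarTower A (MvPolynomial (Fin n) A) B := .of_algebraMap_eq' π.comp_algebraMap.symm
  obtain ⟨Tl, _, algTl, _, ⟨e⟩⟩ := exists_standardEtale_lift (P := MvPolynomial (Fin n) A) (T := C) hπ
  let := Algebra.compHom Tl (algebraMap A (MvPolynomial (Fin n) A))
  have : IsScalarTower A (MvPolynomial (Fin n) A) Tl := .of_algebraMap_eq' rfl
  have : Algebra.FinitePresentation A Tl := .trans A (MvPolynomial (Fin n) A) Tl
  set I := RingHom.ker π.toRingHom with hI
  let q : Tl →ₐ[MvPolynomial (Fin n) A] B ⊗[MvPolynomial (Fin n) A] Tl :=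
    Algebra.TensorProduct.includeRight
  have hq : RingHom.ker q.toRingHom = I.map (algebraMap (MvPolynomial (Fin n) A) Tl) :=
    ker_includeRight hπ
  have hqs : Function.Surjective q := Algebra.TensorProduct.includeRight_surjective _ hπ
  classical
  let f : Tl →ₐ[A] C := (e.toAlgHom.restrictScalars A).comp (q.restrictScalars A)
  have hfg : (I.map (algebraMap (MvPolynomial (Fin n) A) Tl)).FG := by
    have h := Algebra.FinitePresentation.ker_fG_of_surjective f (e.surjective.comp hqs)
    rw [show RingHom.ker f.toRingHom = RingHom.ker q.toRingHom from by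
      ext x; simp [RingHom.mem_ker, f]] at h
    rwa [hq] at h
  have : Module.Flat (MvPolynomial (Fin n) A) Tl := inferInstance
  obtain ⟨s, hsI, hs⟩ := (Submodule.fg_span_iff_fg_span_finset_subset
    (R := Tl) (algebraMap (MvPolynomial (Fin n) A) Tl '' I)).1 hfg
  obtain ⟨s', hs'I, rfl⟩ := Finset.subset_set_image_iff.1 hsI
  have hopen : IsOpen (Set.range (PrimeSpectrum.comap (algebraMap (MvPolynomial (Fin n) A) Tl))) :=
    (PrimeSpectrum.isOpenMap_comap_of_hasGoingDown_of_finitePresentation).isOpen_range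
  obtain ⟨J, hJ⟩ := (PrimeSpectrum.isClosed_iff_zeroLocus_ideal _).1 hopen.isClosed_compl
  have hIJ : I ⊔ J = ⊤ := by
    by_contra hne
    obtain ⟨m, hm, hle⟩ := Ideal.exists_le_maximal _ hne
    have hmI : I ≤ m := le_sup_left.trans hle
    let m' : PrimeSpectrum B := ⟨m.map π, Ideal.map_isPrime_of_surjective hπ hmI⟩
    obtain ⟨Q, hQ⟩ := PrimeSpectrum.comap_surjective_of_faithfullyFlat (B := C) m'
    have : (⟨m, hm.isPrime⟩ : PrimeSpectrum _) ∈ PrimeSpectrum.zeroLocus (J : Set _) :=
      le_sup_right.trans hle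
    rw [← hJ] at this
    refine this ⟨PrimeSpectrum.comap f.toRingHom Q, PrimeSpectrum.ext ?_⟩
    change Ideal.comap _ (Ideal.comap _ Q.asIdeal) = m
    rw [Ideal.comap_comap]
    have h2 : f.toRingHom.comp (algebraMap (MvPolynomial (Fin n) A) Tl) =
        (algebraMap B C).comp π.toRingHom := by
      refine RingHom.ext fun x => ?_
      change e (q (algebraMap _ _ x)) = algebraMap B C (π x)
      rw [q.commutes, Algebra.TensorProduct.algebraMap_apply, ← e.commutes,
        Algebra.TensorProduct.algebraMap_apply]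
      rfl
    rw [h2, ← Ideal.comap_comap]
    have h3 : Ideal.comap (algebraMap B C) Q.asIdeal = m.map π := congrArg PrimeSpectrum.asIdeal hQ
    rw [h3]
    exact (Ideal.comap_map_of_surjective _ hπ m).trans (sup_eq_left.2 hmI)
  obtain ⟨a, haI, b, hbJ, hab⟩ := Submodule.mem_sup.1 (hIJ ▸ Submodule.mem_top : (1 : MvPolynomial (Fin n) A) ∈ I ⊔ J)
  classical
  let I₀ : Ideal (MvPolynomial (Fin n) A) := Ideal.span (insert a s' : Finset _)
  have hI₀I : I₀ ≤ I := Ideal.span_le.2 (by
    simp only [Finset.coe_insert, Set.insert_subset_iff]; exact ⟨haI, hs'I⟩)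
  have hmap : I.map (algebraMap _ Tl) ≤ I₀.map (algebraMap _ Tl) := by
    have : Ideal.span (algebraMap (MvPolynomial (Fin n) A) Tl '' I) ≤ I₀.map (algebraMap _ Tl) := by
      rw [show Ideal.span (algebraMap (MvPolynomial (Fin n) A) Tl '' I) = _ from hs]
      refine Ideal.span_le.2 ?_
      simp only [Finset.coe_image, Set.image_subset_iff]
      exact fun x hx => Ideal.mem_map_of_mem _ (Ideal.subset_span (by simp [hx]))
    exact this
  have heq : I = I₀ := by
    refine le_antisymm (fun x hx => ?_) hI₀I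
    by_contra hx0
    let K : Ideal (MvPolynomial (Fin n) A) := I₀.colon ({x} : Set _)
    obtain ⟨m, hm, hle⟩ := Ideal.exists_le_maximal K (fun h => hx0 (by
      have : (1 : MvPolynomial (Fin n) A) ∈ K := h ▸ Submodule.mem_top
      simpa [K, Submodule.mem_colon_singleton] using this))
    have hI₀m : I₀ ≤ m := fun y hy => hle (by
      simp only [K, Submodule.mem_colon_singleton, smul_eq_mul]; exact Ideal.mul_mem_right _ _ hy)
    have hmU : (⟨m, hm.isPrime⟩ : PrimeSpectrum _) ∈
        Set.range (PrimeSpectrum.comap (algebraMap (MvPolynomial (Fin n) A) Tl)) := by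
      by_contra hU
      have : J ≤ m := by
        have h' : (⟨m, hm.isPrime⟩ : PrimeSpectrum _) ∈ PrimeSpectrum.zeroLocus (J : Set _) := hJ ▸ hU
        exact h'
      exact hm.ne_top ((Ideal.eq_top_iff_one _).2 (hab ▸ add_mem
        (hI₀m (Ideal.subset_span (by simp))) (this hbJ)))
    obtain ⟨Q, hQ⟩ := hmU
    have hxT : algebraMap _ Tl x ∈ I₀.map (algebraMap _ Tl) := hmap (Ideal.mem_map_of_mem _ hx)
    let M := Localization.AtPrime m
    let N := Localization.AtPrime Q.asIdeal
    have : Q.asIdeal.LiesOver m := ⟨(congrArg PrimeSpectrum.asIdeal hQ).symm⟩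
    let := Localization.AtPrime.algebraOfLiesOver m Q.asIdeal
    have : IsLocalHom (algebraMap M N) := by
      rw [RingHom.algebraMap_toAlgebra]
      exact Localization.isLocalHom_localRingHom m Q.asIdeal _ (Q.asIdeal.over_def m)
    have : Module.Flat M N := inferInstance
    have : Module.FaithfullyFlat M N := Module.FaithfullyFlat.of_flat_of_isLocalHom
    have h4 : algebraMap (MvPolynomial (Fin n) A) M x ∈ I₀.map (algebraMap _ M) := by
      rw [← Ideal.comap_map_eq_self_of_faithfullyFlat (B := N) (I₀.map (algebraMap _ M)), Ideal.mem_comap,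
        Ideal.map_map, ← IsScalarTower.algebraMap_eq, ← IsScalarTower.algebraMap_apply,
        IsScalarTower.algebraMap_apply _ Tl N, IsScalarTower.algebraMap_eq _ Tl N, ← Ideal.map_map]
      exact Ideal.mem_map_of_mem _ hxT
    obtain ⟨⟨⟨y, hy⟩, ⟨u, hu⟩⟩, huv⟩ := (IsLocalization.mem_map_algebraMap_iff m.primeCompl M).1 h4
    rw [← map_mul] at huv
    obtain ⟨⟨c, hc⟩, hcv⟩ := (IsLocalization.eq_iff_exists m.primeCompl M).1 huv
    have : c * u ∈ K := by
      simp only [K, Submodule.mem_colon_singleton, smul_eq_mul]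
      rw [show c * u * x = c * (x * u) by ring, hcv]
      exact Ideal.mul_mem_left _ _ hy
    exact (m.primeCompl.mul_mem hc hu) (hle this)
  exact .of_surjective hπ ⟨insert a s', heq.symm⟩

set_option maxHeartbeats 1000000 in
theorem smooth {A B C : Type u} [CommRing A] [CommRing B] [CommRing C]
    [Algebra A B] [Algebra A C] [Algebra B C] [IsScalarTower A B C]
    [Algebra.IsStandardEtale B C] [Module.FaithfullyFlat B C] [Algebra.Smooth A C] :
    Algebra.Smooth A B := by
  have hfp : Algebra.FinitePresentation A B := finitePresentation (C := C)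
  refine ⟨?_, hfp⟩
  rw [Algebra.formallySmooth_iff]
  constructor
  · have : Module.Flat C (C ⊗[B] Ω[B⁄A]) :=
      .of_linearEquiv (KaehlerDifferential.tensorKaehlerEquivOfFormallyEtale A B C)
    have : Module.Flat B Ω[B⁄A] := Module.Flat.of_flat_tensorProduct _ _ C
    exact Module.Flat.projective_of_finitePresentation
  obtain ⟨n, π, hπ⟩ := Algebra.FiniteType.iff_quotient_mvPolynomial''.1
    (inferInstance : Algebra.FiniteType A B)
  let : Algebra (MvPolynomial (Fin n) A) B := π.toRingHom.toAlgebra
  have : IsScalarTower A (MvPolynomial (Fin n) A) B := .of_algebraMap_eq' π.comp_algebraMap.symm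
  obtain ⟨Tl, _, algTl, _, ⟨e⟩⟩ :=
    exists_standardEtale_lift (P := MvPolynomial (Fin n) A) (T := C) hπ
  let := Algebra.compHom Tl (algebraMap A (MvPolynomial (Fin n) A))
  have : IsScalarTower A (MvPolynomial (Fin n) A) Tl := .of_algebraMap_eq' rfl
  let q : Tl →ₐ[MvPolynomial (Fin n) A] B ⊗[MvPolynomial (Fin n) A] Tl :=
    Algebra.TensorProduct.includeRight
  let g : Tl →ₐ[A] C := (e.toAlgHom.restrictScalars A).comp (q.restrictScalars A)
  have hqs : Function.Surjective q := Algebra.TensorProduct.includeRight_surjective _ hπ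
  let P : Algebra.Extension A B := .ofSurjective π hπ
  let Q : Algebra.Extension A C := .ofSurjective g (e.surjective.comp hqs)
  let f : P.Hom Q :=
  { toRingHom := @algebraMap (MvPolynomial (Fin n) A) Tl _ _ algTl
    toRingHom_algebraMap x := (IsScalarTower.algebraMap_apply A (MvPolynomial (Fin n) A) Tl x).symm
    algebraMap_toRingHom := fun (x : MvPolynomial (Fin n) A) => by
      change e (q (algebraMap (MvPolynomial (Fin n) A) Tl x)) =
        algebraMap B C (algebraMap (MvPolynomial (Fin n) A) B x)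
      rw [q.commutes, Algebra.TensorProduct.algebraMap_apply, ← e.commutes,
        Algebra.TensorProduct.algebraMap_apply]
      rfl }
  let : Algebra P.Ring Q.Ring := algTl
  have hS : Algebra.FormallySmooth A (MvPolynomial (Fin n) A) := inferInstance
  have : Algebra.FormallySmooth A P.Ring := hS
  have : Algebra.FormallySmooth A Q.Ring :=
    Algebra.FormallySmooth.comp A (MvPolynomial (Fin n) A) Tl
  have hflat : Module.Flat (MvPolynomial (Fin n) A) Tl := inferInstance
  have : Module.Flat P.Ring Q.Ring := hflat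
  have hEt : Algebra.FormallyEtale (MvPolynomial (Fin n) A) Tl := inferInstance
  have : Algebra.FormallyEtale P.Ring Q.Ring := hEt
  have hker : RingHom.ker g.toRingHom =
      (RingHom.ker (algebraMap (MvPolynomial (Fin n) A) B)).map (algebraMap _ Tl) := by
    rw [← ker_includeRight hπ]
    ext x
    simp [RingHom.mem_ker, g, q]
  have H₂ : Function.Bijective ((f.mapKer rfl).liftBaseChange Q.Ring) := by
    constructor
    · have h1 := (Module.Flat.lTensor_preserves_injective_linearMap (M := Q.Ring) P.ker.subtype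
        Subtype.val_injective)
      have h2 : ∀ z, ((f.mapKer rfl).liftBaseChange Q.Ring z).1 =
          TensorProduct.rid P.Ring Q.Ring (P.ker.subtype.lTensor Q.Ring z) := fun z => by
        induction z with
        | zero => simp
        | add a b ha hb => simp only [map_add, Submodule.coe_add, ha, hb]
        | tmul a b => simp [Algebra.smul_def, mul_comm]; rfl
      intro x y hxy
      apply h1
      apply (TensorProduct.rid P.Ring Q.Ring).injective
      rw [← h2, ← h2, hxy]
    · intro z
      have hz : z.1 ∈ (RingHom.ker (algebraMap (MvPolynomial (Fin n) A) B)).map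
          (algebraMap _ Tl) := hker ▸ z.2
      have : ∀ w ∈ (RingHom.ker (algebraMap (MvPolynomial (Fin n) A) B)).map (algebraMap _ Tl),
          ∃ a, ((f.mapKer rfl).liftBaseChange Q.Ring a).1 = w := by
        intro w hw
        induction hw using Submodule.span_induction with
        | mem w hw =>
          obtain ⟨p, hp, rfl⟩ := hw
          exact ⟨(1 : Q.Ring) ⊗ₜ ⟨p, hp⟩, by simp; rfl⟩
        | zero => exact ⟨0, by simp; rfl⟩
        | add a b _ _ ha hb =>
          obtain ⟨a, rfl⟩ := ha; obtain ⟨b, rfl⟩ := hb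
          exact ⟨a + b, by rw [map_add]; rfl⟩
        | smul c a _ ha =>
          obtain ⟨a, rfl⟩ := ha
          let c' : Q.Ring := c
          exact ⟨c' • a, by rw [map_smul]; rfl⟩
      obtain ⟨a, ha⟩ := this _ hz
      exact ⟨a, Subtype.ext ha⟩
  have h := (Algebra.Extension.tensorH1CotangentOfFormallyEtale f rfl
    (RingHom.formallyEtale_algebraMap.mpr inferInstance) H₂).subsingleton_congr.mpr
    ((Q.equivH1CotangentOfFormallySmooth.subsingleton_congr).mpr inferInstance)
  have := Module.FaithfullyFlat.lTensor_reflects_triviality B C P.H1Cotangent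
  exact P.equivH1CotangentOfFormallySmooth.subsingleton_congr.mp this

theorem etale {A B C : Type u} [CommRing A] [CommRing B] [CommRing C]
    [Algebra A B] [Algebra A C] [Algebra B C] [IsScalarTower A B C]
    [Algebra.IsStandardEtale B C] [Module.FaithfullyFlat B C] [Algebra.Etale A C] :
    Algebra.Etale A B :=
  Algebra.Etale.iff_formallyUnramified_and_smooth.2 ⟨formallyUnramified (C := C), smooth (C := C)⟩

end Groth.Agent.H12AlgSp.EtaleSource
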