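import Groth.Agent.H12AlgSp.RelDim
import Groth.Agent.H17.Dim

/-!
Dimension does not go up along locally quasi-finite morphisms.
-/

set_option backward.isDefEq.respectTransparency false

universe u

open CategoryTheory CategoryTheory.Limits AlgebraicGeometry Topology TopologicalSpace
open AlgSp

namespace Groth.Agent.H12AlgSp

theorem eq_of_specializes_of_lqf {X Y : Scheme.{u}} (g : X ⟶ Y) [LocallyQuasiFinite g] {x y : X}
    (h : x ⤳ y) (e : g x = g y) : x = y :=
  Groth.Agent.H05EGA4.eq_of_specializes_of_fibre g h e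

theorem topologicalKrullDim_le_of_lqf {X Y : Scheme.{u}} (g : X ⟶ Y) [LocallyQuasiFinite g] :
    topologicalKrullDim X ≤ topologicalKrullDim Y :=
  Groth.Agent.H17.topologicalKrullDim_le_of_noSpecializationsInFibres g g.continuous
    fun _ _ h e => eq_of_specializes_of_lqf g h e

theorem ringKrullDim_stalk_le_of_lqf {X Y : Scheme.{u}} (g : X ⟶ Y) [LocallyQuasiFinite g] (x : X) :
    ringKrullDim (X.presheaf.stalk x) ≤ ringKrullDim (Y.presheaf.stalk (g x)) := by
  have key : Monotone (PrimeSpectrum.comap (g.stalkMap x).hom) := fun p q hpq => Ideal.comap_mono hpq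
  refine Order.krullDim_le_of_strictMono (PrimeSpectrum.comap (g.stalkMap x).hom) fun p q hpq => ?_
  refine lt_of_le_of_ne (key hpq.le) fun he => hpq.ne ?_
  have hsq : ∀ r : PrimeSpectrum (X.presheaf.stalk x), g (X.fromSpecStalk x r) =
      Y.fromSpecStalk (g x) (PrimeSpectrum.comap (g.stalkMap x).hom r) := fun r => by
    rw [← Scheme.Hom.comp_apply, ← Scheme.SpecMap_stalkMap_fromSpecStalk, Scheme.Hom.comp_apply]
    rfl
  refine (X.fromSpecStalk x).isEmbedding.injective (eq_of_specializes_of_lqf g ?_ ?_)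
  · exact ((PrimeSpectrum.le_iff_specializes p q).1 hpq.le).map (X.fromSpecStalk x).continuous
  · rw [hsq, hsq, he]

theorem dim_le_of_locP_lqf {S : Scheme.{u}} {X Y : Sp S} (hX : IsAlgSpace X) (hY : IsAlgSpace Y) {f : X ⟶ Y}
    (hf : LocP (@LocallyQuasiFinite ⊓ @LocallyOfFiniteType) f) : dim X ≤ dim Y := by
  refine iSup_le fun U => iSup_le fun a => iSup_le fun ha => ?_
  obtain ⟨V, b, hb, hbs⟩ := hY.atlas
  obtain ⟨W, t, k, sq⟩ := hb.rep (a ≫ f)
  obtain ⟨k, rfl⟩ := (yon S).map_surjective k
  have ht : Etale t.left := hb.property _ _ t sq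
  have hts : Surjective t.left := hbs.property _ _ t sq
  have hk : LocallyQuasiFinite k.left :=
    (hf ((yon S).map t ≫ a) b k (repWith_comp ((repWith_yon_map_iff _ _).2 ht) ha) hb
      (by rw [Category.assoc, sq.w])).1
  refine le_trans ?_ ((topologicalKrullDim_le_of_lqf k.left).trans
    (le_iSup_of_le V (le_iSup_of_le b (le_iSup_of_le hb le_rfl))))
  exact Groth.Agent.H17.topologicalKrullDim_le_of_generalizingMap t.left (Flat.generalizingMap t.left)
    t.left.surjective

end Groth.Agent.H12AlgSp
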