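import Groth.Agent.H13AlgSp.EtaleLocally
import Groth.Agent.H1CAlg.NagataFiniteType
import Groth.Agent.H8Props.NagataAffine

/-!
Nagata algebraic spaces.
-/

universe u

open CategoryTheory CategoryTheory.Limits AlgebraicGeometry Opposite
open AlgSp Groth.Agent.H13AlgSp

namespace Groth.Agent.H12AlgSp

theorem isNagata_affineOpens_of_lft {T V : Scheme.{u}} (k : T ⟶ V) [LocallyOfFiniteType k]
    (hV : ∀ A : V.Opens, IsAffineOpen A → CAlg.IsNagata ↑Γ(V, A)) (W : T.Opens) (hW : IsAffineOpen W) :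
    CAlg.IsNagata ↑Γ(T, W) := by
  let ι := {B : T.Opens // IsAffineOpen B ∧ ∃ A : V.Opens, IsAffineOpen A ∧ B ≤ k ⁻¹ᵁ A}
  refine H8Props.NagataAffine.isNagata_affineOpen T (fun i : ι => i.1) (eq_top_iff.2 fun z _ => ?_)
    (fun i => i.2.1) W hW fun i => ?_
  · obtain ⟨A, hA, hzA, -⟩ := TopologicalSpace.Opens.isBasis_iff_nbhd.mp V.isBasis_affineOpens
      (TopologicalSpace.Opens.mem_top (k z))
    obtain ⟨B, hB, hzB, hle⟩ := TopologicalSpace.Opens.isBasis_iff_nbhd.mp T.isBasis_affineOpens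
      (show z ∈ k ⁻¹ᵁ A from hzA)
    exact TopologicalSpace.Opens.mem_iSup.2 ⟨⟨B, hB, A, hA, hle⟩, hzB⟩
  · obtain ⟨B, hB, A, hA, hle⟩ := i
    have h := HasRingHomProperty.appLE @LocallyOfFiniteType k ‹_› ⟨A, hA⟩ ⟨B, hB⟩ hle
    algebraize [(k.appLE A B hle).hom]
    exact Groth.Agent.H1CAlg.isNagata_of_finiteType (R := Γ(V, A)) (hV A hA)

theorem isNagataSp_of_lft {S : Scheme.{u}} {F G : Sp S} (hF : IsAlgSpace F) (hG : IsAlgSpace G) {f : F ⟶ G}
    (hf : LocP @LocallyOfFiniteType f)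
    (h : EtaleLocally (fun U => ∀ V : U.Opens, IsAffineOpen V → CAlg.IsNagata ↑Γ(U, V)) G) :
    EtaleLocally (fun U => ∀ V : U.Opens, IsAffineOpen V → CAlg.IsNagata ↑Γ(U, V)) F := by
  obtain ⟨V, b, hbe, hbs, hV⟩ := h
  have sq := IsPullback.of_hasPullback f b
  obtain ⟨T, d, hde, hds⟩ := (isAlgSpace_of_isPullback hG.diag hF (IsAlgSpace.yon_obj V) sq).atlas
  obtain ⟨k, hk⟩ := (yon S).map_surjective (d ≫ pullback.snd f b)
  have hTe : RepWith @Etale (d ≫ pullback.fst f b) := repWith_comp hde (repWith_of_isPullback sq.flip hbe)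
  have : LocallyOfFiniteType k.left := hf _ b k hTe hbe (by rw [hk, Category.assoc, Category.assoc, sq.w])
  exact ⟨T, d ≫ pullback.fst f b, hTe, repWith_comp hds (repWith_of_isPullback sq.flip hbs),
    fun W hW => isNagata_affineOpens_of_lft k.left hV W hW⟩

end Groth.Agent.H12AlgSp
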