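import Groth.Agent.H12AlgSp.Points
import Groth.Agent.H12AlgSp.LocP
import Mathlib.AlgebraicGeometry.Morphisms.QuasiCompact

/-!
Quasi-compact algebraic spaces and quasi-compact morphisms.
-/

set_option linter.unusedVariables false

universe u

open CategoryTheory CategoryTheory.Limits AlgebraicGeometry Opposite Topology
open AlgSp

namespace Groth.Agent.H12AlgSp

variable {S : Scheme.{u}} {F G H : Sp S}

/-- A compact open set of points is the image of an etale chart by an affine scheme. -/
theorem exists_affine_chart {X : Sp S} (hX : IsAlgSpace X) {V : Set (Points X)} (hV : IsOpen V)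
    (hVc : IsCompact V) :
    ∃ (W : Over S) (a : (yon S).obj W ⟶ X), IsAffine W.left ∧ RepWith @Etale a ∧
      Set.range (Points.ofPt a) = V := by
  classical
  obtain ⟨U, p, hp, hps⟩ := hX.atlas
  have ho := isOpenMap_ofPt_of_repWith etale_le_universallyOpen hp
  let J := { i : U.left.affineOpens // (i.1 : Set ↥U.left) ⊆ Points.ofPt p ⁻¹' V }
  have hcov : V ⊆ ⋃ i : J, Points.ofPt p '' (i.1.1 : Set ↥U.left) := by
    intro x hx
    obtain ⟨u, rfl⟩ := surjective_ofPt_of_repWith le_rfl hps x
    obtain ⟨O, hO, hu, hOV⟩ := TopologicalSpace.Opens.isBasis_iff_nbhd.mp U.left.isBasis_affineOpens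
      (show u ∈ (⟨_, hV.preimage (Points.continuous_ofPt p)⟩ : U.left.Opens) from hx)
    exact Set.mem_iUnion.2 ⟨⟨⟨O, hO⟩, hOV⟩, u, hu, rfl⟩
  obtain ⟨t, ht⟩ := hVc.elim_finite_subcover _ (fun i : J => ho _ i.1.1.2) hcov
  have hW : ∀ i : { i // i ∈ t }, IsAffine (i.1.1.1.toScheme) := fun i => i.1.1.2
  let m : (∐ fun i : { i // i ∈ t } => i.1.1.1.toScheme) ⟶ U.left := Sigma.desc fun i => i.1.1.1.ι
  have hm : Etale m := IsZariskiLocalAtSource.sigmaDesc (P := @Etale) fun i =>
    inferInstanceAs (Etale i.1.1.1.ι)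
  let W : Over S := Over.mk (m ≫ U.hom)
  let χ : W ⟶ U := Over.homMk m
  refine ⟨W, (yon S).map χ ≫ p, inferInstanceAs (IsAffine (∐ fun i : { i // i ∈ t } => i.1.1.1.toScheme)),
    repWith_comp ((repWith_yon_map_iff _ _).2 hm) hp, ?_⟩
  apply Set.Subset.antisymm
  · rintro _ ⟨w, rfl⟩
    rw [ofPt_map]
    obtain ⟨i, v, rfl⟩ := (sigmaOpenCover _).exists_eq w
    refine i.1.2 ?_
    change m (Sigma.ι (fun i : { i // i ∈ t } => i.1.1.1.toScheme) i v) ∈ i.1.1.1
    rw [← Scheme.Hom.comp_apply, Sigma.ι_desc]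
    exact v.2
  · intro x hx
    obtain ⟨i, hi, u, hu, rfl⟩ := Set.mem_iUnion₂.1 (ht hx)
    refine ⟨Sigma.ι (fun i : { i // i ∈ t } => i.1.1.1.toScheme) ⟨i, hi⟩ ⟨u, hu⟩, ?_⟩
    rw [ofPt_map]
    congr 1
    change m _ = u
    rw [← Scheme.Hom.comp_apply, Sigma.ι_desc]
    rfl

theorem compactSpace_points_of_isQuasiCompactSp {X : Sp S} (h : IsQuasiCompactSp X) :
    CompactSpace (Points X) := by
  obtain ⟨U, p, -, hps, hU⟩ := h
  exact (surjective_ofPt_of_repWith le_rfl hps).compactSpace (Points.continuous_ofPt p)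

theorem exists_affine_atlas {X : Sp S} (hX : IsAlgSpace X) [CompactSpace (Points X)] :
    ∃ (U : Over S) (p : (yon S).obj U ⟶ X), IsAffine U.left ∧ RepWith @Etale p ∧
      RepWith @Surjective p := by
  obtain ⟨W, a, hW, ha, hr⟩ := exists_affine_chart hX isOpen_univ isCompact_univ
  exact ⟨W, a, hW, ha, repWith_surjective_of_map (hX.representable_from_yon a)
    (Set.range_eq_univ.1 (by rw [range_map_yon]; exact hr))⟩

theorem isQuasiCompactSp_of_compactSpace {X : Sp S} (hX : IsAlgSpace X) [CompactSpace (Points X)] :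
    IsQuasiCompactSp X := by
  obtain ⟨U, p, hU, hp, hps⟩ := exists_affine_atlas hX
  exact ⟨U, p, hp, hps, inferInstance⟩

theorem isQuasiCompactSp_iff {X : Sp S} (hX : IsAlgSpace X) :
    IsQuasiCompactSp X ↔ CompactSpace (Points X) :=
  ⟨compactSpace_points_of_isQuasiCompactSp, fun h => isQuasiCompactSp_of_compactSpace hX⟩

theorem isQuasiCompactSp_yon_iff {T : Over S} :
    IsQuasiCompactSp ((yon S).obj T) ↔ CompactSpace ↥T.left := by
  rw [isQuasiCompactSp_iff (IsAlgSpace.yon_obj T)]
  exact ⟨fun h => (Points.schemeHomeo T).symm.compactSpace,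
    fun h => (Points.schemeHomeo T).compactSpace⟩

theorem isQuasiCompactSp_of_surjective {X Y : Sp S} (hY : IsAlgSpace Y) (f : X ⟶ Y)
    (hf : Function.Surjective (Points.map f)) (hX : IsQuasiCompactSp X) : IsQuasiCompactSp Y :=
  have := compactSpace_points_of_isQuasiCompactSp hX
  have := hf.compactSpace (Points.continuous_map f)
  isQuasiCompactSp_of_compactSpace hY

/-- Quasi-compactness of a morphism can be tested on affine schemes over the target. -/
theorem isQuasiCompactMor_of_affine {X Y : Sp S} (hX : IsAlgSpace X) (hY : IsAlgSpace Y) {f : X ⟶ Y}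
    (h : ∀ (T : Over S), IsAffine T.left → ∀ (g : (yon S).obj T ⟶ Y),
      IsQuasiCompactSp (pullback f g)) : IsQuasiCompactMor f := by
  intro Z Z' hZ hZc g fst snd sq
  have hZ' := isAlgSpace_of_isPullback hY.diag hX hZ sq
  have := compactSpace_points_of_isQuasiCompactSp hZc
  obtain ⟨T, p, hT, hp, hps⟩ := exists_affine_atlas hZ
  have hc := compactSpace_points_of_isQuasiCompactSp (h T hT (p ≫ g))
  let k : pullback f (p ≫ g) ⟶ Z' := sq.lift (pullback.fst f (p ≫ g)) (pullback.snd f (p ≫ g) ≫ p)
    (by rw [Category.assoc, pullback.condition])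
  have sqk : IsPullback k (pullback.snd f (p ≫ g)) snd p := by
    refine IsPullback.of_right ?_ (sq.lift_snd _ _ _) sq
    rw [sq.lift_fst]
    exact IsPullback.of_hasPullback f (p ≫ g)
  have hs : Function.Surjective (Points.map k) := by
    intro z
    obtain ⟨t, ht⟩ := surjective_map_of_repWith le_rfl hps (Points.map snd z)
    obtain ⟨w, hw, -⟩ := exists_point_of_isPullback sqk z t ht.symm
    exact ⟨w, hw⟩
  exact isQuasiCompactSp_of_surjective hZ' k hs (h T hT (p ≫ g))

theorem isQuasiCompactMor_iff_affine {X Y : Sp S} (hX : IsAlgSpace X) (hY : IsAlgSpace Y) (f : X ⟶ Y) :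
    IsQuasiCompactMor f ↔
      ∀ (Z : Over S), IsAffine Z.left → ∀ (g : (yon S).obj Z ⟶ Y) (P : Sp S)
        (fst : P ⟶ X) (snd : P ⟶ (yon S).obj Z), IsPullback fst snd f g → IsQuasiCompactSp P := by
  refine ⟨fun h Z hZ g P fst snd sq => h (IsAlgSpace.yon_obj Z)
    (isQuasiCompactSp_yon_iff.2 inferInstance) g fst snd sq, fun h => ?_⟩
  exact isQuasiCompactMor_of_affine hX hY fun T hT g => h T hT g _ _ _ (IsPullback.of_hasPullback f g)

theorem isQuasiCompactMor_pullback {X Y : Sp S} {f : X ⟶ Y} (hf : IsQuasiCompactMor f) (T : Over S)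
    [IsAffine T.left] (g : (yon S).obj T ⟶ Y) : IsQuasiCompactSp (pullback f g) :=
  hf (IsAlgSpace.yon_obj T) (isQuasiCompactSp_yon_iff.2 inferInstance) g _ _
    (IsPullback.of_hasPullback f g)

theorem isQuasiCompactMor_of_repWith {X Y : Sp S} (hX : IsAlgSpace X) (hY : IsAlgSpace Y) {f : X ⟶ Y}
    (hf : RepWith @QuasiCompact f) : IsQuasiCompactMor f := by
  refine isQuasiCompactMor_of_affine hX hY fun T hT g => ?_
  have : QuasiCompact (hf.rep.snd g).left := hf.property_snd g
  have := QuasiCompact.compactSpace_of_compactSpace (hf.rep.snd g).left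
  have hc := compactSpace_points_of_isQuasiCompactSp
    (isQuasiCompactSp_yon_iff.2 (this : CompactSpace ↥(hf.rep.pullback g).left))
  have e := (hf.rep.isPullback g).isoPullback
  exact isQuasiCompactSp_of_surjective (isAlgSpace_pullback hY.diag hX (IsAlgSpace.yon_obj T) f g)
    e.hom (Function.LeftInverse.surjective (g := Points.map e.inv)
      fun x => by rw [← Points.map_comp, e.inv_hom_id, Points.map_id])
    (isQuasiCompactSp_yon_iff.2 (this : CompactSpace ↥(hf.rep.pullback g).left))

theorem repWith_quasiCompact_of_mor {X Y : Sp S} {f : X ⟶ Y} (hf : Representable f)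
    (h : IsQuasiCompactMor f) : RepWith @QuasiCompact f := by
  refine repWith_of_snd hf fun T g => ?_
  rw [quasiCompact_iff_forall_isAffineOpen]
  intro W hW
  let T' : Over S := Over.mk (W.ι ≫ T.hom)
  let j : T' ⟶ T := Over.homMk W.ι
  have : IsAffine T'.left := hW
  obtain ⟨V, v, k, sq⟩ := (representable_yon_map j) ((yon S).map (hf.snd g))
  obtain ⟨k, rfl⟩ := (yon S).map_surjective k
  have big := sq.flip.paste_horiz (hf.isPullback g)
  have hc := compactSpace_points_of_isQuasiCompactSp (h (IsAlgSpace.yon_obj T')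
    (isQuasiCompactSp_yon_iff.2 inferInstance) _ _ _ big)
  have : CompactSpace ↥V.left := (Points.schemeHomeo V).symm.compactSpace
  have hr : Set.range v.left = (hf.snd g).left ⁻¹ᵁ W := by
    have sqO : IsPullback v k (hf.snd g) j :=
      (IsPullback.of_map (yon S) ((yon S).map_injective (by
        rw [Functor.map_comp, Functor.map_comp]; exact sq.w.symm)) sq.flip)
    have sq' := sqO.map (Over.forget S)
    have h1 : Set.range v.left = (hf.snd g).left ⁻¹' Set.range j.left := by
      change Set.range ((Over.forget S).map v) = _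
      rw [← sq'.isoPullback_hom_fst]
      rw [show Set.range (sq'.isoPullback.hom ≫ pullback.fst _ _) =
        Set.range (pullback.fst ((Over.forget S).map (hf.snd g)) ((Over.forget S).map j)) from by
          rw [Scheme.Hom.comp_base, TopCat.coe_comp]
          exact sq'.isoPullback.hom.surjective.range_comp _]
      exact Scheme.Pullback.range_fst _ _
    rw [h1]
    change _ ⁻¹' Set.range W.ι = _
    rw [W.range_ι]; rfl
  rw [← hr]
  exact isCompact_range v.left.continuous

theorem isQuasiCompactMor_of_surjective_triangle {X Y Z : Sp S} (hX : IsAlgSpace X) (hY : IsAlgSpace Y)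
    (hZ : IsAlgSpace Z) {f : X ⟶ Y} {q : Y ⟶ Z} (hf : Function.Surjective (Points.map f))
    (hp : IsQuasiCompactMor (f ≫ q)) : IsQuasiCompactMor q := by
  refine isQuasiCompactMor_of_affine hY hZ fun T hT g => ?_
  let k : pullback (f ≫ q) g ⟶ pullback q g :=
    pullback.lift (pullback.fst (f ≫ q) g ≫ f) (pullback.snd (f ≫ q) g)
      (by rw [Category.assoc, pullback.condition])
  have sqk : IsPullback k (pullback.fst (f ≫ q) g) (pullback.fst q g) f := by
    refine (IsPullback.of_bot ?_ (pullback.lift_fst _ _ _).symm (IsPullback.of_hasPullback q g)).flip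
    rw [pullback.lift_snd]
    exact IsPullback.of_hasPullback (f ≫ q) g
  have hs : Function.Surjective (Points.map k) := by
    intro y
    obtain ⟨x, hx⟩ := hf (Points.map (pullback.fst q g) y)
    obtain ⟨w, hw, -⟩ := exists_point_of_isPullback sqk y x hx.symm
    exact ⟨w, hw⟩
  exact isQuasiCompactSp_of_surjective (isAlgSpace_pullback hZ.diag hY (IsAlgSpace.yon_obj T) q g)
    k hs (isQuasiCompactMor_pullback hp T g)

theorem isCompact_preimage {X Y : Sp S} (hY : IsAlgSpace Y) {f : X ⟶ Y} (hf : IsQuasiCompactMor f)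
    {V : Set (Points Y)} (hV : IsOpen V) (hVc : IsCompact V) : IsCompact (Points.map f ⁻¹' V) := by
  obtain ⟨W, a, hW, -, hr⟩ := exists_affine_chart hY hV hVc
  have := compactSpace_points_of_isQuasiCompactSp (isQuasiCompactMor_pullback hf W a)
  have e : Points.map f ⁻¹' V = Set.range (Points.map (pullback.fst f a)) := by
    rw [range_snd_of_isPullback (IsPullback.of_hasPullback f a).flip, range_map_yon, hr]
  rw [e]
  exact isCompact_range (Points.continuous_map _)

/-- Quasi-compactness descends along an etale surjective morphism. -/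
theorem isQuasiCompactMor_of_etale_cover {X Y Y' X' : Sp S} (hX : IsAlgSpace X) (hY : IsAlgSpace Y)
    (hY' : IsAlgSpace Y') {f : X ⟶ Y} {g : Y' ⟶ Y} {fst : X' ⟶ X} {f' : X' ⟶ Y'}
    (sq : IsPullback fst f' f g) (hg : IsEtaleMor g) (hgs : Function.Surjective (Points.map g))
    (hf' : IsQuasiCompactMor f') : IsQuasiCompactMor f := by
  classical
  refine isQuasiCompactMor_of_affine hX hY fun T hT x => ?_
  have hT' : IsAlgSpace (pullback g x) := isAlgSpace_pullback hY.diag hY' (IsAlgSpace.yon_obj T) g x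
  obtain ⟨U, p, hp, hps⟩ := hT'.atlas
  obtain ⟨e, he⟩ := (yon S).map_surjective (p ≫ pullback.snd g x)
  have hlp := locP_of_isPullback etLocal_etale (IsPullback.of_hasPullback g x) hY' hY
    (IsAlgSpace.yon_obj T) (locP_etale_of_isEtaleMor hg)
  have hee : Etale e.left := hlp p (𝟙 _) e hp (repWith_id _ T) (by rw [he, Category.comp_id])
  have hes : Surjective e.left := ⟨fun t => by
    obtain ⟨y, hy⟩ := hgs (Points.ofPt x t)
    obtain ⟨w, -, hw⟩ := exists_point_of_isPullback (IsPullback.of_hasPullback g x) y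
      (Points.ofScheme T t) (hy.trans (Points.ofPt_eq_map_ofScheme x t))
    obtain ⟨u, rfl⟩ := surjective_ofPt_of_repWith le_rfl hps w
    rw [Points.map_ofPt, ← he, ← Category.comp_id ((yon S).map e), ofPt_map] at hw
    exact ⟨u, (Points.schemeEquiv T).injective hw⟩⟩
  have hTc : IsCompact (Set.univ : Set ↥T.left) := isCompact_univ
  obtain ⟨s, hs⟩ := hTc.elim_finite_subcover
    (fun i : U.left.affineOpens => e.left '' (i.1 : Set ↥U.left))
    (fun i => e.left.isOpenMap _ i.1.2) (fun t _ => by
      obtain ⟨u, rfl⟩ := e.left.surjective t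
      obtain ⟨O, hO, hu, -⟩ := TopologicalSpace.Opens.isBasis_iff_nbhd.mp U.left.isBasis_affineOpens
        (TopologicalSpace.Opens.mem_top u)
      exact Set.mem_iUnion.2 ⟨⟨O, hO⟩, u, hu, rfl⟩)
  have key : ∀ i : U.left.affineOpens, ∃ (A : Sp S) (k : A ⟶ pullback f x),
      IsQuasiCompactSp A ∧ Points.map (pullback.snd f x) ⁻¹'
        (Points.ofScheme T '' (e.left '' (i.1 : Set ↥U.left))) ⊆ Set.range (Points.map k) := by
    intro i
    let W : Over S := Over.mk (i.1.ι ≫ U.hom)
    let j : W ⟶ U := Over.homMk i.1.ι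
    have : IsAffine W.left := i.2
    obtain ⟨y', hy'⟩ : ∃ y' : (yon S).obj W ⟶ Y', y' = (yon S).map j ≫ p ≫ pullback.fst g x :=
      ⟨_, rfl⟩
    have hy'g : y' ≫ g = (yon S).map (j ≫ e) ≫ x := by
      rw [hy', Category.assoc, Category.assoc, pullback.condition, Functor.map_comp, he]
      simp only [Category.assoc]
    have A : IsPullback (pullback.fst f' y' ≫ fst) (pullback.snd f' y') f ((yon S).map (j ≫ e) ≫ x) := by
      have := (IsPullback.of_hasPullback f' y').paste_horiz sq
      rwa [hy'g] at this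
    obtain ⟨k, hk₁, hk₂⟩ := (IsPullback.of_hasPullback f x).exists_lift (pullback.fst f' y' ≫ fst)
      (pullback.snd f' y' ≫ (yon S).map (j ≫ e)) (by rw [A.w, Category.assoc])
    have sqk : IsPullback k (pullback.snd f' y') (pullback.snd f x) ((yon S).map (j ≫ e)) := by
      refine IsPullback.of_right ?_ hk₂ (IsPullback.of_hasPullback f x)
      rw [hk₁]
      exact A
    refine ⟨_, k, isQuasiCompactMor_pullback hf' W y', ?_⟩
    rintro z ⟨t, ⟨u, hu, rfl⟩, hz⟩
    obtain ⟨w, hw, -⟩ := exists_point_of_isPullback sqk z (Points.ofScheme W ⟨u, hu⟩) (hz.symm.trans (by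
      refine Eq.trans ?_ (Points.map_yon_map_apply (j ≫ e) _).symm
      rfl))
    exact ⟨w, hw⟩
  choose A k hA hk using key
  have hcomp : IsCompact (Set.univ : Set (Points (pullback f x))) := by
    have e1 : (Set.univ : Set (Points (pullback f x))) = ⋃ i ∈ s, Set.range (Points.map (k i)) := by
      refine Set.eq_of_subset_of_subset (fun z _ => ?_) (Set.subset_univ _)
      obtain ⟨t, ht⟩ := (Points.schemeEquiv T).surjective (Points.map (pullback.snd f x) z)
      obtain ⟨i, hi, hti⟩ := Set.mem_iUnion₂.1 (hs (Set.mem_univ t))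
      exact Set.mem_iUnion₂.2 ⟨i, hi, hk i ⟨t, hti, ht⟩⟩
    rw [e1]
    exact s.isCompact_biUnion fun i _ =>
      have := compactSpace_points_of_isQuasiCompactSp (hA i)
      isCompact_range (Points.continuous_map _)
  have : CompactSpace (Points (pullback f x)) := ⟨hcomp⟩
  exact isQuasiCompactSp_of_compactSpace (isAlgSpace_pullback hY.diag hX (IsAlgSpace.yon_obj T) f x)

end Groth.Agent.H12AlgSp
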