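import Groth.Agent.H12AlgSp.Univ
import Groth.Agent.H12AlgSp.SepSpace
import Groth.Agent.H12AlgSp.LocPCancel
import Mathlib.AlgebraicGeometry.ZariskisMainTheorem

/-!
Separated morphisms and proper morphisms of algebraic spaces.
-/

set_option linter.unusedVariables false

universe u

open CategoryTheory CategoryTheory.Limits AlgebraicGeometry Opposite Topology
open AlgSp

namespace Groth.Agent.H12AlgSp

variable {S : Scheme.{u}} {X Y Z : Sp S}

set_option backward.isDefEq.respectTransparency false in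
/-- The graph of `f : X ⟶ Y` over `Z` is a base change of the diagonal of `g : Y ⟶ Z`. -/
theorem exists_graph (f : X ⟶ Y) (g : Y ⟶ Z) :
    ∃ s : X ⟶ pullback (f ≫ g) g, s ≫ pullback.snd (f ≫ g) g = f ∧
      IsPullback f s (pullback.diagonal g)
        (pullback.map (f ≫ g) g g g f (𝟙 Y) (𝟙 Z) (by simp) (by simp)) := by
  obtain ⟨s, hs₁, hs₂⟩ := (IsPullback.of_hasPullback (f ≫ g) g).exists_lift (𝟙 X) f (by simp)
  refine ⟨s, hs₂, ⟨⟨by apply pullback.hom_ext <;> simp [pullback.map, reassoc_of% hs₁, hs₂]⟩,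
      ⟨PullbackCone.IsLimit.mk _ (fun c => c.snd ≫ pullback.fst _ _) (fun c => ?_) (fun c => ?_)
        (fun c m h₁ h₂ => ?_)⟩⟩⟩
  · have e := c.condition =≫ pullback.fst g g
    simp [pullback.map] at e
    simp [e]
  · apply pullback.hom_ext
    · simp [hs₁]
    · have e₁ := c.condition =≫ pullback.fst g g
      have e₂ := c.condition =≫ pullback.snd g g
      simp [pullback.map] at e₁ e₂
      simp [hs₂, ← e₁, ← e₂]
  · rw [← h₂]; simp [hs₁]

/-! ### Separated morphisms -/

theorem isSeparatedMor_of_isPullback {X' Y' : Sp S} {f : X ⟶ Y} {g : Y' ⟶ Y} {fst : X' ⟶ X}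
    {f' : X' ⟶ Y'} (sq : IsPullback fst f' f g) (h : IsSeparatedMor f) : IsSeparatedMor f' :=
  repWith_of_isPullback (isPullback_diagonal sq) h

theorem isSeparatedMor_comp {f : X ⟶ Y} {g : Y ⟶ Z} (hf : IsSeparatedMor f) (hg : IsSeparatedMor g) :
    IsSeparatedMor (f ≫ g) :=
  MorphismProperty.comp_mem (RepWith (S := S) @IsClosedImmersion).diagonal f g hf hg

theorem isSeparatedMor_of_mono (f : X ⟶ Y) [Mono f] : IsSeparatedMor f :=
  repWith_of_isIso _

set_option backward.isDefEq.respectTransparency false in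
theorem isSeparatedMor_of_comp {f : X ⟶ Y} {g : Y ⟶ Z} (h : IsSeparatedMor (f ≫ g)) :
    IsSeparatedMor f := by
  let m := pullback.map f f (f ≫ g) (f ≫ g) (𝟙 X) (𝟙 X) g (by simp) (by simp)
  have : Mono m := ⟨fun a b e => by
    apply pullback.hom_ext
    · have := e =≫ pullback.fst (f ≫ g) (f ≫ g)
      simpa [m, pullback.map] using this
    · have := e =≫ pullback.snd (f ≫ g) (f ≫ g)
      simpa [m, pullback.map] using this⟩
  have hm : pullback.diagonal f ≫ m = pullback.diagonal (f ≫ g) := by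
    apply pullback.hom_ext <;> simp [m, pullback.map]
  refine repWith_of_isPullback (fst := 𝟙 X) (g := m) ?_ h
  refine ⟨⟨by rw [Category.id_comp, hm]⟩, ⟨PullbackCone.IsLimit.mk _ (fun c => c.fst) (fun c => by simp)
    (fun c => ?_) (fun c r h₁ h₂ => by simpa using h₁)⟩⟩
  rw [← cancel_mono m, Category.assoc, hm]
  exact c.condition

/-! ### Locally of finite type on affine bases -/

theorem etale_le_diagonal :
    (@Etale : MorphismProperty Scheme.{u}) ≤ MorphismProperty.diagonal @Etale :=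
  fun X Y f (_ : Etale f) => inferInstanceAs (Etale (pullback.diagonal f))

/-- A property etale local on source and target can be tested on affine schemes over the target. -/
theorem locP_of_affine {P : MorphismProperty Scheme.{u}} [IsZariskiLocalAtTarget P] {f : X ⟶ Y}
    (h : ∀ (T : Over S), IsAffine T.left → ∀ (g : (yon S).obj T ⟶ Y), LocP P (pullback.snd f g)) :
    LocP P f := by
  intro U V a b e ha hb w
  refine IsZariskiLocalAtTarget.of_openCover (P := P) V.left.affineCover fun i => ?_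
  let T : Over S := Over.mk (V.left.affineCover.f i ≫ V.hom)
  let j : T ⟶ V := Over.homMk (V.left.affineCover.f i)
  have : IsAffine T.left := inferInstanceAs (IsAffine (V.left.affineCover.X i))
  have hj : Etale j.left := inferInstanceAs (Etale (V.left.affineCover.f i))
  obtain ⟨A, p, q, sqA⟩ : ∃ (A : Over S) (p : A ⟶ U) (q : A ⟶ T), IsPullback p q e j :=
    ⟨_, _, _, IsPullback.of_hasPullback e j⟩
  have sqA' := sqA.map (Over.forget S)
  have hp : Etale p.left := MorphismProperty.of_isPullback sqA'.flip hj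
  obtain ⟨g, hg⟩ : ∃ g : (yon S).obj T ⟶ Y, g = (yon S).map j ≫ b := ⟨_, rfl⟩
  have hge : RepWith @Etale g := hg ▸ repWith_comp ((repWith_yon_map_iff _ _).2 hj) hb
  obtain ⟨a', ha₁, ha₂⟩ := (IsPullback.of_hasPullback f g).exists_lift ((yon S).map p ≫ a)
    ((yon S).map q) (by rw [hg, Category.assoc, w, ← Functor.map_comp_assoc, sqA.w,
      Functor.map_comp_assoc])
  have ha' : RepWith @Etale a' := by
    refine repWith_of_comp_rep a' (pullback.fst f g) (repWith_le etale_le_diagonal
      (repWith_of_isPullback (IsPullback.of_hasPullback f g).flip hge)) ?_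
    rw [ha₁]
    exact repWith_comp ((repWith_yon_map_iff _ _).2 hp) ha
  have hq : P q.left := h T ‹_› g a' (𝟙 _) q ha' (repWith_id _ T) (by rw [ha₂, Category.comp_id])
  have : P.RespectsIso := (inferInstance : IsZariskiLocalAtTarget P).toRespects
  refine (P.cancel_left_of_respectsIso sqA'.isoPullback.hom _).1 ?_
  change P (sqA'.isoPullback.hom ≫ pullback.snd ((Over.forget S).map e) ((Over.forget S).map j))
  rw [sqA'.isoPullback_hom_snd]
  exact hq

/-! ### Finite type -/

theorem isQuasiCompactMor_of_isPullback {X' Y' : Sp S} {f : X ⟶ Y} {g : Y' ⟶ Y} {fst : X' ⟶ X}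
    {f' : X' ⟶ Y'} (sq : IsPullback fst f' f g) (h : IsQuasiCompactMor f) : IsQuasiCompactMor f' :=
  fun _ _ hT hTc x a b sq' => h hT hTc (x ≫ g) (a ≫ fst) b (sq'.paste_horiz sq)

theorem repWith_etale_cover {V : Over S} {p : (yon S).obj V ⟶ Y} (hY : IsAlgSpace Y)
    (hp : RepWith @Etale p) (hps : RepWith @Surjective p) :
    IsEtaleMor p ∧ Function.Surjective (Points.map p) :=
  ⟨isEtaleMor_of_locP_etale hY (locP_of_repWith etLocal_etale hp), surjective_map_of_repWith le_rfl hps⟩

/-- Universally closed morphisms cancel along separated morphisms. -/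
theorem isUnivClosedMor_of_comp (hX : IsAlgSpace X) (hY : IsAlgSpace Y) (hZ : IsAlgSpace Z)
    {f : X ⟶ Y} {g : Y ⟶ Z} (h : IsUnivClosedMor (f ≫ g)) (hg : IsSeparatedMor g) :
    IsUnivClosedMor f := by
  obtain ⟨s, hs, sqs⟩ := exists_graph f g
  have hs' : RepWith @IsClosedImmersion s := repWith_of_isPullback sqs hg
  have hQ := isAlgSpace_pullback hZ.diag hX hY (f ≫ g) g
  rw [← hs]
  exact univSp_comp_of hQ hY
    ((repWith_universallyClosed_iff hs'.rep).1 (repWith_le (fun _ _ i (_ : IsClosedImmersion i) =>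
      inferInstanceAs (UniversallyClosed i)) hs'))
    (univSp_of_isPullback (IsPullback.of_hasPullback (f ≫ g) g) h)

theorem isFiniteTypeMor_of_comp (hX : IsAlgSpace X) (hY : IsAlgSpace Y) (hZ : IsAlgSpace Z)
    {f : X ⟶ Y} {g : Y ⟶ Z} (h : IsFiniteTypeMor (f ≫ g)) (hg : IsQuasiSeparatedMor g) :
    IsFiniteTypeMor f :=
  ⟨locP_of_comp etLocal_lft (fun _ _ _ a b (_ : LocallyOfFiniteType (a ≫ b)) =>
      locallyOfFiniteType_of_comp a b) hZ h.1, isQuasiCompactMor_of_comp hX hY hZ h.2 hg⟩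

theorem isQuasiSeparatedMor_of_isSeparatedMor {f : X ⟶ Y} (h : IsSeparatedMor f) :
    IsQuasiSeparatedMor f :=
  repWith_le (fun _ _ i (_ : IsClosedImmersion i) => inferInstanceAs (QuasiCompact i)) h

/-! ### Proper morphisms -/

theorem isProperMor_of_isPullback {X' Y' : Sp S} (hX : IsAlgSpace X) (hY : IsAlgSpace Y)
    (hY' : IsAlgSpace Y') {f : X ⟶ Y} {g : Y' ⟶ Y} {fst : X' ⟶ X}
    {f' : X' ⟶ Y'} (sq : IsPullback fst f' f g) (h : IsProperMor f) : IsProperMor f' :=
  ⟨isSeparatedMor_of_isPullback sq h.1,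
    ⟨locP_of_isPullback etLocal_lft sq hX hY hY' h.2.1.1, isQuasiCompactMor_of_isPullback sq h.2.1.2⟩,
    univSp_of_isPullback sq h.2.2⟩

theorem isProperMor_comp (hX : IsAlgSpace X) (hY : IsAlgSpace Y) (hZ : IsAlgSpace Z) {f : X ⟶ Y}
    {g : Y ⟶ Z} (hf : IsProperMor f) (hg : IsProperMor g) : IsProperMor (f ≫ g) :=
  ⟨isSeparatedMor_comp hf.1 hg.1,
    ⟨locP_comp etLocal_lft hX hY hZ hf.2.1.1 hg.2.1.1, isQuasiCompactMor_comp hY hZ hf.2.1.2 hg.2.1.2⟩,
    univSp_comp_of hY hZ hf.2.2 hg.2.2⟩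

theorem isProperMor_of_isClosedImmersion (hY : IsAlgSpace Y) {i : X ⟶ Y}
    (hi : RepWith @IsClosedImmersion i) : IsProperMor i := by
  have : Mono i := mono_of_repWith (fun _ _ j (_ : IsClosedImmersion j) => inferInstanceAs (Mono j)) hi
  have hX := isAlgSpace_of_representable i hi.rep hY
  exact ⟨isSeparatedMor_of_mono i,
    ⟨locP_of_repWith etLocal_lft
      (repWith_le (fun _ _ j (_ : IsClosedImmersion j) => inferInstanceAs (LocallyOfFiniteType j)) hi),
    isQuasiCompactMor_of_repWith hX hY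
      (repWith_le (fun _ _ j (_ : IsClosedImmersion j) => inferInstanceAs (QuasiCompact j)) hi)⟩,
    (repWith_universallyClosed_iff hi.rep).1
      (repWith_le (fun _ _ j (_ : IsClosedImmersion j) => inferInstanceAs (UniversallyClosed j)) hi)⟩

theorem isProperMor_iff_affine (hX : IsAlgSpace X) (hY : IsAlgSpace Y) (f : X ⟶ Y) :
    IsProperMor f ↔ ∀ (T : Over S), IsAffine T.left → ∀ (g : (yon S).obj T ⟶ Y) (P : Sp S)
        (fst : P ⟶ X) (snd : P ⟶ (yon S).obj T), IsPullback fst snd f g → IsProperMor snd := by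
  refine ⟨fun h T _ g P fst snd sq => isProperMor_of_isPullback hX hY (IsAlgSpace.yon_obj T) sq h,
    fun h => ?_⟩
  have H := fun T hT g => h T hT g _ _ _ (IsPullback.of_hasPullback f g)
  refine ⟨repWith_diagonal_of_affine hX f fun T hT g => (H T hT g).1,
    ⟨locP_of_affine fun T hT g => (H T hT g).2.1.1, isQuasiCompactMor_of_affine hX hY ?_⟩, ?_⟩
  · intro T hT g
    exact (H T hT g).2.1.2 (IsAlgSpace.yon_obj T) (isQuasiCompactSp_yon_iff.2 inferInstance) (𝟙 _) (𝟙 _)
      (pullback.snd f g) (IsPullback.of_horiz_isIso ⟨by simp⟩)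
  · exact (isUnivClosedMor_iff_affine f).2 fun T hT g P fst snd sq =>
      (h T hT g P fst snd sq).2.2 (IsAlgSpace.yon_obj T) (𝟙 _) (𝟙 _) _
        (IsPullback.of_horiz_isIso ⟨by simp⟩)

theorem isProperMor_of_cover (hX : IsAlgSpace X) (hY : IsAlgSpace Y) {V : Over S}
    {p : (yon S).obj V ⟶ Y} (hp : RepWith @Etale p) (hps : RepWith @Surjective p) {f : X ⟶ Y}
    {P : Sp S} {fst : P ⟶ X} {snd : P ⟶ (yon S).obj V} (sq : IsPullback fst snd f p)
    (h : IsProperMor snd) : IsProperMor f :=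
  ⟨repWith_diagonal_of_cover hX hp hps sq h.1,
    ⟨locP_of_target_cover etLocal_lft hX hY hp hps sq h.2.1.1,
      isQuasiCompactMor_of_etale_cover hX hY (IsAlgSpace.yon_obj V) sq (repWith_etale_cover hY hp hps).1
        (repWith_etale_cover hY hp hps).2 h.2.1.2⟩,
    isUnivClosedMor_of_cover hY (IsAlgSpace.yon_obj V) hp hps sq h.2.2⟩

theorem isProperMor_of_comp (hX : IsAlgSpace X) (hY : IsAlgSpace Y) (hZ : IsAlgSpace Z)
    {f : X ⟶ Y} {g : Y ⟶ Z} (h : IsProperMor (f ≫ g)) (hg : IsSeparatedMor g) : IsProperMor f :=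
  ⟨isSeparatedMor_of_comp h.1,
    isFiniteTypeMor_of_comp hX hY hZ h.2.1 (isQuasiSeparatedMor_of_isSeparatedMor hg),
    isUnivClosedMor_of_comp hX hY hZ h.2.2 hg⟩

theorem isClosed_range_of_isUnivClosedMor (hY : IsAlgSpace Y) {f : X ⟶ Y} (h : IsUnivClosedMor f) :
    IsClosed (Set.range (Points.map f)) :=
  IsClosedMap.isClosed_range (h hY (𝟙 _) (𝟙 _) f (IsPullback.of_horiz_isIso ⟨by simp⟩))

/-- A morphism is separated iff its diagonal is universally closed, iff its diagonal is proper. -/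
theorem isSeparatedMor_iff (hX : IsAlgSpace X) (hY : IsAlgSpace Y) (f : X ⟶ Y) :
    (IsSeparatedMor f ↔ IsUnivClosedMor (pullback.diagonal f)) ∧
      (IsSeparatedMor f ↔ IsProperMor (pullback.diagonal f)) := by
  have hP := isAlgSpace_pullback hY.diag hX hX f f
  have back : IsUnivClosedMor (pullback.diagonal f) → IsSeparatedMor f := fun h => by
    have hc : RepWith @UniversallyClosed (pullback.diagonal f) :=
      (repWith_universallyClosed_iff (representable_diagonal f hX.diag)).2 h
    have hl : RepWith @LocallyOfFiniteType (pullback.diagonal f) :=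
      repWith_diagonal f (repWith_lft_diag hX)
    have hm : RepWith (MorphismProperty.monomorphisms Scheme.{u}) (pullback.diagonal f) :=
      repWith_diagonal f (repWith_mono_diag hX)
    refine repWith_le ?_ (repWith_inf_iff.2 ⟨hc, repWith_inf_iff.2 ⟨hl, hm⟩⟩)
    rintro A B i ⟨(_ : UniversallyClosed i), (_ : LocallyOfFiniteType i), (_ : Mono i)⟩
    have : IsProper i := {}
    exact (IsClosedImmersion.iff_isProper_and_mono i).2 ⟨this, ‹Mono i›⟩
  refine ⟨⟨fun h => (isProperMor_of_isClosedImmersion hP h).2.2, back⟩,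
    ⟨fun h => isProperMor_of_isClosedImmersion hP h, fun h => back h.2.2⟩⟩

end Groth.Agent.H12AlgSp
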