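import Groth.Agent.H12AlgSp.QC
import Groth.Agent.H12AlgSp.LocP
import Groth.Prelude.Def_SGA1
import Groth.Prelude.Def_Flat

/-!
Universally open, closed, submersive morphisms and universal homeomorphisms of algebraic spaces.
-/

set_option linter.unusedVariables false

universe u

open CategoryTheory CategoryTheory.Limits AlgebraicGeometry Opposite Topology
open AlgSp

namespace Groth.Agent.H12AlgSp

variable {S : Scheme.{u}} {F G H : Sp S}

/-- An isomorphism of sheaves gives a homeomorphism of points. -/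
noncomputable def pointsHomeo (e : F ≅ G) : Points F ≃ₜ Points G where
  toFun := Points.map e.hom
  invFun := Points.map e.inv
  left_inv x := by rw [← Points.map_comp, e.hom_inv_id, Points.map_id]
  right_inv x := by rw [← Points.map_comp, e.inv_hom_id, Points.map_id]
  continuous_toFun := Points.continuous_map _
  continuous_invFun := Points.continuous_map _

theorem map_iso_comp {F' : Sp S} (e : F' ≅ F) (f : F ⟶ G) :
    Points.map (e.hom ≫ f) = Points.map f ∘ pointsHomeo e :=
  funext fun x => Points.map_comp _ _ x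

/-- An algebraic space is covered by affine schemes with open maps on points. -/
theorem exists_affine_family {Z : Sp S} (hZ : IsAlgSpace Z) :
    ∃ (ι : Type u) (T : ι → Over S) (a : ∀ i, (yon S).obj (T i) ⟶ Z), (∀ i, IsAffine (T i).left) ∧
      (∀ i, RepWith @Etale (a i)) ∧ (∀ i, IsOpenMap (Points.map (a i))) ∧
      ∀ z : Points Z, ∃ i, z ∈ Set.range (Points.map (a i)) := by
  obtain ⟨U, p, hp, hps⟩ := hZ.atlas
  let T : U.left.affineOpens → Over S := fun i => Over.mk (i.1.ι ≫ U.hom)
  let j : ∀ i, T i ⟶ U := fun i => Over.homMk i.1.ι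
  have ha : ∀ i, RepWith @Etale ((yon S).map (j i) ≫ p) := fun i =>
    repWith_comp ((repWith_yon_map_iff _ _).2 (inferInstanceAs (Etale i.1.ι))) hp
  refine ⟨_, T, fun i => (yon S).map (j i) ≫ p, fun i => i.2, ha,
    fun i => isOpenMap_map_of_repWith etale_le_universallyOpen (ha i), fun z => ?_⟩
  obtain ⟨u, rfl⟩ := surjective_ofPt_of_repWith le_rfl hps z
  obtain ⟨O, hO, hu, -⟩ := TopologicalSpace.Opens.isBasis_iff_nbhd.mp U.left.isBasis_affineOpens
    (TopologicalSpace.Opens.mem_top u)
  refine ⟨⟨O, hO⟩, ?_⟩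
  rw [range_map_yon]
  exact ⟨(⟨u, hu⟩ : O), ofPt_map (j ⟨O, hO⟩) p _⟩

section family

variable {Z : Sp S} {ι : Type*} {T : ι → Sp S} {a : ∀ i, T i ⟶ Z}

theorem isOpen_iff_family (ho : ∀ i, IsOpenMap (Points.map (a i)))
    (hc : ∀ z : Points Z, ∃ i, z ∈ Set.range (Points.map (a i))) {W : Set (Points Z)} :
    IsOpen W ↔ ∀ i, IsOpen (Points.map (a i) ⁻¹' W) := by
  refine ⟨fun h i => h.preimage (Points.continuous_map _), fun h => ?_⟩
  have : W = ⋃ i, Points.map (a i) '' (Points.map (a i) ⁻¹' W) := by
    ext z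
    simp only [Set.mem_iUnion, Set.mem_image, Set.mem_preimage]
    constructor
    · intro hz
      obtain ⟨i, t, rfl⟩ := hc z
      exact ⟨i, t, hz, rfl⟩
    · rintro ⟨i, t, ht, rfl⟩; exact ht
  rw [this]
  exact isOpen_iUnion fun i => ho i _ (h i)

theorem isClosed_iff_family (ho : ∀ i, IsOpenMap (Points.map (a i)))
    (hc : ∀ z : Points Z, ∃ i, z ∈ Set.range (Points.map (a i))) {W : Set (Points Z)} :
    IsClosed W ↔ ∀ i, IsClosed (Points.map (a i) ⁻¹' W) := by
  simp only [← isOpen_compl_iff, ← Set.preimage_compl]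
  exact isOpen_iff_family ho hc

variable (f : F ⟶ Z) (ho : ∀ i, IsOpenMap (Points.map (a i)))
  (hc : ∀ z : Points Z, ∃ i, z ∈ Set.range (Points.map (a i)))

include ho hc

theorem isOpenMap_of_family (h : ∀ i, IsOpenMap (Points.map (pullback.snd f (a i)))) :
    IsOpenMap (Points.map f) := by
  intro W hW
  rw [isOpen_iff_family ho hc]
  intro i
  rw [image_eq_preimage_image_of_isPullback (IsPullback.of_hasPullback f (a i))]
  exact h i _ (hW.preimage (Points.continuous_map _))

theorem isClosedMap_of_family (h : ∀ i, IsClosedMap (Points.map (pullback.snd f (a i)))) :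
    IsClosedMap (Points.map f) := by
  intro W hW
  rw [isClosed_iff_family ho hc]
  intro i
  rw [image_eq_preimage_image_of_isPullback (IsPullback.of_hasPullback f (a i))]
  exact h i _ (hW.preimage (Points.continuous_map _))

theorem surjective_of_family (h : ∀ i, Function.Surjective (Points.map (pullback.snd f (a i)))) :
    Function.Surjective (Points.map f) := by
  intro z
  obtain ⟨i, t, rfl⟩ := hc z
  obtain ⟨p, rfl⟩ := h i t
  exact ⟨Points.map (pullback.fst f (a i)) p, by rw [← Points.map_comp, ← Points.map_comp, pullback.condition]⟩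

theorem isQuotientMap_of_family (h : ∀ i, IsQuotientMap (Points.map (pullback.snd f (a i)))) :
    IsQuotientMap (Points.map f) := by
  refine ⟨isCoinducing_iff.2 fun W => ⟨fun hW => ?_, fun hW => hW.preimage (Points.continuous_map _)⟩,
    surjective_of_family f ho hc fun i => (h i).surjective⟩
  rw [isOpen_iff_family ho hc]
  intro i
  rw [← (h i).isOpen_preimage]
  have e : Points.map (pullback.snd f (a i)) ⁻¹' (Points.map (a i) ⁻¹' W) =
      Points.map (pullback.fst f (a i)) ⁻¹' (Points.map f ⁻¹' W) := by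
    ext x
    simp only [Set.mem_preimage, ← Points.map_comp, pullback.condition]
  rw [e]
  exact hW.preimage (Points.continuous_map _)

theorem isHomeomorph_of_family (h : ∀ i, IsHomeomorph (Points.map (pullback.snd f (a i)))) :
    IsHomeomorph (Points.map f) := by
  refine ⟨Points.continuous_map _, isOpenMap_of_family f ho hc fun i => (h i).isOpenMap, ?_,
    surjective_of_family f ho hc fun i => (h i).bijective.2⟩
  intro x y e
  obtain ⟨i, t, ht⟩ := hc (Points.map f x)
  obtain ⟨p, hp, hp'⟩ := exists_point_of_isPullback (IsPullback.of_hasPullback f (a i)) x t ht.symm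
  obtain ⟨q, hq, hq'⟩ := exists_point_of_isPullback (IsPullback.of_hasPullback f (a i)) y t
    (e.symm.trans ht.symm)
  rw [← hp, ← hq, (h i).bijective.1 (hp'.trans hq'.symm)]

end family

section translate

variable {T T' : Over S} (φ : T ⟶ T')

theorem isOpenMap_yon_iff : IsOpenMap (Points.map ((yon S).map φ)) ↔ IsOpenMap φ.left := by
  constructor
  · intro h
    have := ((Points.schemeHomeo T').symm.isOpenMap.comp h).comp (Points.schemeHomeo T).isOpenMap
    convert this using 1
    funext t
    simp [Points.map_yon_map_apply]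
  · intro h
    rw [Points.map_yon_map_eq]
    exact (Points.schemeHomeo T').isOpenMap.comp (h.comp (Points.schemeHomeo T).symm.isOpenMap)

theorem isClosedMap_yon_iff : IsClosedMap (Points.map ((yon S).map φ)) ↔ IsClosedMap φ.left := by
  constructor
  · intro h
    have := ((Points.schemeHomeo T').symm.isClosedMap.comp h).comp (Points.schemeHomeo T).isClosedMap
    convert this using 1
    funext t
    simp [Points.map_yon_map_apply]
  · intro h
    rw [Points.map_yon_map_eq]
    exact (Points.schemeHomeo T').isClosedMap.comp (h.comp (Points.schemeHomeo T).symm.isClosedMap)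

theorem isQuotientMap_yon_iff :
    IsQuotientMap (Points.map ((yon S).map φ)) ↔ IsQuotientMap φ.left := by
  constructor
  · intro h
    have := ((Points.schemeHomeo T').symm.isQuotientMap.comp h).comp (Points.schemeHomeo T).isQuotientMap
    convert this using 1
    funext t
    simp [Points.map_yon_map_apply]
  · intro h
    rw [Points.map_yon_map_eq]
    exact (Points.schemeHomeo T').isQuotientMap.comp (h.comp (Points.schemeHomeo T).symm.isQuotientMap)

theorem isHomeomorph_yon_iff :
    IsHomeomorph (Points.map ((yon S).map φ)) ↔ IsHomeomorph φ.left := by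
  constructor
  · intro h
    have := ((Points.schemeHomeo T').symm.isHomeomorph.comp h).comp (Points.schemeHomeo T).isHomeomorph
    convert this using 1
    funext t
    simp [Points.map_yon_map_apply]
  · intro h
    rw [Points.map_yon_map_eq]
    exact (Points.schemeHomeo T').isHomeomorph.comp (h.comp (Points.schemeHomeo T).symm.isHomeomorph)

end translate

/-- Base change of a pullback square along a further map. -/
theorem exists_pullback_snd_iso {X Y Z P A : Sp S} {f : X ⟶ Y} {g : Z ⟶ Y} {fst : P ⟶ X} {snd : P ⟶ Z}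
    (sq : IsPullback fst snd f g) (a : A ⟶ Z) :
    ∃ e : pullback snd a ≅ pullback f (a ≫ g), e.hom ≫ pullback.snd f (a ≫ g) = pullback.snd snd a :=
  ⟨((IsPullback.of_hasPullback snd a).paste_horiz sq).isoPullback,
    IsPullback.isoPullback_hom_snd _⟩

/-- A point property `Q` holds universally as soon as it holds over affine schemes, if it is local. -/
theorem univSp_of_affine {Q : MorphismProperty (Sp S)}
    (hiso : ∀ {A B C : Sp S} (e : A ≅ B) (f : B ⟶ C), Q f → Q (e.hom ≫ f))
    (hloc : ∀ {P Z : Sp S} (q : P ⟶ Z), IsAlgSpace Z →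
      (∀ (T : Over S), IsAffine T.left → ∀ (a : (yon S).obj T ⟶ Z), Q (pullback.snd q a)) → Q q)
    {X Y : Sp S} {f : X ⟶ Y}
    (h : ∀ (T : Over S), IsAffine T.left → ∀ (g : (yon S).obj T ⟶ Y), Q (pullback.snd f g)) :
    UnivSp Q f := by
  intro Z Z' hZ g fst snd sq
  refine hloc snd hZ fun T hT a => ?_
  obtain ⟨e, he⟩ := exists_pullback_snd_iso sq a
  rw [← he]
  exact hiso e _ (h T hT (a ≫ g))

theorem univSp_iff_affine {Q : MorphismProperty (Sp S)}
    (hiso : ∀ {A B C : Sp S} (e : A ≅ B) (f : B ⟶ C), Q f → Q (e.hom ≫ f))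
    (hloc : ∀ {P Z : Sp S} (q : P ⟶ Z), IsAlgSpace Z →
      (∀ (T : Over S), IsAffine T.left → ∀ (a : (yon S).obj T ⟶ Z), Q (pullback.snd q a)) → Q q)
    {X Y : Sp S} (f : X ⟶ Y) :
    UnivSp Q f ↔ ∀ (Z : Over S), IsAffine Z.left → ∀ (g : (yon S).obj Z ⟶ Y) (P : Sp S)
        (fst : P ⟶ X) (snd : P ⟶ (yon S).obj Z), IsPullback fst snd f g → Q snd :=
  ⟨fun h Z _ g P fst snd sq => h (IsAlgSpace.yon_obj Z) g fst snd sq,
    fun h => univSp_of_affine hiso hloc fun T hT g => h T hT g _ _ _ (IsPullback.of_hasPullback f g)⟩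

/-- For a representable morphism, "universally" in schemes and in algebraic spaces agree. -/
theorem repWith_universally_iff {Qs : MorphismProperty Scheme.{u}} {Q : MorphismProperty (Sp S)}
    (hc : ∀ {T T' : Over S} (φ : T ⟶ T'), Q ((yon S).map φ) ↔ Qs φ.left)
    (hiso : ∀ {A B C : Sp S} (e : A ≅ B) (f : B ⟶ C), Q f → Q (e.hom ≫ f))
    (hloc : ∀ {P Z : Sp S} (q : P ⟶ Z), IsAlgSpace Z →
      (∀ (T : Over S), IsAffine T.left → ∀ (a : (yon S).obj T ⟶ Z), Q (pullback.snd q a)) → Q q)
    [Qs.universally.IsStableUnderBaseChange]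
    {X Y : Sp S} {f : X ⟶ Y} (hf : Representable f) :
    RepWith Qs.universally f ↔ UnivSp Q f := by
  constructor
  · intro h
    refine univSp_of_affine hiso hloc fun T hT g => ?_
    have h1 : Qs.universally (h.rep.snd g).left := h.property_snd g
    have h2 : Qs (h.rep.snd g).left := MorphismProperty.universally_le Qs _ h1
    have e := (h.rep.isPullback g).isoPullback_hom_snd
    have h3 := hiso (h.rep.isPullback g).isoPullback.symm _ ((hc (h.rep.snd g)).2 h2)
    rw [Iso.symm_hom] at h3
    rwa [show (h.rep.isPullback g).isoPullback.inv ≫ (yon S).map (h.rep.snd g) = pullback.snd f g from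
      (Iso.inv_comp_eq _).2 e.symm] at h3
  · intro h
    refine repWith_of_snd hf fun T g => ?_
    intro A B i₁ i₂ q sqA
    let B' : Over S := Over.mk (i₂ ≫ T.hom)
    let A' : Over S := Over.mk (i₁ ≫ (hf.pullback g).hom)
    let j : B' ⟶ T := Over.homMk i₂
    let q' : A' ⟶ B' := Over.homMk q (by
      change q ≫ i₂ ≫ T.hom = i₁ ≫ (hf.pullback g).hom
      rw [← Over.w (hf.snd g), ← Category.assoc i₁]
      exact sqA.w =≫ T.hom)
    let k : A' ⟶ hf.pullback g := Over.homMk i₁
    have sqO : IsPullback k q' (hf.snd g) j :=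
      IsPullback.of_map (Over.forget S) (Over.OverMorphism.ext sqA.w.symm) sqA.flip
    have big := (sqO.map (yon S)).paste_horiz (hf.isPullback g)
    exact (hc q').1 (h (IsAlgSpace.yon_obj B') _ _ _ big)

theorem isOpenMap_local {P Z : Sp S} (q : P ⟶ Z) (hZ : IsAlgSpace Z)
    (h : ∀ (T : Over S), IsAffine T.left → ∀ (a : (yon S).obj T ⟶ Z),
      IsOpenMap (Points.map (pullback.snd q a))) : IsOpenMap (Points.map q) := by
  obtain ⟨ι, T, a, hT, -, ho, hc⟩ := exists_affine_family hZ
  exact isOpenMap_of_family q ho hc fun i => h _ (hT i) _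

theorem isClosedMap_local {P Z : Sp S} (q : P ⟶ Z) (hZ : IsAlgSpace Z)
    (h : ∀ (T : Over S), IsAffine T.left → ∀ (a : (yon S).obj T ⟶ Z),
      IsClosedMap (Points.map (pullback.snd q a))) : IsClosedMap (Points.map q) := by
  obtain ⟨ι, T, a, hT, -, ho, hc⟩ := exists_affine_family hZ
  exact isClosedMap_of_family q ho hc fun i => h _ (hT i) _

theorem isQuotientMap_local {P Z : Sp S} (q : P ⟶ Z) (hZ : IsAlgSpace Z)
    (h : ∀ (T : Over S), IsAffine T.left → ∀ (a : (yon S).obj T ⟶ Z),
      IsQuotientMap (Points.map (pullback.snd q a))) : IsQuotientMap (Points.map q) := by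
  obtain ⟨ι, T, a, hT, -, ho, hc⟩ := exists_affine_family hZ
  exact isQuotientMap_of_family q ho hc fun i => h _ (hT i) _

theorem isHomeomorph_local {P Z : Sp S} (q : P ⟶ Z) (hZ : IsAlgSpace Z)
    (h : ∀ (T : Over S), IsAffine T.left → ∀ (a : (yon S).obj T ⟶ Z),
      IsHomeomorph (Points.map (pullback.snd q a))) : IsHomeomorph (Points.map q) := by
  obtain ⟨ι, T, a, hT, -, ho, hc⟩ := exists_affine_family hZ
  exact isHomeomorph_of_family q ho hc fun i => h _ (hT i) _

theorem isOpenMap_iso_comp {A B C : Sp S} (e : A ≅ B) (f : B ⟶ C) (h : IsOpenMap (Points.map f)) :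
    IsOpenMap (Points.map (e.hom ≫ f)) := by
  rw [map_iso_comp]; exact h.comp (pointsHomeo e).isOpenMap

theorem isClosedMap_iso_comp {A B C : Sp S} (e : A ≅ B) (f : B ⟶ C) (h : IsClosedMap (Points.map f)) :
    IsClosedMap (Points.map (e.hom ≫ f)) := by
  rw [map_iso_comp]; exact h.comp (pointsHomeo e).isClosedMap

theorem isQuotientMap_iso_comp {A B C : Sp S} (e : A ≅ B) (f : B ⟶ C)
    (h : IsQuotientMap (Points.map f)) : IsQuotientMap (Points.map (e.hom ≫ f)) := by
  rw [map_iso_comp]; exact h.comp (pointsHomeo e).isQuotientMap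

theorem isHomeomorph_iso_comp {A B C : Sp S} (e : A ≅ B) (f : B ⟶ C)
    (h : IsHomeomorph (Points.map f)) : IsHomeomorph (Points.map (e.hom ≫ f)) := by
  rw [map_iso_comp]; exact h.comp (pointsHomeo e).isHomeomorph

variable {X Y : Sp S}

theorem repWith_universallyOpen_iff {f : X ⟶ Y} (hf : Representable f) :
    RepWith @UniversallyOpen f ↔ IsUnivOpenMor f := by
  rw [UniversallyOpen.eq]
  exact repWith_universally_iff (Qs := topologically @IsOpenMap) (Q := IsOpenMor)
    (fun φ => isOpenMap_yon_iff φ) isOpenMap_iso_comp isOpenMap_local hf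

theorem repWith_universallyClosed_iff {f : X ⟶ Y} (hf : Representable f) :
    RepWith @UniversallyClosed f ↔ IsUnivClosedMor f := by
  rw [universallyClosed_eq]
  exact repWith_universally_iff (Qs := topologically @IsClosedMap) (Q := IsClosedMor)
    (fun φ => isClosedMap_yon_iff φ) isClosedMap_iso_comp isClosedMap_local hf

theorem repWith_univSubmersive_iff {f : X ⟶ Y} (hf : Representable f) :
    RepWith SGA1.UnivSubmersive f ↔ IsUnivSubmersiveMor f :=
  repWith_universally_iff (Qs := topologically fun f => Topology.IsQuotientMap f) (Q := IsSubmersiveMor)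
    (fun φ => isQuotientMap_yon_iff φ) isQuotientMap_iso_comp isQuotientMap_local hf

theorem repWith_univHomeo_iff {f : X ⟶ Y} (hf : Representable f) :
    RepWith FlatMor.IsUnivHomeo f ↔ IsUnivHomeoMor f :=
  repWith_universally_iff (Qs := topologically fun f => IsHomeomorph f)
    (Q := fun _ _ f => IsHomeomorph (Points.map f))
    (fun φ => isHomeomorph_yon_iff φ) isHomeomorph_iso_comp isHomeomorph_local hf

theorem isUnivOpenMor_iff_affine (f : X ⟶ Y) :
    IsUnivOpenMor f ↔ ∀ (Z : Over S), IsAffine Z.left → ∀ (g : (yon S).obj Z ⟶ Y) (P : Sp S)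
        (fst : P ⟶ X) (snd : P ⟶ (yon S).obj Z), IsPullback fst snd f g → IsOpenMap (Points.map snd) :=
  univSp_iff_affine (Q := IsOpenMor) isOpenMap_iso_comp isOpenMap_local f

theorem isUnivClosedMor_iff_affine (f : X ⟶ Y) :
    IsUnivClosedMor f ↔ ∀ (Z : Over S), IsAffine Z.left → ∀ (g : (yon S).obj Z ⟶ Y) (P : Sp S)
        (fst : P ⟶ X) (snd : P ⟶ (yon S).obj Z), IsPullback fst snd f g → IsClosedMap (Points.map snd) :=
  univSp_iff_affine (Q := IsClosedMor) isClosedMap_iso_comp isClosedMap_local f

/-- The base change of a chart of the target to any algebraic space. -/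
theorem cover_openMap {V Z : Sp S} {p : V ⟶ Y} (hp : RepWith @Etale p)
    (hps : RepWith @Surjective p) (g : Z ⟶ Y) :
    IsOpenMap (Points.map (pullback.snd p g)) ∧ Function.Surjective (Points.map (pullback.snd p g)) :=
  ⟨isOpenMap_map_of_repWith etale_le_universallyOpen
      (repWith_of_isPullback (IsPullback.of_hasPullback p g) hp),
    surjective_map_of_repWith le_rfl (repWith_of_isPullback (IsPullback.of_hasPullback p g) hps)⟩

theorem univSp_of_cover {Q : MorphismProperty (Sp S)}
    (hiso : ∀ {A B C : Sp S} (e : A ≅ B) (f : B ⟶ C), Q f → Q (e.hom ≫ f))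
    (hloc : ∀ {P Z T : Sp S} (q : P ⟶ Z) (a : T ⟶ Z), IsOpenMap (Points.map a) →
      Function.Surjective (Points.map a) → Q (pullback.snd q a) → Q q)
    (hY : IsAlgSpace Y) {V P : Sp S} (hV : IsAlgSpace V) {p : V ⟶ Y} (hp : RepWith @Etale p)
    (hps : RepWith @Surjective p) {f : X ⟶ Y} {fst : P ⟶ X} {snd : P ⟶ V}
    (sq : IsPullback fst snd f p) (h : UnivSp Q snd) : UnivSp Q f := by
  intro Z Z' hZ g fstZ sndZ sqZ
  refine hloc sndZ _ (cover_openMap hp hps g).1 (cover_openMap hp hps g).2 ?_
  obtain ⟨e, he⟩ := exists_pullback_snd_iso sqZ (pullback.snd p g)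
  rw [← he]
  refine hiso e _ ?_
  obtain ⟨k, hk₁, hk₂⟩ := sq.exists_lift (pullback.fst f (pullback.snd p g ≫ g))
    (pullback.snd f (pullback.snd p g ≫ g) ≫ pullback.fst p g)
    (by rw [pullback.condition, Category.assoc, pullback.condition])
  refine h (isAlgSpace_pullback hY.diag hV hZ p g) (pullback.fst p g) k _ ?_
  refine IsPullback.of_right ?_ hk₂ sq
  rw [hk₁, pullback.condition]
  exact IsPullback.of_hasPullback _ _

theorem isUnivOpenMor_of_cover (hY : IsAlgSpace Y) {V P : Sp S} (hV : IsAlgSpace V) {p : V ⟶ Y}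
    (hp : RepWith @Etale p) (hps : RepWith @Surjective p) {f : X ⟶ Y} {fst : P ⟶ X} {snd : P ⟶ V}
    (sq : IsPullback fst snd f p) (h : IsUnivOpenMor snd) : IsUnivOpenMor f :=
  univSp_of_cover (Q := IsOpenMor) isOpenMap_iso_comp
    (fun q a ho hs hq => isOpenMap_of_family (ι := Unit) (a := fun _ => a) q (fun _ => ho)
      (fun z => ⟨(), hs z⟩) fun _ => hq) hY hV hp hps sq h

theorem isUnivClosedMor_of_cover (hY : IsAlgSpace Y) {V P : Sp S} (hV : IsAlgSpace V) {p : V ⟶ Y}
    (hp : RepWith @Etale p) (hps : RepWith @Surjective p) {f : X ⟶ Y} {fst : P ⟶ X} {snd : P ⟶ V}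
    (sq : IsPullback fst snd f p) (h : IsUnivClosedMor snd) : IsUnivClosedMor f :=
  univSp_of_cover (Q := IsClosedMor) isClosedMap_iso_comp
    (fun q a ho hs hq => isClosedMap_of_family (ι := Unit) (a := fun _ => a) q (fun _ => ho)
      (fun z => ⟨(), hs z⟩) fun _ => hq) hY hV hp hps sq h

/-- Flat, locally finitely presented morphisms are universally open. -/
theorem isUnivOpenMor_of_flat_lfp (hX : IsAlgSpace X) (hY : IsAlgSpace Y) {f : X ⟶ Y}
    (hfl : LocP @Flat f) (hfp : LocP @LocallyOfFinitePresentation f) : IsUnivOpenMor f := by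
  intro Z Z' hZ g fst snd sq
  have hfl' := locP_of_isPullback etLocal_flat sq hX hY hZ hfl
  have hfp' := locP_of_isPullback etLocal_lfp sq hX hY hZ hfp
  obtain ⟨U, V, a, b, h, ha, has, hb, -, w⟩ :=
    exists_chart (isAlgSpace_of_isPullback hY.diag hX hZ sq) hZ snd
  have : Flat h.left := hfl' a b h ha hb w
  have : LocallyOfFinitePresentation h.left := hfp' a b h ha hb w
  intro W hW
  rw [← Set.image_preimage_eq W (surjective_map_of_repWith le_rfl has), Set.image_image]
  simp only [← Points.map_comp, w]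
  simp only [Points.map_comp]
  rw [← Set.image_image (g := Points.map b)]
  exact isOpenMap_map_of_repWith etale_le_universallyOpen hb _
    ((isOpenMap_yon_iff h).2 h.left.isOpenMap _ (hW.preimage (Points.continuous_map _)))

/-- A surjective source can be forgotten. -/
theorem isUnivClosedMor_of_surjective {B : Sp S} {f : X ⟶ Y} {q : Y ⟶ B}
    (hp : IsUnivClosedMor (f ≫ q)) (hf : Function.Surjective (Points.map f)) : IsUnivClosedMor q := by
  intro Z Y' hZ g fst snd sq
  have sq' : IsPullback (pullback.fst f fst) (pullback.snd f fst ≫ snd) (f ≫ q) g :=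
    (IsPullback.of_hasPullback f fst).paste_vert sq
  have hs : Function.Surjective (Points.map (pullback.snd f fst)) := by
    intro y
    obtain ⟨x, hx⟩ := hf (Points.map fst y)
    obtain ⟨w, -, hw⟩ := exists_point_of_isPullback (IsPullback.of_hasPullback f fst) x y hx
    exact ⟨w, hw⟩
  have hcl : IsClosedMap (Points.map (pullback.snd f fst ≫ snd)) := hp hZ g _ _ sq'
  intro W hW
  have e : Points.map snd '' W =
      Points.map (pullback.snd f fst ≫ snd) '' (Points.map (pullback.snd f fst) ⁻¹' W) := by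
    conv_lhs => rw [← Set.image_preimage_eq W hs, Set.image_image]
    exact Set.image_congr' fun x => (Points.map_comp _ _ x).symm
  rw [e]
  exact hcl _ (hW.preimage (Points.continuous_map _))

theorem univSp_comp_of {Q : MorphismProperty (Sp S)} [Q.IsStableUnderComposition] {Z : Sp S}
    (hY : IsAlgSpace Y) (hZ : IsAlgSpace Z) {f : X ⟶ Y} {g : Y ⟶ Z} (hf : UnivSp Q f)
    (hg : UnivSp Q g) : UnivSp Q (f ≫ g) := by
  intro T T' hT x fst snd sq
  obtain ⟨k, hk₁, hk₂⟩ := (IsPullback.of_hasPullback g x).exists_lift (fst ≫ f) snd (by simpa using sq.w)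
  have sqf : IsPullback k fst (pullback.fst g x) f := by
    refine (IsPullback.of_bot ?_ hk₁.symm (IsPullback.of_hasPullback g x)).flip
    rwa [hk₂]
  rw [← hk₂]
  exact Q.comp_mem _ _ (hf (isAlgSpace_pullback hZ.diag hY hT g x) _ fst k sqf.flip)
    (hg hT x _ _ (IsPullback.of_hasPullback g x))

instance : (IsClosedMor (S := S)).IsStableUnderComposition where
  comp_mem f g hf hg := by
    have : Points.map (f ≫ g) = Points.map g ∘ Points.map f := funext fun x => Points.map_comp f g x
    change IsClosedMap _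
    rw [this]
    exact IsClosedMap.comp hg hf

theorem univSp_of_isPullback {Q : MorphismProperty (Sp S)} {X' Y' : Sp S} {f : X ⟶ Y} {g : Y' ⟶ Y}
    {fst : X' ⟶ X} {f' : X' ⟶ Y'} (sq : IsPullback fst f' f g) (hf : UnivSp Q f) : UnivSp Q f' :=
  fun _ _ hZ x a b sq' => hf hZ (x ≫ g) (a ≫ fst) b (sq'.paste_horiz sq)

end Groth.Agent.H12AlgSp
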