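import Groth.Agent.H13AlgSp.AffineLocal
import Groth.Agent.H12AlgSp.Proper
import Groth.Agent.H12AlgSp.LocPCancel
import Groth.Agent.H12AlgSp.Univ
import Groth.Prelude.Def_AlgSpCov

/-!
Affine, integral, finite and finite locally free morphisms: descent along etale covers and cancellation.
-/

set_option linter.unusedVariables false

universe u

open CategoryTheory CategoryTheory.Limits AlgebraicGeometry Opposite Topology
open AlgSp Groth.Agent.H13AlgSp

namespace Groth.Agent.H12AlgSp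

variable {S : Scheme.{u}} {X Y Z : Sp S}

theorem isFpqcCover_of_etale_family {ι : Type u} {Vi : ι → Sp S} {p : ∀ i, Vi i ⟶ Y}
    (hp : ∀ i, RepWith @Etale (p i)) (hs : ∀ y, ∃ i, y ∈ Set.range (Points.map (p i))) :
    IsFpqcCover Vi p := by
  refine ⟨fun i => locP_of_repWith etLocal_flat
    (repWith_le (fun _ _ k (_ : Etale k) => inferInstanceAs (Flat k)) (hp i)), fun Z hZ h => ?_⟩
  choose W w k sq using fun i => (hp i).rep h
  have hwe : ∀ i, Etale (w i).left := fun i => (hp i).property h (k i) (w i) (sq i)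
  let A := Σ i, (W i).left.affineOpens
  obtain ⟨t, ht⟩ := isCompact_univ.elim_finite_subcover
    (fun a : A => (w a.1).left '' (a.2.1 : Set (W a.1).left))
    (fun a => (w a.1).left.isOpenMap _ a.2.1.isOpen)
    (fun z _ => by
      obtain ⟨i, hi⟩ := hs (Points.ofPt h z)
      obtain ⟨x, rfl⟩ : z ∈ Set.range (w i).left := (preimage_ofPt_range (sq i)).le hi
      obtain ⟨B, hB⟩ := TopologicalSpace.Opens.mem_iSup.1
        ((iSup_affineOpens_eq_top (W i).left).ge (Set.mem_univ x))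
      exact Set.mem_iUnion.2 ⟨⟨i, B⟩, x, hB, rfl⟩)
  let incl : ∀ a : t, Over.mk (a.1.2.1.ι ≫ (W a.1.1).hom) ⟶ W a.1.1 := fun a => Over.homMk a.1.2.1.ι rfl
  refine ⟨t.card, fun j => Over.mk ((t.equivFin.symm j).1.2.1.ι ≫ (W (t.equivFin.symm j).1.1).hom),
    fun j => incl (t.equivFin.symm j) ≫ w (t.equivFin.symm j).1.1, fun j => (t.equivFin.symm j).1.2.2,
    fun j => ?_, fun z => ?_,
    fun j => ⟨(t.equivFin.symm j).1.1, (yon S).map (incl (t.equivFin.symm j)) ≫ k _, ?_⟩⟩
  · change Flat ((t.equivFin.symm j).1.2.1.ι ≫ (w (t.equivFin.symm j).1.1).left)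
    infer_instance
  · obtain ⟨a, ha, x, hx, rfl⟩ := Set.mem_iUnion₂.1 (ht (Set.mem_univ z))
    refine ⟨t.equivFin ⟨a, ha⟩, ?_⟩
    change (w a.1).left x ∈ Set.range
      ((incl (t.equivFin.symm (t.equivFin ⟨a, ha⟩))).left ≫ (w (t.equivFin.symm (t.equivFin ⟨a, ha⟩)).1.1).left)
    rw [Equiv.symm_apply_apply]
    exact ⟨⟨x, hx⟩, rfl⟩
  · rw [Category.assoc, (sq _).w, ← Category.assoc, ← Functor.map_comp]

theorem isFpqcCover_of_etale_surjective {V : Over S} {p : (yon S).obj V ⟶ Y} (hp : RepWith @Etale p)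
    (hps : RepWith @Surjective p) :
    IsFpqcCover (fun _ : PUnit.{u + 1} => (yon S).obj V) (fun _ => p) :=
  isFpqcCover_of_etale_family (fun _ => hp) fun y => ⟨⟨⟩, surjective_map_of_repWith le_rfl hps y⟩

theorem repWith_of_etale_cover {P : MorphismProperty Scheme.{u}} [P.IsStableUnderBaseChange]
    [IsZariskiLocalAtTarget P] [P.DescendsAlong Groth.Agent.H18Descent.fpqc.{u}] (hPaff : P ≤ @IsAffineHom)
    (hX : IsAlgSpace X) (hY : IsAlgSpace Y) {f : X ⟶ Y} {V : Over S} {p : (yon S).obj V ⟶ Y}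
    (hp : RepWith @Etale p) (hps : RepWith @Surjective p) {Q : Sp S} {fst : Q ⟶ X}
    {snd : Q ⟶ (yon S).obj V} (sq : IsPullback fst snd f p) (h : RepWith P snd) : RepWith P f :=
  repWith_of_fpqc hPaff hX hY (isFpqcCover_of_etale_surjective hp hps) (Fi := fun _ : PUnit.{u + 1} => Q)
    (p := fun _ => snd) (q := fun _ => fst) (fun _ => sq) fun _ => h

theorem repWith_finLocFree_iff {f : X ⟶ Y} :
    IsFinLocFreeMor f ↔ RepWith @IsFinite f ∧ RepWith @Flat f ∧ RepWith @LocallyOfFinitePresentation f := by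
  rw [IsFinLocFreeMor, finLocFree_eq, repWith_inf_iff, repWith_inf_iff, and_assoc]

theorem isFiniteMor_isIntegralMor {f : X ⟶ Y} (h : IsFiniteMor f) : IsIntegralMor f :=
  isIntegralMor_iff.2 (repWith_le (fun _ _ k (_ : IsFinite k) => inferInstanceAs (IsIntegralHom k))
    (isFiniteMor_iff.1 h))

theorem isFiniteMor_of_isIntegralMor (hY : IsAlgSpace Y) {f : X ⟶ Y} (h : IsIntegralMor f)
    (h' : LocP @LocallyOfFiniteType f) : IsFiniteMor f := by
  have h₁ := isIntegralMor_iff.1 h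
  refine isFiniteMor_iff.2 (repWith_le ?_ (repWith_inf_iff.2 ⟨h₁, repWith_of_locP etLocal_lft hY h₁.1 h'⟩))
  exact fun _ _ k hk => (IsFinite.iff_isIntegralHom_and_locallyOfFiniteType k).2 hk

theorem isIntegralMor_iff_affine_univClosed {f : X ⟶ Y} :
    IsIntegralMor f ↔ IsAffineMor f ∧ IsUnivClosedMor f := by
  rw [isIntegralMor_iff, isAffineMor_iff]
  constructor
  · intro h
    exact ⟨repWith_le (fun _ _ k (_ : IsIntegralHom k) => inferInstanceAs (IsAffineHom k)) h,
      (repWith_universallyClosed_iff h.1).1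
        (repWith_le (fun _ _ k (_ : IsIntegralHom k) => inferInstanceAs (UniversallyClosed k)) h)⟩
  · rintro ⟨h₁, h₂⟩
    refine repWith_le ?_ (repWith_inf_iff.2 ⟨(repWith_universallyClosed_iff h₁.1).2 h₂, h₁⟩)
    exact fun _ _ k hk => IsIntegralHom.iff_universallyClosed_and_isAffineHom.2 hk

theorem isSeparatedMor_of_repWith {f : X ⟶ Y} (h : RepWith @IsSeparated f) : IsSeparatedMor f := by
  rw [isSeparated_eq_diagonal] at h
  exact repWith_diagonal_of_diagonal h

theorem isFiniteMor_iff_affine_proper (hX : IsAlgSpace X) (hY : IsAlgSpace Y) {f : X ⟶ Y} :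
    IsFiniteMor f ↔ IsAffineMor f ∧ IsProperMor f := by
  constructor
  · intro h
    have h' := isFiniteMor_iff.1 h
    obtain ⟨ha, hu⟩ := isIntegralMor_iff_affine_univClosed.1 (isFiniteMor_isIntegralMor h)
    exact ⟨ha, isSeparatedMor_of_repWith
        (repWith_le (fun _ _ k (_ : IsFinite k) => inferInstanceAs (IsSeparated k)) h'),
      ⟨locP_of_repWith etLocal_lft
          (repWith_le (fun _ _ k (_ : IsFinite k) => inferInstanceAs (LocallyOfFiniteType k)) h'),
        isQuasiCompactMor_of_repWith hX hY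
          (repWith_le (fun _ _ k (_ : IsFinite k) => inferInstanceAs (QuasiCompact k)) h')⟩, hu⟩
  · rintro ⟨ha, -, hft, hu⟩
    exact isFiniteMor_of_isIntegralMor hY (isIntegralMor_iff_affine_univClosed.2 ⟨ha, hu⟩) hft.1

theorem repWith_of_comp_separated {P : MorphismProperty Scheme.{u}} [P.IsStableUnderBaseChange]
    [P.IsMultiplicative] (hP : (@IsClosedImmersion : MorphismProperty Scheme.{u}) ≤ P) {f : X ⟶ Y} {g : Y ⟶ Z}
    (hg : IsSeparatedMor g) (h : RepWith P (f ≫ g)) : RepWith P f :=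
  repWith_of_comp f g (repWith_le hP hg) h

theorem isFinLocFreeMor_of_etale_cover (hX : IsAlgSpace X) (hY : IsAlgSpace Y) {f : X ⟶ Y} {V : Over S}
    {p : (yon S).obj V ⟶ Y} (hp : RepWith @Etale p) (hps : RepWith @Surjective p) {Q : Sp S} {fst : Q ⟶ X}
    {snd : Q ⟶ (yon S).obj V} (sq : IsPullback fst snd f p) (h : IsFinLocFreeMor snd) : IsFinLocFreeMor f := by
  obtain ⟨h₁, h₂, h₃⟩ := repWith_finLocFree_iff.1 h
  have hf : RepWith @IsFinite f :=
    repWith_of_etale_cover (fun _ _ k (_ : IsFinite k) => inferInstanceAs (IsAffineHom k)) hX hY hp hps sq h₁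
  exact repWith_finLocFree_iff.2 ⟨hf,
    repWith_of_locP etLocal_flat hY hf.1 (locP_of_target_cover etLocal_flat hX hY hp hps sq
      (locP_of_repWith etLocal_flat h₂)),
    repWith_of_locP etLocal_lfp hY hf.1 (locP_of_target_cover etLocal_lfp hX hY hp hps sq
      (locP_of_repWith etLocal_lfp h₃))⟩

theorem isFinLocFreeMor_iff (hY : IsAlgSpace Y) {f : X ⟶ Y} :
    IsFinLocFreeMor f ↔ IsFiniteMor f ∧ LocP @Flat f ∧ LocP @LocallyOfFinitePresentation f := by
  rw [repWith_finLocFree_iff, isFiniteMor_iff]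
  exact ⟨fun ⟨a, b, c⟩ => ⟨a, locP_of_repWith etLocal_flat b, locP_of_repWith etLocal_lfp c⟩,
    fun ⟨a, b, c⟩ => ⟨a, repWith_of_locP etLocal_flat hY a.1 b, repWith_of_locP etLocal_lfp hY a.1 c⟩⟩

theorem isAffineMor_of_etale_affines (hX : IsAlgSpace X) (hY : IsAlgSpace Y) {f : X ⟶ Y}
    (h : ∀ (V : Over S), IsAffine V.left → ∀ (b : (yon S).obj V ⟶ Y), RepWith @Etale b →
      ∀ (P : Sp S) (fst : P ⟶ X) (snd : P ⟶ (yon S).obj V), IsPullback fst snd f b →
      ∃ (W : Over S), IsAffine W.left ∧ Nonempty ((yon S).obj W ≅ P)) : IsAffineMor f := by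
  obtain ⟨ι, T, a, hT, hae, -, hac⟩ := exists_affine_family hY
  refine isAffineMor_iff.2 (repWith_of_fpqc (fun _ _ k hk => hk) hX hY (isFpqcCover_of_etale_family hae hac)
    (Fi := fun i => pullback f (a i)) (q := fun i => pullback.fst f (a i))
    (p := fun i => pullback.snd f (a i)) (fun i => IsPullback.of_hasPullback _ _) fun i => ?_)
  obtain ⟨W, hW, ⟨e⟩⟩ := h _ (hT i) _ (hae i) _ _ _ (IsPullback.of_hasPullback f (a i))
  obtain ⟨w, hw⟩ := (yon S).map_surjective (e.hom ≫ pullback.snd f (a i))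
  have := hT i
  have hwa : IsAffineHom w.left := inferInstance
  have : pullback.snd f (a i) = e.inv ≫ (yon S).map w := by rw [hw, Iso.inv_hom_id_assoc]
  rw [this]
  exact repWith_comp (repWith_of_isIso e.inv) ((repWith_yon_map_iff @IsAffineHom w).2 hwa)

end Groth.Agent.H12AlgSp
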