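import Groth.Agent.H12AlgSp.LQFScheme
import Groth.Agent.H12AlgSp.AffineMor
import Groth.Agent.H12AlgSp.PointsTop

/-!
Separated locally quasi-finite spaces over schemes are schemes: the conclusion.
-/

universe u

open CategoryTheory CategoryTheory.Limits AlgebraicGeometry Opposite Topology
open AlgSp Groth.Agent.H13AlgSp

namespace Groth.Agent.H12AlgSp

open RPt

variable {S : Scheme.{u}}

theorem repWith_openImmersion_of_etale_mono {X : Sp S} (hX : IsAlgSpace X) {V : Over S} (a : (yon S).obj V ⟶ X)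
    (he : RepWith @Etale a) [Mono a] : RepWith @IsOpenImmersion a :=
  (mono_iff_locP_openImmersion (IsAlgSpace.yon_obj V) hX).2 ⟨inferInstance, locP_of_repWith etLocal_etale he⟩

/-- The image of a quasi-compact scheme open in an etale base change is an open subscheme. -/
theorem exists_open_subscheme_of_etale {X : Sp S} (hX : IsAlgSpace X) {T T' : Over S} [IsAffine T.left]
    [IsAffine T'.left] (e : T' ⟶ T) [Etale e.left] {π : X ⟶ (yon S).obj T} (hsep : IsSeparatedMor π)
    (hqf : LocP (@LocallyQuasiFinite ⊓ @LocallyOfFiniteType) π) {V : Over S}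
    (j : (yon S).obj V ⟶ pullback π ((yon S).map e)) (hj : RepWith @IsOpenImmersion j) :
    ∃ (W : Over S) (i : (yon S).obj W ⟶ X), RepWith @IsOpenImmersion i ∧
      Set.range (Points.map i) = Set.range (Points.map (j ≫ pullback.fst π ((yon S).map e))) := by
  let d₀ := j ≫ pullback.fst π ((yon S).map e)
  have hfst : RepWith @Etale (pullback.fst π ((yon S).map e)) :=
    repWith_of_isPullback (IsPullback.of_hasPullback π ((yon S).map e)).flip ((repWith_yon_map_iff _ _).2 ‹_›)
  have hd₀ : RepWith @Etale d₀ :=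
    repWith_comp (repWith_le (fun _ _ k (_ : IsOpenImmersion k) => inferInstanceAs (Etale k)) hj) hfst
  obtain ⟨X₁, i₀, hX₁, hi₀, hr⟩ := exists_open_subspace hX
    (W := Set.range (Points.map d₀)) (isOpenMap_map_of_repWith etale_le_universallyOpen hd₀).isOpen_range
  have := mono_of_openImmersion hi₀
  obtain ⟨d, hd⟩ := exists_factor_open hi₀ d₀ hr.ge
  have hi₀e : RepWith @Etale i₀ :=
    repWith_le (fun _ _ k (_ : IsOpenImmersion k) => inferInstanceAs (Etale k)) hi₀
  let π₁ := i₀ ≫ π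
  have hsep₁ : IsSeparatedMor π₁ := isSeparatedMor_comp (isSeparatedMor_of_mono i₀) hsep
  have hqf₁ : LocP (@LocallyQuasiFinite ⊓ @LocallyOfFiniteType) π₁ := locP_etale_precomp hi₀e hqf
  let j₁ : (yon S).obj V ⟶ pullback π₁ ((yon S).map e) := pullback.lift d (j ≫ pullback.snd _ _)
    (by rw [Category.assoc, ← pullback.condition, ← Category.assoc, hd, Category.assoc])
  let m : pullback π₁ ((yon S).map e) ⟶ pullback π ((yon S).map e) :=
    pullback.lift (pullback.fst _ _ ≫ i₀) (pullback.snd _ _) (by rw [Category.assoc]; exact pullback.condition)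
  have hm : j₁ ≫ m = j := by
    apply pullback.hom_ext
    · simp only [j₁, m, Category.assoc, pullback.lift_fst, pullback.lift_fst_assoc]
      exact hd
    · simp only [j₁, m, Category.assoc, pullback.lift_snd]
  have := mono_of_openImmersion hj
  have : Mono j₁ := mono_of_mono_fac hm
  have hP₁ : IsAlgSpace (pullback π₁ ((yon S).map e)) :=
    isAlgSpace_pullback (IsAlgSpace.yon_obj T).diag hX₁ (IsAlgSpace.yon_obj T') _ _
  have hde : RepWith @Etale d := repWith_etale_of_comp hi₀e (hd ▸ hd₀)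
  have hj₁ : RepWith @IsOpenImmersion j₁ := repWith_openImmersion_of_etale_mono hP₁ j₁
    (repWith_etale_of_comp (repWith_of_isPullback (IsPullback.of_hasPullback π₁ ((yon S).map e)).flip
      ((repWith_yon_map_iff _ _).2 ‹_›)) (by rw [pullback.lift_fst]; exact hde))
  obtain ⟨W, μ, hμ⟩ := exists_iso_of_etale_image hX₁ e hsep₁ hqf₁ j₁ hj₁ (by
    rw [pullback.lift_fst]
    intro x
    obtain ⟨y, hy⟩ := hr.le ⟨x, rfl⟩
    refine ⟨y, injective_map_of_mono i₀ ?_⟩
    rw [← Points.map_comp, hd]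
    exact hy)
  refine ⟨W, μ ≫ i₀, repWith_comp (repWith_of_isIso _) hi₀, ?_⟩
  refine Eq.trans ?_ hr
  refine (Set.Subset.antisymm ?_ ?_)
  · rintro _ ⟨z, rfl⟩
    exact ⟨Points.map μ z, by rw [← Points.map_comp]⟩
  · rintro _ ⟨z, rfl⟩
    exact ⟨Points.map (inv μ) z, by rw [← Points.map_comp, IsIso.inv_hom_id_assoc]⟩

/-- Every point of a separated locally quasi-finite space over an affine scheme has a scheme neighbourhood. -/
theorem exists_scheme_nbhd {X : Sp S} (hX : IsAlgSpace X) {T : Over S} [IsAffine T.left]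
    {π : X ⟶ (yon S).obj T} (hsep : IsSeparatedMor π)
    (hqf : LocP (@LocallyQuasiFinite ⊓ @LocallyOfFiniteType) π) (x : Points X) :
    ∃ (W : Over S) (i : (yon S).obj W ⟶ X), RepWith @IsOpenImmersion i ∧ x ∈ Set.range (Points.map i) := by
  obtain ⟨ι, Us, as, hUs, hae, -, hac⟩ := exists_affine_family hX
  obtain ⟨i, hi⟩ := hac x
  rw [range_map_yon] at hi
  obtain ⟨u, rfl⟩ := hi
  have := hUs i
  let U := Us i
  let a : (yon S).obj U ⟶ X := as i
  obtain ⟨f, hf⟩ := (yon S).map_surjective (a ≫ π)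
  obtain ⟨hfq, hft⟩ := hqf a (𝟙 _) f (hae i) (repWith_id _ T) (by rw [Category.comp_id, hf])
  let A := Γ(T.left, ⊤)
  let B := Γ(U.left, ⊤)
  letI : Algebra A B := f.left.appTop.hom.toAlgebra
  have : Algebra.FiniteType A B := (HasRingHomProperty.iff_of_isAffine (P := @LocallyOfFiniteType)).1 hft
  have : Algebra.QuasiFinite A B := (HasRingHomProperty.iff_of_isAffine (P := @LocallyQuasiFinite)).1 hfq
  obtain ⟨R', _, _, _, P, _, C, _, gR, gB, hcomm, hfin, hgB, ⟨Q, _, hQB, hQR⟩, hrad⟩ :=
    exists_radicial_nbhd (R := A) (q := (U.left.isoSpec.hom u).asIdeal)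
  let T' : Over S := Over.mk (Spec.map (CommRingCat.ofHom (algebraMap A R')) ≫ T.left.isoSpec.inv ≫ T.hom)
  let g : T' ⟶ T := Over.homMk (Spec.map (CommRingCat.ofHom (algebraMap A R')) ≫ T.left.isoSpec.inv)
    (Category.assoc _ _ _)
  have hge : Etale g.left := by
    have : Etale (Spec.map (CommRingCat.ofHom (algebraMap A R'))) :=
      HasRingHomProperty.Spec_iff.mpr (RingHom.etale_algebraMap.2 ‹_›)
    exact inferInstanceAs (Etale (Spec.map (CommRingCat.ofHom (algebraMap A R')) ≫ T.left.isoSpec.inv))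
  let V : Over S := Over.mk (Spec.map (CommRingCat.ofHom gB) ≫ U.left.isoSpec.inv ≫ U.hom)
  let jU : V ⟶ U := Over.homMk (Spec.map (CommRingCat.ofHom gB) ≫ U.left.isoSpec.inv) (Category.assoc _ _ _)
  have hje : Etale jU.left := by
    have : Etale (Spec.map (CommRingCat.ofHom gB)) := HasRingHomProperty.Spec_iff.mpr hgB
    exact inferInstanceAs (Etale (Spec.map (CommRingCat.ofHom gB) ≫ U.left.isoSpec.inv))
  have hcl : (Spec.map (CommRingCat.ofHom gB) ≫ U.left.isoSpec.inv) ≫ f.left =
      Spec.map (CommRingCat.ofHom gR) ≫ Spec.map (CommRingCat.ofHom (algebraMap A R')) ≫ T.left.isoSpec.inv := by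
    rw [Category.assoc, ← Scheme.isoSpec_inv_naturality, ← Spec.map_comp_assoc, ← Spec.map_comp_assoc,
      ← CommRingCat.ofHom_comp, hcomm, CommRingCat.ofHom_comp]
    rfl
  let φ : V ⟶ T' := Over.homMk (Spec.map (CommRingCat.ofHom gR)) (by
    change Spec.map (CommRingCat.ofHom gR) ≫ Spec.map (CommRingCat.ofHom (algebraMap A R')) ≫
      T.left.isoSpec.inv ≫ T.hom = Spec.map (CommRingCat.ofHom gB) ≫ U.left.isoSpec.inv ≫ U.hom
    rw [← Over.w f, ← reassoc_of% hcl])
  have hφg : jU ≫ f = φ ≫ g := Over.OverMorphism.ext hcl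
  have hφfin : IsFinite φ.left := (IsFinite.SpecMap_iff _).2 hfin
  let PX := pullback π ((yon S).map g)
  have hPX : IsAlgSpace PX := isAlgSpace_pullback (IsAlgSpace.yon_obj T).diag hX (IsAlgSpace.yon_obj T') _ _
  have hfst : RepWith @Etale (pullback.fst π ((yon S).map g)) :=
    repWith_of_isPullback (IsPullback.of_hasPullback π ((yon S).map g)).flip ((repWith_yon_map_iff _ _).2 hge)
  let a' : (yon S).obj V ⟶ PX := pullback.lift ((yon S).map jU ≫ a) ((yon S).map φ)
    (by rw [Category.assoc, ← hf, ← Functor.map_comp, ← Functor.map_comp, hφg])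
  have ha'e : RepWith @Etale a' := repWith_etale_of_comp hfst (by
    rw [pullback.lift_fst]; exact repWith_comp ((repWith_yon_map_iff _ _).2 hje) (hae i))
  have hsepP : IsSeparatedMor (pullback.snd π ((yon S).map g)) :=
    MorphismProperty.pullback_snd (P := (RepWith (S := S) @IsClosedImmersion).diagonal) _ _ hsep
  have ha'f : RepWith @IsFinite a' := repWith_of_comp_separated
    (fun _ _ k (_ : IsClosedImmersion k) => (inferInstance : IsFinite k)) hsepP
    (by rw [pullback.lift_snd]; exact (repWith_yon_map_iff _ _).2 hφfin)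
  obtain ⟨R, r₁, r₂', sqR⟩ := ha'e.rep a'
  obtain ⟨r₂, rfl⟩ := (yon S).map_surjective r₂'
  have hr₁e : Etale r₁.left := ha'e.property _ _ r₁ sqR
  have hr₁f : IsFinite r₁.left := ha'f.property _ _ r₁ sqR
  have hrφ : r₂ ≫ φ = r₁ ≫ φ := (yon S).map_injective (by
    have := sqR.w =≫ pullback.snd π ((yon S).map g)
    simp only [a', Category.assoc, pullback.lift_snd] at this
    rw [Functor.map_comp, Functor.map_comp]
    exact this)
  obtain ⟨δ, hδ⟩ := (yon S).map_surjective (sqR.lift (𝟙 _) (𝟙 _) rfl)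
  have hδ₁ : δ ≫ r₁ = 𝟙 V := (yon S).map_injective (by
    rw [Functor.map_comp, hδ, sqR.lift_snd, CategoryTheory.Functor.map_id])
  have hδ₂ : δ ≫ r₂ = 𝟙 V := (yon S).map_injective (by
    rw [Functor.map_comp, hδ, sqR.lift_fst, CategoryTheory.Functor.map_id])
  have hδe : Etale δ.left := etale_section r₁.left δ.left (congrArg (fun t => Over.Hom.left t) hδ₁)
  let Z : Set R.left := (Set.range δ.left)ᶜ
  have hZ : IsClosed Z := (δ.left.isOpenMap.isOpen_range).isClosed_compl
  let r : R.left ⟶ T'.left := r₁.left ≫ φ.left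
  have : IsFinite r := inferInstanceAs (IsFinite (r₁.left ≫ φ.left))
  let t' : T'.left := (⟨P, ‹P.IsPrime›⟩ : PrimeSpectrum R')
  have ht' : t' ∉ r '' Z := by
    rintro ⟨z, hz, hzt⟩
    let K := R.left.residueField z
    let pt : ↥(Spec (CommRingCat.of K)) := IsLocalRing.closedPoint K
    let k : Spec (CommRingCat.of K) ⟶ R.left := R.left.fromSpecResidueField z
    obtain ⟨c₁, hc₁⟩ := Spec.map_surjective (R := CommRingCat.of C) (S := CommRingCat.of K) (k ≫ r₁.left)
    obtain ⟨c₂, hc₂⟩ := Spec.map_surjective (R := CommRingCat.of C) (S := CommRingCat.of K) (k ≫ r₂.left)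
    have h12 : CommRingCat.ofHom gR ≫ c₁ = CommRingCat.ofHom gR ≫ c₂ := Spec.map_injective (by
      rw [Spec.map_comp, Spec.map_comp, hc₁, hc₂, Category.assoc, Category.assoc]
      exact congrArg (fun t => k ≫ Over.Hom.left t) hrφ.symm)
    have hker : RingHom.ker (c₁.hom.comp gR) = P := by
      have : (Spec.map (CommRingCat.ofHom gR ≫ c₁)) pt = t' := by
        rw [Spec.map_comp, hc₁, ← hzt]
        change (r₁.left ≫ φ.left) (k pt) = r z
        rw [show k pt = z from Scheme.fromSpecResidueField_apply _ _]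
      refine Eq.trans ?_ (congrArg PrimeSpectrum.asIdeal this)
      have hu : ∀ w : R.left.residueField z, ¬IsUnit w ↔ w = 0 := fun w => by simp [isUnit_iff_ne_zero]
      refine Ideal.ext fun b => (Eq.to_iff ?_)
      simp [Spec.map_apply, pt, IsLocalRing.closedPoint, IsLocalRing.mem_maximalIdeal, mem_nonunits_iff]
      exact (hu _).symm
    have hc : c₁ = c₂ := CommRingCat.hom_ext
      (hrad K c₁.hom c₂.hom (congrArg CommRingCat.Hom.hom h12) hker)
    refine hz ⟨r₁.left z, ?_⟩
    let kk : Over.mk (k ≫ R.hom) ⟶ R := Over.homMk k rfl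
    have e : kk = (kk ≫ r₁) ≫ δ := (yon S).map_injective (sqR.hom_ext
      (by
        rw [← Functor.map_comp, ← Functor.map_comp, Category.assoc, hδ₂, Category.comp_id]
        refine congrArg (yon S).map (Over.OverMorphism.ext ?_)
        change k ≫ r₂.left = k ≫ r₁.left
        rw [← hc₁, ← hc₂, hc])
      (by rw [← Functor.map_comp, ← Functor.map_comp, Category.assoc, hδ₁, Category.comp_id]))
    have := congrArg (fun t : Over.mk (k ≫ R.hom) ⟶ R => t.left pt) e
    rw [show z = k pt from (Scheme.fromSpecResidueField_apply _ _).symm]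
    exact this.symm
  obtain ⟨O, hO, htO, hOZ⟩ := exists_isAffineOpen_mem_and_subset (x := t')
    (U := ⟨(r '' Z)ᶜ, (r.isClosedMap _ hZ).isOpen_compl⟩) ht'
  let TO := openOver T' O
  have : IsAffine TO.left := hO
  let gO : TO ⟶ T := openIncl T' O ≫ g
  have hgO : Etale gO.left := inferInstanceAs (Etale (O.ι ≫ g.left))
  let VO := openOver V (φ.left ⁻¹ᵁ O)
  let incl := openIncl V (φ.left ⁻¹ᵁ O)
  let φO : VO ⟶ TO := Over.homMk (φ.left ∣_ O) (by
    change (φ.left ∣_ O) ≫ O.ι ≫ T'.hom = (φ.left ⁻¹ᵁ O).ι ≫ V.hom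
    rw [morphismRestrict_ι_assoc, Over.w φ])
  have hφO : φO ≫ openIncl T' O = incl ≫ φ := Over.OverMorphism.ext (morphismRestrict_ι _ _)
  let j : (yon S).obj VO ⟶ pullback π ((yon S).map gO) :=
    pullback.lift ((yon S).map (incl ≫ jU) ≫ a) ((yon S).map φO) (by
      rw [Category.assoc, ← hf, ← Functor.map_comp, ← Functor.map_comp, Category.assoc, hφg, reassoc_of% hφO])
  have hPO : IsAlgSpace (pullback π ((yon S).map gO)) :=
    isAlgSpace_pullback (IsAlgSpace.yon_obj T).diag hX (IsAlgSpace.yon_obj TO) _ _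
  have hinclje : Etale (incl ≫ jU).left := inferInstanceAs (Etale ((φ.left ⁻¹ᵁ O).ι ≫ jU.left))
  have hje' : RepWith @Etale j := repWith_etale_of_comp
    (repWith_of_isPullback (IsPullback.of_hasPullback π ((yon S).map gO)).flip ((repWith_yon_map_iff _ _).2 hgO))
    (by rw [pullback.lift_fst]; exact repWith_comp ((repWith_yon_map_iff _ _).2 hinclje) (hae i))
  have hjm : Mono j := mono_of_yon fun A₀ y y' e => by
    obtain ⟨y, rfl⟩ := (yon S).map_surjective y
    obtain ⟨y', rfl⟩ := (yon S).map_surjective y'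
    have e₁ := e =≫ pullback.fst π _
    have e₂ := e =≫ pullback.snd π _
    simp only [j, Category.assoc, pullback.lift_fst, pullback.lift_snd] at e₁ e₂
    have e' : (yon S).map (y' ≫ incl) ≫ a' = (yon S).map (y ≫ incl) ≫ a' := by
      apply pullback.hom_ext
      · simp only [a', Category.assoc, pullback.lift_fst]
        simpa [Category.assoc] using e₁.symm
      · simp only [a', Category.assoc, pullback.lift_snd]
        have e₂' : y ≫ φO = y' ≫ φO := (yon S).map_injective (by rwa [Functor.map_comp, Functor.map_comp])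
        rw [← Functor.map_comp, ← Functor.map_comp, Category.assoc, Category.assoc, ← hφO, ← Category.assoc,
          ← Category.assoc, e₂']
    obtain ⟨ρ, hρ₁, hρ₂⟩ := sqR.exists_lift _ _ e'
    obtain ⟨ρ, rfl⟩ := (yon S).map_surjective ρ
    have hρ₁' : ρ ≫ r₂ = y' ≫ incl := (yon S).map_injective (by rw [Functor.map_comp, hρ₁])
    have hρ₂' : ρ ≫ r₁ = y ≫ incl := (yon S).map_injective (by rw [Functor.map_comp, hρ₂])
    have hsub : Set.range ρ.left ⊆ Set.range δ.left := by
      rintro _ ⟨w, rfl⟩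
      by_contra hw
      refine hOZ (?_ : r (ρ.left w) ∈ O) ⟨_, hw, rfl⟩
      change (ρ ≫ r₁ ≫ φ).left w ∈ O
      rw [← Category.assoc, hρ₂', Category.assoc, ← hφO]
      exact ((φO.left (y.left w)) : O.toScheme).2
    have : Mono δ.left := mono_of_mono_fac (congrArg (fun t => Over.Hom.left t) hδ₁)
    have : IsOpenImmersion δ.left := IsOpenImmersion.of_flat_of_mono _
    obtain ⟨s, hs⟩ := exists_lift_open δ.left ρ.left inferInstance hsub
    have h1 := congrArg (fun t => s ≫ Over.Hom.left t) hδ₁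
    have h2 := congrArg (fun t => s ≫ Over.Hom.left t) hδ₂
    simp only [Over.comp_left, reassoc_of% hs] at h1 h2
    have : Mono incl := (Over.forget S).mono_of_mono_map
      (inferInstanceAs (Mono (φ.left ⁻¹ᵁ O).ι))
    refine congrArg (yon S).map ((cancel_mono incl).1 ?_)
    rw [← hρ₁', ← hρ₂']
    exact Over.OverMorphism.ext (h1.trans h2.symm)
  obtain ⟨W, iW, hiW, hrW⟩ := exists_open_subscheme_of_etale hX gO hsep hqf j
    (repWith_openImmersion_of_etale_mono hPO j hje')
  refine ⟨W, iW, hiW, hrW.ge ?_⟩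
  let v₀ : V.left := (⟨Q, ‹Q.IsPrime›⟩ : PrimeSpectrum C)
  have hφv : φ.left v₀ = t' := PrimeSpectrum.ext hQR
  have hjv : jU.left v₀ = u := by
    apply U.left.isoSpec.hom.isOpenEmbedding.injective
    change (U.left.isoSpec.inv ≫ U.left.isoSpec.hom) ((Spec.map (CommRingCat.ofHom gB)) v₀) = _
    rw [Iso.inv_hom_id]
    exact PrimeSpectrum.ext hQB
  let v : VO.left := (⟨v₀, show φ.left v₀ ∈ O from hφv ▸ htO⟩ : (φ.left ⁻¹ᵁ O).toScheme)
  refine ⟨Points.ofScheme VO v, ?_⟩
  rw [← Points.ofPt_eq_map_ofScheme, pullback.lift_fst, ofPt_map]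
  refine congrArg _ ?_
  exact hjv

theorem exists_compact_open_subscheme_of_etale {T T' : Over S} [IsAffine T.left] [IsAffine T'.left]
    (e : T' ⟶ T) [Etale e.left] {X P V' : Sp S} (hX : IsAlgSpace X) {f : X ⟶ (yon S).obj T}
    (hsep : IsSeparatedMor f) (hqf : LocP (@LocallyQuasiFinite ⊓ @LocallyOfFiniteType) f)
    {p1 : P ⟶ (yon S).obj T'} {p2 : P ⟶ X} (sq : IsPullback p2 p1 f ((yon S).map e)) {j : V' ⟶ P}
    (hj : RepWith @IsOpenImmersion j) (hqa : IsQuasiAffineMor (j ≫ p1)) :
    ∃ (W : Over S) (i : (yon S).obj W ⟶ X), RepWith @IsOpenImmersion i ∧ CompactSpace ↥W.left ∧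
      Set.range (Points.map i) = Set.range (Points.map (j ≫ p2)) := by
  obtain ⟨W, i, fst, hW, hWqa⟩ := hqa (Z := T') inferInstance (𝟙 _)
  have : IsIso fst := hW.isIso_fst_of_isIso
  have : CompactSpace W.left := hWqa.toCompactSpace
  let e₀ := sq.isoPullback
  have hj' : RepWith @IsOpenImmersion (fst ≫ j ≫ e₀.hom) :=
    repWith_comp (repWith_of_isIso fst) (repWith_comp hj (repWith_of_isIso e₀.hom))
  obtain ⟨W', i', hi', hr⟩ := exists_open_subscheme_of_etale hX e hsep hqf (fst ≫ j ≫ e₀.hom) hj'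
  have hd : (fst ≫ j ≫ e₀.hom) ≫ pullback.fst f ((yon S).map e) = fst ≫ j ≫ p2 := by
    simp [e₀, Category.assoc]
  rw [hd] at hr
  have hr' : Set.range (Points.map i') = Set.range (Points.map (j ≫ p2)) := by
    rw [hr]
    refine Set.Subset.antisymm ?_ ?_
    · rintro _ ⟨z, rfl⟩
      exact ⟨Points.map fst z, by rw [← Points.map_comp]⟩
    · rintro _ ⟨z, rfl⟩
      exact ⟨Points.map (inv fst) z, by rw [← Points.map_comp, IsIso.inv_hom_id_assoc]⟩
  refine ⟨W', i', hi', ?_, hr'⟩
  have := mono_of_openImmersion hi'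
  obtain ⟨d, hdd⟩ := exists_factor_open hi' _ hr.ge
  obtain ⟨δ, rfl⟩ := (yon S).map_surjective d
  refine Function.Surjective.compactSpace (f := fun w => δ.left w) δ.left.continuous ?_
  intro w
  obtain ⟨z, hz⟩ := (range_map_yon (fst ≫ j ≫ p2)).le (hr.le (ofPt_mem_range i' w))
  refine ⟨z, (Points.schemeEquiv W').injective (injective_map_of_mono i' ?_)⟩
  rw [← hdd, ofPt_map, Points.ofPt_eq_map_ofScheme, Points.ofPt_eq_map_ofScheme] at hz
  exact hz

/-- An algebraic space separated and locally quasi-finite over a scheme is a scheme. -/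
theorem exists_iso_of_lqf_separated {X : Sp S} (hX : IsAlgSpace X) {T : Over S}
    {π : X ⟶ (yon S).obj T} (hsep : IsSeparatedMor π)
    (hqf : LocP (@LocallyQuasiFinite ⊓ @LocallyOfFiniteType) π) :
    ∃ (W : Over S) (γ : W ⟶ T) (μ : (yon S).obj W ⟶ X), IsIso μ ∧ μ ≫ π = (yon S).map γ := by
  refine exists_iso_of_local_rep π fun O => ?_
  let jO := (yon S).map (openIncl T O.1)
  have : IsAffine (openOver T O.1).left := O.2
  have hT := IsAlgSpace.yon_obj (S := S) T
  have hQ : IsAlgSpace (pullback π jO) := isAlgSpace_pullback hT.diag hX (IsAlgSpace.yon_obj _) _ _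
  have hs : IsSeparatedMor (pullback.snd π jO) :=
    MorphismProperty.pullback_snd (P := (RepWith (S := S) @IsClosedImmersion).diagonal) _ _ hsep
  have hq : LocP (@LocallyQuasiFinite ⊓ @LocallyOfFiniteType) (pullback.snd π jO) :=
    locP_of_isPullback (etLocal_inf etLocal_lqf etLocal_lft) (IsPullback.of_hasPullback _ _) hX hT
      (IsAlgSpace.yon_obj _) hqf
  obtain ⟨U₀, p₀, hp₀, hps₀⟩ := hQ.atlas
  choose W i hi hxi using fun u : U₀.left => exists_scheme_nbhd hQ hs hq (Points.ofPt p₀ u)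
  obtain ⟨G, μ, hμ⟩ := exists_iso_of_openCover W i hi fun A y t => by
    obtain ⟨u, hu⟩ := surjective_ofPt_of_repWith le_rfl hps₀ (Points.ofPt y t)
    exact ⟨u, hu ▸ hxi u⟩
  obtain ⟨γ, hγ⟩ := (yon S).map_surjective (μ ≫ pullback.snd π jO)
  exact ⟨G, γ, μ ≫ pullback.fst π jO, IsPullback.of_iso_pullback
    ⟨by rw [Category.assoc, pullback.condition, ← Category.assoc, hγ]⟩ (asIso μ) rfl hγ.symm⟩

theorem isRepresentable_of_lqf_separated {X : Sp S} (hX : IsAlgSpace X) {T : Over S}
    {π : X ⟶ (yon S).obj T} (hsep : IsSeparatedMor π)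
    (hqf : LocP (@LocallyQuasiFinite ⊓ @LocallyOfFiniteType) π) : X.obj.IsRepresentable := by
  obtain ⟨W, -, μ, hμ, -⟩ := exists_iso_of_lqf_separated hX hsep hqf
  exact (representableByOfIso (asIso μ)).isRepresentable

theorem representable_of_lqf_separated {X Y : Sp S} (hX : IsAlgSpace X) (hY : IsAlgSpace Y) {f : X ⟶ Y}
    (hsep : IsSeparatedMor f) (hqf : LocP (@LocallyQuasiFinite ⊓ @LocallyOfFiniteType) f) : Representable f := by
  intro T g
  obtain ⟨W, γ, μ, hμ, e⟩ := exists_iso_of_lqf_separated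
    (isAlgSpace_pullback hY.diag hX (IsAlgSpace.yon_obj T) f g)
    (π := pullback.snd f g) (MorphismProperty.pullback_snd (P := (RepWith (S := S) @IsClosedImmersion).diagonal) f g hsep)
    (locP_of_isPullback (etLocal_inf etLocal_lqf etLocal_lft) (IsPullback.of_hasPullback f g) hX hY
      (IsAlgSpace.yon_obj T) hqf)
  exact ⟨W, γ, μ ≫ pullback.fst f g, IsPullback.of_iso_pullback
    ⟨by rw [Category.assoc, pullback.condition, ← Category.assoc, e]⟩ (asIso μ) rfl e⟩

end Groth.Agent.H12AlgSp
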