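import Groth.Prelude.Def_AlgSp

/-!
Formal facts on morphisms representable by schemes and on algebraic spaces:
monomorphisms, diagonals, fibre products of algebraic spaces.
-/

universe u

open CategoryTheory CategoryTheory.Limits AlgebraicGeometry Opposite
open AlgSp

namespace Groth.Agent.H12AlgSp

variable {S : Scheme.{u}}

/-- Two morphisms of sheaves agreeing on all maps from schemes are equal. -/
theorem hom_ext_yon {F G : Sp S} {a b : F ⟶ G}
    (h : ∀ (T : Over S) (x : (yon S).obj T ⟶ F), x ≫ a = x ≫ b) : a = b := by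
  apply Sheaf.hom_ext
  ext T s
  obtain ⟨T⟩ := T
  have := congrArg (J S).uliftYonedaEquiv (h T ((J S).uliftYonedaEquiv.symm s))
  simpa [GrothendieckTopology.uliftYonedaEquiv_comp] using this

theorem mono_of_yon {F G : Sp S} {f : F ⟶ G}
    (h : ∀ (T : Over S) (a b : (yon S).obj T ⟶ F), a ≫ f = b ≫ f → a = b) : Mono f :=
  ⟨fun {_} a b e => hom_ext_yon fun T x => h T _ _ (by simp [e])⟩

/-- A representable morphism whose base changes to schemes are monomorphisms is a monomorphism. -/
theorem mono_of_repWith {P : MorphismProperty Scheme.{u}}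
    (hP : P ≤ MorphismProperty.monomorphisms Scheme.{u}) {F G : Sp S} {f : F ⟶ G}
    (hf : RepWith P f) : Mono f := by
  refine mono_of_yon fun T a b e => ?_
  have sq := hf.rep.isPullback (a ≫ f)
  set snd := hf.rep.snd (a ≫ f)
  have : Mono snd.left := hP _ (hf.property_snd (a ≫ f))
  have : Mono snd := (Over.forget S).mono_of_mono_map ‹_›
  have h1 : hf.rep.lift (g := a ≫ f) a (𝟙 T) (by simp) = hf.rep.lift b (𝟙 T) (by simp [← e]) := by
    rw [← cancel_mono snd]; simp [snd]
  simpa using (yon S).congr_map h1 =≫ hf.rep.fst (a ≫ f)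

/-- `RepWith P` is monotone in `P`. -/
theorem repWith_le {P Q : MorphismProperty Scheme.{u}} (h : P ≤ Q) {F G : Sp S} {f : F ⟶ G}
    (hf : RepWith P f) : RepWith Q f :=
  ⟨hf.1, fun _ _ g fst snd sq => h _ (hf.2 g fst snd sq)⟩

theorem repWith_inf_iff {P Q : MorphismProperty Scheme.{u}} {F G : Sp S} {f : F ⟶ G} :
    RepWith (P ⊓ Q) f ↔ RepWith P f ∧ RepWith Q f :=
  ⟨fun h => ⟨repWith_le inf_le_left h, repWith_le inf_le_right h⟩,
    fun h => ⟨h.1.1, fun _ _ g fst snd sq => ⟨h.1.2 g fst snd sq, h.2.2 g fst snd sq⟩⟩⟩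

/-- A representable morphism between arbitrary sheaves has `P` as soon as every chosen base change has it. -/
theorem repWith_of_snd {P : MorphismProperty Scheme.{u}} [P.IsStableUnderBaseChange]
    {F G : Sp S} {f : F ⟶ G} (hf : Representable f)
    (h : ∀ ⦃T : Over S⦄ (g : (yon S).obj T ⟶ G), P (hf.snd g).left) : RepWith P f :=
  MorphismProperty.relative_of_snd hf h

theorem repWith_of_isPullback {P : MorphismProperty Scheme.{u}} {F G F' G' : Sp S} {fst : F' ⟶ F}
    {f' : F' ⟶ G'} {f : F ⟶ G} {g : G' ⟶ G} (sq : IsPullback fst f' f g) (hf : RepWith P f) :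
    RepWith P f' :=
  MorphismProperty.of_isPullback sq hf

theorem representable_of_isPullback {F G F' G' : Sp S} {fst : F' ⟶ F}
    {f' : F' ⟶ G'} {f : F ⟶ G} {g : G' ⟶ G} (sq : IsPullback fst f' f g) (hf : Representable f) :
    Representable f' :=
  MorphismProperty.of_isPullback sq hf

theorem repWith_of_isIso {P : MorphismProperty Scheme.{u}} [P.IsStableUnderBaseChange] [P.ContainsIdentities]
    {F G : Sp S} (f : F ⟶ G) [IsIso f] : RepWith P f := by
  have : P.RespectsIso := MorphismProperty.IsStableUnderBaseChange.respectsIso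
  refine MorphismProperty.relative.of_exists fun T g => ?_
  exact ⟨T, g ≫ inv f, 𝟙 T, IsPullback.of_vert_isIso ⟨by simp⟩, P.id_mem _⟩

theorem repWith_comp {P : MorphismProperty Scheme.{u}} [P.IsStableUnderComposition]
    {F G H : Sp S} {f : F ⟶ G} {g : G ⟶ H} (hf : RepWith P f) (hg : RepWith P g) :
    RepWith P (f ≫ g) :=
  MorphismProperty.comp_mem _ _ _ hf hg

theorem repWith_pullbackMap {P : MorphismProperty Scheme.{u}} [P.IsStableUnderBaseChange]
    [P.IsMultiplicative] {X X' Y Y' Z : Sp S} {f : X ⟶ Z} {g : Y ⟶ Z} {f' : X' ⟶ Z} {g' : Y' ⟶ Z}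
    {i₁ : X ⟶ X'} {i₂ : Y ⟶ Y'} (h₁ : RepWith P i₁) (h₂ : RepWith P i₂) (e₁ : f = i₁ ≫ f')
    (e₂ : g = i₂ ≫ g') : RepWith P (pullback.map f g f' g' i₁ i₂ (𝟙 _) (by simpa using e₁)
      (by simpa using e₂)) :=
  MorphismProperty.pullbackMap h₁ h₂ e₁ e₂

/-- The diagonal of a morphism is a base change of the diagonal of its source. -/
theorem isPullback_diagonal_of_diag {F G : Sp S} (f : F ⟶ G) :
    IsPullback (𝟙 F) (pullback.diagonal f) (Limits.diag F)
      (prod.lift (pullback.fst f f) (pullback.snd f f)) := by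
  have hm : Mono (prod.lift (pullback.fst f f) (pullback.snd f f)) := ⟨fun a b e => by
    apply pullback.hom_ext
    · have h := e =≫ prod.fst; simp only [Category.assoc, prod.lift_fst] at h; exact h
    · have h := e =≫ prod.snd; simp only [Category.assoc, prod.lift_snd] at h; exact h⟩
  refine ⟨⟨by ext <;> simp⟩, ⟨PullbackCone.IsLimit.mk _ (fun s => s.fst) (fun s => by simp)
    (fun s => ?_) (fun s m h₁ h₂ => by simpa using h₁)⟩⟩
  rw [← cancel_mono (prod.lift (pullback.fst f f) (pullback.snd f f))]
  rw [← s.condition]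
  ext <;> simp

theorem repWith_diagonal {P : MorphismProperty Scheme.{u}} {F G : Sp S} (f : F ⟶ G)
    (hF : RepWith P (Limits.diag F)) : RepWith P (pullback.diagonal f) :=
  repWith_of_isPullback (isPullback_diagonal_of_diag f) hF

theorem representable_diagonal {F G : Sp S} (f : F ⟶ G)
    (hF : Representable (Limits.diag F)) : Representable (pullback.diagonal f) :=
  representable_of_isPullback (isPullback_diagonal_of_diag f) hF

/-- If `f ≫ g` and the diagonal of `g` are representable, so is `f`. -/
theorem representable_of_comp {F G H : Sp S} (f : F ⟶ G) (g : G ⟶ H)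
    (hg : Representable (pullback.diagonal g)) (hfg : Representable (f ≫ g)) : Representable f := by
  have : (Representable (S := S)).HasOfPostcompProperty (Representable (S := S)).diagonal :=
    MorphismProperty.hasOfPostcompProperty_iff_le_diagonal.2 le_rfl
  exact MorphismProperty.of_postcomp Representable f g (W' := Representable.diagonal) hg hfg

/-- If `f ≫ g` and the diagonal of `g` have `P`, so does `f`. -/
theorem repWith_of_comp {P : MorphismProperty Scheme.{u}} [P.IsStableUnderBaseChange] [P.IsMultiplicative]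
    {F G H : Sp S} (f : F ⟶ G) (g : G ⟶ H)
    (hg : RepWith P (pullback.diagonal g)) (hfg : RepWith P (f ≫ g)) : RepWith P f := by
  have : (RepWith (S := S) P).HasOfPostcompProperty (RepWith (S := S) P).diagonal :=
    MorphismProperty.hasOfPostcompProperty_iff_le_diagonal.2 le_rfl
  exact MorphismProperty.of_postcomp (RepWith P) f g (W' := (RepWith P).diagonal) hg hfg

/-- A map from an algebraic space with representable composite is representable. -/
theorem representable_of_comp_space {F G H : Sp S} (f : F ⟶ G) (g : G ⟶ H)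
    (hG : IsAlgSpace G) (hfg : Representable (f ≫ g)) : Representable f :=
  representable_of_comp f g (representable_diagonal g hG.diag) hfg

/-- A fibre product of algebraic spaces over a sheaf with representable diagonal is an algebraic space. -/
theorem isAlgSpace_of_isPullback {H X Y P : Sp S} (hH : Representable (Limits.diag H))
    (hX : IsAlgSpace X) (hY : IsAlgSpace Y) {f : X ⟶ H} {g : Y ⟶ H} {fst : P ⟶ X} {snd : P ⟶ Y}
    (sq : IsPullback fst snd f g) : IsAlgSpace P := by
  refine ⟨Functor.relativelyRepresentable.diag_of_map_from_obj fun T x =>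
    representable_of_comp x snd ?_ (hY.representable_from_yon _), ?_⟩
  · exact MorphismProperty.of_isPullback
      (P := (Representable (S := S)).diagonal) sq (representable_diagonal f hX.diag)
  · obtain ⟨U, p, hpe, hps⟩ := hX.atlas
    obtain ⟨V, q, hqe, hqs⟩ := hY.atlas
    have hr : Representable (p ≫ f) := Functor.relativelyRepresentable.of_diag hH _
    obtain ⟨W, w₂, w₁, hW⟩ := hr (q ≫ g)
    let e := hW.isoPullback
    let m : pullback (p ≫ f) (q ≫ g) ⟶ P := pullback.map _ _ f g p q (𝟙 H) (by simp) (by simp) ≫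
      sq.isoPullback.inv
    refine ⟨W, e.hom ≫ m, ?_, ?_⟩
    · exact MorphismProperty.RespectsIso.precomp _ _ _ (MorphismProperty.RespectsIso.postcomp _ _ _
        (repWith_pullbackMap hpe hqe rfl rfl))
    · exact MorphismProperty.RespectsIso.precomp _ _ _ (MorphismProperty.RespectsIso.postcomp _ _ _
        (repWith_pullbackMap hps hqs rfl rfl))

theorem isAlgSpace_pullback {H X Y : Sp S} (hH : Representable (Limits.diag H))
    (hX : IsAlgSpace X) (hY : IsAlgSpace Y) (f : X ⟶ H) (g : Y ⟶ H) : IsAlgSpace (pullback f g) :=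
  isAlgSpace_of_isPullback hH hX hY (IsPullback.of_hasPullback f g)

instance isClosedUnderPullbacks :
    ObjectProperty.IsClosedUnderLimitsOfShape (IsAlgSpace (S := S)) WalkingCospan := by
  refine ObjectProperty.IsClosedUnderLimitsOfShape.mk' ?_
  rintro _ ⟨F, hF⟩
  refine IsAlgSpace.of_iso (isAlgSpace_pullback (hF _).diag (hF _) (hF _)
    (F.map WalkingCospan.Hom.inl) (F.map WalkingCospan.Hom.inr)) ?_
  exact (HasLimit.isoOfNatIso (diagramIsoCospan F)).symm

/-- A sheaf with a representable map to an algebraic space is an algebraic space. -/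
theorem isAlgSpace_of_representable {F G : Sp S} (f : F ⟶ G) (hf : Representable f)
    (hG : IsAlgSpace G) : IsAlgSpace F := by
  refine ⟨Functor.relativelyRepresentable.diag_of_map_from_obj fun T x => ?_, ?_⟩
  · rw [← hf.lift_fst (g := x ≫ f) x (𝟙 T) (by simp)]
    exact MorphismProperty.comp_mem _ _ _ (representable_yon_map _)
      (representable_of_isPullback (hf.isPullback (x ≫ f)).flip (hG.representable_from_yon _))
  · obtain ⟨U, p, hpe, hps⟩ := hG.atlas
    obtain ⟨V, snd, fst, sq⟩ := hf p
    exact ⟨V, fst, repWith_of_isPullback sq.flip hpe, repWith_of_isPullback sq.flip hps⟩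

end Groth.Agent.H12AlgSp
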