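import Groth.Agent.H12AlgSp.Effective
import Groth.Agent.H12AlgSp.Basic

/-!
Representability descends along etale charts for properties with effective descent.
-/

universe u

open CategoryTheory CategoryTheory.Limits AlgebraicGeometry Opposite
open AlgSp Groth.Agent.H13AlgSp

namespace Groth.Agent.H12AlgSp

variable {S : Scheme.{u}} {P : MorphismProperty Scheme.{u}} [P.IsStableUnderBaseChange]

theorem exists_rep_of_effective_chart [P.DescendsAlong fppfMor.{u}]
    (hdesc : ∀ ⦃X' S' : Scheme.{u}⦄ (p : X' ⟶ S'), Surjective p → Flat p → LocallyOfFinitePresentation p →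
      ∀ D : Desc.SchDD p, P D.obj.hom → (Desc.toDD p).essImage D)
    {F G : Sp S} {f : G ⟶ F} {U V : Over S} {q : (yon S).obj U ⟶ F} (hq : RepWith fppfMor q)
    {fst : (yon S).obj V ⟶ G} {g : V ⟶ U} (sq : IsPullback fst ((yon S).map g) f q) (hP : P g.left)
    {T : Over S} (y : (yon S).obj T ⟶ F) :
    ∃ (GT : Over S) (γ : GT ⟶ T) (l : (yon S).obj GT ⟶ G), IsPullback l ((yon S).map γ) f y ∧ P γ.left := by
  obtain ⟨W, c, v', sqW⟩ := hq.rep y
  obtain ⟨v, rfl⟩ := (yon S).map_surjective v'
  obtain ⟨⟨hcs, hcf⟩, hcp⟩ := hq.property _ _ c sqW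
  let Q' := pullback g v
  let b' : Q' ⟶ W := pullback.snd g v
  have sqO : IsPullback (pullback.fst g v).left b'.left g.left v.left :=
    (IsPullback.of_hasPullback g v).map (Over.forget S)
  have hb' : P b'.left := MorphismProperty.of_isPullback sqO hP
  have sqA := ((IsPullback.of_hasPullback g v).map (yon S)).paste_horiz sq
  rw [sqW.w] at sqA
  let k : (yon S).obj Q' ⟶ pullback f y := pullback.lift ((yon S).map (pullback.fst g v) ≫ fst)
    ((yon S).map b' ≫ (yon S).map c) (by rw [sqA.w, Category.assoc])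
  have sqk : IsPullback k ((yon S).map b') (pullback.snd f y) ((yon S).map c) :=
    IsPullback.of_right (by rw [pullback.lift_fst]; exact sqA) (pullback.lift_snd _ _ _)
      (IsPullback.of_hasPullback f y)
  have : Flat c.left := hcf
  have : Surjective c.left := hcs
  have : LocallyOfFinitePresentation c.left := hcp
  obtain ⟨GT, γ, μ, hμ, hμq⟩ := exists_iso_of_effective sqk (hdesc c.left hcs hcf hcp _ hb')
  have sqγ : IsPullback (μ ≫ pullback.fst f y) ((yon S).map γ) f y :=
    IsPullback.of_iso_pullback ⟨by rw [Category.assoc, pullback.condition, ← Category.assoc, hμq]⟩ (asIso μ) rfl hμq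
  refine ⟨GT, γ, _, sqγ, ?_⟩
  have sqμ : IsPullback μ ((yon S).map γ) (pullback.snd f y) (𝟙 _) :=
    IsPullback.of_horiz_isIso ⟨by rw [Category.comp_id, hμq]⟩
  obtain ⟨κ, hκ⟩ := (yon S).map_surjective (k ≫ inv μ)
  have sqS : IsPullback κ b' γ c := IsPullback.of_map_of_faithful (yon S)
    (IsPullback.of_right (by rw [hκ, Category.comp_id, Category.assoc, IsIso.inv_hom_id, Category.comp_id]; exact sqk)
      (by rw [hκ, ← hμq, Category.assoc, IsIso.inv_hom_id_assoc]; exact sqk.w) sqμ)
  exact MorphismProperty.of_isPullback_of_descendsAlong (Q := fppfMor.{u}) (sqS.map (Over.forget S)).flip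
    ⟨⟨hcs, hcf⟩, hcp⟩ hb'

theorem repWith_of_effective_chart [P.DescendsAlong fppfMor.{u}]
    (hdesc : ∀ ⦃X' S' : Scheme.{u}⦄ (p : X' ⟶ S'), Surjective p → Flat p → LocallyOfFinitePresentation p →
      ∀ D : Desc.SchDD p, P D.obj.hom → (Desc.toDD p).essImage D)
    {F G : Sp S} {f : G ⟶ F} {U V : Over S} {q : (yon S).obj U ⟶ F} (hq : RepWith fppfMor q)
    {fst : (yon S).obj V ⟶ G} {g : V ⟶ U} (sq : IsPullback fst ((yon S).map g) f q) (hP : P g.left) :
    RepWith P f := by
  have : P.RespectsIso := MorphismProperty.IsStableUnderBaseChange.respectsIso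
  exact MorphismProperty.relative.of_exists fun T y => by
    obtain ⟨GT, γ, l, hsq, hγ⟩ := exists_rep_of_effective_chart hdesc hq sq hP y
    exact ⟨GT, l, γ, hsq, hγ⟩

end Groth.Agent.H12AlgSp
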