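import Groth.Agent.H12AlgSp.FppfBootstrap
import Groth.Agent.H12AlgSp.QuotSheaf

/-!
Quotients of schemes by flat equivalence relations.
-/

set_option linter.unusedVariables false
set_option backward.isDefEq.respectTransparency false

universe u

open CategoryTheory CategoryTheory.Limits AlgebraicGeometry Opposite
open AlgSp Groth.Agent.H13AlgSp

namespace Groth.Agent.H12AlgSp

variable {S : Scheme.{u}} {R U : Over S} {s t : R ⟶ U}

theorem epi_of_repWith_fppf {X F : Sp S} {f : X ⟶ F} (hf : RepWith fppfMor f) : Epi f := by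
  refine epi_of_local_lifts f fun T y => ?_
  obtain ⟨V, a, b, sq⟩ := hf.rep y
  obtain ⟨⟨hs, hfl⟩, hfp⟩ := hf.property y b a sq
  exact ⟨PUnit, fun _ => V, fun _ => a, ofArrows_mem_J _ (fun _ => hfl) (fun _ => hfp)
    (fun x => ⟨⟨⟩, hs.surj x⟩), fun _ => ⟨b, sq.w⟩⟩

theorem quotMap_repBySp (h : IsEqvRel s t) [Flat s.left] [LocallyOfFinitePresentation s.left] ⦃T : Over S⦄
    (ξ : (yon S).obj T ⟶ QuotSh.quot Scheme.fppfPrecoverage s t) ⦃P : Sp S⦄ (fst : P ⟶ (yon S).obj U)
    (snd : P ⟶ (yon S).obj T) (sqP : IsPullback fst snd (quotMap s t) ξ) :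
    IsAlgSpace P ∧ (IsSurjectiveMor snd ∧ LocP @Flat snd ∧ LocP @LocallyOfFinitePresentation snd) := by
  obtain ⟨sq, hq⟩ := isPullback_quotMap h
  have := hq
  exact repBySp_fppf_of_epi (IsAlgSpace.yon_obj U) (IsAlgSpace.yon_obj R) sq
    (locP_of_repWith etLocal_flat ((repWith_yon_map_iff _ s).2 ‹_›))
    (locP_of_repWith etLocal_lfp ((repWith_yon_map_iff _ s).2 ‹_›)) ξ fst snd sqP

theorem isAlgSpace_quot_fppf (h : IsEqvRel s t) [Flat s.left] [LocallyOfFinitePresentation s.left] :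
    IsAlgSpace (QuotSh.quot Scheme.fppfPrecoverage s t) :=
  isAlgSpace_of_repBySp_fppf (IsAlgSpace.yon_obj U) _ (quotMap_repBySp h)

theorem repWith_fppf_quotMap (h : IsEqvRel s t) [Flat s.left] [LocallyOfFinitePresentation s.left] :
    RepWith fppfMor (quotMap s t) := by
  refine ⟨Functor.relativelyRepresentable.of_diag
    (representable_diag_of_repBySp_fppf (IsAlgSpace.yon_obj U) _ (quotMap_repBySp h)) _, fun T V g fst snd sq => ?_⟩
  obtain ⟨-, hs, hfl, hfp⟩ := quotMap_repBySp h g fst ((yon S).map snd) sq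
  exact ⟨⟨surjective_left_of_map snd hs, locP_yon_map hfl⟩, locP_yon_map hfp⟩

/-- The quotient of a flat equivalence relation is the quotient of a quasi-finite one. -/
theorem exists_lqf_relation (h : IsEqvRel s t) [Flat s.left] [LocallyOfFinitePresentation s.left] :
    ∃ (R' U' : Over S) (s' t' : R' ⟶ U') (g : U' ⟶ U) (r : R' ⟶ R)
      (ψ : QuotSh.quot Scheme.fppfPrecoverage s' t' ⟶ QuotSh.quot Scheme.fppfPrecoverage s t),
      IsEqvRel s' t' ∧ r ≫ s = s' ≫ g ∧ r ≫ t = t' ≫ g ∧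
      Flat s'.left ∧ LocallyOfFinitePresentation s'.left ∧ LocallyQuasiFinite s'.left ∧
      Flat t'.left ∧ LocallyOfFinitePresentation t'.left ∧ LocallyQuasiFinite t'.left ∧
      QuotSh.quotπ Scheme.fppfPrecoverage s' t' ≫ ψ =
        QuotSh.repMap Scheme.fppfPrecoverage g ≫ QuotSh.quotπ Scheme.fppfPrecoverage s t ∧ IsIso ψ := by
  obtain ⟨sq, -⟩ := isPullback_quotMap h
  obtain ⟨U', g, hp, hps⟩ := Slice.exists_lqf_chart (repWith_fppf_quotMap h)
  let p := (yon S).map g ≫ quotMap s t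
  obtain ⟨R', s', t₀, sqR⟩ := hp.rep p
  obtain ⟨t', rfl⟩ := (yon S).map_surjective t₀
  obtain ⟨⟨hsf, hsp⟩, hsq⟩ := hp.property p ((yon S).map t') s' sqR
  obtain ⟨⟨htf, htp⟩, htq⟩ := hp.property p ((yon S).map s') t' sqR.flip
  obtain ⟨r₀, hr₁, hr₂⟩ := sq.exists_lift ((yon S).map (t' ≫ g)) ((yon S).map (s' ≫ g))
    (by rw [Functor.map_comp, Functor.map_comp, Category.assoc, Category.assoc]; exact sqR.w)
  obtain ⟨r, rfl⟩ := (yon S).map_surjective r₀
  let e := fun V : Over S => QuotSh.repIsoUliftYoneda Scheme.fppfPrecoverage V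
  have hq' : IsEqvRel s' t' := isEqvRel_of_isPullback sqR
  obtain ⟨sq', hepi⟩ := isPullback_quotMap hq'
  have hg : QuotSh.repMap Scheme.fppfPrecoverage g ≫ QuotSh.quotπ Scheme.fppfPrecoverage s t = (e U').hom ≫ p := by
    change _ = _ ≫ (yon S).map g ≫ quotMap s t
    rw [← Category.assoc, ← repIso_natural, quotMap, Category.assoc, Iso.hom_inv_id_assoc]
  let ψ : QuotSh.quot Scheme.fppfPrecoverage s' t' ⟶ QuotSh.quot Scheme.fppfPrecoverage s t :=
    coequalizer.desc ((e U').hom ≫ p) (by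
      rw [← Category.assoc, repIso_natural, Category.assoc, ← Category.assoc (QuotSh.repMap _ t'), repIso_natural,
        Category.assoc]
      exact congrArg ((e R').hom ≫ ·) sqR.w.symm)
  have hψ : quotMap s' t' ≫ ψ = p := by
    simp only [quotMap, ψ, Category.assoc]
    erw [coequalizer.π_desc]
    rw [Iso.inv_hom_id_assoc]
  have hpe : Epi p := epi_of_repWith_fppf ⟨hp.1, fun T V g fst snd sqV =>
    ⟨⟨hps.property g fst snd sqV, (hp.property g fst snd sqV).1.1⟩, (hp.property g fst snd sqV).1.2⟩⟩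
  have : IsRegularEpi p := IsRegularEpiCategory.regularEpiOfEpi p
  let hcol := IsKernelPair.toCoequalizer' sqR
  let φ : QuotSh.quot Scheme.fppfPrecoverage s t ⟶ QuotSh.quot Scheme.fppfPrecoverage s' t' :=
    Cofork.IsColimit.desc hcol (quotMap s' t') sq'.w
  have hφ : p ≫ φ = quotMap s' t' := Cofork.IsColimit.π_desc' hcol _ _
  refine ⟨R', U', s', t', g, r, ψ, hq', (yon S).map_injective (by rw [Functor.map_comp, hr₂]),
    (yon S).map_injective (by rw [Functor.map_comp, hr₁]), hsf, hsp, hsq, htf, htp, htq, ?_, ⟨φ, ?_, ?_⟩⟩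
  · rw [hg]
    exact coequalizer.π_desc _ _
  · rw [← cancel_epi (quotMap s' t'), reassoc_of% hψ, hφ, Category.comp_id]
  · rw [← cancel_epi p, reassoc_of% hφ, hψ, Category.comp_id]

end Groth.Agent.H12AlgSp
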