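import Groth.Agent.H12AlgSp.AffineMor
import Groth.Agent.H12AlgSp.PointsTop
import Groth.Agent.H13AlgSp.Refinement
import Groth.Prelude.Def_AlgSpDec
import Mathlib.CategoryTheory.Sites.Subsheaf

/-!
Open subspaces of algebraic spaces.
-/

set_option linter.unusedVariables false

universe u

open CategoryTheory CategoryTheory.Limits AlgebraicGeometry Opposite Topology
open AlgSp Groth.Agent.H13AlgSp

namespace Groth.Agent.H12AlgSp

variable {S : Scheme.{u}} {X X' Y : Sp S}

theorem identity_cover (T : Over S) : Sieve.ofArrows (fun _ : PUnit.{u + 1} => T) (fun _ => 𝟙 T) ∈ J S T :=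
  ofArrows_mem_J _ (fun _ => inferInstanceAs (Flat (𝟙 T.left)))
    (fun _ => inferInstanceAs (LocallyOfFinitePresentation (𝟙 T.left))) (fun t => ⟨⟨⟩, t, rfl⟩)

theorem mem_of_mem_map_ofPt {F G : Sp S} {f : F ⟶ G} {W : Set (Points G)}
    (h : ∀ (T : Over S) (g : (yon S).obj T ⟶ F) (t : T.left), Points.ofPt (g ≫ f) t ∈ W) :
    Set.range (Points.map f) ⊆ W := by
  rintro _ ⟨x, rfl⟩
  induction x using Points.ind with | h q =>
  rw [← Points.ofPt_toHom q (IsLocalRing.closedPoint q.K), Points.map_ofPt]
  exact h _ _ _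

theorem mono_of_openImmersion {j : X' ⟶ X} (hj : RepWith @IsOpenImmersion j) : Mono j :=
  mono_of_repWith (fun _ _ k (_ : IsOpenImmersion k) => (inferInstance : Mono k)) hj

/-- A map with image in an open subspace factors through it. -/
theorem exists_factor_open {j : X' ⟶ X} (hj : RepWith @IsOpenImmersion j) (f : Y ⟶ X)
    (h : Set.range (Points.map f) ⊆ Set.range (Points.map j)) : ∃ g : Y ⟶ X', g ≫ j = f := by
  have := mono_of_openImmersion hj
  have : IsIso (pullback.fst f j) := by
    refine isIso_of_mono_of_local_lifts _ fun T y => ?_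
    obtain ⟨W, w, k, sq⟩ := hj.rep (y ≫ f)
    have : IsOpenImmersion w.left := hj.property _ k w sq
    have hs : Surjective w.left := ⟨fun t => (preimage_ofPt_range sq).le
      (h ⟨Points.ofPt y t, Points.map_ofPt _ _ _⟩)⟩
    have hi : IsIso w.left := by
      refine (isIso_iff_isOpenImmersion_and_epi_base w.left).2 ⟨inferInstance, ?_⟩
      exact (TopCat.epi_iff_surjective _).2 hs.surj
    have : IsIso ((Over.forget S).map w) := hi
    have : IsIso w := isIso_of_reflects_iso w (Over.forget S)
    refine ⟨PUnit.{u + 1}, fun _ => T, fun _ => 𝟙 T, identity_cover T, fun _ => ?_⟩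
    refine ⟨pullback.lift ((yon S).map (𝟙 T) ≫ y) ((yon S).map (inv w) ≫ k) ?_, pullback.lift_fst _ _ _⟩
    rw [CategoryTheory.Functor.map_id, Category.id_comp, Category.assoc, sq.w, ← Category.assoc,
      ← Functor.map_comp, IsIso.inv_hom_id, CategoryTheory.Functor.map_id, Category.id_comp]
  exact ⟨inv (pullback.fst f j) ≫ pullback.snd f j, by
    rw [Category.assoc, ← pullback.condition, IsIso.inv_hom_id_assoc]⟩

theorem range_map_subset_of_factor {F G H : Sp S} {f : F ⟶ H} {j : G ⟶ H} {g : F ⟶ G} (h : g ≫ j = f) :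
    Set.range (Points.map f) ⊆ Set.range (Points.map j) := by
  rintro _ ⟨x, rfl⟩
  exact ⟨Points.map g x, by rw [← Points.map_comp, h]⟩

/-- The sections of a sheaf with all points in a given set. -/
noncomputable def openSubfunctor (W : Set (Points X)) : Subfunctor X.obj where
  obj T := {s | ∀ t : T.unop.left, Points.ofPt ((J S).uliftYonedaEquiv.symm s) t ∈ W}
  map {T T'} f s hs := by
    intro t
    have e : (J S).uliftYonedaEquiv.symm (X.obj.map f s) =
        (yon S).map f.unop ≫ (J S).uliftYonedaEquiv.symm s := by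
      rw [Equiv.symm_apply_eq, ← GrothendieckTopology.uliftYonedaEquiv_naturality, Equiv.apply_symm_apply]
      rfl
    rw [e, ofPt_map]
    exact hs _

theorem mem_openSubfunctor {W : Set (Points X)} {T : Over S} (g : (yon S).obj T ⟶ X) :
    (J S).uliftYonedaEquiv g ∈ (openSubfunctor W).obj (op T) ↔ ∀ t, Points.ofPt g t ∈ W := by
  change (∀ t, Points.ofPt ((J S).uliftYonedaEquiv.symm ((J S).uliftYonedaEquiv g)) t ∈ W) ↔ _
  rw [Equiv.symm_apply_apply]

theorem isSheaf_openSubfunctor (W : Set (Points X)) : Presheaf.IsSheaf (J S) (openSubfunctor W).toFunctor := by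
  rw [isSheaf_iff_isSheaf_of_type, Subfunctor.isSheaf_iff _ ((isSheaf_iff_isSheaf_of_type _ _).1 X.property)]
  intro T s hs t
  obtain ⟨κ, C, c, -, -, hc, hR⟩ := exists_cover_of_mem_J hs
  obtain ⟨i, u, rfl⟩ := hc t
  have h := hR i u
  have e : (J S).uliftYonedaEquiv.symm (X.obj.map (c i).op s) =
      (yon S).map (c i) ≫ (J S).uliftYonedaEquiv.symm s := by
    rw [Equiv.symm_apply_eq, ← GrothendieckTopology.uliftYonedaEquiv_naturality, Equiv.apply_symm_apply]
  rw [e, ofPt_map] at h
  exact h

/-- The subsheaf of sections with points in a given set. -/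
noncomputable def openSub (W : Set (Points X)) : Sp S :=
  ⟨(openSubfunctor W).toFunctor, isSheaf_openSubfunctor W⟩

/-- The inclusion of the subsheaf of sections with points in a given set. -/
noncomputable def openSubι (W : Set (Points X)) : openSub W ⟶ X :=
  ObjectProperty.homMk (openSubfunctor W).ι

instance mono_openSubι (W : Set (Points X)) : Mono (openSubι W) := by
  refine mono_of_yon fun T a b e => (J S).uliftYonedaEquiv.injective (Subtype.ext ?_)
  have := congrArg (J S).uliftYonedaEquiv e
  rwa [GrothendieckTopology.uliftYonedaEquiv_comp, GrothendieckTopology.uliftYonedaEquiv_comp] at this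

theorem exists_openSub_lift {W : Set (Points X)} {T : Over S} (g : (yon S).obj T ⟶ X)
    (h : ∀ t, Points.ofPt g t ∈ W) : ∃ l, l ≫ openSubι W = g := by
  refine ⟨(J S).uliftYonedaEquiv.symm ⟨_, (mem_openSubfunctor g).2 h⟩, (J S).uliftYonedaEquiv.injective ?_⟩
  rw [GrothendieckTopology.uliftYonedaEquiv_comp, Equiv.apply_symm_apply]
  rfl

theorem ofPt_openSubι_mem {W : Set (Points X)} {T : Over S} (l : (yon S).obj T ⟶ openSub W) (t : T.left) :
    Points.ofPt (l ≫ openSubι W) t ∈ W := by
  revert t
  rw [← mem_openSubfunctor, GrothendieckTopology.uliftYonedaEquiv_comp]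
  exact ((J S).uliftYonedaEquiv l).2

theorem repWith_openSubι {W : Set (Points X)} (hW : IsOpen W) : RepWith @IsOpenImmersion (openSubι W) := by
  refine MorphismProperty.relative.of_exists fun T g => ?_
  let O : T.left.Opens := ⟨Points.ofPt g ⁻¹' W, hW.preimage (Points.continuous_ofPt g)⟩
  have hO : ∀ t, Points.ofPt ((yon S).map (openIncl T O) ≫ g) t ∈ W := fun t => by
    rw [ofPt_map]
    exact t.2
  obtain ⟨l, hl⟩ := exists_openSub_lift _ hO
  let m := pullback.lift l ((yon S).map (openIncl T O)) hl
  have : IsOpenImmersion (openIncl T O).left := inferInstanceAs (IsOpenImmersion O.ι)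
  have : Mono (openIncl T O) := (Over.forget S).mono_of_mono_map (inferInstanceAs (Mono O.ι))
  have : Mono ((yon S).map (openIncl T O)) := (yon S).map_mono _
  have : Mono m := by
    have : Mono (m ≫ pullback.snd (openSubι W) g) := by
      rw [pullback.lift_snd]
      infer_instance
    exact mono_of_mono m (pullback.snd (openSubι W) g)
  have : IsIso m := by
    refine isIso_of_mono_of_local_lifts m fun A y => ?_
    obtain ⟨a, ha⟩ := (yon S).map_surjective (y ≫ pullback.snd (openSubι W) g)
    have hsub : Set.range a.left ⊆ Set.range O.ι := by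
      rw [Scheme.Opens.range_ι]
      rintro _ ⟨t, rfl⟩
      change Points.ofPt g (a.left t) ∈ W
      rw [← ofPt_map, ha, Category.assoc, ← pullback.condition, ← Category.assoc]
      exact ofPt_openSubι_mem _ t
    let k : A.left ⟶ O.toScheme := IsOpenImmersion.lift O.ι a.left hsub
    have hk : k ≫ O.ι = a.left := IsOpenImmersion.lift_fac _ _ _
    let a₀ : A ⟶ openOver T O := Over.homMk (U := A) (V := openOver T O) k (by
        change k ≫ O.ι ≫ T.hom = A.hom
        rw [reassoc_of% hk]
        exact Over.w a)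
    have ha₀ : a₀ ≫ openIncl T O = a := Over.OverMorphism.ext hk
    refine ⟨PUnit.{u + 1}, fun _ => A, fun _ => 𝟙 A, identity_cover A, fun _ => ⟨(yon S).map a₀, ?_⟩⟩
    rw [CategoryTheory.Functor.map_id, Category.id_comp, ← cancel_mono (pullback.snd (openSubι W) g),
      Category.assoc, pullback.lift_snd, ← Functor.map_comp, ha₀, ha]
  refine ⟨openOver T O, l, openIncl T O, ?_, inferInstanceAs (IsOpenImmersion O.ι)⟩
  exact IsPullback.of_iso_pullback ⟨hl⟩ (asIso m) (pullback.lift_fst _ _ _) (pullback.lift_snd _ _ _)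

theorem range_openSubι (hX : IsAlgSpace X) (W : Set (Points X)) :
    Set.range (Points.map (openSubι W)) = W := by
  refine (mem_of_mem_map_ofPt fun T g t => ofPt_openSubι_mem g t).antisymm fun x hx => ?_
  induction x using Points.ind with | h q =>
  obtain ⟨l, hl⟩ := exists_openSub_lift q.toHom (fun t => by rwa [Points.ofPt_toHom])
  exact ⟨Points.ofPt l (IsLocalRing.closedPoint q.K), by rw [Points.map_ofPt, hl, Points.ofPt_toHom]⟩

theorem exists_open_subspace (hX : IsAlgSpace X) {W : Set (Points X)} (hW : IsOpen W) :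
    ∃ (X' : Sp S) (j : X' ⟶ X), IsAlgSpace X' ∧ RepWith @IsOpenImmersion j ∧
      Set.range (Points.map j) = W :=
  ⟨openSub W, openSubι W, isAlgSpace_of_representable _ (repWith_openSubι hW).1 hX, repWith_openSubι hW,
    range_openSubι hX W⟩

end Groth.Agent.H12AlgSp
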