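import Groth.Agent.H13AlgSp.RelRep
import Groth.Agent.H12AlgSp.OpenSub

/-!
A sheaf covered by representable open subsheaves is representable.
-/

universe u

open CategoryTheory CategoryTheory.Limits AlgebraicGeometry Opposite Topology
open AlgSp Groth.Agent.H13AlgSp

namespace Groth.Agent.H12AlgSp

variable {S : Scheme.{u}}

/-- A sheaf covered by representable open subsheaves is representable. -/
theorem exists_iso_of_openCover {Q : Sp S} {I : Type u} (Z : I → Over S) (j : ∀ i, (yon S).obj (Z i) ⟶ Q)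
    (hj : ∀ i, RepWith @IsOpenImmersion (j i))
    (hcov : ∀ (T : Over S) (y : (yon S).obj T ⟶ Q) (t : T.left),
      ∃ i, Points.ofPt y t ∈ Set.range (Points.map (j i))) :
    ∃ (GT : Over S) (μ : (yon S).obj GT ⟶ Q), IsIso μ := by
  classical
  let I' := Σ i, (Z i).left.Opens
  let obj : I' → Over S := fun a => openOver (Z a.1) a.2
  obtain ⟨l, hldef⟩ : ∃ l : ∀ a : I', (yon S).obj (obj a) ⟶ Q,
      ∀ a, l a = (yon S).map (openIncl (Z a.1) a.2) ≫ j a.1 := ⟨_, fun _ => rfl⟩
  have hl : ∀ a, RepWith @IsOpenImmersion (l a) := fun a => hldef a ▸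
    repWith_comp ((repWith_yon_map_iff _ _).2 (inferInstanceAs (IsOpenImmersion a.2.ι))) (hj a.1)
  have hmono : ∀ a, Mono (l a) := fun a => mono_of_openImmersion (hl a)
  letI : Preorder I' :=
    { le := fun a b => ∃ m : obj a ⟶ obj b, (yon S).map m ≫ l b = l a
      le_refl := fun a => ⟨𝟙 _, by rw [CategoryTheory.Functor.map_id, Category.id_comp]⟩
      le_trans := fun a b c ⟨m, hm⟩ ⟨m', hm'⟩ => ⟨m ≫ m', by rw [Functor.map_comp, Category.assoc, hm', hm]⟩ }
  choose m hm using fun (a b : I') (h : a ≤ b) => h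
  have huniq : ∀ {W : Over S} {b : I'} {x y : W ⟶ obj b},
      (yon S).map x ≫ l b = (yon S).map y ≫ l b → x = y := fun {W b x y} e =>
    have := hmono b
    (yon S).map_injective ((cancel_mono (l b)).1 e)
  have hmopen : ∀ a b h, IsOpenImmersion (m a b h).left := fun a b h => by
    have := hmono b
    refine (hl a).property (l b) (𝟙 _) (m a b h) ?_
    refine ⟨⟨by rw [Category.id_comp, hm]⟩, ⟨PullbackCone.IsLimit.mk _ (fun s => s.fst)
      (fun s => Category.comp_id _) (fun s => ?_) (fun s n h₁ _ => ?_)⟩⟩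
    · rw [← cancel_mono (l b), Category.assoc, hm]
      exact s.condition
    · rw [← h₁]; exact (Category.comp_id _).symm
  let F : I' ⥤ Scheme.{u} :=
    { obj := fun a => (obj a).left
      map := fun {a b} f => (m a b (leOfHom f)).left
      map_id := fun a => congrArg (fun t => Over.Hom.left t)
        (huniq (x := m a a _) (y := 𝟙 _) (by rw [hm, CategoryTheory.Functor.map_id, Category.id_comp]))
      map_comp := fun {a b c} f g => congrArg (fun t => Over.Hom.left t)
        (huniq (x := m a c _) (y := m a b (leOfHom f) ≫ m b c (leOfHom g))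
          (by rw [hm, Functor.map_comp, Category.assoc, hm, hm])) }
  have : ∀ {a b : I'} (f : a ⟶ b), IsOpenImmersion (F.map f) := fun f => hmopen _ _ _
  have : (F ⋙ Scheme.forget).IsLocallyDirected := by
    refine ⟨fun {a b c} fa fb xa xb hx => ?_⟩
    let pa := m a c (leOfHom fa)
    let pb := m b c (leOfHom fb)
    have := hmopen a c (leOfHom fa)
    have := hmopen b c (leOfHom fb)
    let O : (Z c.1).left.Opens := c.2.ι ''ᵁ (pa.left.opensRange ⊓ pb.left.opensRange)
    have hxa : c.2.ι (pa.left xa) ∈ O := ⟨pa.left xa, ⟨⟨xa, rfl⟩, ⟨xb, hx.symm⟩⟩, rfl⟩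
    let k : I' := ⟨c.1, O⟩
    have hkc : O ≤ c.2 := by
      rintro _ ⟨y, -, rfl⟩
      exact y.2
    let kc : obj k ⟶ obj c := openLE (Z c.1) hkc
    have hkc' : (yon S).map kc ≫ l c = l k := by
      simp only [hldef]
      rw [← Category.assoc, ← Functor.map_comp, openLE_incl]
    have hfac : ∀ (d : I') (p : obj d ⟶ obj c) [IsOpenImmersion p.left], (yon S).map p ≫ l c = l d →
        pa.left.opensRange ⊓ pb.left.opensRange ≤ p.left.opensRange → ∃ q : obj k ⟶ obj d, q ≫ p = kc := by
      intro d p _ hp hle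
      have hsub : Set.range kc.left ⊆ Set.range p.left := by
        rintro _ ⟨⟨_, y, hy, rfl⟩, rfl⟩
        refine hle (?_ : kc.left _ ∈ _)
        have eq : kc.left (⟨c.2.ι y, y, hy, rfl⟩ : O) = y := by
          apply c.2.ι.isOpenEmbedding.injective
          change ((Z c.1).left.homOfLE hkc ≫ c.2.ι) _ = _
          rw [Scheme.homOfLE_ι]
          rfl
        exact Eq.subst (motive := fun q => q ∈ _) eq.symm hy
      refine ⟨Over.homMk (IsOpenImmersion.lift _ _ hsub) ?_, Over.OverMorphism.ext (IsOpenImmersion.lift_fac _ _ hsub)⟩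
      rw [← Over.w p, IsOpenImmersion.lift_fac_assoc]
      exact Over.w kc
    obtain ⟨qa, hqa⟩ := hfac a pa (hm _ _ _) inf_le_left
    obtain ⟨qb, hqb⟩ := hfac b pb (hm _ _ _) inf_le_right
    have hka : k ≤ a := ⟨qa, by rw [← hm a c (leOfHom fa), ← Category.assoc, ← Functor.map_comp, hqa, hkc']⟩
    have hkb : k ≤ b := ⟨qb, by rw [← hm b c (leOfHom fb), ← Category.assoc, ← Functor.map_comp, hqb, hkc']⟩
    let z : (obj k).left := (⟨_, hxa⟩ : O)
    have hz : kc.left z = pa.left xa := by
      apply c.2.ι.isOpenEmbedding.injective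
      change ((Z c.1).left.homOfLE hkc ≫ c.2.ι) z = _
      rw [Scheme.homOfLE_ι]
      rfl
    have e1 : m k a hka = qa := huniq (by
      rw [hm, ← hm a c (leOfHom fa), ← Category.assoc, ← Functor.map_comp, hqa, hkc'])
    have e2 : m k b hkb = qb := huniq (by
      rw [hm, ← hm b c (leOfHom fb), ← Category.assoc, ← Functor.map_comp, hqb, hkc'])
    refine ⟨k, homOfLE hka, homOfLE hkb, z, ?_, ?_⟩
    · change (m k a _).left z = xa
      apply pa.left.isOpenEmbedding.injective
      rw [e1, ← Scheme.Hom.comp_apply, ← Over.comp_left, hqa, hz]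
    · change (m k b _).left z = xb
      apply pb.left.isOpenEmbedding.injective
      rw [e2, ← Scheme.Hom.comp_apply, ← Over.comp_left, hqb, hz]
      exact hx
  have : Quiver.IsThin I' := fun _ _ => inferInstance
  have : HasColimit F := inferInstance
  let cS : Cocone F := { pt := S, ι := { app := fun a => (obj a).hom
                                         naturality := fun a b f => by
                                           exact (Over.w (m a b (leOfHom f))).trans (Category.comp_id _).symm } }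
  let GT : Over S := Over.mk (colimit.desc F cS)
  let ιV : ∀ a : I', obj a ⟶ GT := fun a => Over.homMk (colimit.ι F a) (colimit.ι_desc cS a)
  have hopen : ∀ a, IsOpenImmersion (ιV a).left := fun a => inferInstanceAs (IsOpenImmersion (colimit.ι F a))
  have hmι : ∀ {a b : I'} (h : a ≤ b), m a b h ≫ ιV b = ιV a := fun {a b} h =>
    Over.OverMorphism.ext (colimit.w F (homOfLE h))
  have hcovW : ∀ x : GT.left, ∃ a, x ∈ Set.range (ιV a).left := fun x => by
    obtain ⟨a, y, hy⟩ := Scheme.IsLocallyDirected.ι_jointly_surjective F x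
    exact ⟨a, y, hy⟩
  have hmonoι : ∀ a, Mono (ιV a) := fun a =>
    have := hopen a
    (Over.forget S).mono_of_mono_map (inferInstanceAs (Mono (ιV a).left))
  have hlift : ∀ {W : Over S} (w : W ⟶ GT) (z : W.left) (c : I'), w.left z ∈ Set.range (ιV c).left →
      ∃ r : openOver W (w.left ⁻¹ᵁ @Scheme.Hom.opensRange _ _ (ιV c).left (hopen c)) ⟶ obj c,
        r ≫ ιV c = openIncl W _ ≫ w := by
    intro W w z c _
    have := hopen c
    have hsub : Set.range (openIncl W (w.left ⁻¹ᵁ (ιV c).left.opensRange) ≫ w).left ⊆ Set.range (ιV c).left := by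
      rintro _ ⟨⟨y, hy⟩, rfl⟩
      exact hy
    refine ⟨Over.homMk (IsOpenImmersion.lift _ _ hsub) ?_, Over.OverMorphism.ext (IsOpenImmersion.lift_fac _ _ hsub)⟩
    rw [← Over.w (ιV c), IsOpenImmersion.lift_fac_assoc]
    exact Over.w (openIncl W _ ≫ w)
  -- the sections agree on overlaps
  have compat : ∀ (a b : I') (W : Over S) (x : W ⟶ obj a) (y : W ⟶ obj b),
      x ≫ ιV a = y ≫ ιV b → (yon S).map x ≫ l a = (yon S).map y ≫ l b := by
    intro a b W x y e
    have key : ∀ z : W.left, ∃ c, c ≤ a ∧ c ≤ b ∧ (x ≫ ιV a).left z ∈ Set.range (ιV c).left := by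
      intro z
      have h1 : colimit.ι F a (x.left z) = colimit.ι F b (y.left z) :=
        congrArg (fun t : W ⟶ GT => t.left z) e
      obtain ⟨c, fa, fb, zc, hza, -⟩ := (Scheme.IsLocallyDirected.ι_eq_ι_iff F).1 h1
      refine ⟨c, leOfHom fa, leOfHom fb, zc, ?_⟩
      change colimit.ι F c zc = colimit.ι F a (x.left z)
      rw [← hza, ← colimit.w F fa]
      rfl
    choose c hca hcb hz using key
    have hop : ∀ z, IsOpenImmersion (ιV (c z)).left := fun z => hopen _
    refine hom_ext_of_cover (fun z : W.left =>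
      openIncl W ((x ≫ ιV a).left ⁻¹ᵁ @Scheme.Hom.opensRange _ _ (ιV (c z)).left (hop z)))
      (ofArrows_mem_J _ (fun z => inferInstanceAs (Flat (Scheme.Opens.ι _)))
        (fun z => inferInstanceAs (LocallyOfFinitePresentation (Scheme.Opens.ι _)))
        (fun z => ⟨z, ⟨z, hz z⟩, rfl⟩)) fun z => ?_
    obtain ⟨r, hr⟩ := hlift (x ≫ ιV a) z (c z) (hz z)
    have := hmonoι a
    have := hmonoι b
    have hxa : openIncl W _ ≫ x = r ≫ m _ _ (hca z) := by
      rw [← cancel_mono (ιV a), Category.assoc, Category.assoc, hmι, hr]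
    have hyb : openIncl W _ ≫ y = r ≫ m _ _ (hcb z) := by
      rw [← cancel_mono (ιV b), Category.assoc, Category.assoc, hmι, hr, e]
    rw [← Functor.map_comp_assoc, ← Functor.map_comp_assoc, hxa, hyb,
      Functor.map_comp_assoc, Functor.map_comp_assoc, hm, hm]
  have hcovS : Sieve.ofArrows obj ιV ∈ J S GT :=
    ofArrows_mem_J ιV (fun a => have := hopen a; inferInstance) (fun a => have := hopen a; inferInstance) hcovW
  obtain ⟨t, ht, -⟩ := (Presieve.isSheafFor_arrows_iff _ _).1
    ((Presieve.isSheafFor_iff_generate _).2 (((isSheaf_iff_isSheaf_of_type _ _).1 Q.property) _ hcovS))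
    (fun a => (J S).uliftYonedaEquiv (l a)) (fun a b W x y e => by
      rw [GrothendieckTopology.uliftYonedaEquiv_naturality, GrothendieckTopology.uliftYonedaEquiv_naturality,
        compat a b W x y e])
  let μ : (yon S).obj GT ⟶ Q := (J S).uliftYonedaEquiv.symm t
  have hμ : ∀ a, (yon S).map (ιV a) ≫ μ = l a := fun a => by
    apply (J S).uliftYonedaEquiv.injective
    rw [← GrothendieckTopology.uliftYonedaEquiv_naturality, Equiv.apply_symm_apply]
    exact ht a
  refine ⟨GT, μ, ?_⟩
  have : Mono μ := mono_of_yon fun W x y e => by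
    obtain ⟨x, rfl⟩ := (yon S).map_surjective x
    obtain ⟨y, rfl⟩ := (yon S).map_surjective y
    choose ca hca using fun z => hcovW (x.left z)
    choose cb hcb using fun z => hcovW (y.left z)
    refine hom_ext_of_cover (fun z : W.left => openIncl W
      (x.left ⁻¹ᵁ @Scheme.Hom.opensRange _ _ (ιV (ca z)).left (hopen _) ⊓
        y.left ⁻¹ᵁ @Scheme.Hom.opensRange _ _ (ιV (cb z)).left (hopen _)))
      (ofArrows_mem_J _ (fun z => inferInstanceAs (Flat (Scheme.Opens.ι _)))
        (fun z => inferInstanceAs (LocallyOfFinitePresentation (Scheme.Opens.ι _)))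
        (fun z => ⟨z, ⟨z, hca z, hcb z⟩, rfl⟩)) fun z => ?_
    obtain ⟨ra, hra⟩ := hlift x z (ca z) (hca z)
    obtain ⟨rb, hrb⟩ := hlift y z (cb z) (hcb z)
    let V₀ := openOver W (x.left ⁻¹ᵁ @Scheme.Hom.opensRange _ _ (ιV (ca z)).left (hopen _) ⊓
        y.left ⁻¹ᵁ @Scheme.Hom.opensRange _ _ (ιV (cb z)).left (hopen _))
    let sa : V₀ ⟶ obj (ca z) := openLE W inf_le_left ≫ ra
    let sb : V₀ ⟶ obj (cb z) := openLE W inf_le_right ≫ rb
    have hsa : sa ≫ ιV (ca z) = openIncl W _ ≫ x := by
      simp only [sa]; rw [Category.assoc, hra, openLE_incl_assoc]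
    have hsb : sb ≫ ιV (cb z) = openIncl W _ ≫ y := by
      simp only [sb]; rw [Category.assoc, hrb, openLE_incl_assoc]
    have hs : (yon S).map sa ≫ l (ca z) = (yon S).map sb ≫ l (cb z) := by
      rw [← hμ, ← hμ, ← Functor.map_comp_assoc, ← Functor.map_comp_assoc, hsa, hsb, Functor.map_comp,
        Functor.map_comp, Category.assoc, Category.assoc, e]
    -- the common refinement
    obtain ⟨P, w, k, sqP⟩ := (hl (cb z)).rep (l (ca z))
    obtain ⟨k, rfl⟩ := (yon S).map_surjective k
    have hwo : IsOpenImmersion w.left := (hl (cb z)).property _ _ w sqP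
    let c : I' := ⟨(ca z).1, (ca z).2.ι ''ᵁ w.left.opensRange⟩
    have hc : c.2 ≤ (ca z).2 := by rintro _ ⟨v, -, rfl⟩; exact v.2
    have hcw : Set.range (openLE (Z c.1) hc).left ⊆ Set.range w.left := by
      rintro _ ⟨⟨_, v, hv, rfl⟩, rfl⟩
      have eq : (openLE (Z c.1) hc).left (⟨(ca z).2.ι v, v, hv, rfl⟩ : c.2) = v := by
        apply (ca z).2.ι.isOpenEmbedding.injective
        change ((Z c.1).left.homOfLE hc ≫ (ca z).2.ι) _ = _
        rw [Scheme.homOfLE_ι]
        rfl
      exact Eq.subst (motive := fun q => q ∈ _) eq.symm hv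
    let cP : obj c ⟶ P := Over.homMk (IsOpenImmersion.lift _ _ hcw) (by
      rw [← Over.w w, IsOpenImmersion.lift_fac_assoc]
      exact Over.w (openLE (Z c.1) hc))
    have hcP : cP ≫ w = openLE (Z c.1) hc := Over.OverMorphism.ext (IsOpenImmersion.lift_fac _ _ hcw)
    have hlc : (yon S).map (openLE (Z c.1) hc) ≫ l (ca z) = l c := by
      simp only [hldef]
      rw [← Category.assoc, ← Functor.map_comp, openLE_incl]
    have hc1 : c ≤ ca z := ⟨openLE (Z c.1) hc, hlc⟩
    have hc2 : c ≤ cb z := ⟨cP ≫ k, by rw [Functor.map_comp, Category.assoc, sqP.w, ← Category.assoc,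
      ← Functor.map_comp, hcP, hlc]⟩
    have : IsOpenImmersion w.left := hwo
    have hsub : Set.range sa.left ⊆ Set.range (openLE (Z c.1) hc).left := by
      rintro _ ⟨v, rfl⟩
      obtain ⟨p, hp₁, hp₂⟩ := sqP.exists_lift ((yon S).map sb) ((yon S).map sa) hs.symm
      obtain ⟨p, rfl⟩ := (yon S).map_surjective p
      have hpw : p ≫ w = sa := (yon S).map_injective (by rw [Functor.map_comp, hp₂])
      refine ⟨⟨(ca z).2.ι (sa.left v), sa.left v, ⟨p.left v, by rw [← Scheme.Hom.comp_apply, ← Over.comp_left, hpw]⟩, rfl⟩, ?_⟩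
      apply (ca z).2.ι.isOpenEmbedding.injective
      change ((Z c.1).left.homOfLE hc ≫ (ca z).2.ι) _ = _
      rw [Scheme.homOfLE_ι]
      rfl
    have : IsOpenImmersion (openLE (Z c.1) hc).left :=
      inferInstanceAs (IsOpenImmersion ((Z c.1).left.homOfLE hc))
    let sc : V₀ ⟶ obj c := Over.homMk (IsOpenImmersion.lift _ _ hsub) (by
      rw [← Over.w (openLE (Z c.1) hc), IsOpenImmersion.lift_fac_assoc]
      exact Over.w sa)
    have hsc : sc ≫ openLE (Z c.1) hc = sa := Over.OverMorphism.ext (IsOpenImmersion.lift_fac _ _ hsub)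
    have e1 : m c (ca z) hc1 = openLE (Z c.1) hc := huniq (by rw [hm, hlc])
    have e2 : sb = sc ≫ m c (cb z) hc2 := by
      refine huniq (hs.symm.trans ?_)
      rw [(yon S).map_comp sc, Category.assoc, hm, ← hlc, ← Category.assoc, ← (yon S).map_comp sc, hsc]
    rw [← Functor.map_comp, ← Functor.map_comp, ← hsa, ← hsb]
    refine congrArg (yon S).map ?_
    rw [e2, Category.assoc sc, hmι, ← hmι hc1, ← Category.assoc sc, e1, hsc]
  refine isIso_of_mono_of_local_lifts μ fun T y => ?_
  choose it hit using fun t : T.left => hcov T y t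
  choose W w k sq using fun t : T.left => (hj (it t)).rep y
  refine ⟨T.left, W, w, ofArrows_mem_J w
    (fun t => have : IsOpenImmersion (w t).left := (hj (it t)).property _ _ _ (sq t); inferInstance)
    (fun t => have : IsOpenImmersion (w t).left := (hj (it t)).property _ _ _ (sq t); inferInstance)
    (fun t => ⟨t, (preimage_ofPt_range (sq t)).le (hit t)⟩), fun t => ?_⟩
  obtain ⟨k', hk'⟩ := (yon S).map_surjective (k t)
  let a : I' := ⟨it t, ⊤⟩
  let ι' : W t ⟶ obj a := k' ≫ Over.homMk (Scheme.topIso (Z (it t)).left).inv (by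
    change (Scheme.topIso (Z (it t)).left).inv ≫ (⊤ : (Z (it t)).left.Opens).ι ≫ (Z (it t)).hom = _
    simp)
  refine ⟨(yon S).map (ι' ≫ ιV a), ?_⟩
  rw [Functor.map_comp, Category.assoc, hμ]
  simp only [hldef]
  rw [← Category.assoc, ← Functor.map_comp, ← (sq t).w, ← hk']
  congr 2
  refine Over.OverMorphism.ext ?_
  change (k'.left ≫ (Scheme.topIso (Z (it t)).left).inv) ≫ (⊤ : (Z (it t)).left.Opens).ι = k'.left
  simp

end Groth.Agent.H12AlgSp
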