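import Groth.Agent.H7Lim.DescendIso
import Groth.Agent.H12AlgSp.LocPCancel

/-!
Cartesian squares over limits descend to a finite stage.
-/

universe u

open CategoryTheory Limits AlgebraicGeometry
open Groth.Agent.H7Lim

set_option backward.isDefEq.respectTransparency false
set_option backward.defeqAttrib.useBackward true

namespace Groth.Agent.H12AlgSp

variable {J : Type u} [SmallCategory J] [IsCofiltered J] {U R : J ⥤ Scheme.{u}} (s : R ⟶ U)
  {cU : Cone U} {cR : Cone R}

/-- A finitely presented square over a system which is cartesian in the limit is cartesian at a stage. -/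
theorem exists_isPullback_stage (hU : IsLimit cU) [∀ (i j : J) (f : i ⟶ j), IsAffineHom (U.map f)]
    (hs : ∀ {j k : J} (φ : j ⟶ k), IsPullback (R.map φ) (s.app j) (s.app k) (U.map φ)) {e : J}
    [CompactSpace (U.obj e)] [QuasiSeparatedSpace (U.obj e)] [CompactSpace (R.obj e)]
    [QuasiSeparatedSpace (R.obj e)] [LocallyOfFinitePresentation (s.app e)]
    {sLim : cR.pt ⟶ cU.pt} (hsLim : IsPullback (cR.π.app e) sLim (s.app e) (cU.π.app e))
    {O V : Scheme.{u}} [QuasiSeparatedSpace O] [CompactSpace V] [QuasiSeparatedSpace V]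
    (g : U.obj e ⟶ O) (v : V ⟶ O) [LocallyOfFinitePresentation v]
    (ρ : R.obj e ⟶ V) (w : ρ ≫ v = s.app e ≫ g)
    (hlim : IsPullback (cR.π.app e ≫ ρ) sLim v (cU.π.app e ≫ g)) :
    ∃ (m : J) (φ : m ⟶ e), IsPullback (R.map φ ≫ ρ) (s.app m) v (U.map φ ≫ g) := by
  have : QuasiCompact v := quasiCompact_of_compactSpace v
  have : QuasiSeparated v := (quasiSeparated_iff_quasiSeparatedSpace v).mpr ‹_›
  let a := pullback.snd v g
  let β : R.obj e ⟶ pullback v g := pullback.lift ρ (s.app e) w
  have hβa : β ≫ a = s.app e := pullback.lift_snd _ _ _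
  let e₀ : Over e := Over.mk (𝟙 e)
  let b : (pbDiagram U e a).obj e₀ ⟶ pullback v g := pullback.fst _ _
  have : IsIso b := inferInstanceAs (IsIso (pullback.fst a (U.map (𝟙 e))))
  have : CompactSpace ↥(pullback v g) := QuasiCompact.compactSpace_of_compactSpace (pullback.snd v g)
  have : QuasiSeparatedSpace ↥(pullback v g) := quasiSeparatedSpace_of_quasiSeparated (pullback.snd v g)
  have (k : Over e) : IsAffineHom ((pbDiagram U e a).map (Over.homMk k.hom : k ⟶ e₀)) := inferInstance
  have : CompactSpace ↥((pbDiagram U e a).obj e₀) := QuasiCompact.compactSpace_of_compactSpace b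
  have : QuasiSeparatedSpace ↥((pbDiagram U e a).obj e₀) := quasiSeparatedSpace_of_quasiSeparated b
  let β₀ : R.obj e ⟶ (pbDiagram U e a).obj e₀ := β ≫ inv b
  have : LocallyOfFinitePresentation β₀ := by
    have : LocallyOfFinitePresentation (β ≫ a) := by rwa [hβa]
    have : LocallyOfFinitePresentation β := lfp_of_comp β a
    infer_instance
  have hβb : β₀ ≫ b = β := by simp [β₀]
  -- the comparison in the limit
  let βl : cR.pt ⟶ pullback a (cU.π.app e) :=
    pullback.lift (cR.π.app e ≫ β) sLim (by rw [Category.assoc, hβa]; exact hsLim.w)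
  have sqV := (IsPullback.of_hasPullback a (cU.π.app e)).paste_horiz (IsPullback.of_hasPullback v g)
  have e₁ : βl = hlim.isoPullback.hom ≫ sqV.isoPullback.inv := by
    rw [Iso.eq_comp_inv]
    apply pullback.hom_ext
    · simp [βl, β]
    · simp [βl, β]
  have : IsIso βl := by rw [e₁]; infer_instance
  have hlimsq : IsPullback (cR.π.app e) βl β₀ ((pbCone U cU e a).π.app e₀) := by
    refine IsPullback.of_bot (h₃₁ := cU.π.app e) (v₂₁ := pullback.snd _ _)
      (v₂₂ := b ≫ a) ?_ ?_ ?_
    · rw [← Category.assoc, hβb, hβa, pullback.lift_snd]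
      exact hsLim
    · rw [← cancel_mono b, Category.assoc, hβb, Category.assoc]
      simp [b, βl, pbCone, e₀]
    · refine IsPullback.of_right (h₁₂ := b) (v₁₃ := a) (h₂₂ := 𝟙 _) ?_ ?_
        (IsPullback.of_horiz_isIso ⟨by simp [e₀]⟩)
      · simpa [b, pbCone, e₀] using IsPullback.of_hasPullback a (cU.π.app e)
      · simp [b, pbCone, e₀, pullback.condition]
  obtain ⟨k, ψ, hk⟩ := descends_isIso (Over e) (pbDiagram U e a) _ (isLimitPbCone U e a hU) e₀ β₀ ‹_› (by
    rw [← prop_iff_of_isPullback (P := MorphismProperty.isomorphisms Scheme.{u}) hlimsq]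
    exact ‹IsIso βl›)
  have hψ : ψ.left = k.hom := by simpa [e₀] using Over.w ψ
  refine ⟨k.left, k.hom, ?_⟩
  let βk : R.obj k.left ⟶ pullback a (U.map k.hom) :=
    pullback.lift (R.map k.hom ≫ β) (s.app k.left) (by rw [Category.assoc, hβa, s.naturality])
  have hksq : IsPullback (R.map k.hom) βk β₀ ((pbDiagram U e a).map ψ) := by
    refine IsPullback.of_bot (h₃₁ := U.map k.hom) (v₂₁ := pullback.snd _ _)
      (v₂₂ := b ≫ a) ?_ ?_ ?_
    · rw [← Category.assoc, hβb, hβa, pullback.lift_snd]
      exact hs k.hom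
    · rw [← cancel_mono b, Category.assoc, hβb, Category.assoc]
      simp [b, βk, e₀]
    · refine IsPullback.of_right (h₁₂ := b) (v₁₃ := a) (h₂₂ := 𝟙 _) ?_ ?_
        (IsPullback.of_horiz_isIso ⟨by simp [e₀]⟩)
      · simpa [b, e₀] using IsPullback.of_hasPullback a (U.map k.hom)
      · simp [b, e₀, pullback.condition, hψ]
  have : IsIso βk := (prop_iff_of_isPullback (P := MorphismProperty.isomorphisms Scheme.{u}) hksq).2 hk
  have hfin := (IsPullback.of_iso_pullback ⟨by rw [Category.assoc, hβa, s.naturality]⟩ (asIso βk)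
    (pullback.lift_fst _ _ _) (pullback.lift_snd _ _ _)).paste_horiz (IsPullback.of_hasPullback v g)
  rwa [Category.assoc, pullback.lift_fst] at hfin

end Groth.Agent.H12AlgSp
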