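import Mathlib.AlgebraicGeometry.AffineTransitionLimit
import Mathlib.AlgebraicGeometry.Morphisms.Etale
import Mathlib.AlgebraicGeometry.Morphisms.Separated
import Mathlib.AlgebraicGeometry.Morphisms.UniversallyOpen
import Mathlib.AlgebraicGeometry.Morphisms.Flat
import Mathlib.RingTheory.Smooth.NoetherianDescent
import Mathlib.RingTheory.Polynomial.Basic

/-!
An etale covering of an affine scheme comes from a finitely presented scheme over the integers.
-/

universe u

open CategoryTheory Limits AlgebraicGeometry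

set_option backward.isDefEq.respectTransparency false

namespace Groth.Agent.H12AlgSp

/-- Cancel a monomorphism at the bottom right corner of a cartesian square. -/
theorem isPullback_cancel_mono {C : Type*} [Category C] {P X Y Z W : C} {fst : P ⟶ X} {snd : P ⟶ Y}
    {f : X ⟶ Z} {g : Y ⟶ Z} (m : Z ⟶ W) [Mono m] (sq : IsPullback fst snd (f ≫ m) (g ≫ m)) :
    IsPullback fst snd f g :=
  ⟨⟨by rw [← cancel_mono m, Category.assoc, Category.assoc, sq.w]⟩,
    ⟨PullbackCone.IsLimit.mk _ (fun s => sq.lift s.fst s.snd (by rw [← Category.assoc, s.condition, Category.assoc]))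
      (fun s => sq.lift_fst _ _ _) (fun s => sq.lift_snd _ _ _)
      (fun s l h₁ h₂ => sq.hom_ext (by rw [h₁, sq.lift_fst]) (by rw [h₂, sq.lift_snd]))⟩⟩

/-- An etale cover of an affine scheme is the base change of an etale cover of a separated scheme of finite
presentation over the integers, by an affine scheme. -/
theorem exists_noetherian_model {U T : Scheme.{u}} [IsAffine U] [IsAffine T] (g : U ⟶ T) [Etale g] [Surjective g] :
    ∃ (O V : Scheme.{u}) (tO : O ⟶ Spec (CommRingCat.of (ULift.{u} ℤ))) (v : V ⟶ O) (κ : U ⟶ V) (τ : T ⟶ O),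
      IsAffine V ∧ IsSeparated tO ∧ CompactSpace O ∧ LocallyOfFinitePresentation tO ∧ Etale v ∧
        Surjective v ∧ IsPullback κ g v τ := by
  let φ : Γ(T, ⊤) →+* Γ(U, ⊤) := g.appTop.hom
  let _ : Algebra Γ(T, ⊤) Γ(U, ⊤) := φ.toAlgebra
  have : Algebra.Etale Γ(T, ⊤) Γ(U, ⊤) := HasRingHomProperty.appTop @Etale g ‹_›
  obtain ⟨A₀, B₀, _, _, hfg, hB₀, ⟨e⟩⟩ :=
    Algebra.Etale.exists_subalgebra_fg (R := ℤ) (A := Γ(T, ⊤)) (B := Γ(U, ⊤))
  have : Algebra.FiniteType ℤ A₀ := (Subalgebra.fg_iff_finiteType A₀).1 hfg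
  have hfp : Algebra.FinitePresentation ℤ A₀ := Algebra.FinitePresentation.of_finiteType.mp ‹_›
  let Z : Scheme.{u} := Spec (CommRingCat.of A₀)
  let v₀ : Spec (CommRingCat.of B₀) ⟶ Z := Spec.map (CommRingCat.ofHom (algebraMap A₀ B₀))
  have : Etale v₀ := (HasRingHomProperty.Spec_iff (P := @Etale)).2 (RingHom.etale_algebraMap.2 hB₀)
  let τ₀ : T ⟶ Z := T.isoSpec.hom ≫ Spec.map (CommRingCat.ofHom (algebraMap A₀ Γ(T, ⊤)))
  let incl : B₀ →+* Γ(U, ⊤) :=
    e.symm.toRingEquiv.toRingHom.comp (Algebra.TensorProduct.includeRight (R := A₀) (A := Γ(T, ⊤))).toRingHom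
  let κ₀ : U ⟶ Spec (CommRingCat.of B₀) := U.isoSpec.hom ≫ Spec.map (CommRingCat.ofHom incl)
  have sq : IsPullback κ₀ g v₀ τ₀ := by
    have h := (isPullback_SpecMap_of_isPushout _ _ _ _
      (CommRingCat.isPushout_tensorProduct A₀ Γ(T, ⊤) B₀)).flip
    refine h.of_iso ((Scheme.Spec.mapIso e.toRingEquiv.toCommRingCatIso.op) ≪≫ U.isoSpec.symm) (Iso.refl _)
      T.isoSpec.symm (Iso.refl _) ?_ ?_ (by simp [v₀, Z]) (by simp [τ₀, Z])
    · simp only [κ₀, Iso.trans_hom, Iso.symm_hom, Category.assoc, Iso.inv_hom_id_assoc, Iso.refl_hom,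
        Category.comp_id, Functor.mapIso_hom, Iso.op_hom, Scheme.Spec_map, Quiver.Hom.unop_op, ← Spec.map_comp]
      congr 1
      refine CommRingCat.hom_ext (RingHom.ext fun x => ?_)
      show _ = e (e.symm ((1 : Γ(T, ⊤)) ⊗ₜ[A₀] x))
      rw [e.apply_symm_apply]
      rfl
    · have hn : g ≫ T.isoSpec.hom = U.isoSpec.hom ≫ Spec.map g.appTop := (Scheme.isoSpec_hom_naturality g).symm
      rw [← cancel_mono T.isoSpec.hom, Iso.trans_hom, Iso.symm_hom, Iso.symm_hom]
      simp only [Category.assoc]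
      rw [hn, Iso.inv_hom_id_assoc, Iso.inv_hom_id, Category.comp_id]
      simp only [Functor.mapIso_hom, Iso.op_hom, Scheme.Spec_map, Quiver.Hom.unop_op, ← Spec.map_comp]
      congr 1
      refine CommRingCat.hom_ext (RingHom.ext fun x => ?_)
      exact (e.commutes x).symm
  have hopen : IsOpen (Set.range v₀) := v₀.isOpenMap.isOpen_range
  let O : Z.Opens := ⟨Set.range v₀, hopen⟩
  let v : Spec (CommRingCat.of B₀) ⟶ O := IsOpenImmersion.lift O.ι v₀ (by rw [Scheme.Opens.range_ι]; rfl)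
  have hv : v ≫ O.ι = v₀ := IsOpenImmersion.lift_fac _ _ _
  let τ : T ⟶ O := IsOpenImmersion.lift O.ι τ₀ (by
    rw [Scheme.Opens.range_ι]
    rintro _ ⟨x, rfl⟩
    obtain ⟨y, rfl⟩ := g.surjective x
    exact ⟨κ₀ y, by rw [← Scheme.Hom.comp_apply, sq.w]; rfl⟩)
  have hτ : τ ≫ O.ι = τ₀ := IsOpenImmersion.lift_fac _ _ _
  have : Etale v := by
    have : Etale (v ≫ O.ι) := by rwa [hv]
    exact Etale.of_comp v O.ι
  have : Surjective v := ⟨fun x => by
    obtain ⟨y, hy⟩ : O.ι x ∈ Set.range v₀ := x.2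
    refine ⟨y, O.ι.isOpenEmbedding.injective ?_⟩
    rw [← Scheme.Hom.comp_apply, hv]
    exact hy⟩
  let tZ : Z ⟶ Spec (CommRingCat.of (ULift.{u} ℤ)) := specULiftZIsTerminal.from _
  have : LocallyOfFinitePresentation tZ := by
    obtain ⟨ψ, hψ⟩ := Spec.map_surjective tZ
    rw [← hψ, HasRingHomProperty.Spec_iff (P := @LocallyOfFinitePresentation)]
    have e : ψ.hom = (algebraMap ℤ A₀).comp ULift.ringEquiv.toRingHom :=
      RingHom.ext fun x => by
        have hx : x = ((x.down : ℤ) : ULift.{u} ℤ) := ULift.ext _ _ (by simp)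
        rw [hx, map_intCast, map_intCast]
    rw [e]
    exact RingHom.FinitePresentation.comp (RingHom.finitePresentation_algebraMap.2 hfp)
      (RingHom.FinitePresentation.of_bijective (ULift.ringEquiv (R := ℤ)).bijective)
  have : IsSeparated tZ := inferInstance
  refine ⟨O, _, O.ι ≫ tZ, v, κ₀, τ, inferInstance, inferInstance, ?_, inferInstance, inferInstance, inferInstance,
    isPullback_cancel_mono O.ι (by rw [hv, hτ]; exact sq)⟩
  exact isCompact_iff_compactSpace.mp (isCompact_range v₀.continuous)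

end Groth.Agent.H12AlgSp
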