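import Groth.Agent.H12AlgSp.AffineLimit
import Groth.Agent.H12AlgSp.QC
import Groth.Agent.H12AlgSp.AffineMor

/-!
Systems of algebraic spaces with affine transition maps and one representable stage.
-/

universe u

open CategoryTheory CategoryTheory.Limits AlgebraicGeometry Opposite
open AlgSp Groth.Agent.H13AlgSp

set_option backward.isDefEq.respectTransparency false

attribute [local instance] CategoryTheory.isConnected_of_hasTerminal

namespace Groth.Agent.H12AlgSp

variable {S : Scheme.{u}}

/-- The source of a representable map to a scheme is a scheme. -/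
theorem exists_iso_yon_of_representable {F : Sp S} {Z : Over S} {f : F ⟶ (yon S).obj Z} (hf : Representable f) :
    ∃ W : Over S, Nonempty ((yon S).obj W ≅ F) := by
  obtain ⟨W, w, k, sq⟩ := hf (𝟙 ((yon S).obj Z))
  have : IsIso k := sq.isIso_fst_of_isIso
  exact ⟨W, ⟨asIso k⟩⟩

variable {I : Type u} [SmallCategory I] [IsCofiltered I] {D : I ⥤ Sp S}

/-- Above a representable stage, the system is a system of schemes with affine transition maps. -/
theorem exists_scheme_system (hDa : ∀ (i j : I) (φ : i ⟶ j), IsAffineMor (D.map φ)) {n : I} {Z : Over S}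
    (eZ : (yon S).obj Z ≅ D.obj n) :
    ∃ (K : Over n ⥤ Over S), (∀ (j k : Over n) (φ : j ⟶ k), IsAffineHom (K.map φ).left) ∧
      Nonempty (K ⋙ yon S ≅ Over.forget n ⋙ D) := by
  have hW : ∀ j : Over n, ∃ W : Over S, Nonempty ((yon S).obj W ≅ D.obj j.left) := fun j =>
    exists_iso_yon_of_representable (f := D.map j.hom ≫ eZ.inv)
      (MorphismProperty.RespectsIso.postcomp _ eZ.inv _ (isAffineMor_iff.1 (hDa _ _ j.hom))).1
  choose W e using hW
  let e' := fun j => (e j).some
  let K : Over n ⥤ Over S :=
    { obj := W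
      map := fun {j k} φ => (yon S).preimage ((e' j).hom ≫ D.map φ.left ≫ (e' k).inv)
      map_id := fun j => (yon S).map_injective (by simp)
      map_comp := fun φ ψ => (yon S).map_injective (by simp) }
  refine ⟨K, fun j k φ => ?_, ⟨NatIso.ofComponents (fun j => e' j) fun {j k} φ => ?_⟩⟩
  · have h : RepWith @IsAffineHom ((yon S).map (K.map φ)) := by
      simp only [K, Functor.map_preimage]
      exact MorphismProperty.RespectsIso.precomp _ _ _
        (MorphismProperty.RespectsIso.postcomp _ _ _ (isAffineMor_iff.1 (hDa _ _ φ.left)))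
    exact (repWith_yon_map_iff @IsAffineHom _).1 h
  · simp [K]

/-- If the limit is affine and some stage is a quasi-compact quasi-separated scheme, some stage is affine. -/
theorem exists_affine_of_representable_stage [QuasiSeparatedSpace S]
    (hDa : ∀ (i j : I) (φ : i ⟶ j), IsAffineMor (D.map φ)) {c : Cone D} (hc : IsLimit c)
    (hqc : ∀ i, IsQuasiCompactSp (D.obj i)) (hqs : ∀ i, IsQuasiSeparatedSp (D.obj i))
    {n : I} {Z : Over S} (eZ : (yon S).obj Z ≅ D.obj n) {T : Over S} (hT : IsAffine T.left)
    (e : (yon S).obj T ≅ c.pt) :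
    ∃ i₀ : I, ∀ i (_ : i ⟶ i₀), ∃ T' : Over S, IsAffine T'.left ∧ Nonempty ((yon S).obj T' ≅ D.obj i) := by
  obtain ⟨K, hKa, ⟨μ⟩⟩ := exists_scheme_system hDa eZ
  have hc' : IsLimit (c.whisker (Over.forget n)) := (Functor.Initial.isLimitWhiskerEquiv (Over.forget n) c).symm hc
  let cK : Cone K :=
    { pt := T
      π := { app := fun j => (yon S).preimage (e.hom ≫ c.π.app j.left ≫ μ.inv.app j)
             naturality := fun j k φ => (yon S).map_injective (by
               simp only [Functor.const_obj_map, Category.id_comp, Functor.map_comp, Functor.map_preimage,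
                 Category.assoc]
               have h₁ := μ.inv.naturality φ
               simp only [Functor.comp_map, Over.forget_map] at h₁
               rw [← h₁, ← c.w φ.left]
               simp) } }
  have hyK : IsLimit ((yon S).mapCone cK) := by
    refine IsLimit.ofIsoLimit ((IsLimit.postcomposeHomEquiv μ.symm _).symm hc') (Cone.ext e.symm fun j => ?_)
    change c.π.app j.left ≫ μ.inv.app j = e.inv ≫ (yon S).map ((yon S).preimage _)
    simp
  have hK : IsLimit cK := isLimitOfReflects (yon S) hyK
  have hlim : IsLimit ((Over.forget S).mapCone cK) := isLimitOfPreserves _ hK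
  have : ∀ j, CompactSpace ((K ⋙ Over.forget S).obj j) := fun j => by
    have : CompactSpace (Points ((Over.forget n ⋙ D).obj j)) := compactSpace_points_of_isQuasiCompactSp (hqc j.left)
    have h : Function.Surjective (Points.map (μ.inv.app j)) := fun x =>
      ⟨Points.map (μ.hom.app j) x, by rw [← Points.map_comp, Iso.hom_inv_id_app, Points.map_id]⟩
    have : CompactSpace (Points ((yon S).obj (K.obj j))) := h.compactSpace (Points.continuous_map _)
    exact (Points.schemeHomeo (K.obj j)).symm.compactSpace
  have : ∀ j, QuasiSeparatedSpace ((K ⋙ Over.forget S).obj j) := fun j => by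
    have h : RepWith @QuasiCompact (Limits.diag ((yon S).obj (K.obj j))) := by
      have hsq : Limits.diag ((yon S).obj (K.obj j)) ≫ prod.map (μ.hom.app j) (μ.hom.app j) =
          μ.hom.app j ≫ Limits.diag (D.obj j.left) := by
        apply Limits.prod.hom_ext <;> simp
      exact (MorphismProperty.arrow_mk_iso_iff (RepWith @QuasiCompact)
        (Arrow.isoMk (μ.app j) (prod.mapIso (μ.app j) (μ.app j)) hsq.symm)).2 (hqs j.left)
    have : QuasiSeparated (K.obj j).hom := ⟨(repWith_diag_yon_iff @QuasiCompact _).1 h⟩
    exact quasiSeparatedSpace_of_quasiSeparated (K.obj j).hom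
  have : ∀ {j k : Over n} (φ : j ⟶ k), IsAffineHom ((K ⋙ Over.forget S).map φ) := fun φ => hKa _ _ φ
  have : IsAffine ((Over.forget S).mapCone cK).pt := hT
  obtain ⟨j, hj⟩ := Scheme.exists_isAffine_of_isLimit _ _ hlim
  refine ⟨j.left, fun i φ => ⟨K.obj (Over.mk (φ ≫ j.hom)), ?_, ⟨μ.app _⟩⟩⟩
  have := hKa _ _ (Over.homMk φ rfl : Over.mk (φ ≫ j.hom) ⟶ j)
  have : IsAffine (K.obj j).left := hj
  exact isAffine_of_isAffineHom (K.map (Over.homMk φ rfl : Over.mk (φ ≫ j.hom) ⟶ j)).left

end Groth.Agent.H12AlgSp
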