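import Mathlib.AlgebraicGeometry.AffineTransitionLimit
import Mathlib.AlgebraicGeometry.Morphisms.ClosedImmersion
import Mathlib.AlgebraicGeometry.Morphisms.Separated
import Mathlib.AlgebraicGeometry.Morphisms.FiniteType

/-!
A morphism of systems of schemes, of finite type and cartesian up to closed immersions, which is a closed
immersion in the limit is a closed immersion at a finite stage.
-/

universe u

open CategoryTheory Limits AlgebraicGeometry TopologicalSpace

set_option backward.isDefEq.respectTransparency false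

namespace Groth.Agent.H12AlgSp

/-- The restriction of a morphism over an open is a base change. -/
theorem isPullback_resLE_of_eq {X Y : Scheme.{u}} (f : X ⟶ Y) (U : Y.Opens) (V : X.Opens) (h : f ⁻¹ᵁ U = V) :
    IsPullback V.ι (f.resLE U V h.ge) f U.ι :=
  (IsOpenImmersion.isPullback _ _ _ _ (Scheme.Hom.resLE_comp_ι f h.ge).symm
    (by simpa only [Scheme.Opens.opensRange_ι] using h)).flip

variable {J : Type u} [SmallCategory J] [IsCofiltered J] {D E : J ⥤ Scheme.{u}} (α : D ⟶ E)

/-- The comparison of the system `D` with the base change of one of its stages. -/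
noncomputable def compMapAt {i j : J} (φ : j ⟶ i) : D.obj j ⟶ pullback (α.app i) (E.map φ) :=
  pullback.lift (D.map φ) (α.app j) (α.naturality φ)

/-- A system which is a closed subsystem of base changes of a stage of finite type, closed in the limit,
is closed at a finite stage: affine case. -/
theorem exists_isClosedImmersion_app_of_affine (hα : ∀ i j (φ : j ⟶ i), IsClosedImmersion (compMapAt α φ))
    {cD : Cone D} {cE : Cone E} (hD : IsLimit cD) (hE : IsLimit cE) (k : cD.pt ⟶ cE.pt)
    (hk : ∀ j, k ≫ cE.π.app j = cD.π.app j ≫ α.app j) [IsClosedImmersion k]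
    [∀ j, IsAffine (D.obj j)] [∀ j, IsAffine (E.obj j)] [IsAffine cE.pt]
    [∀ j, LocallyOfFiniteType (α.app j)] :
    ∃ i, IsClosedImmersion (α.app i) := by
  classical
  have : IsAffine cD.pt := isAffine_of_isAffineHom k
  let e : J := IsCofiltered.nonempty.some
  have hft : (α.app e).appTop.hom.FiniteType :=
    HasRingHomProperty.appTop @LocallyOfFiniteType (α.app e) inferInstance
  let _ : Algebra Γ(E.obj e, ⊤) Γ(D.obj e, ⊤) := (α.app e).appTop.hom.toAlgebra
  have : Algebra.FiniteType Γ(E.obj e, ⊤) Γ(D.obj e, ⊤) := hft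
  obtain ⟨G, hG⟩ := Algebra.FiniteType.out (R := Γ(E.obj e, ⊤)) (A := Γ(D.obj e, ⊤))
  have hsurj : Function.Surjective k.appTop := (IsClosedImmersion.isAffine_surjective_of_isAffine k).2
  have hex : ∀ g : Γ(D.obj e, ⊤), ∃ (j : J) (φ : j ⟶ e),
      (D.map φ).appTop g ∈ (α.app j).appTop.hom.range := fun g => by
    obtain ⟨b, hb⟩ := hsurj ((cD.π.app e).appTop g)
    obtain ⟨l, t, rfl⟩ := exists_appTop_π_eq_of_isAffine_of_isLimit E cE hE b
    let m := IsCofiltered.min l e
    let ml := IsCofiltered.minToLeft l e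
    let me := IsCofiltered.minToRight l e
    let d : Γ(D.obj m, ⊤) := (D.map me).appTop g - (α.app m).appTop ((E.map ml).appTop t)
    have hd : (cD.π.app m).appTop d = 0 := by
      have e₁ : cD.π.app m ≫ D.map me = cD.π.app e := cD.w me
      have e₂ : cD.π.app m ≫ α.app m ≫ E.map ml = k ≫ cE.π.app l := by
        rw [← Category.assoc, ← hk, Category.assoc, cE.w]
      rw [map_sub, sub_eq_zero]
      change ((D.map me).appTop ≫ (cD.π.app m).appTop) g =
        ((E.map ml).appTop ≫ (α.app m).appTop ≫ (cD.π.app m).appTop) t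
      rw [← Scheme.Hom.comp_appTop, e₁, ← Scheme.Hom.comp_appTop, ← Scheme.Hom.comp_appTop,
        Category.assoc, e₂, Scheme.Hom.comp_appTop]
      exact hb.symm
    obtain ⟨j, ψ, hj⟩ := exists_appTop_map_eq_zero_of_isAffine_of_isLimit D cD hD m d hd
    refine ⟨j, ψ ≫ me, (E.map (ψ ≫ ml)).appTop t, ?_⟩
    rw [map_sub, sub_eq_zero] at hj
    rw [Functor.map_comp, Functor.map_comp, Scheme.Hom.comp_appTop, Scheme.Hom.comp_appTop]
    refine Eq.trans ?_ hj.symm
    change ((E.map ml).appTop ≫ (E.map ψ).appTop ≫ (α.app j).appTop) t =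
      ((E.map ml).appTop ≫ (α.app m).appTop ≫ (D.map ψ).appTop) t
    rw [← Scheme.Hom.comp_appTop, ← Scheme.Hom.comp_appTop (D.map ψ), α.naturality ψ]
  choose js φs hjs using hex
  obtain ⟨i, φ, ψ, hψ⟩ := IsCofiltered.wideCospan (fun a : Fin G.card => φs (G.equivFin.symm a))
  refine ⟨i, IsClosedImmersion.of_surjective_of_isAffine _ fun x => ?_⟩
  have hq : Function.Surjective (compMapAt α φ).appTop :=
    (IsClosedImmersion.isAffine_surjective_of_isAffine (compMapAt α φ)).2
  obtain ⟨z, rfl⟩ := hq x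
  have hgen := CommRingCat.closure_range_union_range_eq_top_of_isPushout
    (isPushout_appTop_of_isPullback (IsPullback.of_hasPullback (α.app e) (E.map φ)))
  suffices ⊤ ≤ (α.app i).appTop.hom.range.comap (compMapAt α φ).appTop.hom from
    this (Subring.mem_top z)
  rw [← hgen, Subring.closure_le]
  rintro _ (⟨g, rfl⟩ | ⟨b, rfl⟩)
  · show ((pullback.fst (α.app e) (E.map φ)).appTop ≫ (compMapAt α φ).appTop) g ∈ (α.app i).appTop.hom.range
    rw [← Scheme.Hom.comp_appTop, compMapAt, pullback.lift_fst]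
    let A : Subalgebra Γ(E.obj e, ⊤) Γ(D.obj e, ⊤) :=
      { ((α.app i).appTop.hom.range.comap (D.map φ).appTop.hom).toSubsemiring with
        algebraMap_mem' := fun r => by
          refine ⟨(E.map φ).appTop r, ?_⟩
          show ((E.map φ).appTop ≫ (α.app i).appTop) r = ((α.app e).appTop ≫ (D.map φ).appTop) r
          rw [← Scheme.Hom.comp_appTop, ← Scheme.Hom.comp_appTop, α.naturality φ] }
    have hle : (G : Set Γ(D.obj e, ⊤)) ⊆ A := fun a ha => by
      obtain ⟨t, ht⟩ := hjs a
      have ea : (G.equivFin.symm (G.equivFin ⟨a, ha⟩) : Γ(D.obj e, ⊤)) = a := by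
        rw [Equiv.symm_apply_apply]
      obtain ⟨χ, hχ⟩ : ∃ χ : i ⟶ js a, χ ≫ φs a = φ := by
        have hex : ∃ χ : i ⟶ js ((G.equivFin.symm (G.equivFin ⟨a, ha⟩)) : Γ(D.obj e, ⊤)),
          χ ≫ φs _ = φ := ⟨ψ _, hψ _⟩
        rwa [ea] at hex
      refine ⟨(E.map χ).appTop t, ?_⟩
      rw [← hχ, Functor.map_comp, Scheme.Hom.comp_appTop]
      show ((E.map χ).appTop ≫ (α.app i).appTop) t = (D.map χ).appTop ((D.map (φs a)).appTop a)
      rw [← Scheme.Hom.comp_appTop, ← α.naturality χ, Scheme.Hom.comp_appTop]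
      exact congrArg (D.map χ).appTop ht
    exact (Algebra.adjoin_le hle) (hG.ge (Algebra.mem_top (x := g)))
  · show ((pullback.snd (α.app e) (E.map φ)).appTop ≫ (compMapAt α φ).appTop) b ∈ (α.app i).appTop.hom.range
    rw [← Scheme.Hom.comp_appTop, compMapAt, pullback.lift_snd]
    exact ⟨b, rfl⟩

/-- Being a closed immersion at a stage persists. -/
theorem isClosedImmersion_app_of_le {i j : J} (φ : j ⟶ i) [IsClosedImmersion (compMapAt α φ)]
    [IsClosedImmersion (α.app i)] : IsClosedImmersion (α.app j) := by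
  rw [show α.app j = compMapAt α φ ≫ pullback.snd (α.app i) (E.map φ) from (pullback.lift_snd _ _ _).symm]
  infer_instance

section Restrict

variable {e : J} (W : (E.obj e).Opens)

/-- The preimage of an open of a stage in the system `D`. -/
noncomputable abbrev restrictHom : opensDiagram D e (α.app e ⁻¹ᵁ W) ⟶ opensDiagram E e W where
  app j := (α.app j.left).resLE _ _ (by
    rw [← Scheme.Hom.comp_preimage, ← Scheme.Hom.comp_preimage, α.naturality])
  naturality j k f := by
    simp only [opensDiagram_map, Scheme.Hom.resLE_comp_resLE, α.naturality]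

theorem isClosedImmersion_compMapAt_restrict {i j : Over e} (φ : j ⟶ i)
    [IsClosedImmersion (compMapAt α φ.left)] :
    IsClosedImmersion (compMapAt (restrictHom α W) φ) := by
  let β := restrictHom α W
  let Wi : (E.obj i.left).Opens := E.map i.hom ⁻¹ᵁ W
  let Wj : (E.obj j.left).Opens := E.map j.hom ⁻¹ᵁ W
  let Vj : (D.obj j.left).Opens := D.map j.hom ⁻¹ᵁ (α.app e ⁻¹ᵁ W)
  let Vi : (D.obj i.left).Opens := D.map i.hom ⁻¹ᵁ (α.app e ⁻¹ᵁ W)
  have hpre : ∀ k : Over e, α.app k.left ⁻¹ᵁ (E.map k.hom ⁻¹ᵁ W) = D.map k.hom ⁻¹ᵁ (α.app e ⁻¹ᵁ W) :=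
    fun k => by rw [← Scheme.Hom.comp_preimage, ← Scheme.Hom.comp_preimage, α.naturality]
  let m : pullback (β.app i) ((opensDiagram E e W).map φ) ⟶ pullback (α.app i.left) (E.map φ.left) :=
    pullback.map _ _ _ _ Vi.ι Wj.ι Wi.ι (by simp [β, Vi, Wi]) (by simp [Wj, Wi])
  have sqA : IsPullback Vi.ι (β.app i) (α.app i.left) Wi.ι :=
    isPullback_resLE_of_eq (α.app i.left) Wi Vi (hpre i)
  have sqJ : IsPullback Vj.ι (β.app j) (α.app j.left) Wj.ι :=
    isPullback_resLE_of_eq (α.app j.left) Wj Vj (hpre j)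
  have sqm : IsPullback m (pullback.snd (β.app i) ((opensDiagram E e W).map φ))
      (pullback.snd (α.app i.left) (E.map φ.left)) Wj.ι := by
    refine IsPullback.of_right ?_ (pullback.lift_snd _ _ _) (IsPullback.of_hasPullback _ _)
    rw [pullback.lift_fst]
    have big := ((IsPullback.of_hasPullback (β.app i) ((opensDiagram E e W).map φ))).paste_horiz sqA
    convert big using 1
    simp [Wj, Wi]
  have sql : IsPullback Vj.ι (compMapAt β φ) (compMapAt α φ.left) m := by
    refine IsPullback.of_bot ?_ ?_ sqm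
    · rw [compMapAt, pullback.lift_snd, compMapAt, pullback.lift_snd]
      exact sqJ
    · apply pullback.hom_ext
      · simp [compMapAt, m, Vj, Vi]
      · simp [compMapAt, m, β, Vj, Wj]
  exact MorphismProperty.of_isPullback sql ‹IsClosedImmersion (compMapAt α φ.left)›

end Restrict

/-- A system which is a closed subsystem of base changes of a stage of finite type, closed in the limit,
is closed at a finite stage. -/
theorem exists_isClosedImmersion_app (hα : ∀ i j (φ : j ⟶ i), IsClosedImmersion (compMapAt α φ))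
    [∀ (i j : J) (f : i ⟶ j), IsAffineHom (D.map f)] [∀ (i j : J) (f : i ⟶ j), IsAffineHom (E.map f)]
    [∀ j, CompactSpace (D.obj j)] [∀ j, QuasiSeparatedSpace (D.obj j)]
    [∀ j, CompactSpace (E.obj j)] [∀ j, QuasiSeparatedSpace (E.obj j)]
    [∀ j, LocallyOfFiniteType (α.app j)]
    {cD : Cone D} {cE : Cone E} (hD : IsLimit cD) (hE : IsLimit cE) (k : cD.pt ⟶ cE.pt)
    (hk : ∀ j, k ≫ cE.π.app j = cD.π.app j ≫ α.app j) [IsClosedImmersion k] :
    ∃ i₀, ∀ i (_ : i ⟶ i₀), IsClosedImmersion (α.app i) := by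
  classical
  let e : J := IsCofiltered.nonempty.some
  obtain ⟨s, hs, hcov⟩ := (isCompact_and_isOpen_iff_finite_and_eq_biUnion_affineOpens
    (X := E.obj e) (U := Set.univ)).mp ⟨isCompact_univ, isOpen_univ⟩
  have : Finite s := hs
  have key : ∀ W : s, ∃ j : Over e, ∀ l (_ : l ⟶ j), IsClosedImmersion ((restrictHom α (W.1 : (E.obj e).Opens)).app l) := by
    rintro ⟨⟨W, hW⟩, -⟩
    let V := α.app e ⁻¹ᵁ W
    have : QuasiCompact (α.app e) := inferInstance
    have hV : IsCompact (V : Set (D.obj e)) := QuasiCompact.isCompact_preimage _ W.2 hW.isCompact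
    have (j : Over e) : CompactSpace ((opensDiagram D e V).obj j) :=
      isCompact_iff_compactSpace.mp (QuasiCompact.isCompact_preimage _ V.2 hV)
    have (j : Over e) : QuasiSeparatedSpace ((opensDiagram D e V).obj j) :=
      (isQuasiSeparated_iff_quasiSeparatedSpace _ (D.map _ ⁻¹ᵁ _).2).mp (.of_quasiSeparatedSpace _)
    have (j : Over e) : IsAffine ((opensDiagram E e W).obj j) := hW.preimage (E.map j.hom)
    have haE : IsAffineHom (cE.π.app e) := isAffineHom_π_app E cE hE e
    have hcl : cD.π.app e ⁻¹ᵁ V = k ⁻¹ᵁ (cE.π.app e ⁻¹ᵁ W) := by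
      rw [← Scheme.Hom.comp_preimage, ← Scheme.Hom.comp_preimage, hk]
    let k' : (opensCone D cD e V).pt ⟶ (opensCone E cE e W).pt :=
      k.resLE (cE.π.app e ⁻¹ᵁ W) (cD.π.app e ⁻¹ᵁ V) hcl.le
    have : IsClosedImmersion k' := by
      exact MorphismProperty.of_isPullback (P := @IsClosedImmersion) (isPullback_resLE_of_eq k _ _ hcl.symm) ‹_›
    have : IsAffine (opensCone E cE e W).pt := hW.preimage (cE.π.app e)
    have : IsAffine (opensCone D cD e V).pt := isAffine_of_isAffineHom k'
    obtain ⟨j, hj⟩ := Scheme.exists_isAffine_of_isLimit _ _ (isLimitOpensCone D cD hD e V)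
    let R := Over.forget j
    have hα' : ∀ a b (φ : b ⟶ a), IsClosedImmersion (compMapAt (Functor.whiskerLeft R (restrictHom α W)) φ) := by
      intro a b φ
      have := hα _ _ φ.left.left
      exact isClosedImmersion_compMapAt_restrict α W φ.left
    have (a : Over j) : IsAffine ((R ⋙ opensDiagram D e V).obj a) :=
      isAffine_of_isAffineHom ((opensDiagram D e V).map a.hom)
    have (a : Over j) : LocallyOfFiniteType ((Functor.whiskerLeft R (restrictHom α W)).app a) := by
      change LocallyOfFiniteType ((α.app a.left.left).resLE _ _ _)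
      exact IsZariskiLocalAtSource.resLE _ (inferInstance : LocallyOfFiniteType (α.app a.left.left))
    have (a : Over j) : IsAffine ((R ⋙ opensDiagram E e W).obj a) := hW.preimage (E.map a.left.hom)
    have : IsAffine ((opensCone E cE e W).whisker R).pt := ‹IsAffine (opensCone E cE e W).pt›
    obtain ⟨a, ha⟩ := exists_isClosedImmersion_app_of_affine (Functor.whiskerLeft R (restrictHom α W)) hα'
      ((Functor.Initial.isLimitWhiskerEquiv R (opensCone D cD e V)).symm (isLimitOpensCone D cD hD e V))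
      ((Functor.Initial.isLimitWhiskerEquiv R (opensCone E cE e W)).symm (isLimitOpensCone E cE hE e W))
      k' (fun a => by
        show k' ≫ (cE.π.app a.left.left).resLE _ _ _ = (cD.π.app a.left.left).resLE _ _ _ ≫ (α.app a.left.left).resLE _ _ _
        simp only [k', Scheme.Hom.resLE_comp_resLE, hk])
    refine ⟨a.left, fun l φ => ?_⟩
    have : IsClosedImmersion ((restrictHom α W).app a.left) := ha
    have := hα _ _ φ.left
    have := isClosedImmersion_compMapAt_restrict α W φ
    exact isClosedImmersion_app_of_le _ φ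
  choose j hj using key
  obtain ⟨i₀, φ₀, ψ, hψ⟩ := IsCofiltered.wideCospan
    (fun a : Fin (Nat.card s) => (j ((Finite.equivFin s).symm a)).hom)
  refine ⟨i₀, fun i φ => ?_⟩
  refine IsZariskiLocalAtTarget.of_iSup_eq_top (P := @IsClosedImmersion)
    (fun W : s => E.map (φ ≫ φ₀) ⁻¹ᵁ (W.1 : (E.obj e).Opens)) ?_ fun W => ?_
  · rw [← Scheme.Hom.preimage_iSup]
    refine top_le_iff.mp fun x _ ↦ ?_
    obtain ⟨U, hU, hxU⟩ := Set.mem_iUnion₂.mp (hcov.le (Set.mem_univ (E.map (φ ≫ φ₀) x)))
    exact TopologicalSpace.Opens.mem_iSup.mpr ⟨⟨U, hU⟩, hxU⟩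
  · obtain ⟨a, rfl⟩ := (Finite.equivFin s).symm.surjective W
    have hw : (φ ≫ ψ a) ≫ (j ((Finite.equivFin s).symm a)).hom = φ ≫ φ₀ := by rw [Category.assoc, hψ a]
    have hcl := hj _ (Over.mk (φ ≫ φ₀)) (Over.homMk (φ ≫ ψ a) hw)
    rw [← Scheme.Hom.resLE_eq_morphismRestrict]
    refine (Scheme.Hom.resLE_congr (α.app i) _ rfl ?_ @IsClosedImmersion).1 hcl
    show D.map (φ ≫ φ₀) ⁻¹ᵁ (α.app e ⁻¹ᵁ _) = _
    rw [← Scheme.Hom.comp_preimage, ← Scheme.Hom.comp_preimage, α.naturality]

end Groth.Agent.H12AlgSp
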