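import Groth.Agent.H12AlgSp.LimitAtlas
import Groth.Agent.H12AlgSp.LimitClosedStage

/-!
Separatedness of limits of algebraic spaces with affine transition maps descends to a finite stage.
-/

universe u

open CategoryTheory CategoryTheory.Limits AlgebraicGeometry Opposite
open AlgSp Groth.Agent.H13AlgSp

set_option backward.isDefEq.respectTransparency false

attribute [local instance] CategoryTheory.isConnected_of_hasTerminal

namespace Groth.Agent.H12AlgSp

variable {S : Scheme.{u}}

theorem isAffineHom_prodMap_left {A B A' B' : Over S} (f : A ⟶ A') (g : B ⟶ B') [hf : IsAffineHom f.left]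
    [hg : IsAffineHom g.left] : IsAffineHom (prod.map f g).left := by
  have h1 : IsAffineHom (prod.map f (𝟙 B)).left :=
    MorphismProperty.of_isPullback ((IsPullback.of_prod_fst_with_id f B).map (Over.forget S)) hf
  have sq : IsPullback (prod.map (𝟙 A') g) prod.snd prod.snd g := by
    refine IsPullback.mk ⟨by simp⟩ ⟨PullbackCone.IsLimit.mk _
      (fun s => prod.lift (s.fst ≫ prod.fst) s.snd) (fun s => ?_) (fun s => prod.lift_snd _ _)
      (fun s m h₁ h₂ => ?_)⟩
    · apply Limits.prod.hom_ext
      · simp
      · simp [← s.condition]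
    · apply Limits.prod.hom_ext
      · simp [← h₁]
      · simp [h₂]
  have h2 : IsAffineHom (prod.map (𝟙 A') g).left :=
    MorphismProperty.of_isPullback (sq.flip.map (Over.forget S)) hg
  rw [show prod.map f g = prod.map f (𝟙 B) ≫ prod.map (𝟙 A') g by simp, Over.comp_left]
  infer_instance

/-- The system of squares of a system over `S`. -/
noncomputable def squareFunctor {J : Type u} [SmallCategory J] (U : J ⥤ Over S) : J ⥤ Over S where
  obj j := U.obj j ⨯ U.obj j
  map φ := prod.map (U.map φ) (U.map φ)
  map_id j := by simp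
  map_comp φ ψ := by simp

/-- The square of a cone. -/
noncomputable def squareCone {J : Type u} [SmallCategory J] {U : J ⥤ Over S} (c : Cone U) :
    Cone (squareFunctor U) where
  pt := c.pt ⨯ c.pt
  π := { app := fun j => prod.map (c.π.app j) (c.π.app j)
         naturality := fun j k φ => by
           change 𝟙 _ ≫ prod.map (c.π.app k) (c.π.app k) = prod.map (c.π.app j) (c.π.app j) ≫ prod.map (U.map φ) (U.map φ)
           rw [Category.id_comp, prod.map_map, c.w] }

/-- The square of a limit is the limit of the squares. -/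
noncomputable def isLimitSquareCone {J : Type u} [SmallCategory J] {U : J ⥤ Over S} {c : Cone U}
    (hc : IsLimit c) : IsLimit (squareCone c) where
  lift s := prod.lift
    (hc.lift ⟨s.pt,
      { app := fun j => s.π.app j ≫ prod.fst
        naturality := fun j k φ => by rw [← s.w φ]; simp [squareFunctor] }⟩)
    (hc.lift ⟨s.pt,
      { app := fun j => s.π.app j ≫ prod.snd
        naturality := fun j k φ => by rw [← s.w φ]; simp [squareFunctor] }⟩)
  fac s j := by
    change prod.lift _ _ ≫ prod.map (c.π.app j) (c.π.app j) = _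
    apply Limits.prod.hom_ext <;> simp
  uniq s m hm := by
    apply Limits.prod.hom_ext
    · rw [prod.lift_fst]
      refine hc.hom_ext fun j => ?_
      rw [hc.fac]
      simp [← hm j, squareCone]
    · rw [prod.lift_snd]
      refine hc.hom_ext fun j => ?_
      rw [hc.fac]
      simp [← hm j, squareCone]

variable {I : Type u} [SmallCategory I] [IsCofiltered I] {D : I ⥤ Sp S} {c : Cone D}

theorem compactSpace_prod_left [QuasiSeparatedSpace S] {U V : Over S} [IsAffine U.left] [IsAffine V.left] :
    CompactSpace (U ⨯ V).left := by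
  have : QuasiCompact V.hom := quasiCompact_of_compactSpace _
  have : CompactSpace ↥(pullback U.hom V.hom) :=
    QuasiCompact.compactSpace_of_compactSpace (pullback.fst U.hom V.hom)
  exact (Scheme.homeoOfIso (Over.prodLeftIsoPullback U V)).symm.compactSpace

theorem quasiSeparatedSpace_prod_left [QuasiSeparatedSpace S] {U V : Over S} [IsAffine U.left] [IsAffine V.left] :
    QuasiSeparatedSpace (U ⨯ V).left := by
  have : QuasiSeparated V.hom := QuasiSeparated.of_comp V.hom (terminal.from S)
  have : QuasiSeparatedSpace ↥(pullback U.hom V.hom) :=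
    quasiSeparatedSpace_of_quasiSeparated (pullback.fst U.hom V.hom)
  exact quasiSeparatedSpace_of_quasiSeparated (Over.prodLeftIsoPullback U V).hom

theorem exists_isSeparatedSp_of_limit [QuasiSeparatedSpace S] (hD : ∀ i, IsAlgSpace (D.obj i))
    (hDa : ∀ (i j : I) (φ : i ⟶ j), IsAffineMor (D.map φ)) (hc : IsLimit c)
    (hqs : ∀ i, IsQuasiSeparatedSp (D.obj i)) {i₁ : I} (hqc : IsQuasiCompactSp (D.obj i₁))
    (hX : IsSeparatedSp c.pt) : ∃ i₀ : I, ∀ i (_ : i ⟶ i₀), IsSeparatedSp (D.obj i) := by
  obtain ⟨A⟩ := exists_atlasSystem_of_qc hDa hc hD i₁ hqc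
  obtain ⟨r⟩ := A.exists_rel hDa hc hD
  let α : r.R ⋙ Over.forget S ⟶ squareFunctor A.U ⋙ Over.forget S :=
    { app := fun j => (prod.lift (r.t.app j) (r.s.app j)).left
      naturality := fun j k φ => by
        change (r.R.map φ).left ≫ _ = _ ≫ (prod.map (A.U.map φ) (A.U.map φ)).left
        rw [← Over.comp_left, ← Over.comp_left]
        exact congrArg (fun m => Over.Hom.left m) (by apply Limits.prod.hom_ext <;> simp [squareFunctor]) }
  have hmono : ∀ j, Mono (prod.lift (r.t.app j) (r.s.app j)) := fun j => ⟨fun x y h => by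
    have h₁ := h =≫ prod.fst
    have h₂ := h =≫ prod.snd
    simp only [Category.assoc, prod.lift_fst, prod.lift_snd] at h₁ h₂
    exact (yon S).map_injective ((r.sqR j).hom_ext
      (by rw [← Functor.map_comp, ← Functor.map_comp, h₁]) (by rw [← Functor.map_comp, ← Functor.map_comp, h₂]))⟩
  have : ∀ j, Mono (α.app j) := fun j =>
    have := hmono j
    inferInstanceAs (Mono ((Over.forget S).map (prod.lift (r.t.app j) (r.s.app j))))
  have hsE : ∀ j, Etale (r.s.app j).left := fun j => (A.etale j).2 _ _ _ (r.sqR j)
  have : ∀ j, LocallyOfFiniteType (α.app j) := fun j => by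
    have := hsE j
    have : LocallyOfFiniteType (α.app j ≫ (prod.snd : A.U.obj j ⨯ A.U.obj j ⟶ A.U.obj j).left) := by
      change LocallyOfFiniteType ((prod.lift (r.t.app j) (r.s.app j)).left ≫ _)
      rw [← Over.comp_left, prod.lift_snd]
      infer_instance
    exact locallyOfFiniteType_of_comp _ (prod.snd : A.U.obj j ⨯ A.U.obj j ⟶ A.U.obj j).left
  have : ∀ j, CompactSpace ((squareFunctor A.U ⋙ Over.forget S).obj j) := fun j => compactSpace_prod_left
  have : ∀ j, QuasiSeparatedSpace ((squareFunctor A.U ⋙ Over.forget S).obj j) := fun j =>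
    quasiSeparatedSpace_prod_left
  have : ∀ j, CompactSpace ((r.R ⋙ Over.forget S).obj j) := fun j => compactSpace_of_isPullback' (hqs _) (r.sqR j)
  have : ∀ j, QuasiSeparatedSpace ((r.R ⋙ Over.forget S).obj j) := fun j =>
    have : IsSeparated (α.app j) := monomorphisms_le_isSeparated _ (inferInstance : Mono (α.app j))
    quasiSeparatedSpace_of_quasiSeparated (α.app j)
  have hU : ∀ j k (φ : j ⟶ k), IsAffineHom (A.U.map φ).left := fun j k φ => inferInstance
  have : ∀ j k (φ : j ⟶ k), IsAffineHom ((squareFunctor A.U ⋙ Over.forget S).map φ) := fun j k φ =>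
    isAffineHom_prodMap_left _ _
  have : ∀ j k (φ : j ⟶ k), IsAffineHom ((r.R ⋙ Over.forget S).map φ) := fun j k φ =>
    MorphismProperty.of_isPullback ((r.sqs φ).flip.map (Over.forget S)) (hU j k φ)
  have hα : ∀ k j (φ : j ⟶ k), IsClosedImmersion (compMapAt α φ) := fun k j φ => by
    let sq := (r.sqs φ).map (Over.forget S)
    let π : pullback (α.app k) ((squareFunctor A.U ⋙ Over.forget S).map φ) ⟶
        pullback (r.s.app k).left (A.U.map φ).left :=
      pullback.lift (pullback.fst _ _) (pullback.snd _ _ ≫ (prod.snd : A.U.obj j ⨯ A.U.obj j ⟶ A.U.obj j).left) (by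
        have h : (r.s.app k).left = α.app k ≫ (prod.snd : A.U.obj k ⨯ A.U.obj k ⟶ A.U.obj k).left := by
          change _ = (prod.lift (r.t.app k) (r.s.app k)).left ≫ _
          rw [← Over.comp_left, prod.lift_snd]
        rw [h, pullback.condition_assoc, Category.assoc]
        congr 1
        change (prod.map (A.U.map φ) (A.U.map φ)).left ≫ _ = _
        rw [← Over.comp_left, ← Over.comp_left, prod.map_snd])
    have : IsSeparated (π ≫ pullback.fst _ _) := by
      rw [pullback.lift_fst]
      infer_instance
    have : IsSeparated π := IsSeparated.of_comp π (pullback.fst _ _)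
    have e : compMapAt α φ ≫ π = sq.isoPullback.hom := by
      apply pullback.hom_ext
      · simp [π, compMapAt]
      · rw [Category.assoc, pullback.lift_snd, compMapAt, pullback.lift_snd_assoc]
        refine Eq.trans ?_ sq.isoPullback_hom_snd.symm
        change (prod.lift (r.t.app j) (r.s.app j)).left ≫ _ = _
        rw [← Over.comp_left, prod.lift_snd]
        rfl
    have : IsClosedImmersion (compMapAt α φ ≫ π) := by rw [e]; infer_instance
    exact IsClosedImmersion.of_comp _ π
  have hk : IsClosedImmersion (prod.lift r.tLim r.sLim).left :=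
    (repWith_yon_map_iff @IsClosedImmersion _).1 (repWith_of_isPullback (isPullback_diag_prodHom r.sqLim) hX)
  let k : ((Over.forget S).mapCone r.cR).pt ⟶ ((Over.forget S).mapCone (squareCone A.cU)).pt :=
    (prod.lift r.tLim r.sLim).left
  have : IsClosedImmersion k := hk
  obtain ⟨j₀, hj₀⟩ := exists_isClosedImmersion_app α hα (isLimitOfPreserves _ r.isLimit)
    (isLimitOfPreserves _ (isLimitSquareCone A.isLimit)) k (fun j => by
      change (prod.lift r.tLim r.sLim).left ≫ (prod.map (A.cU.π.app j) (A.cU.π.app j)).left =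
        (r.cR.π.app j).left ≫ (prod.lift (r.t.app j) (r.s.app j)).left
      rw [← Over.comp_left, ← Over.comp_left, prod.lift_map, prod.comp_lift, r.t_comp, r.s_comp])
  refine ⟨j₀.left, fun i φ => ?_⟩
  let l : Over i₁ := Over.mk (φ ≫ j₀.hom)
  have hcl := hj₀ l (Over.homMk φ rfl)
  exact repWith_of_fppf_base (hD i).diag (repWith_fppf_of_etale
      (MorphismProperty.RespectsIso.precomp _ _ _ (repWith_prodMap (A.etale l) (A.etale l)))
      (MorphismProperty.RespectsIso.precomp _ _ _ (repWith_prodMap (A.surjective l) (A.surjective l))))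
    (isPullback_diag_prodHom (r.sqR l)) ((repWith_yon_map_iff @IsClosedImmersion _).2 hcl)

end Groth.Agent.H12AlgSp
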