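import Groth.Agent.H12AlgSp.Diagonal
import Groth.Agent.H12AlgSp.LocP
import Groth.Agent.H12AlgSp.QC
import Groth.Agent.H18Descent.Basic

/-!
Diagonals of algebraic spaces; separated and quasi-separated morphisms.
-/

set_option linter.unusedVariables false
set_option backward.isDefEq.respectTransparency false

universe u

open CategoryTheory CategoryTheory.Limits AlgebraicGeometry Opposite
open AlgSp

namespace Groth.Agent.H12AlgSp

variable {S : Scheme.{u}} {F G : Sp S}

theorem isPullback_prodMap_fst {A B : Sp S} (f : A ⟶ F) :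
    IsPullback (prod.fst : A ⨯ B ⟶ A) (prod.map f (𝟙 B)) f (prod.fst : F ⨯ B ⟶ F) := by
  refine ⟨⟨by simp⟩, ⟨PullbackCone.IsLimit.mk _ (fun s => prod.lift s.fst (s.snd ≫ prod.snd))
    (fun s => prod.lift_fst _ _) (fun s => ?_) (fun s m h₁ h₂ => ?_)⟩⟩
  · apply Limits.prod.hom_ext
    · simp [s.condition]
    · simp
  · apply Limits.prod.hom_ext
    · simp [h₁]
    · simp [← h₂]

theorem isPullback_prodMap_snd {A B : Sp S} (g : A ⟶ F) :
    IsPullback (prod.snd : B ⨯ A ⟶ A) (prod.map (𝟙 B) g) g (prod.snd : B ⨯ F ⟶ F) := by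
  refine ⟨⟨by simp⟩, ⟨PullbackCone.IsLimit.mk _ (fun s => prod.lift (s.snd ≫ prod.fst) s.fst)
    (fun s => prod.lift_snd _ _) (fun s => ?_) (fun s m h₁ h₂ => ?_)⟩⟩
  · apply Limits.prod.hom_ext
    · simp
    · simp [s.condition]
  · apply Limits.prod.hom_ext
    · simp [← h₂]
    · simp [h₁]

theorem repWith_prodMap {P : MorphismProperty Scheme.{u}} [P.IsStableUnderBaseChange]
    [P.IsStableUnderComposition] {A B C : Sp S} {f : A ⟶ F} {g : B ⟶ C} (hf : RepWith P f)
    (hg : RepWith P g) : RepWith P (prod.map f g) := by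
  rw [show prod.map f g = prod.map f (𝟙 B) ≫ prod.map (𝟙 F) g by simp]
  exact repWith_comp (repWith_of_isPullback (isPullback_prodMap_fst f) hf)
    (repWith_of_isPullback (isPullback_prodMap_snd g) hg)

/-- The fibre product of two maps is the pullback of the diagonal along their product. -/
theorem isPullback_diag_prodMap {A B W : Sp S} {a : A ⟶ F} {b : B ⟶ F} {p : W ⟶ A} {q : W ⟶ B}
    (sq : IsPullback p q a b) :
    IsPullback (p ≫ a) (prod.lift p q) (Limits.diag F) (prod.map a b) := by
  have key : ∀ s : PullbackCone (Limits.diag F) (prod.map a b),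
      (s.snd ≫ prod.fst) ≫ a = s.fst ∧ (s.snd ≫ prod.snd) ≫ b = s.fst := fun s => by
    have h₁ := s.condition =≫ prod.fst
    have h₂ := s.condition =≫ prod.snd
    simp at h₁ h₂
    simp [h₁, ← h₂]
  refine ⟨⟨by ext <;> simp [sq.w]⟩, ⟨PullbackCone.IsLimit.mk _
    (fun s => sq.lift (s.snd ≫ prod.fst) (s.snd ≫ prod.snd) ((key s).1.trans (key s).2.symm))
    (fun s => ?_) (fun s => ?_) (fun s m h₁ h₂ => ?_)⟩⟩
  · rw [← Category.assoc, sq.lift_fst]
    exact (key s).1
  · apply Limits.prod.hom_ext
    · simp
    · simp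
  · apply sq.hom_ext
    · simp [← h₂]
    · simp [← h₂]

/-- The product comparison turned into a map from a representable sheaf. -/
noncomputable def prodHom {U V : Over S} (a : (yon S).obj U ⟶ F) (b : (yon S).obj V ⟶ F) :
    (yon S).obj (U ⨯ V) ⟶ F ⨯ F :=
  prodComparison (yon S) U V ≫ prod.map a b

theorem isPullback_diag_prodHom {U V W : Over S} {a : (yon S).obj U ⟶ F} {b : (yon S).obj V ⟶ F}
    {p : W ⟶ U} {q : W ⟶ V} (sq : IsPullback ((yon S).map p) ((yon S).map q) a b) :
    IsPullback ((yon S).map p ≫ a) ((yon S).map (prod.lift p q)) (Limits.diag F) (prodHom a b) := by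
  refine IsPullback.of_iso (isPullback_diag_prodMap sq) (Iso.refl _) (Iso.refl _)
    (asIso (prodComparison (yon S) U V)).symm (Iso.refl _) ?_ ?_ ?_ ?_
  · simp
  · rw [Iso.refl_hom, Category.id_comp, Iso.symm_hom, asIso_inv, IsIso.comp_inv_eq]
    apply Limits.prod.hom_ext <;> simp [prodComparison, ← Functor.map_comp]
  · simp
  · simp [prodHom]

/-- `F ⟶ F ⨯ F` has `P` as soon as all represented fibre products over `F` embed by `P` in products. -/
theorem repWith_diag_of_pullbacks {P : MorphismProperty Scheme.{u}} [P.IsStableUnderBaseChange]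
    (h₁ : ∀ ⦃U V : Over S⦄ (a : (yon S).obj U ⟶ F) (b : (yon S).obj V ⟶ F),
      ∃ (W : Over S) (fst : W ⟶ U) (snd : W ⟶ V), IsPullback ((yon S).map fst) ((yon S).map snd) a b)
    (h₂ : ∀ ⦃U V W : Over S⦄ (a : (yon S).obj U ⟶ F) (b : (yon S).obj V ⟶ F) (fst : W ⟶ U)
      (snd : W ⟶ V), IsPullback ((yon S).map fst) ((yon S).map snd) a b → P (prod.lift fst snd).left) :
    RepWith P (Limits.diag F) := by
  have : P.RespectsIso := MorphismProperty.IsStableUnderBaseChange.respectsIso
  refine MorphismProperty.relative.of_exists fun T g => ?_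
  obtain ⟨W, p, q, sq⟩ := h₁ (g ≫ prod.fst) (g ≫ prod.snd)
  have sqW := isPullback_diag_prodHom sq
  let δ : T ⟶ T ⨯ T := Limits.diag T
  have sqO : IsPullback (pullback.fst (prod.lift p q) δ) (pullback.snd (prod.lift p q) δ)
      (prod.lift p q) δ := IsPullback.of_hasPullback _ _
  have sqL : IsPullback (pullback.fst (prod.lift p q) δ).left (pullback.snd (prod.lift p q) δ).left
      (prod.lift p q).left δ.left := sqO.map (Over.forget S)
  have hg : (yon S).map δ ≫ prodHom (g ≫ prod.fst) (g ≫ prod.snd) = g := by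
    apply Limits.prod.hom_ext <;> simp [δ, prodHom, prodComparison, ← Functor.map_comp_assoc]
  have big := (sqO.map (yon S)).paste_horiz sqW
  rw [hg] at big
  exact ⟨_, _, pullback.snd (prod.lift p q) δ, big,
    MorphismProperty.of_isPullback (P := P) sqL (h₂ _ _ p q sq)⟩

instance mono_diag (F : Sp S) : Mono (Limits.diag F) :=
  ⟨fun a b h => by simpa using h =≫ prod.fst⟩

/-- Properties local on the source of the diagonal of an algebraic space. -/
theorem repWith_diag_space {P : MorphismProperty Scheme.{u}} (hP : EtLocal P)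
    (hcancel : ∀ ⦃A B C : Scheme.{u}⦄ (f : A ⟶ B) (g : B ⟶ C), P (f ≫ g) → P f)
    {X : Sp S} (hX : IsAlgSpace X) : RepWith P (Limits.diag X) := by
  have := hP.baseChange
  have := hP.descendsAlong
  obtain ⟨U, p, hp, hps⟩ := hX.atlas
  obtain ⟨R, s, t, sq⟩ := hp.rep p
  obtain ⟨t, rfl⟩ := (yon S).map_surjective t
  have hs : Etale s.left := hp.property p _ s sq
  have sqD := isPullback_diag_prodHom sq
  have hc : RepWith ((@Etale : MorphismProperty Scheme.{u}) ⊓ @Surjective) (prodHom p p) :=
    repWith_inf_iff.2 ⟨MorphismProperty.RespectsIso.precomp _ _ _ (repWith_prodMap hp hp),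
      MorphismProperty.RespectsIso.precomp _ _ _ (repWith_prodMap hps hps)⟩
  refine repWith_of_fppf_base hX.diag hc sqD ((repWith_yon_map_iff P _).2 ?_)
  refine hcancel _ (prod.snd : U ⨯ U ⟶ U).left ?_
  rw [← Over.comp_left, prod.lift_snd]
  exact hP.etale_le _ _ _ hs

theorem repWith_mono_diag {X : Sp S} (hX : IsAlgSpace X) :
    RepWith (MorphismProperty.monomorphisms Scheme.{u}) (Limits.diag X) :=
  repWith_mono_of_mono hX.diag

theorem monomorphisms_le_isSeparated :
    MorphismProperty.monomorphisms Scheme.{u} ≤ @IsSeparated :=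
  fun _ _ f (hf : Mono f) => inferInstance

theorem repWith_lft_diag {X : Sp S} (hX : IsAlgSpace X) :
    RepWith @LocallyOfFiniteType (Limits.diag X) :=
  repWith_diag_space etLocal_lft (fun _ _ _ f g (h : LocallyOfFiniteType (f ≫ g)) =>
    locallyOfFiniteType_of_comp f g) hX

theorem repWith_lqf_diag {X : Sp S} (hX : IsAlgSpace X) :
    RepWith @LocallyQuasiFinite (Limits.diag X) :=
  repWith_diag_space etLocal_lqf (fun _ _ _ f g (h : LocallyQuasiFinite (f ≫ g)) =>
    LocallyQuasiFinite.of_comp f g) hX

/-- Zariski locally, it is enough to test a representable morphism on affine schemes. -/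
theorem repWith_of_affine {P : MorphismProperty Scheme.{u}} [P.IsStableUnderBaseChange]
    [IsZariskiLocalAtTarget P] {f : F ⟶ G} (hf : Representable f)
    (h : ∀ (T : Over S), IsAffine T.left → ∀ (g : (yon S).obj T ⟶ G), P (hf.snd g).left) :
    RepWith P f := by
  have : P.RespectsIso := MorphismProperty.IsStableUnderBaseChange.respectsIso
  refine repWith_of_snd hf fun T g => ?_
  refine IsZariskiLocalAtTarget.of_openCover (P := P) T.left.affineCover fun i => ?_
  let T' : Over S := Over.mk (T.left.affineCover.f i ≫ T.hom)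
  let j : T' ⟶ T := Over.homMk (T.left.affineCover.f i)
  have : IsAffine T'.left := inferInstanceAs (IsAffine (T.left.affineCover.X i))
  have sqO : IsPullback (pullback.fst (hf.snd g) j) (pullback.snd (hf.snd g) j) (hf.snd g) j :=
    IsPullback.of_hasPullback _ _
  have big := (sqO.map (yon S)).paste_horiz (hf.isPullback g)
  have hi : P (pullback.snd (hf.snd g) j).left := by
    let e := big.isoIsPullback _ _ (hf.isPullback ((yon S).map j ≫ g))
    have he₀ : (big.isoIsPullback _ _ (hf.isPullback ((yon S).map j ≫ g))).hom ≫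
        (yon S).map (hf.snd ((yon S).map j ≫ g)) = _ := IsPullback.isoIsPullback_hom_snd _ _ _ _
    obtain ⟨m, hm⟩ := (yon S).map_surjective e.hom
    have hm' : IsIso m := by
      have : IsIso ((yon S).map m) := by rw [hm]; infer_instance
      exact isIso_of_reflects_iso m (yon S)
    have he : m ≫ hf.snd ((yon S).map j ≫ g) = pullback.snd (hf.snd g) j := (yon S).map_injective (by
      rw [Functor.map_comp, hm]; exact he₀)
    rw [← he, Over.comp_left]
    have : IsIso m.left := inferInstanceAs (IsIso ((Over.forget S).map m))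
    exact (P.cancel_left_of_respectsIso _ _).2 (h T' ‹_› _)
  have sq' := sqO.map (Over.forget S)
  refine (P.cancel_left_of_respectsIso sq'.isoPullback.hom _).1 ?_
  change P (sq'.isoPullback.hom ≫
    pullback.snd ((Over.forget S).map (hf.snd g)) ((Over.forget S).map j))
  rw [sq'.isoPullback_hom_snd]
  exact hi

/-- A property of diagonals can be tested on affine schemes over the target. -/
theorem repWith_diagonal_of_affine {P : MorphismProperty Scheme.{u}} [P.IsStableUnderBaseChange]
    [IsZariskiLocalAtTarget P] {X Y : Sp S} (hX : IsAlgSpace X) (f : X ⟶ Y)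
    (h : ∀ (T : Over S), IsAffine T.left → ∀ (g : (yon S).obj T ⟶ Y),
      RepWith P (pullback.diagonal (pullback.snd f g))) :
    RepWith P (pullback.diagonal f) := by
  have hΔ := representable_diagonal f hX.diag
  refine repWith_of_affine hΔ fun T hT x => ?_
  let g := x ≫ pullback.fst f f ≫ f
  have sqk := isPullback_diagonal (IsPullback.of_hasPullback f g)
  let x' : (yon S).obj T ⟶ pullback (pullback.snd f g) (pullback.snd f g) :=
    pullback.lift (pullback.lift (x ≫ pullback.fst f f) (𝟙 _) (by simp [g]))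
      (pullback.lift (x ≫ pullback.snd f f) (𝟙 _) (by simp [g, pullback.condition]))
      (by rw [pullback.lift_snd, pullback.lift_snd])
  have hx : x' ≫ pullback.map (pullback.snd f g) (pullback.snd f g) f f (pullback.fst f g)
      (pullback.fst f g) g pullback.condition.symm pullback.condition.symm = x := by
    apply pullback.hom_ext <;> simp [x']
  obtain ⟨W, w, e, sqW⟩ := (h T hT g).rep x'
  have hw := (h T hT g).property x' e w sqW
  have big := sqW.paste_horiz sqk
  rw [hx] at big
  have : P.RespectsIso := MorphismProperty.IsStableUnderBaseChange.respectsIso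
  obtain ⟨m, hm⟩ := (yon S).map_surjective ((hΔ.isPullback x).isoIsPullback _ _ big).hom
  have hm' : IsIso m := by
    have : IsIso ((yon S).map m) := by rw [hm]; infer_instance
    exact isIso_of_reflects_iso m (yon S)
  have he : m ≫ w = hΔ.snd x := (yon S).map_injective (by
    rw [Functor.map_comp, hm, IsPullback.isoIsPullback_hom_snd])
  rw [← he, Over.comp_left]
  have : IsIso m.left := inferInstanceAs (IsIso ((Over.forget S).map m))
  exact (P.cancel_left_of_respectsIso _ _).2 hw

theorem repWith_diagonal_iff_affine {P : MorphismProperty Scheme.{u}} [P.IsStableUnderBaseChange]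
    [IsZariskiLocalAtTarget P] {X Y : Sp S} (hX : IsAlgSpace X) (f : X ⟶ Y) :
    RepWith P (pullback.diagonal f) ↔
      ∀ (Z : Over S), IsAffine Z.left → ∀ (g : (yon S).obj Z ⟶ Y) (Q : Sp S)
        (fst : Q ⟶ X) (snd : Q ⟶ (yon S).obj Z), IsPullback fst snd f g →
        RepWith P (pullback.diagonal snd) :=
  ⟨fun h Z _ g Q fst snd sq => repWith_of_isPullback (isPullback_diagonal sq) h,
    fun h => repWith_diagonal_of_affine hX f fun T hT g =>
      h T hT g _ _ _ (IsPullback.of_hasPullback f g)⟩

/-- A property of diagonals descends along representable etale surjective maps to the target. -/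
theorem repWith_diagonal_of_cover {P : MorphismProperty Scheme.{u}} [P.IsStableUnderBaseChange]
    [P.DescendsAlong fppfMor.{u}] {X Y V Q : Sp S} (hX : IsAlgSpace X) {f : X ⟶ Y} {p : V ⟶ Y}
    (hp : RepWith @Etale p) (hps : RepWith @Surjective p) {fst : Q ⟶ X} {snd : Q ⟶ V}
    (sq : IsPullback fst snd f p) (h : RepWith P (pullback.diagonal snd)) :
    RepWith P (pullback.diagonal f) := by
  have sqD := isPullback_diagonal sq
  have hmap : IsPullback (pullback.fst snd snd ≫ snd)
      (pullback.map snd snd f f fst fst p sq.w.symm sq.w.symm) p (pullback.fst f f ≫ f) := by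
    refine ⟨⟨by simp [sq.w]⟩, ⟨PullbackCone.IsLimit.mk _ (fun s => pullback.lift
      (sq.lift (s.snd ≫ pullback.fst f f) s.fst (by simp [s.condition]))
      (sq.lift (s.snd ≫ pullback.snd f f) s.fst (by simp [s.condition, pullback.condition]))
      (by simp)) (fun s => ?_) (fun s => ?_) (fun s m h₁ h₂ => ?_)⟩⟩
    · simp
    · apply pullback.hom_ext <;> simp
    · apply pullback.hom_ext
      · rw [pullback.lift_fst]
        apply sq.hom_ext
        · rw [sq.lift_fst, ← h₂]; simp
        · rw [sq.lift_snd, ← h₁]; simp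
      · rw [pullback.lift_snd]
        apply sq.hom_ext
        · rw [sq.lift_fst, ← h₂]; simp
        · rw [sq.lift_snd, ← h₁]; simp [pullback.condition]
  refine repWith_of_fppf_base (representable_diagonal f hX.diag)
    (repWith_fppf_of_etale (repWith_of_isPullback hmap hp) (repWith_of_isPullback hmap hps)) sqD h

/-- Quasi-compact morphisms compose. -/
theorem isQuasiCompactMor_comp {X Y Z : Sp S} (hY : IsAlgSpace Y) (hZ : IsAlgSpace Z) {f : X ⟶ Y}
    {g : Y ⟶ Z} (hf : IsQuasiCompactMor f) (hg : IsQuasiCompactMor g) : IsQuasiCompactMor (f ≫ g) := by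
  intro T T' hT hTc x fst snd sq
  obtain ⟨k, hk₁, hk₂⟩ := (IsPullback.of_hasPullback g x).exists_lift (fst ≫ f) snd (by simpa using sq.w)
  have sqf : IsPullback k fst (pullback.fst g x) f := by
    refine (IsPullback.of_bot ?_ hk₁.symm (IsPullback.of_hasPullback g x)).flip
    rwa [hk₂]
  exact hf (isAlgSpace_pullback hZ.diag hY hT g x) (hg hT hTc x _ _ (IsPullback.of_hasPullback g x))
    (pullback.fst g x) fst k sqf.flip

/-- Cancellation for quasi-compact morphisms. -/
theorem isQuasiCompactMor_of_comp {X Y Z : Sp S} (hX : IsAlgSpace X) (hY : IsAlgSpace Y)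
    (hZ : IsAlgSpace Z) {f : X ⟶ Y} {g : Y ⟶ Z} (hgf : IsQuasiCompactMor (f ≫ g))
    (hg : RepWith @QuasiCompact (pullback.diagonal g)) : IsQuasiCompactMor f := by
  obtain ⟨s, hs₁, hs₂⟩ := (IsPullback.of_hasPullback (f ≫ g) g).exists_lift (𝟙 X) f (by simp)
  have sqs : IsPullback f s (pullback.diagonal g)
      (pullback.map (f ≫ g) g g g f (𝟙 Y) (𝟙 Z) (by simp) (by simp)) := by
    refine ⟨⟨by apply pullback.hom_ext <;> simp [reassoc_of% hs₁, hs₂]⟩,
      ⟨PullbackCone.IsLimit.mk _ (fun c => c.snd ≫ pullback.fst _ _) (fun c => ?_) (fun c => ?_)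
        (fun c m h₁ h₂ => ?_)⟩⟩
    · have e := c.condition =≫ pullback.fst g g
      simp at e
      simp [e]
    · apply pullback.hom_ext
      · simp [hs₁]
      · have e₁ := c.condition =≫ pullback.fst g g
        have e₂ := c.condition =≫ pullback.snd g g
        simp at e₁ e₂
        simp [hs₂, ← e₁, ← e₂]
    · rw [← h₂]; simp [hs₁]
  have hs : IsQuasiCompactMor s := isQuasiCompactMor_of_repWith hX
    (isAlgSpace_pullback hZ.diag hX hY (f ≫ g) g) (repWith_of_isPullback sqs hg)
  have hsnd : IsQuasiCompactMor (pullback.snd (f ≫ g) g) := fun T T' hT hTc x a b sq =>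
    hgf hT hTc (x ≫ g) (a ≫ pullback.fst (f ≫ g) g) b
      (sq.paste_horiz (IsPullback.of_hasPullback (f ≫ g) g))
  rw [← hs₂]
  exact isQuasiCompactMor_comp (isAlgSpace_pullback hZ.diag hX hY (f ≫ g) g) hY hs hsnd

theorem isSeparated_eq_diagonal :
    (@IsSeparated : MorphismProperty Scheme.{u}) =
      MorphismProperty.diagonal (@IsClosedImmersion : MorphismProperty Scheme.{u}) := by
  ext X Y f; exact isSeparated_iff f

theorem quasiSeparated_eq_diagonal :
    (@QuasiSeparated : MorphismProperty Scheme.{u}) =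
      MorphismProperty.diagonal (@QuasiCompact : MorphismProperty Scheme.{u}) := by
  ext X Y f; exact quasiSeparated_iff f

end Groth.Agent.H12AlgSp
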