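import Groth.Agent.H12AlgSp.OpenSub
import Groth.Agent.H12AlgSp.Sep
import Mathlib.CategoryTheory.Sites.RegularEpi

/-!
Presentations of algebraic spaces by etale equivalence relations.
-/

set_option linter.unusedVariables false

universe u

open CategoryTheory CategoryTheory.Limits AlgebraicGeometry Opposite Topology
open AlgSp Groth.Agent.H13AlgSp

namespace Groth.Agent.H12AlgSp

variable {S : Scheme.{u}} {F : Sp S} {R U : Over S} {s t : R ⟶ U}

theorem isEqvRel_of_isPullback {p : (yon S).obj U ⟶ F}
    (sq : IsPullback ((yon S).map t) ((yon S).map s) p p) : IsEqvRel s t := by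
  have key : ∀ (T : Over S) (a b : T ⟶ U), (∃ r : T ⟶ R, r ≫ t = a ∧ r ≫ s = b) ↔
      (yon S).map a ≫ p = (yon S).map b ≫ p := by
    intro T a b
    constructor
    · rintro ⟨r, rfl, rfl⟩
      rw [Functor.map_comp, Functor.map_comp, Category.assoc, Category.assoc, sq.w]
    · intro h
      obtain ⟨r, hr⟩ := (yon S).map_surjective (sq.lift _ _ h)
      refine ⟨r, (yon S).map_injective ?_, (yon S).map_injective ?_⟩
      · rw [Functor.map_comp, hr, sq.lift_fst]
      · rw [Functor.map_comp, hr, sq.lift_snd]
  refine ⟨fun T r r' h₁ h₂ => (yon S).map_injective (sq.hom_ext ?_ ?_), fun T => ?_⟩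
  · rw [← Functor.map_comp, ← Functor.map_comp, h₁]
  · rw [← Functor.map_comp, ← Functor.map_comp, h₂]
  · simp only [key]
    exact ⟨fun a => rfl, fun h => h.symm, fun h h' => h.trans h'⟩

theorem isEtaleEqvRel_of_isPullback {p : (yon S).obj U ⟶ F} (hp : RepWith @Etale p)
    (sq : IsPullback ((yon S).map t) ((yon S).map s) p p) : IsEtaleEqvRel s t :=
  { isEqvRel_of_isPullback sq with
    etale_left := hp.property p _ s sq
    etale_right := hp.property p _ t sq.flip }

theorem epi_of_etale_surjective {X : Sp S} {d : X ⟶ F} (he : RepWith @Etale d) (hs : RepWith @Surjective d) :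
    Epi d :=
  epi_of_local_lifts d fun T y => by
    obtain ⟨V, v, k', sq⟩ := he.rep y
    have hve : Etale v.left := he.property y k' v sq
    have hvs : Surjective v.left := hs.property y k' v sq
    exact ⟨PUnit, fun _ => V, fun _ => v, ofArrows_mem_J _ (fun _ => inferInstance) (fun _ => inferInstance)
      (fun t => ⟨⟨⟩, v.left.surjective t⟩), fun _ => ⟨k', sq.w⟩⟩

theorem nonempty_isColimit_of_atlas {p : (yon S).obj U ⟶ F} (he : RepWith @Etale p) (hs : RepWith @Surjective p)
    (sq : IsPullback ((yon S).map t) ((yon S).map s) p p) : Nonempty (IsColimit (Cofork.ofπ p sq.w)) := by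
  have := epi_of_etale_surjective he hs
  have r := IsRegularEpiCategory.regularEpiOfEpi p
  have : IsRegularEpi p := r
  exact ⟨IsKernelPair.toCoequalizer' sq⟩

theorem isPresentation_of_isPullback {p : (yon S).obj U ⟶ F} (he : RepWith @Etale p) (hs : RepWith @Surjective p)
    (sq : IsPullback ((yon S).map t) ((yon S).map s) p p) : IsPresentation s t p :=
  ⟨isEtaleEqvRel_of_isPullback he sq, he, hs, sq⟩

/-- Factorisation of a chart through the open subspace given by its image. -/
theorem exists_factor_presentation {X X' : Sp S} {a : (yon S).obj U ⟶ X} (ha : RepWith @Etale a)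
    {j : X' ⟶ X} (hj : RepWith @IsOpenImmersion j)
    (himage : Set.range (Points.map j) = Set.range (Points.ofPt a)) :
    ∃ a' : (yon S).obj U ⟶ X', a' ≫ j = a ∧ RepWith @Etale a' ∧ RepWith @Surjective a' ∧
      ∀ (R : Over S) (s t : R ⟶ U), IsPullback ((yon S).map t) ((yon S).map s) a a →
        IsPresentation s t a' := by
  have := mono_of_openImmersion hj
  obtain ⟨a', rfl⟩ := exists_factor_open hj a (by rw [himage, range_map_yon])
  have he : RepWith @Etale a' :=
    repWith_of_isPullback (IsPullback.of_horiz_isIso_mono (fst := 𝟙 _) (snd := a') (f := a' ≫ j) (g := j)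
      ⟨Category.id_comp _⟩) ha
  have hs : RepWith @Surjective a' := repWith_surjective_of_map he.1 fun y => by
    obtain ⟨u, hu⟩ := himage.le ⟨y, rfl⟩
    exact ⟨Points.ofScheme U u, injective_map_of_mono j (by
      rw [← Points.map_comp, ← Points.ofPt_eq_map_ofScheme, hu])⟩
  exact ⟨a', rfl, he, hs, fun R s t sq => isPresentation_of_isPullback he hs
    (IsKernelPair.cancel_right ((cancel_mono j).1 (by simpa using sq.w)) sq)⟩

end Groth.Agent.H12AlgSp
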