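import Groth.Agent.H12AlgSp.DescentLQF
import Groth.Agent.H12AlgSp.Basic

/-!
Quasi-affine morphisms of algebraic spaces descend along etale covers of the base.
-/

universe u

open CategoryTheory CategoryTheory.Limits AlgebraicGeometry Opposite
open AlgSp Groth.Agent.H13AlgSp

namespace Groth.Agent.H12AlgSp

variable {S : Scheme.{u}}

theorem representable_of_isQuasiAffineMor {F G : Sp S} {f : F ⟶ G} (h : IsQuasiAffineMor f) : Representable f := by
  intro T g
  obtain ⟨GT, γ, μ, hμ, e⟩ := exists_iso_of_local_rep (pullback.snd f g) fun V => by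
    obtain ⟨W, i, fst, sq, -⟩ := h (Z := openOver T V.1) V.2 ((yon S).map (openIncl T V.1) ≫ g)
    refine ⟨W, i, pullback.lift fst ((yon S).map i ≫ (yon S).map (openIncl T V.1))
      (by rw [sq.w, Category.assoc]), ?_⟩
    exact IsPullback.of_right (by rw [pullback.lift_fst]; exact sq) (pullback.lift_snd _ _ _)
      (IsPullback.of_hasPullback f g)
  exact ⟨GT, γ, μ ≫ pullback.fst f g, IsPullback.of_iso_pullback
    ⟨by rw [Category.assoc, pullback.condition, ← Category.assoc, e]⟩ (asIso μ) rfl e⟩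

/-- An etale surjection onto an affine scheme is dominated by an affine one. -/
theorem exists_affine_refinement {W Z : Over S} (c : W ⟶ Z) [IsAffine Z.left] [Etale c.left] [Surjective c.left] :
    ∃ (W₁ : Over S) (σ : W₁ ⟶ W), IsAffine W₁.left ∧ Etale (σ ≫ c).left ∧ Surjective (σ ≫ c).left := by
  obtain ⟨s, hs⟩ := isCompact_univ.elim_finite_subcover
    (fun A : W.left.affineOpens => c.left '' (A.1 : Set W.left))
    (fun A => c.left.isOpenMap _ A.1.isOpen)
    (fun x _ => by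
      obtain ⟨y, rfl⟩ := c.left.surjective x
      obtain ⟨A, hA⟩ := TopologicalSpace.Opens.mem_iSup.1 ((iSup_affineOpens_eq_top W.left).ge (Set.mem_univ y))
      exact Set.mem_iUnion.2 ⟨A, y, hA, rfl⟩)
  let σ : (∐ fun A : s => A.1.1.toScheme) ⟶ W.left := Sigma.desc fun A => A.1.1.ι
  have : ∀ A : s, IsAffine A.1.1.toScheme := fun A => A.1.2
  have hσ : Etale σ := IsZariskiLocalAtSource.sigmaDesc (P := @Etale) fun A => inferInstance
  refine ⟨Over.mk (σ ≫ W.hom), Over.homMk σ rfl, inferInstanceAs (IsAffine (∐ fun A : s => A.1.1.toScheme)),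
    inferInstanceAs (Etale (σ ≫ c.left)), ⟨fun x => ?_⟩⟩
  obtain ⟨A, hA, y, hy, e⟩ := Set.mem_iUnion₂.1 (hs (Set.mem_univ x))
  refine ⟨Sigma.ι (fun A : s => A.1.1.toScheme) ⟨A, hA⟩ ⟨y, hy⟩, ?_⟩
  change (σ ≫ c.left) _ = x
  rw [← Scheme.Hom.comp_apply, Sigma.ι_desc_assoc]
  exact e

theorem isQuasiAffineMor_of_etale_cover {X Y P : Sp S} {f : X ⟶ Y} {V : Over S} {p : (yon S).obj V ⟶ Y}
    (hp : RepWith @Etale p) (hps : RepWith @Surjective p) {fst : P ⟶ X} {snd : P ⟶ (yon S).obj V}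
    (sq : IsPullback fst snd f p) (h : IsQuasiAffineMor snd) : IsQuasiAffineMor f := by
  intro Z hZ g
  obtain ⟨W, c, v', sqW⟩ := hp.rep g
  obtain ⟨v, rfl⟩ := (yon S).map_surjective v'
  have : Etale c.left := hp.property _ _ c sqW
  have : Surjective c.left := hps.property _ _ c sqW
  have : IsAffine Z.left := hZ
  obtain ⟨W₁, σ, hW₁, hσe, hσs⟩ := exists_affine_refinement c
  obtain ⟨Q', i, fst', sq', hqa⟩ := h (Z := W₁) hW₁ ((yon S).map (σ ≫ v))
  have sqA := sq'.paste_horiz sq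
  have e : (yon S).map (σ ≫ v) ≫ p = (yon S).map (σ ≫ c) ≫ g := by
    rw [Functor.map_comp, Functor.map_comp, Category.assoc, Category.assoc, sqW.w]
  rw [e] at sqA
  let k : (yon S).obj Q' ⟶ pullback f g :=
    pullback.lift (fst' ≫ fst) ((yon S).map i ≫ (yon S).map (σ ≫ c)) (by rw [sqA.w, Category.assoc])
  have sqk : IsPullback k ((yon S).map i) (pullback.snd f g) ((yon S).map (σ ≫ c)) :=
    IsPullback.of_right (by rw [pullback.lift_fst]; exact sqA) (pullback.lift_snd _ _ _)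
      (IsPullback.of_hasPullback f g)
  have : Flat (σ ≫ c).left := inferInstance
  obtain ⟨GT, μ, hμ, hGT⟩ := exists_iso_of_quasiAffine (pullback.snd f g) (σ ≫ c) k i sqk
  obtain ⟨γ, hγ⟩ := (yon S).map_surjective (μ ≫ pullback.snd f g)
  exact ⟨GT, γ, μ ≫ pullback.fst f g, IsPullback.of_iso_pullback
    ⟨by rw [Category.assoc, pullback.condition, ← Category.assoc, hγ]⟩ (asIso μ) rfl hγ.symm, hGT⟩

end Groth.Agent.H12AlgSp
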