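import Groth.Agent.H12AlgSp.LimitAtlas
import Groth.Agent.H12AlgSp.LimitModel
import Groth.Agent.H12AlgSp.LimitIso
import Groth.Agent.H12AlgSp.LimitSchemeStage
import Groth.Agent.H12AlgSp.LimitSep
import Groth.Agent.H12AlgSp.QuasiAffineMor
import Groth.Agent.H12AlgSp.Presentation

/-!
If a limit of algebraic spaces with affine transition maps is affine, so is some stage.
-/

universe u

open CategoryTheory CategoryTheory.Limits AlgebraicGeometry Opposite
open AlgSp Groth.Agent.H13AlgSp

set_option backward.isDefEq.respectTransparency false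

attribute [local instance] CategoryTheory.isConnected_of_hasTerminal

namespace Groth.Agent.H12AlgSp

variable {S : Scheme.{u}}

/-- A morphism from an affine scheme to a scheme with quasi-separated underlying space is quasi-affine. -/
theorem isQuasiAffineMor_yon_map {U V : Over S} (ψ : U ⟶ V) [IsAffine U.left] [QuasiSeparatedSpace V.left] :
    IsQuasiAffineMor ((yon S).map ψ) := by
  intro Z hZ g
  obtain ⟨g, rfl⟩ := (yon S).map_surjective g
  have sq : IsPullback ((yon S).map (pullback.fst ψ g)) ((yon S).map (pullback.snd ψ g)) ((yon S).map ψ)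
      ((yon S).map g) := (IsPullback.of_hasPullback ψ g).map (yon S)
  refine ⟨pullback ψ g, pullback.snd ψ g, (yon S).map (pullback.fst ψ g), sq, ?_⟩
  have hW : IsPullback (pullback.fst ψ g).left (pullback.snd ψ g).left ψ.left g.left :=
    (IsPullback.of_hasPullback ψ g).map (Over.forget S)
  have : IsAffine Z.left := hZ
  have : QuasiCompact ψ.left := quasiCompact_of_compactSpace _
  have : CompactSpace ↥(pullback ψ.left g.left) :=
    QuasiCompact.compactSpace_of_compactSpace (pullback.snd ψ.left g.left)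
  have : CompactSpace (pullback ψ g).left := (Scheme.homeoOfIso hW.isoPullback).symm.compactSpace
  exact Scheme.IsQuasiAffine.of_isImmersion
    (hW.isoPullback.hom ≫ pullback.mapDesc ψ.left g.left (terminal.from V.left))

/-- The relation of an affine atlas of a quasi-separated space is quasi-separated. -/
theorem quasiSeparatedSpace_rel [QuasiSeparatedSpace S] {X : Sp S} {U R : Over S} [IsAffine U.left]
    {a : (yon S).obj U ⟶ X} {t s : R ⟶ U} (sq : IsPullback ((yon S).map t) ((yon S).map s) a a) :
    QuasiSeparatedSpace R.left := by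
  have : Mono (prod.lift t s) := ⟨fun x y h => by
    have h₁ := h =≫ prod.fst
    have h₂ := h =≫ prod.snd
    simp only [Category.assoc, prod.lift_fst, prod.lift_snd] at h₁ h₂
    exact (yon S).map_injective (sq.hom_ext
      (by rw [← Functor.map_comp, ← Functor.map_comp, h₁]) (by rw [← Functor.map_comp, ← Functor.map_comp, h₂]))⟩
  have : Mono (prod.lift t s).left := inferInstanceAs (Mono ((Over.forget S).map (prod.lift t s)))
  have : IsSeparated (prod.lift t s).left := monomorphisms_le_isSeparated _ (inferInstance : Mono (prod.lift t s).left)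
  have : QuasiSeparatedSpace (U ⨯ U).left := quasiSeparatedSpace_prod_left
  exact quasiSeparatedSpace_of_quasiSeparated (prod.lift t s).left

/-- An atlas over a scheme through which the structure of a space is cartesian makes the space a scheme. -/
theorem exists_iso_yon_of_cartesian_chart {X : Sp S} {U V O R : Over S} [IsAffine U.left]
    [QuasiSeparatedSpace V.left] {a : (yon S).obj U ⟶ X} (ha : RepWith @Etale a) (has : RepWith @Surjective a)
    {t s : R ⟶ U} (sqR : IsPullback ((yon S).map t) ((yon S).map s) a a) (g : U ⟶ O) (v : V ⟶ O)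
    [Etale v.left] [Surjective v.left] (ψ : U ⟶ V) (hg : t ≫ g = s ≫ g) (hψ : ψ ≫ v = g)
    (sq : IsPullback (t ≫ ψ) s v g) : ∃ W : Over S, Nonempty ((yon S).obj W ≅ X) := by
  obtain ⟨hcoeq⟩ := nonempty_isColimit_of_atlas ha has sqR
  obtain ⟨h, hh⟩ := Cofork.IsColimit.desc' hcoeq ((yon S).map g) (by rw [← Functor.map_comp, ← Functor.map_comp, hg])
  replace hh : a ≫ h = (yon S).map g := hh
  let P := pullback ((yon S).map v) h
  let c : (yon S).obj U ⟶ P := pullback.lift ((yon S).map ψ) a (by rw [hh, ← Functor.map_comp, hψ])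
  have sqQ : IsPullback ((yon S).map t ≫ c) ((yon S).map s) (pullback.snd ((yon S).map v) h) a := by
    refine IsPullback.of_right (h₁₂ := pullback.fst ((yon S).map v) h) (v₁₃ := (yon S).map v) (h₂₂ := h) ?_ ?_
      (IsPullback.of_hasPullback _ _)
    · rw [Category.assoc, pullback.lift_fst, ← Functor.map_comp, hh]
      exact sq.map (yon S)
    · rw [Category.assoc, pullback.lift_snd]
      exact sqR.w
  have : Epi ((yon S).map t ≫ c) :=
    epi_of_etale_surjective (repWith_of_isPullback sqQ.flip ha) (repWith_of_isPullback sqQ.flip has)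
  have : Epi c := epi_of_epi ((yon S).map t) c
  have : Mono c := mono_of_yon fun T x y hxy => by
    obtain ⟨x, rfl⟩ := (yon S).map_surjective x
    obtain ⟨y, rfl⟩ := (yon S).map_surjective y
    have hxa : (yon S).map x ≫ a = (yon S).map y ≫ a := by
      have := hxy =≫ pullback.snd ((yon S).map v) h
      simpa [c] using this
    let r₀ := sqR.lift ((yon S).map x) ((yon S).map y) hxa
    let r₁ := sqR.lift ((yon S).map y) ((yon S).map y) rfl
    have e : r₀ = r₁ := sqQ.hom_ext (by simp only [r₀, r₁, IsPullback.lift_fst_assoc]; exact hxy)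
      (by simp only [r₀, r₁, IsPullback.lift_snd])
    calc (yon S).map x = r₀ ≫ (yon S).map t := (sqR.lift_fst _ _ _).symm
      _ = r₁ ≫ (yon S).map t := by rw [e]
      _ = (yon S).map y := sqR.lift_fst _ _ _
  have : IsIso c := isIso_of_mono_of_epi c
  have sqC : IsPullback ((yon S).map ψ) a ((yon S).map v) h :=
    IsPullback.of_iso_pullback ⟨by rw [hh, ← Functor.map_comp, hψ]⟩ (asIso c) (pullback.lift_fst _ _ _)
      (pullback.lift_snd _ _ _)
  exact exists_iso_yon_of_representable (representable_of_isQuasiAffineMor (isQuasiAffineMor_of_etale_cover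
    ((repWith_yon_map_iff @Etale v).2 ‹_›) ((repWith_yon_map_iff @Surjective v).2 ‹_›) sqC.flip
    (isQuasiAffineMor_yon_map ψ)))

/-- Naturality on underlying schemes. -/
theorem natTrans_left_assoc {J : Type u} [SmallCategory J] {R U : J ⥤ Over S} (t : R ⟶ U) {j k : J} (φ : j ⟶ k)
    {Z : Scheme.{u}} (g : (U.obj k).left ⟶ Z) :
    (t.app j).left ≫ (U.map φ).left ≫ g = (R.map φ).left ≫ (t.app k).left ≫ g := by
  rw [← Category.assoc, ← Category.assoc, ← Over.comp_left, ← Over.comp_left, t.naturality]

/-- The absolute product with the base. -/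
noncomputable abbrev absOver (S : Scheme.{u}) {X : Scheme.{u}} (t : X ⟶ Spec (CommRingCat.of (ULift.{u} ℤ))) :
    Over S :=
  Over.mk (pullback.snd t (specULiftZIsTerminal.from S))

variable {I : Type u} [SmallCategory I] [IsCofiltered I] {D : I ⥤ Sp S}

/-- If the limit is affine, some stage is a scheme. -/
theorem exists_representable_of_affine_limit [QuasiSeparatedSpace S] (hD : ∀ i, IsAlgSpace (D.obj i))
    (hDa : ∀ (i j : I) (φ : i ⟶ j), IsAffineMor (D.map φ)) {c : Cone D} (hc : IsLimit c)
    (hqs : ∀ i, IsQuasiSeparatedSp (D.obj i)) {i₁ : I} (hqc : IsQuasiCompactSp (D.obj i₁)) {T : Over S}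
    (hT : IsAffine T.left) (e : (yon S).obj T ≅ c.pt) :
    ∃ (n : I) (W : Over S), Nonempty ((yon S).obj W ≅ D.obj n) := by
  obtain ⟨A⟩ := exists_atlasSystem_of_qc hDa hc hD i₁ hqc
  obtain ⟨r⟩ := A.exists_rel hDa hc hD
  obtain ⟨u, hu⟩ := (yon S).map_surjective (A.aLim ≫ e.inv)
  have : Etale u.left := (repWith_yon_map_iff @Etale _).1
    (hu ▸ MorphismProperty.RespectsIso.postcomp _ e.inv _ A.etaleLim)
  have : Surjective u.left := (repWith_yon_map_iff @Surjective _).1
    (hu ▸ MorphismProperty.RespectsIso.postcomp _ e.inv _ A.surjectiveLim)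
  have sqU : IsPullback r.tLim r.sLim u u := by
    refine IsPullback.of_map (yon S) ?_ (by rw [hu]; exact isPullback_of_comp_mono r.sqLim e.inv)
    exact (yon S).map_injective (by rw [Functor.map_comp, Functor.map_comp, hu, r.sqLim.w_assoc])
  obtain ⟨O, V, tO, v, κ, τ, hV, hOs, hOc, hOfp, hve, hvs, sq⟩ := exists_noetherian_model u.left
  have : QuasiSeparatedSpace O := quasiSeparatedSpace_of_quasiSeparated tO
  -- the systems of schemes
  let UF := A.U ⋙ Over.forget S
  let RF := r.R ⋙ Over.forget S
  have hUF : IsLimit ((Over.forget S).mapCone A.cU) := isLimitOfPreserves _ A.isLimit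
  have hRF : IsLimit ((Over.forget S).mapCone r.cR) := isLimitOfPreserves _ r.isLimit
  have : ∀ j, IsAffine (UF.obj j) := fun j => A.affine j
  have : IsAffine ((Over.forget S).mapCone A.cU).pt := A.affineLim
  have haU : ∀ {j k : Over i₁} (φ : j ⟶ k), IsAffineHom (UF.map φ) := fun φ => inferInstance
  have : ∀ j, CompactSpace (RF.obj j) := fun j => compactSpace_of_isPullback' (hqs _) (r.sqR j)
  have : ∀ j, QuasiSeparatedSpace (RF.obj j) := fun j => quasiSeparatedSpace_rel (r.sqR j)
  have haR : ∀ {j k : Over i₁} (φ : j ⟶ k), IsAffineHom (RF.map φ) := fun φ =>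
    MorphismProperty.of_isPullback ((r.sqs φ).flip.map (Over.forget S)) (haU φ)
  -- descend the map to the model
  let tU : UF ⟶ (Functor.const (Over i₁)).obj (Spec (CommRingCat.of (ULift.{u} ℤ))) :=
    { app := fun j => specULiftZIsTerminal.from _, naturality := fun _ _ _ => specULiftZIsTerminal.hom_ext _ _ }
  obtain ⟨k, g₀, hg₀, -⟩ := Scheme.exists_π_app_comp_eq_of_locallyOfFinitePresentation UF tU tO _ hUF
    (u.left ≫ τ) (by ext j; exact specULiftZIsTerminal.hom_ext _ _)
  let tR : RF ⟶ (Functor.const (Over i₁)).obj (Spec (CommRingCat.of (ULift.{u} ℤ))) :=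
    { app := fun j => specULiftZIsTerminal.from _, naturality := fun _ _ _ => specULiftZIsTerminal.hom_ext _ _ }
  obtain ⟨l, φl, hl⟩ := Scheme.exists_hom_comp_eq_comp_of_locallyOfFiniteType RF tR tO _ hRF (i := k)
    ((r.t.app k).left ≫ g₀) ((r.s.app k).left ≫ g₀) (specULiftZIsTerminal.hom_ext _ _)
    (specULiftZIsTerminal.hom_ext _ _) (by
      change (r.cR.π.app k).left ≫ _ = (r.cR.π.app k).left ≫ _
      rw [← Category.assoc, ← Category.assoc, ← Over.comp_left, ← Over.comp_left, r.t_comp, r.s_comp,
        Over.comp_left, Over.comp_left, Category.assoc, Category.assoc]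
      erw [hg₀]
      rw [← Category.assoc, ← Category.assoc, ← Over.comp_left, ← Over.comp_left, sqU.w])
  let g₁ : (A.U.obj l).left ⟶ O := (A.U.map φl).left ≫ g₀
  have hg₁ : (A.cU.π.app l).left ≫ g₁ = u.left ≫ τ := by
    rw [← Category.assoc, ← Over.comp_left, A.cU.w]
    exact hg₀
  have hts₁ : (r.t.app l).left ≫ g₁ = (r.s.app l).left ≫ g₁ := by
    rw [← Category.assoc, ← Category.assoc, ← Over.comp_left, ← Over.comp_left, ← r.t.naturality φl,
      ← r.s.naturality φl, Over.comp_left, Over.comp_left, Category.assoc, Category.assoc]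
    exact hl
  -- lift to the covering of the model
  let UL := Over.forget l ⋙ UF
  have hUL : IsLimit (((Over.forget S).mapCone A.cU).whisker (Over.forget l)) :=
    (Functor.Initial.isLimitWhiskerEquiv (Over.forget l) _).symm hUF
  let tL : UL ⟶ (Functor.const (Over l)).obj O :=
    { app := fun j => (A.U.map j.hom).left ≫ g₁
      naturality := fun j j' φ => by
        change (A.U.map φ.left).left ≫ (A.U.map j'.hom).left ≫ g₁ = ((A.U.map j.hom).left ≫ g₁) ≫ 𝟙 _
        rw [Category.comp_id, ← Category.assoc, ← Over.comp_left, ← Functor.map_comp, Over.w φ] }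
  have : ∀ {j j' : Over l} (φ : j ⟶ j'), IsAffineHom (UL.map φ) := fun φ => haU φ.left
  have : ∀ j : Over l, CompactSpace (UL.obj j) := fun j => inferInstanceAs (CompactSpace (UF.obj j.left))
  have : ∀ j : Over l, QuasiSeparatedSpace (UL.obj j) := fun j =>
    inferInstanceAs (QuasiSeparatedSpace (UF.obj j.left))
  obtain ⟨m, ψ, hψ, hψv⟩ := Scheme.exists_π_app_comp_eq_of_locallyOfFinitePresentation UL tL v _ hUL
    κ (by
      ext j
      change (A.cU.π.app j.left).left ≫ (A.U.map j.hom).left ≫ g₁ = κ ≫ v
      rw [← Category.assoc, ← Over.comp_left, A.cU.w, hg₁, sq.w])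
  let g₂ : (A.U.obj m.left).left ⟶ O := (A.U.map m.hom).left ≫ g₁
  have hts₂ : (r.t.app m.left).left ≫ g₂ = (r.s.app m.left).left ≫ g₂ :=
    (natTrans_left_assoc r.t m.hom g₁).trans ((congrArg (_ ≫ ·) hts₁).trans (natTrans_left_assoc r.s m.hom g₁).symm)
  have hg₂ : (A.cU.π.app m.left).left ≫ g₂ = u.left ≫ τ := by
    rw [← Category.assoc, ← Over.comp_left, A.cU.w, hg₁]
  -- cartesianness
  have : Etale (r.s.app m.left).left := (A.etale _).2 _ _ _ (r.sqR m.left)
  have hψ' : (A.cU.π.app m.left).left ≫ ψ = κ := hψ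
  have hψv' : ψ ≫ v = g₂ := hψv
  have : LocallyOfFinitePresentation ((Functor.whiskerRight r.s (Over.forget S)).app m.left) :=
    inferInstanceAs (LocallyOfFinitePresentation (r.s.app m.left).left)
  have hsπ : IsPullback (r.cR.π.app m.left) r.sLim (r.s.app m.left) (A.cU.π.app m.left) := by
    refine IsPullback.of_map (yon S) (r.s_comp _) (IsPullback.of_bot ?_ ?_ (r.sqR m.left).flip).flip
    · have := (r.sqLim.flip.paste_vert (A.sqLim m.left).flip)
      rw [← Functor.map_comp, ← r.t_comp m.left, Functor.map_comp, ← (A.sqLim m.left).w] at this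
      exact this
    · rw [← Functor.map_comp, ← Functor.map_comp, r.s_comp]
  have : ∀ j k (φ : j ⟶ k), IsAffineHom (UF.map φ) := fun j k φ => haU φ
  obtain ⟨n, φn, hn⟩ := exists_isPullback_stage (U := UF) (R := RF) (cU := (Over.forget S).mapCone A.cU)
    (cR := (Over.forget S).mapCone r.cR) (Functor.whiskerRight r.s (Over.forget S)) hUF
    (fun φ => (r.sqs φ).map (Over.forget S)) (e := m.left) (sLim := r.sLim.left)
    (hsπ.map (Over.forget S)) g₂ v ((r.t.app m.left).left ≫ ψ)
    (by rw [Category.assoc, hψv']; exact hts₂) (by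
      change IsPullback ((r.cR.π.app m.left).left ≫ (r.t.app m.left).left ≫ ψ) r.sLim.left v
        ((A.cU.π.app m.left).left ≫ g₂)
      rw [← Category.assoc, ← Over.comp_left, r.t_comp, Over.comp_left, Category.assoc, hψ', hg₂]
      exact (sqU.map (Over.forget S)).paste_horiz sq)
  -- over the base
  let OS := absOver S tO
  let VS := absOver S (v ≫ tO)
  let vS : VS ⟶ OS := Over.homMk (pullback.lift (pullback.fst _ _ ≫ v) (pullback.snd _ _)
    (specULiftZIsTerminal.hom_ext _ _)) (pullback.lift_snd _ _ _)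
  have sqv : IsPullback (pullback.fst (v ≫ tO) (specULiftZIsTerminal.from S)) vS.left v
      (pullback.fst tO (specULiftZIsTerminal.from S)) :=
    IsPullback.of_bot (by
      change IsPullback _ (pullback.lift _ _ _ ≫ pullback.snd _ _) _ _
      rw [pullback.lift_snd]
      exact IsPullback.of_hasPullback _ _) (pullback.lift_fst _ _ _).symm (IsPullback.of_hasPullback _ _)
  have : Etale vS.left := MorphismProperty.of_isPullback sqv hve
  have : Surjective vS.left := MorphismProperty.of_isPullback sqv hvs
  have : IsAffineHom (v ≫ tO) := inferInstance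
  have : QuasiSeparatedSpace VS.left := by
    have : QuasiSeparatedSpace ↥(pullback (v ≫ tO) (specULiftZIsTerminal.from S)) :=
      quasiSeparatedSpace_of_quasiSeparated (pullback.snd (v ≫ tO) (specULiftZIsTerminal.from S))
    exact this
  let g : (A.U.obj n) ⟶ OS := Over.homMk (pullback.lift ((A.U.map φn).left ≫ g₂) (A.U.obj n).hom
    (specULiftZIsTerminal.hom_ext _ _)) (pullback.lift_snd _ _ _)
  let ψS : (A.U.obj n) ⟶ VS := Over.homMk (pullback.lift ((A.U.map φn).left ≫ ψ) (A.U.obj n).hom
    (specULiftZIsTerminal.hom_ext _ _)) (pullback.lift_snd _ _ _)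
  have hts : r.t.app n ≫ g = r.s.app n ≫ g := by
    refine Over.OverMorphism.ext (pullback.hom_ext ?_ ?_)
    · simp only [Over.comp_left, g, Over.homMk_left, Category.assoc, pullback.lift_fst]
      exact (natTrans_left_assoc r.t φn g₂).trans ((congrArg (_ ≫ ·) hts₂).trans (natTrans_left_assoc r.s φn g₂).symm)
    · simp only [Over.comp_left, g, Over.homMk_left, Category.assoc, pullback.lift_snd, Over.w]
  have hψS : ψS ≫ vS = g := by
    refine Over.OverMorphism.ext (pullback.hom_ext ?_ ?_)
    · simp [ψS, vS, g, hψv']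
    · simp [ψS, vS, g]
  refine ⟨n.left, exists_iso_yon_of_cartesian_chart (A.etale n) (A.surjective n) (r.sqR n) g vS ψS hts hψS
    (IsPullback.of_map (Over.forget S) (by rw [Category.assoc, hψS, hts]) ?_)⟩
  refine IsPullback.of_right ?_ (by
    change (r.t.app n ≫ ψS).left ≫ vS.left = (r.s.app n).left ≫ g.left
    rw [← Over.comp_left, ← Over.comp_left, Category.assoc, hψS, hts]) sqv
  have h1 : (r.t.app n ≫ ψS).left ≫ pullback.fst (v ≫ tO) (specULiftZIsTerminal.from S) =
      (r.R.map φn).left ≫ (r.t.app m.left).left ≫ ψ := by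
    simp only [Over.comp_left, ψS, Over.homMk_left, Category.assoc, pullback.lift_fst]
    rw [← Category.assoc, ← Over.comp_left, ← r.t.naturality φn, Over.comp_left, Category.assoc]
  have h2 : g.left ≫ pullback.fst tO (specULiftZIsTerminal.from S) = (A.U.map φn).left ≫ g₂ := pullback.lift_fst _ _ _
  exact (show IsPullback _ _ _ _ from h1 ▸ h2 ▸ hn)

/-- If the limit is affine, so are the stages from some index on. -/
theorem exists_affine_of_affine_limit [QuasiSeparatedSpace S] (hD : ∀ i, IsAlgSpace (D.obj i))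
    (hDa : ∀ (i j : I) (φ : i ⟶ j), IsAffineMor (D.map φ)) {c : Cone D} (hc : IsLimit c)
    (hqc : ∀ i, IsQuasiCompactSp (D.obj i)) (hqs : ∀ i, IsQuasiSeparatedSp (D.obj i)) {T : Over S}
    (hT : IsAffine T.left) (e : (yon S).obj T ≅ c.pt) :
    ∃ i₀ : I, ∀ i (_ : i ⟶ i₀), ∃ T' : Over S, IsAffine T'.left ∧ Nonempty ((yon S).obj T' ≅ D.obj i) := by
  obtain ⟨n, W, ⟨eW⟩⟩ := exists_representable_of_affine_limit hD hDa hc hqs (hqc IsCofiltered.nonempty.some) hT e
  exact exists_affine_of_representable_stage hDa hc hqc hqs eW hT e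

end Groth.Agent.H12AlgSp
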