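import Groth.Agent.H12AlgSp.LimitOpen
import Groth.Agent.H12AlgSp.LimitAffineStage
import Groth.Agent.H12AlgSp.GlueSheaf

/-!
If a limit of algebraic spaces with affine transition maps is a scheme, so is some stage.
-/

universe u

open CategoryTheory CategoryTheory.Limits AlgebraicGeometry Opposite Topology
open AlgSp Groth.Agent.H13AlgSp

set_option backward.isDefEq.respectTransparency false

attribute [local instance] CategoryTheory.isConnected_of_hasTerminal

namespace Groth.Agent.H12AlgSp

variable {S : Scheme.{u}} {I : Type u} [SmallCategory I] [IsCofiltered I] {D : I ⥤ Sp S}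

/-- Open subspaces with the same points are isomorphic. -/
theorem exists_iso_of_range_eq {X U V : Sp S} {j : U ⟶ X} {k : V ⟶ X} (hj : RepWith @IsOpenImmersion j)
    (hk : RepWith @IsOpenImmersion k) (h : Set.range (Points.map j) = Set.range (Points.map k)) :
    ∃ e : U ≅ V, e.hom ≫ k = j := by
  have := mono_of_openImmersion hj
  have := mono_of_openImmersion hk
  obtain ⟨f, hf⟩ := exists_factor_open hk j h.le
  obtain ⟨g, hg⟩ := exists_factor_open hj k h.ge
  exact ⟨⟨f, g, by rw [← cancel_mono j, Category.assoc, hg, hf, Category.id_comp],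
    by rw [← cancel_mono k, Category.assoc, hf, hg, Category.id_comp]⟩, hf⟩

/-- A subspace of a quasi-separated space is quasi-separated. -/
theorem isQuasiSeparatedSp_of_mono {X U : Sp S} (hX : IsQuasiSeparatedSp X) (j : U ⟶ X) [Mono j] :
    IsQuasiSeparatedSp U := by
  have h := isPullback_diag_prodMap (IsKernelPair.id_of_mono j)
  exact repWith_of_isPullback h hX

/-- An affine open of a stage of a limit becomes affine at a later stage. -/
theorem exists_affine_open_stage [QuasiSeparatedSpace S] (hD : ∀ i, IsAlgSpace (D.obj i))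
    (hDa : ∀ (i j : I) (φ : i ⟶ j), IsAffineMor (D.map φ)) {c : Cone D} (hc : IsLimit c)
    (hqs : ∀ i, IsQuasiSeparatedSp (D.obj i)) {m : I} {O : Set (Points (D.obj m))} (hO : IsOpen O)
    (hOc : IsCompact O) {T : Over S} (hT : IsAffine T.left) (t : (yon S).obj T ⟶ c.pt)
    (ht : RepWith @IsOpenImmersion t) (htr : Set.range (Points.map t) = Points.map (c.π.app m) ⁻¹' O) :
    ∃ l : Over m, ∀ l' (_ : l' ⟶ l), ∃ (Z : Over S) (j : (yon S).obj Z ⟶ D.obj l'.left), IsAffine Z.left ∧
      RepWith @IsOpenImmersion j ∧ Set.range (Points.map j) = Points.map (D.map l'.hom) ⁻¹' O := by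
  obtain ⟨W, ι, -, hι, hr⟩ := exists_open_subspace (hD m) hO
  let E : Over m ⥤ Sp S :=
    { obj := fun j => pullback (D.map j.hom) ι
      map := fun {j k} φ => pullback.map _ _ _ _ (D.map φ.left) (𝟙 _) (𝟙 _)
        (by rw [Category.comp_id, ← D.map_comp, Over.w φ]) (by simp)
      map_id := fun j => by apply pullback.hom_ext <;> simp
      map_comp := fun φ ψ => by apply pullback.hom_ext <;> simp }
  let α : E ⟶ Over.forget m ⋙ D :=
    { app := fun j => pullback.fst _ _
      naturality := fun j k φ => pullback.lift_fst _ _ _ }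
  have hmap : ∀ {j k : Over m} (φ : j ⟶ k), IsPullback (E.map φ) (pullback.fst (D.map j.hom) ι)
      (pullback.fst (D.map k.hom) ι) (D.map φ.left) := fun {j k} φ => by
    refine IsPullback.of_right (h₁₂ := pullback.snd (D.map k.hom) ι) (v₁₃ := ι) (h₂₂ := D.map k.hom) ?_
      (pullback.lift_fst _ _ _) (IsPullback.of_hasPullback _ _).flip
    rw [show E.map φ ≫ pullback.snd (D.map k.hom) ι = pullback.snd (D.map j.hom) ι from
      (pullback.lift_snd _ _ _).trans (Category.comp_id _), ← D.map_comp, Over.w φ]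
    exact (IsPullback.of_hasPullback _ _).flip
  have hP : ∀ j : Over m, RepWith @IsOpenImmersion (pullback.fst (D.map j.hom) ι) := fun j =>
    repWith_of_isPullback (IsPullback.of_hasPullback (D.map j.hom) ι).flip hι
  have hPr : ∀ j : Over m, Set.range (Points.map (pullback.fst (D.map j.hom) ι)) = Points.map (D.map j.hom) ⁻¹' O :=
    fun j => by rw [range_snd_of_isPullback (IsPullback.of_hasPullback (D.map j.hom) ι).flip, hr]
  let cE : Cone E :=
    { pt := pullback (c.π.app m) ι
      π := { app := fun j => pullback.map _ _ _ _ (c.π.app j.left) (𝟙 _) (𝟙 _)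
               (by rw [Category.comp_id, c.w]) (by simp)
             naturality := fun j k φ => by apply pullback.hom_ext <;> simp [E] } }
  have hcE : ∀ j : Over m, IsPullback (cE.π.app j) (pullback.fst (c.π.app m) ι) (α.app j)
      ((c.whisker (Over.forget m)).π.app j) := fun j => by
    refine IsPullback.of_right (h₁₂ := pullback.snd (D.map j.hom) ι) (v₁₃ := ι) (h₂₂ := D.map j.hom) ?_
      (pullback.lift_fst _ _ _) (IsPullback.of_hasPullback _ _).flip
    rw [show cE.π.app j ≫ pullback.snd (D.map j.hom) ι = pullback.snd (c.π.app m) ι from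
      (pullback.lift_snd _ _ _).trans (Category.comp_id _)]
    change IsPullback _ _ _ (c.π.app j.left ≫ D.map j.hom)
    rw [c.w]
    exact (IsPullback.of_hasPullback _ _).flip
  have hlim : IsLimit cE := isLimitOfIsPullbackOfIsConnected α cE (c.whisker (Over.forget m))
    { hom := pullback.fst _ _, w := fun j => (hcE j).w.symm } hcE
    ((Functor.Initial.isLimitWhiskerEquiv (Over.forget m) c).symm hc)
  have hcP : RepWith @IsOpenImmersion (pullback.fst (c.π.app m) ι) :=
    repWith_of_isPullback (IsPullback.of_hasPullback (c.π.app m) ι).flip hι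
  obtain ⟨e, -⟩ := exists_iso_of_range_eq ht hcP (by
    rw [htr, range_snd_of_isPullback (IsPullback.of_hasPullback (c.π.app m) ι).flip, hr])
  have hEqc : ∀ j, IsQuasiCompactSp (E.obj j) := fun j => by
    refine isQuasiCompactSp_of_openImmersion (hD j.left) (hP j) ?_
    rw [hPr]
    exact isCompact_preimage (hD m) (isQuasiCompactMor_of_repWith (hD _) (hD m)
      (repWith_le (P := @IsAffineHom) (Q := @QuasiCompact) (fun _ _ k (_ : IsAffineHom k) => inferInstance) (isAffineMor_iff.1 (hDa _ _ j.hom)))) hO hOc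
  have hEqs : ∀ j, IsQuasiSeparatedSp (E.obj j) := fun j => by
    have := mono_of_openImmersion (hP j)
    exact isQuasiSeparatedSp_of_mono (hqs j.left) (pullback.fst (D.map j.hom) ι)
  obtain ⟨l, hl⟩ := exists_affine_of_affine_limit (fun j => isAlgSpace_of_representable _ (hP j).1 (hD j.left))
    (fun j k φ => isAffineMor_iff.2 (repWith_of_isPullback (hmap φ).flip (isAffineMor_iff.1 (hDa _ _ φ.left))))
    hlim hEqc hEqs hT e
  refine ⟨l, fun l' φ => ?_⟩
  obtain ⟨Z, hZ, ⟨eZ⟩⟩ := hl l' φ
  refine ⟨Z, eZ.hom ≫ pullback.fst (D.map l'.hom) ι, hZ, MorphismProperty.RespectsIso.precomp _ _ _ (hP l'), ?_⟩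
  rw [← hPr, show Points.map (eZ.hom ≫ pullback.fst (D.map l'.hom) ι) =
    Points.map (pullback.fst (D.map l'.hom) ι) ∘ Points.map eZ.hom from funext fun x => Points.map_comp _ _ x]
  exact Function.Surjective.range_comp (fun x => ⟨Points.map eZ.inv x, by
    rw [← Points.map_comp, eZ.inv_hom_id, Points.map_id]⟩) _

/-- An open containing the image of the limit contains the image of a stage. -/
theorem exists_stage_univ (hD : ∀ i, IsAlgSpace (D.obj i))
    (hDa : ∀ (i j : I) (φ : i ⟶ j), IsAffineMor (D.map φ)) {c : Cone D} (hc : IsLimit c) {m : I}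
    (hqc : IsQuasiCompactSp (D.obj m)) {O : Set (Points (D.obj m))} (hO : IsOpen O)
    (h : Points.map (c.π.app m) ⁻¹' O = Set.univ) :
    ∃ l : Over m, Points.map (D.map l.hom) ⁻¹' O = Set.univ := by
  obtain ⟨A⟩ := exists_atlasSystem_of_qc hDa hc hD m hqc
  have hlim : IsLimit ((Over.forget S).mapCone A.cU) := isLimitOfPreserves _ A.isLimit
  have : ∀ j, IsAffine ((A.U ⋙ Over.forget S).obj j) := fun j => A.affine j
  let j₀ : Over m := Over.mk (𝟙 m)
  let V : ((A.U ⋙ Over.forget S).obj j₀).Opens := ⟨Points.ofPt (A.a j₀) ⁻¹' O, hO.preimage (Points.continuous_ofPt _)⟩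
  obtain ⟨l, φ, hl⟩ := exists_map_eq_top (A.U ⋙ Over.forget S) _ hlim (i := j₀) V (by
    ext x
    simp only [TopologicalSpace.Opens.coe_top, Set.mem_univ, iff_true]
    change Points.ofPt (A.a j₀) ((A.cU.π.app j₀).left x) ∈ O
    rw [← ofPt_map, (A.sqLim j₀).w, ← Points.map_ofPt]
    exact h.ge (Set.mem_univ _))
  refine ⟨l, Set.eq_univ_of_forall fun y => ?_⟩
  obtain ⟨z, rfl⟩ := surjective_ofPt_of_repWith le_rfl (A.surjective l) y
  have hz : Points.ofPt (A.a j₀) ((A.U.map φ).left z) ∈ O := hl.ge (TopologicalSpace.Opens.mem_top z)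
  rw [← ofPt_map, (A.sq φ).w, ← Points.map_ofPt, show φ.left = l.hom by simpa [j₀] using Over.w φ] at hz
  exact hz

/-- If the limit is a scheme, so is some stage. -/
theorem exists_scheme_of_scheme_limit [QuasiSeparatedSpace S] (hD : ∀ i, IsAlgSpace (D.obj i))
    (hDa : ∀ (i j : I) (φ : i ⟶ j), IsAffineMor (D.map φ)) {c : Cone D} (hc : IsLimit c)
    (hqc : ∀ i, IsQuasiCompactSp (D.obj i)) (hqs : ∀ i, IsQuasiSeparatedSp (D.obj i)) {T : Over S}
    (e : (yon S).obj T ≅ c.pt) :
    ∃ i₀ : I, ∀ i (_ : i ⟶ i₀), ∃ W : Over S, Nonempty ((yon S).obj W ≅ D.obj i) := by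
  classical
  let i₁ : I := IsCofiltered.nonempty.some
  obtain ⟨A⟩ := exists_atlasSystem_of_qc hDa hc hD i₁ (hqc i₁)
  have : CompactSpace (Points c.pt) :=
    (surjective_ofPt_of_repWith le_rfl A.surjectiveLim).compactSpace (Points.continuous_ofPt A.aLim)
  let t : ∀ B : T.left.affineOpens, (yon S).obj (openOver T B.1) ⟶ c.pt := fun B =>
    (yon S).map (openIncl T B.1) ≫ e.hom
  have ht : ∀ B, RepWith @IsOpenImmersion (t B) := fun B => MorphismProperty.RespectsIso.postcomp _ _ _
    ((repWith_yon_map_iff @IsOpenImmersion _).2 (inferInstanceAs (IsOpenImmersion B.1.ι)))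
  have hto : ∀ B, IsOpen (Set.range (Points.map (t B))) := fun B =>
    (isOpenMap_map_of_repWith (fun _ _ k (_ : IsOpenImmersion k) => inferInstance) (ht B)).isOpen_range
  obtain ⟨s, hs⟩ := isCompact_univ.elim_finite_subcover (fun B => Set.range (Points.map (t B))) hto
    (fun x _ => by
      obtain ⟨x', rfl⟩ : ∃ x', Points.map e.hom x' = x :=
        ⟨Points.map e.inv x, by rw [← Points.map_comp, e.inv_hom_id, Points.map_id]⟩
      obtain ⟨z, rfl⟩ := (Points.schemeEquiv T).surjective x'
      obtain ⟨B, hB⟩ := TopologicalSpace.Opens.mem_iSup.1 ((iSup_affineOpens_eq_top T.left).ge (Set.mem_univ z))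
      refine Set.mem_iUnion.2 ⟨B, Points.ofScheme _ ⟨z, hB⟩, ?_⟩
      change Points.map ((yon S).map (openIncl T B.1) ≫ e.hom) _ = _
      rw [Points.map_comp]
      exact congrArg (Points.map e.hom) (Points.map_yon_map_apply _ _))
  have hcomp : ∀ B : T.left.affineOpens, IsCompact (Set.range (Points.map (t B))) := fun B => by
    have : IsAffine (openOver T B.1).left := B.2
    have := compactSpace_points_of_isQuasiCompactSp
      (isQuasiCompactSp_yon_iff.2 (inferInstance : CompactSpace (openOver T B.1).left))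
    exact isCompact_range (Points.continuous_map _)
  choose i O hO hOc hOr using fun B : s => exists_compact_open_stage hD hDa hc (hto B.1) (hcomp B.1)
  obtain ⟨m, hm⟩ := IsCofiltered.inf_objs_exists (Finset.univ.image i)
  let f : ∀ B : s, m ⟶ i B := fun B => (hm (Finset.mem_image_of_mem i (Finset.mem_univ B))).some
  let O' : s → Set (Points (D.obj m)) := fun B => Points.map (D.map (f B)) ⁻¹' O B
  have hO' : ∀ B, IsOpen (O' B) := fun B => (hO B).preimage (Points.continuous_map _)
  have hO'r : ∀ B, Points.map (c.π.app m) ⁻¹' O' B = Set.range (Points.map (t B.1)) := fun B => by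
    rw [← hOr B, ← Set.preimage_comp]
    congr 1
    exact funext fun y => by simp only [Function.comp_apply]; rw [← Points.map_comp, c.w]
  obtain ⟨l₀, hl₀⟩ := exists_stage_univ hD hDa hc (hqc m) (isOpen_iUnion hO') (by
    refine Set.eq_univ_of_forall fun x => ?_
    obtain ⟨B, hB, hx⟩ := Set.mem_iUnion₂.1 (hs (Set.mem_univ x))
    rw [Set.preimage_iUnion]
    exact Set.mem_iUnion.2 ⟨⟨B, hB⟩, (hO'r ⟨B, hB⟩).ge hx⟩)
  choose l hl using fun B : s => exists_affine_open_stage hD hDa hc hqs (hO' B)
    (isCompact_preimage (hD _) (isQuasiCompactMor_of_repWith (hD _) (hD _)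
      (repWith_le (P := @IsAffineHom) (Q := @QuasiCompact) (fun _ _ k (_ : IsAffineHom k) => inferInstance) (isAffineMor_iff.1 (hDa _ _ (f B))))) (hO B) (hOc B))
    (T := openOver T B.1.1) B.1.2 (t B.1) (ht B.1) (hO'r B).symm
  obtain ⟨i₀, φ₀, ψ, hψ⟩ := IsCofiltered.wideCospan
    (fun o : Fin (Nat.card (Option s)) => (((Finite.equivFin (Option s)).symm o).elim l₀ l).hom)
  refine ⟨i₀, fun i φ => ?_⟩
  have hw : ∀ o : Option s, ∃ χ : i ⟶ (o.elim l₀ l).left, χ ≫ (o.elim l₀ l).hom = φ ≫ φ₀ := fun o => by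
    obtain ⟨k, rfl⟩ := (Finite.equivFin (Option s)).symm.surjective o
    exact ⟨φ ≫ ψ k, by rw [Category.assoc, hψ k]⟩
  choose Z j hZ hj hjr using fun B : s => hl B (Over.mk (φ ≫ φ₀)) (Over.homMk (hw (some B)).choose (hw (some B)).choose_spec)
  obtain ⟨W, μ, hμ⟩ := exists_iso_of_openCover Z j hj (fun T y z => by
    have h0 : Points.map (D.map (φ ≫ φ₀)) (Points.ofPt y z) ∈ ⋃ B, O' B := by
      rw [← (hw none).choose_spec, Functor.map_comp, Points.map_comp]
      exact hl₀.ge (Set.mem_univ _)
    obtain ⟨B, hB⟩ := Set.mem_iUnion.1 h0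
    exact ⟨B, (hjr B).ge hB⟩)
  exact ⟨W, ⟨asIso μ⟩⟩

end Groth.Agent.H12AlgSp
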