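import Groth.Agent.H12AlgSp.Unramified
import Groth.Agent.H18Descent.Basic

/-!
Representability by schemes of separated locally quasi-finite maps which are representable by algebraic spaces,
and of the diagonal of a sheaf with an fppf cover by an algebraic space.
-/

universe u

open CategoryTheory CategoryTheory.Limits AlgebraicGeometry Opposite
open AlgSp Groth.Agent.H13AlgSp

namespace Groth.Agent.H12AlgSp

variable {S : Scheme.{u}}

/-- An algebraic space with a monomorphism to `X × T`, locally quasi-finite over `T`, is a scheme. -/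
theorem exists_scheme_of_lqf_mono {P : Sp S} (hP : IsAlgSpace P) {X T : Over S} (a : P ⟶ (yon S).obj X)
    (b : P ⟶ (yon S).obj T) (hab : ∀ {W : Sp S} (x y : W ⟶ P), x ≫ a = y ≫ a → x ≫ b = y ≫ b → x = y)
    (hb : LocP (@LocallyQuasiFinite ⊓ @LocallyOfFiniteType) b) :
    ∃ (R : Over S) (μ : (yon S).obj R ⟶ P) (t : R ⟶ X) (s : R ⟶ T), IsIso μ ∧ (yon S).map t = μ ≫ a ∧
      (yon S).map s = μ ≫ b := by
  let π : P ⟶ (yon S).obj (X ⨯ T) := prod.lift a b ≫ (PreservesLimitPair.iso (yon S) X T).inv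
  have hπ₁ : π ≫ (yon S).map prod.fst = a := by
    simp only [π, Category.assoc, PreservesLimitPair.iso_inv_fst]
    exact prod.lift_fst a b
  have hπ₂ : π ≫ (yon S).map prod.snd = b := by
    simp only [π, Category.assoc, PreservesLimitPair.iso_inv_snd]
    exact prod.lift_snd a b
  have : Mono π := ⟨fun x y e => by
    have e₁ : x ≫ a = y ≫ a := by
      rw [← hπ₁]; exact ((Category.assoc x π _).symm.trans (e =≫ _)).trans (Category.assoc y π _)
    have e₂ : x ≫ b = y ≫ b := by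
      rw [← hπ₂]; exact ((Category.assoc x π _).symm.trans (e =≫ _)).trans (Category.assoc y π _)
    exact hab x y e₁ e₂⟩
  have hqf : LocP (@LocallyQuasiFinite ⊓ @LocallyOfFiniteType) π := by
    refine locP_of_comp (etLocal_inf etLocal_lqf etLocal_lft) (fun A B C f g hfg => ?_) (IsAlgSpace.yon_obj T)
      (g := (yon S).map prod.snd) ?_
    · obtain ⟨h₁, h₂⟩ := hfg
      exact ⟨LocallyQuasiFinite.of_comp f g, locallyOfFiniteType_of_comp f g⟩
    · rwa [hπ₂]
  obtain ⟨R, -, μ, hμ, -⟩ := exists_iso_of_lqf_separated hP (isSeparatedMor_of_mono π) hqf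
  obtain ⟨t, ht⟩ := (yon S).map_surjective (μ ≫ a)
  obtain ⟨s, hs⟩ := (yon S).map_surjective (μ ≫ b)
  exact ⟨R, μ, t, s, hμ, ht, hs⟩

/-- A map from a representable presheaf which is representable by spaces and locally quasi-finite is representable. -/
theorem relativelyRepresentable_of_lqf {F : PSp S} {X : Over S} (p : (pyon S).obj X ⟶ F)
    (hp : RepBySpWith (LocP (@LocallyQuasiFinite ⊓ @LocallyOfFiniteType)) p) :
    (pyon S).relativelyRepresentable p := by
  intro T ξ
  have sq := IsPullback.of_hasPullback p ξ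
  obtain ⟨hs, hA, hq⟩ := hp ξ _ _ sq
  let P : Sp S := ⟨pullback p ξ, hs⟩
  let a : P ⟶ (yon S).obj X := ObjectProperty.homMk (pullback.fst p ξ)
  let b : P ⟶ (yon S).obj T := ObjectProperty.homMk (pullback.snd p ξ)
  obtain ⟨R, μ, t, s, hμ, ht, hs'⟩ := exists_scheme_of_lqf_mono hA a b
    (fun x y h₁ h₂ => (sheafToPresheaf (J S) (Type (u + 1))).map_injective (sq.hom_ext
      (congrArg (sheafToPresheaf (J S) (Type (u + 1))).map h₁)
      (congrArg (sheafToPresheaf (J S) (Type (u + 1))).map h₂))) hq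
  have : IsIso μ.hom := inferInstanceAs (IsIso ((sheafToPresheaf (J S) (Type (u + 1))).map μ))
  refine ⟨R, s, (pyon S).map t, sq.of_iso (asIso μ.hom).symm (Iso.refl _) (Iso.refl _) (Iso.refl _)
      ((Category.comp_id a.hom).trans ((IsIso.eq_inv_comp μ.hom).2
        (congrArg (sheafToPresheaf (J S) (Type (u + 1))).map ht).symm))
      ((Category.comp_id b.hom).trans ((IsIso.eq_inv_comp μ.hom).2
        (congrArg (sheafToPresheaf (J S) (Type (u + 1))).map hs').symm))
      (by change p ≫ 𝟙 _ = 𝟙 _ ≫ p; rw [Category.comp_id, Category.id_comp])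
      (by change ξ ≫ 𝟙 _ = 𝟙 _ ≫ ξ; rw [Category.comp_id, Category.id_comp])⟩

/-- An fppf cover of the base from an fppf cover by an algebraic space. -/
theorem exists_fppf_cover {P : Sp S} (hP : IsAlgSpace P) {T : Over S} (b : P ⟶ (yon S).obj T)
    (hs : IsSurjectiveMor b) (hfl : LocP @Flat b) (hfp : LocP @LocallyOfFinitePresentation b) :
    ∃ (W : Over S) (c : W ⟶ T) (d : (yon S).obj W ⟶ P), Flat c.left ∧ LocallyOfFinitePresentation c.left ∧
      Surjective c.left ∧ d ≫ b = (yon S).map c := by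
  obtain ⟨W, d, hd, hds⟩ := hP.atlas
  obtain ⟨c, hc⟩ := (yon S).map_surjective (d ≫ b)
  have hT : RepWith @Etale (𝟙 ((yon S).obj T)) := repWith_of_isIso _
  have hw : d ≫ b = (yon S).map c ≫ 𝟙 _ := by rw [Category.comp_id, hc]
  refine ⟨W, c, d, hfl d (𝟙 _) c hd hT hw, hfp d (𝟙 _) c hd hT hw, surjective_left_of_map c ?_, hc.symm⟩
  rw [hc, show Points.map (d ≫ b) = Points.map b ∘ Points.map d from funext fun x => Points.map_comp _ _ x]
  exact hs.comp (surjective_map_of_repWith le_rfl hds)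

/-- Descent of separated locally quasi-finite schemes along an fppf cover by an algebraic space. -/
theorem repWith_of_isPullback_along {E F G H : Sp S} {a : E ⟶ F} {f : E ⟶ H} {g : F ⟶ G} {b : H ⟶ G}
    (sq : IsPullback a f g b)
    (hg : ∀ ⦃U : Over S⦄ (ξ : (yon S).obj U ⟶ G) ⦃F' : Sp S⦄ (fst : F' ⟶ F) (snd : F' ⟶ (yon S).obj U),
      IsPullback fst snd g ξ → IsAlgSpace F' ∧
        (IsSurjectiveMor snd ∧ LocP @Flat snd ∧ LocP @LocallyOfFinitePresentation snd))
    (ha : ∀ ⦃U : Over S⦄ (ξ : (yon S).obj U ⟶ F) ⦃F' : Sp S⦄ (fst : F' ⟶ E) (snd : F' ⟶ (yon S).obj U),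
      IsPullback fst snd a ξ → IsAlgSpace F' ∧
        (IsSeparatedMor snd ∧ LocP (@LocallyQuasiFinite ⊓ @LocallyOfFiniteType) snd)) :
    RepWith @IsSeparated b ∧ RepWith (@LocallyQuasiFinite ⊓ @LocallyOfFiniteType) b := by
  have key : ∀ ⦃T : Over S⦄ (ξ : (yon S).obj T ⟶ G), ∃ (GT : Over S) (γ : GT ⟶ T) (fst : (yon S).obj GT ⟶ H),
      IsPullback fst ((yon S).map γ) b ξ ∧ IsSeparated γ.left ∧ LocallyQuasiFinite γ.left ∧
        LocallyOfFiniteType γ.left := by
    intro T ξ
    obtain ⟨hP, hPs, hPfl, hPfp⟩ := hg ξ _ _ (IsPullback.of_hasPullback g ξ)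
    obtain ⟨W, c, d, hcfl, hcfp, hcs, hd⟩ := exists_fppf_cover hP _ hPs hPfl hPfp
    let l := d ≫ pullback.fst g ξ
    have hl : l ≫ g = (yon S).map c ≫ ξ := by
      rw [Category.assoc, pullback.condition, ← Category.assoc, hd]
    obtain ⟨hQ, hQs, hQq⟩ := ha l _ _ (IsPullback.of_hasPullback a l)
    obtain ⟨Q', b', μ, hμ, hb'⟩ := exists_iso_of_lqf_separated hQ hQs hQq
    obtain ⟨hb₁, hb₂, hb₃⟩ := scheme_props_of_space hQ hQs hQq μ (repWith_of_isIso μ) (isSeparatedMor_of_mono μ) b' hb'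
    have sqA := (IsPullback.of_hasPullback a l).paste_horiz sq.flip
    rw [hl] at sqA
    let k : pullback a l ⟶ pullback b ξ := pullback.lift (pullback.fst a l ≫ f)
      (pullback.snd a l ≫ (yon S).map c) (by rw [sqA.w, Category.assoc])
    have sqk : IsPullback k (pullback.snd a l) (pullback.snd b ξ) ((yon S).map c) :=
      IsPullback.of_right (by rw [pullback.lift_fst]; exact sqA) (pullback.lift_snd _ _ _)
        (IsPullback.of_hasPullback b ξ)
    have sqQ : IsPullback (μ ≫ k) ((yon S).map b') (pullback.snd b ξ) ((yon S).map c) :=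
      sqk.of_iso (asIso μ).symm (Iso.refl _) (Iso.refl _) (Iso.refl _) (by simp) (by simp [← hb']) (by simp) (by simp)
    obtain ⟨GT, γ, ν, hν, hνq⟩ := exists_iso_of_lqf (pullback.snd b ξ) c (μ ≫ k) b' sqQ
    have sqγ : IsPullback (ν ≫ pullback.fst b ξ) ((yon S).map γ) b ξ :=
      IsPullback.of_iso_pullback ⟨by rw [Category.assoc, pullback.condition, ← Category.assoc, hνq]⟩ (asIso ν) rfl hνq
    refine ⟨GT, γ, _, sqγ, ?_⟩
    have sqν : IsPullback ν ((yon S).map γ) (pullback.snd b ξ) (𝟙 _) :=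
      IsPullback.of_horiz_isIso ⟨by rw [Category.comp_id, hνq]⟩
    obtain ⟨κ, hκ⟩ := (yon S).map_surjective (μ ≫ k ≫ inv ν)
    have hκν : (yon S).map κ ≫ ν = μ ≫ k := by rw [hκ]; simp
    have sqS : IsPullback κ b' γ c := IsPullback.of_map_of_faithful (yon S)
      (IsPullback.of_right (by rw [hκν, Category.comp_id]; exact sqQ) (by
        rw [hκ, ← hνq, Category.assoc, Category.assoc, IsIso.inv_hom_id_assoc, ← Category.assoc μ k]
        exact sqQ.w) sqν)
    have sqS' : IsPullback b'.left κ.left c.left γ.left := (sqS.map (Over.forget S)).flip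
    have hc : fppfMor c.left := ⟨⟨hcs, hcfl⟩, hcfp⟩
    exact ⟨MorphismProperty.of_isPullback_of_descendsAlong sqS' hc hb₃,
      MorphismProperty.of_isPullback_of_descendsAlong sqS' hc hb₁,
      MorphismProperty.of_isPullback_of_descendsAlong sqS' hc hb₂⟩
  have hrep : Representable b := fun T ξ => by
    obtain ⟨GT, γ, fst, sqγ, -⟩ := key ξ
    exact ⟨GT, γ, fst, sqγ⟩
  refine ⟨MorphismProperty.relative.of_exists fun T ξ => ?_, MorphismProperty.relative.of_exists fun T ξ => ?_⟩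
  · obtain ⟨GT, γ, fst, sqγ, h₁, -⟩ := key ξ
    exact ⟨GT, fst, γ, sqγ, h₁⟩
  · obtain ⟨GT, γ, fst, sqγ, -, h₂, h₃⟩ := key ξ
    exact ⟨GT, fst, γ, sqγ, h₂, h₃⟩

/-- A sheaf with an fppf cover by an algebraic space has diagonal representable by schemes. -/
theorem representable_diag_of_repBySp_fppf {X F : Sp S} (hX : IsAlgSpace X) (p : X ⟶ F)
    (hp : ∀ ⦃U : Over S⦄ (ξ : (yon S).obj U ⟶ F) ⦃F' : Sp S⦄ (fst : F' ⟶ X) (snd : F' ⟶ (yon S).obj U),
      IsPullback fst snd p ξ → IsAlgSpace F' ∧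
        (IsSurjectiveMor snd ∧ LocP @Flat snd ∧ LocP @LocallyOfFinitePresentation snd)) :
    Representable (Limits.diag F) := by
  refine Functor.relativelyRepresentable.diag_of_map_from_obj fun T x A y => ?_
  let B : Over S := T ⨯ A
  let π₁ : B ⟶ T := prod.fst
  let π₂ : B ⟶ A := prod.snd
  have hterm : IsTerminal ((yon S).obj (Over.mk (𝟙 S))) := IsTerminal.isTerminalObj (yon S) _ Over.mkIdTerminal
  have sqB : IsPullback ((yon S).map π₁) ((yon S).map π₂) ((yon S).map (Over.mkIdTerminal.from T))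
      ((yon S).map (Over.mkIdTerminal.from A)) :=
    (IsPullback.of_is_product (IsLimit.ofIsoLimit (prodIsProd T A) (Iso.refl _)) Over.mkIdTerminal).map (yon S)
  let Q := pullback x y
  let q : Q ⟶ (yon S).obj B := sqB.lift (pullback.fst x y) (pullback.snd x y) (hterm.hom_ext _ _)
  have hq₁ : q ≫ (yon S).map π₁ = pullback.fst x y := sqB.lift_fst _ _ _
  have hq₂ : q ≫ (yon S).map π₂ = pullback.snd x y := sqB.lift_snd _ _ _
  -- lift both components on an fppf cover
  obtain ⟨hP₁, hs₁, hfl₁, hfp₁⟩ := hp ((yon S).map π₁ ≫ x) _ _ (IsPullback.of_hasPullback p _)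
  obtain ⟨W₁, c₁, d₁, c₁fl, c₁fp, c₁s, hd₁⟩ := exists_fppf_cover hP₁ _ hs₁ hfl₁ hfp₁
  obtain ⟨hP₂, hs₂, hfl₂, hfp₂⟩ := hp ((yon S).map (c₁ ≫ π₂) ≫ y) _ _ (IsPullback.of_hasPullback p _)
  obtain ⟨W, c₂, d₂, c₂fl, c₂fp, c₂s, hd₂⟩ := exists_fppf_cover hP₂ _ hs₂ hfl₂ hfp₂
  obtain ⟨u, hu⟩ : ∃ u : (yon S).obj W ⟶ X, u ≫ p = (yon S).map (c₂ ≫ c₁ ≫ π₁) ≫ x :=
    ⟨(yon S).map c₂ ≫ d₁ ≫ pullback.fst _ _, by
      simp only [Category.assoc, pullback.condition, reassoc_of% hd₁, Functor.map_comp]⟩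
  obtain ⟨v, hv⟩ : ∃ v : (yon S).obj W ⟶ X, v ≫ p = (yon S).map (c₂ ≫ c₁ ≫ π₂) ≫ y :=
    ⟨d₂ ≫ pullback.fst _ _, by
      simp only [Category.assoc, pullback.condition, reassoc_of% hd₂, Functor.map_comp]⟩
  obtain ⟨c, hcdef⟩ : ∃ c, c = c₂ ≫ c₁ := ⟨_, rfl⟩
  rw [← Category.assoc, ← hcdef] at hu hv
  have : Flat c.left := hcdef ▸ inferInstanceAs (Flat (c₂.left ≫ c₁.left))
  have : LocallyOfFinitePresentation c.left :=
    hcdef ▸ inferInstanceAs (LocallyOfFinitePresentation (c₂.left ≫ c₁.left))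
  have : Surjective c.left := hcdef ▸ inferInstanceAs (Surjective (c₂.left ≫ c₁.left))
  obtain ⟨hPu, -, -, hfpu⟩ := hp (u ≫ p) _ _ (IsPullback.of_hasPullback p (u ≫ p))
  let Pu := pullback p (u ≫ p)
  let α : Pu ⟶ X := pullback.fst p (u ≫ p)
  let σ : Pu ⟶ (yon S).obj W := pullback.snd p (u ≫ p)
  let E := pullback (prod.lift α (σ ≫ v)) (Limits.diag X)
  let ε : E ⟶ Pu := pullback.fst _ _
  have hε : RepWith @LocallyOfFiniteType ε :=
    repWith_of_isPullback (IsPullback.of_hasPullback (prod.lift α (σ ≫ v)) (Limits.diag X)).flip (repWith_lft_diag hX)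
  have hE : IsAlgSpace E := isAlgSpace_of_representable ε
    (representable_of_isPullback (IsPullback.of_hasPullback (prod.lift α (σ ≫ v)) (Limits.diag X)).flip hX.diag) hPu
  have hεc : ε ≫ α = ε ≫ σ ≫ v := by
    have e := pullback.condition (f := prod.lift α (σ ≫ v)) (g := Limits.diag X)
    have e₁ := e =≫ prod.fst
    have e₂ := e =≫ prod.snd
    simp only [Category.assoc, prod.lift_fst, prod.lift_snd, Category.comp_id] at e₁ e₂
    exact e₁.trans e₂.symm
  let b : E ⟶ (yon S).obj W := ε ≫ σ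
  have : Mono b := ⟨fun {Z} z z' e => by
    have e' : z ≫ ε = z' ≫ ε := by
      apply pullback.hom_ext
      · change (z ≫ ε) ≫ α = (z' ≫ ε) ≫ α
        rw [Category.assoc, Category.assoc, hεc]
        exact (Category.assoc z b v).symm.trans ((e =≫ v).trans (Category.assoc z' b v))
      · exact (Category.assoc z ε σ).trans (e.trans (Category.assoc z' ε σ).symm)
    apply pullback.hom_ext
    · exact e'
    · have e₁ := (pullback.condition (f := prod.lift α (σ ≫ v)) (g := Limits.diag X)) =≫ prod.fst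
      simp only [Category.assoc, prod.lift_fst, Category.comp_id] at e₁
      rw [← e₁]
      exact (Category.assoc _ _ _).symm.trans ((e' =≫ α).trans (Category.assoc _ _ _))⟩
  have hbl : LocP @LocallyOfFiniteType b :=
    locP_comp etLocal_lft hE hPu (IsAlgSpace.yon_obj W) (locP_of_repWith etLocal_lft hε)
      (locP_mono (fun _ _ k (_ : LocallyOfFinitePresentation k) => inferInstanceAs (LocallyOfFiniteType k)) hfpu)
  have hbq := locP_lqf_of_mono hE b hbl
  obtain ⟨Q', b', μ, hμ, hb'⟩ := exists_iso_of_lqf_separated hE (isSeparatedMor_of_mono b) hbq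
  obtain ⟨hb₁, hb₂, hb₃⟩ :=
    scheme_props_of_space hE (isSeparatedMor_of_mono b) hbq μ (repWith_of_isIso μ) (isSeparatedMor_of_mono μ) b' hb'
  -- the base change of `Q` to `W`
  let k : E ⟶ Q := pullback.lift (b ≫ (yon S).map (c ≫ π₁)) (b ≫ (yon S).map (c ≫ π₂)) (by
    have h₁ : σ ≫ u ≫ p = α ≫ p := pullback.condition.symm
    have h₀ : b ≫ u ≫ p = b ≫ v ≫ p := by
      change (ε ≫ σ) ≫ u ≫ p = (ε ≫ σ) ≫ v ≫ p
      rw [Category.assoc, Category.assoc, h₁, ← Category.assoc ε α p, hεc, Category.assoc, Category.assoc]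
    rw [hu, hv] at h₀
    exact (Category.assoc _ _ _).trans (h₀.trans (Category.assoc _ _ _).symm))
  have hk : k ≫ q = b ≫ (yon S).map c := sqB.hom_ext
    (by rw [Category.assoc, hq₁, pullback.lift_fst]; simp only [b, Functor.map_comp, Category.assoc])
    (by rw [Category.assoc, hq₂, pullback.lift_snd]; simp only [b, Functor.map_comp, Category.assoc])
  have sqE : IsPullback k b q ((yon S).map c) := by
    refine ⟨⟨hk⟩, ⟨PullbackCone.isLimitAux' _ fun s => ?_⟩⟩
    have hcx : s.fst ≫ pullback.fst x y = s.snd ≫ (yon S).map (c ≫ π₁) := by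
      rw [← hq₁, ← Category.assoc, s.condition, Category.assoc, Functor.map_comp]
    have hcy : s.fst ≫ pullback.snd x y = s.snd ≫ (yon S).map (c ≫ π₂) := by
      rw [← hq₂, ← Category.assoc, s.condition, Category.assoc, Functor.map_comp]
    let l₀ : s.pt ⟶ Pu := pullback.lift (s.snd ≫ v) s.snd (by
      rw [Category.assoc, hv, hu, ← Category.assoc, ← Category.assoc, ← hcx, ← hcy, Category.assoc, Category.assoc,
        pullback.condition])
    let l : s.pt ⟶ E := pullback.lift l₀ (s.snd ≫ v) (by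
      apply Limits.prod.hom_ext
      · simp only [Category.assoc, prod.lift_fst, Category.comp_id]
        exact pullback.lift_fst _ _ _
      · simp only [Category.assoc, prod.lift_snd, Category.comp_id]
        rw [← Category.assoc, show l₀ ≫ σ = s.snd from pullback.lift_snd _ _ _])
    have hlb : l ≫ b = s.snd :=
      (Category.assoc l ε σ).symm.trans ((pullback.lift_fst l₀ _ _ =≫ σ).trans (pullback.lift_snd _ _ _))
    refine ⟨l, ?_, hlb, fun {m} _ hm => (cancel_mono b).1 (hm.trans hlb.symm)⟩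
    apply pullback.hom_ext
    · rw [Category.assoc]
      change l ≫ k ≫ pullback.fst x y = _
      rw [pullback.lift_fst, ← Category.assoc, hlb]
      exact hcx.symm
    · rw [Category.assoc]
      change l ≫ k ≫ pullback.snd x y = _
      rw [pullback.lift_snd, ← Category.assoc, hlb]
      exact hcy.symm
  have sqQ : IsPullback (μ ≫ k) ((yon S).map b') q ((yon S).map c) :=
    sqE.of_iso (asIso μ).symm (Iso.refl _) (Iso.refl _) (Iso.refl _) (by simp) (by simp [← hb']) (by simp) (by simp)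
  obtain ⟨G, γ, ν, hν, hνq⟩ := exists_iso_of_lqf q c (μ ≫ k) b' sqQ
  refine ⟨G, γ ≫ π₂, ν ≫ pullback.fst x y, ?_⟩
  refine IsPullback.of_iso_pullback ⟨?_⟩ (asIso ν) rfl ?_
  · rw [Category.assoc, pullback.condition, Functor.map_comp, ← hνq, Category.assoc, Category.assoc,
      reassoc_of% hq₂]
  · rw [asIso_hom, Functor.map_comp, ← hνq, Category.assoc, hq₂]

end Groth.Agent.H12AlgSp
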