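import Groth.Agent.H12AlgSp.ShriekAdj
import Groth.Agent.H12AlgSp.RepBySp2

/-!
Algebraic spaces and representable morphisms under extension along `g : S ⟶ S'`.
-/

set_option linter.unusedVariables false
set_option backward.isDefEq.respectTransparency false

universe u

open CategoryTheory CategoryTheory.Limits AlgebraicGeometry Opposite
open AlgSp

namespace Groth.Agent.H12AlgSp.Shriek

variable {S S' : Scheme.{u}} {g : S ⟶ S'}

theorem isPullback_shr_yon {F G : Sp S} {f : F ⟶ G} {T W : Over S} {t : (yon S).obj T ⟶ G} {i : W ⟶ T}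
    {fst : (yon S).obj W ⟶ F} (sq : IsPullback fst ((yon S).map i) f t) :
    IsPullback ((yonIso g W).inv ≫ (shr g).map fst) ((yon S').map ((Over.map g).map i)) ((shr g).map f)
      ((yonIso g T).inv ≫ (shr g).map t) :=
  ((isPullback_shr_iff (g := g)).2 sq).of_iso (yonIso g W) (Iso.refl _) (yonIso g T) (Iso.refl _)
    (by rw [Iso.refl_hom, Category.comp_id, Iso.hom_inv_id_assoc]) (yonIso_naturality i)
    (by rw [Iso.refl_hom, Iso.refl_hom, Category.comp_id, Category.id_comp])
    (by rw [Iso.refl_hom, Category.comp_id, Iso.hom_inv_id_assoc])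

theorem exists_shr_pullback {F G : Sp S} {f : F ⟶ G} (hf : Representable f) {T' : Over S'}
    (q : (yon S').obj T' ⟶ (shr g).obj G) :
    ∃ (T : Over S) (t : (yon S).obj T ⟶ G) (W : Over S) (i : W ⟶ T) (fst : (yon S).obj W ⟶ F)
      (e : T' ≅ (Over.map g).obj T),
      IsPullback fst ((yon S).map i) f t ∧
        IsPullback ((yonIso g W).inv ≫ (shr g).map fst) ((yon S').map ((Over.map g).map i ≫ e.inv))
          ((shr g).map f) q := by
  obtain ⟨T, e, t, rfl⟩ := exists_presentation q
  obtain ⟨W, i, fst, sq⟩ := hf t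
  refine ⟨T, t, W, i, fst, e, sq, (isPullback_shr_yon sq).of_iso (Iso.refl _) (Iso.refl _) ((yon S').mapIso e.symm)
    (Iso.refl _) (by simp) (by simp) (by simp) ?_⟩
  rw [Iso.refl_hom, Category.comp_id, Functor.mapIso_hom, Iso.symm_hom, ← Functor.map_comp_assoc, e.inv_hom_id,
    CategoryTheory.Functor.map_id, Category.id_comp]

theorem exists_pullback_of_shr {F G : Sp S} {f : F ⟶ G} (hf : Representable ((shr g).map f)) {T : Over S}
    (t : (yon S).obj T ⟶ G) :
    ∃ (W : Over S) (i : W ⟶ T) (fst : (yon S).obj W ⟶ F), IsPullback fst ((yon S).map i) f t ∧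
      IsPullback ((yonIso g W).inv ≫ (shr g).map fst) ((yon S').map ((Over.map g).map i)) ((shr g).map f)
        ((yonIso g T).inv ≫ (shr g).map t) := by
  obtain ⟨W', i', fst', sq⟩ := hf ((yonIso g T).inv ≫ (shr g).map t)
  let W : Over S := Over.mk (i'.left ≫ T.hom)
  let i : W ⟶ T := Over.homMk i'.left rfl
  let e : (Over.map g).obj W ≅ W' := Over.isoMk (Iso.refl _) (by
    change 𝟙 W'.left ≫ W'.hom = (i'.left ≫ T.hom) ≫ g
    rw [Category.id_comp, Category.assoc]
    exact (Over.w i').symm)
  have hi : e.hom ≫ i' = (Over.map g).map i := Over.OverMorphism.ext (Category.id_comp _)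
  have hT : (yonIso g T).inv ≫ toBase g _ = (yon S').map (canS g T) := by
    rw [← yonIso_toBase, Iso.inv_hom_id_assoc]
  obtain ⟨fst, hfst⟩ := exists_map (F := (yon S).obj W) (G := F)
    ((yonIso g W).hom ≫ (yon S').map e.hom ≫ fst') (by
      rw [Category.assoc, Category.assoc, ← toBase_naturality g f, reassoc_of% sq.w, toBase_naturality, hT,
        ← Functor.map_comp, ← Functor.map_comp, ← Category.assoc, hi]
      refine Eq.trans ?_ (yonIso_toBase W)
      exact congrArg (fun x => (yonIso g W).hom ≫ (yon S').map x) (Over.OverMorphism.ext (Over.w i)))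
  have sq' : IsPullback ((yonIso g W).inv ≫ (shr g).map fst) ((yon S').map ((Over.map g).map i)) ((shr g).map f)
      ((yonIso g T).inv ≫ (shr g).map t) := by
    refine sq.of_iso ((yon S').mapIso e.symm) (Iso.refl _) (Iso.refl _) (Iso.refl _) ?_ ?_ (by simp) (by simp)
    · rw [Iso.refl_hom, Category.comp_id, hfst, Iso.inv_hom_id_assoc, Functor.mapIso_hom, Iso.symm_hom,
        ← Functor.map_comp_assoc, e.inv_hom_id, CategoryTheory.Functor.map_id, Category.id_comp]
    · rw [Iso.refl_hom, Category.comp_id, Functor.mapIso_hom, Iso.symm_hom, ← Functor.map_comp, ← hi,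
        e.inv_hom_id_assoc]
  refine ⟨W, i, fst, (isPullback_shr_iff (g := g)).1 ?_, sq'⟩
  refine sq'.of_iso (yonIso g W).symm (Iso.refl _) (yonIso g T).symm (Iso.refl _) (by simp) ?_ (by simp) (by simp)
  rw [Iso.symm_hom, Iso.symm_hom, ← cancel_epi (yonIso g W).hom, Iso.hom_inv_id_assoc,
    ← cancel_mono (yonIso g T).hom]
  simp only [Category.assoc, Iso.inv_hom_id, Category.comp_id]
  exact (yonIso_naturality i).symm

variable (g) in
theorem representable_shr_iff {F G : Sp S} (f : F ⟶ G) : Representable ((shr g).map f) ↔ Representable f := by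
  refine ⟨fun hf T t => ?_, fun hf T' q => ?_⟩
  · obtain ⟨W, i, fst, sq, -⟩ := exists_pullback_of_shr hf t
    exact ⟨W, i, fst, sq⟩
  · obtain ⟨T, t, W, i, fst, e, -, sq⟩ := exists_shr_pullback hf q
    exact ⟨_, _, _, sq⟩

variable (g) in
theorem repWith_shr_iff (P : MorphismProperty Scheme.{u}) [P.IsStableUnderBaseChange] {F G : Sp S} (f : F ⟶ G) :
    RepWith P ((shr g).map f) ↔ RepWith P f := by
  have : P.RespectsIso := MorphismProperty.IsStableUnderBaseChange.respectsIso
  refine ⟨fun hf => MorphismProperty.relative.of_exists fun T t => ?_,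
    fun hf => MorphismProperty.relative.of_exists fun T' q => ?_⟩
  · obtain ⟨W, i, fst, sq, sq'⟩ := exists_pullback_of_shr hf.1 t
    exact ⟨W, fst, i, sq, (hf.property _ _ ((Over.map g).map i) sq' :)⟩
  · obtain ⟨T, t, W, i, fst, e, sq, sq'⟩ := exists_shr_pullback hf.1 q
    refine ⟨_, _, _, sq', ?_⟩
    change P (i.left ≫ e.inv.left)
    have : IsIso e.inv.left := inferInstanceAs (IsIso ((Over.forget S').map e.inv))
    exact MorphismProperty.RespectsIso.postcomp P _ _ (hf.property t fst i sq)

theorem isAlgSpace_shr {F : Sp S} (hF : IsAlgSpace F) : IsAlgSpace ((shr g).obj F) where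
  diag := Functor.relativelyRepresentable.diag_of_map_from_obj fun T' q => by
    obtain ⟨T, e, t, rfl⟩ := exists_presentation q
    exact MorphismProperty.RespectsIso.precomp _ _ _ (MorphismProperty.RespectsIso.precomp _ _ _
      ((representable_shr_iff g t).2 (hF.representable_from_yon t)))
  atlas := by
    obtain ⟨U, p, hp, hs⟩ := hF.atlas
    exact ⟨_, (yonIso g U).inv ≫ (shr g).map p,
      MorphismProperty.RespectsIso.precomp _ _ _ ((repWith_shr_iff g _ p).2 hp),
      MorphismProperty.RespectsIso.precomp _ _ _ ((repWith_shr_iff g _ p).2 hs)⟩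

theorem isAlgSpace_of_shr {F : Sp S} (hF : IsAlgSpace ((shr g).obj F)) : IsAlgSpace F where
  diag := Functor.relativelyRepresentable.diag_of_map_from_obj fun T t =>
    (representable_shr_iff g t).1 <| by
      rw [← (yonIso g T).hom_inv_id_assoc ((shr g).map t)]
      exact MorphismProperty.RespectsIso.precomp _ _ _ (hF.representable_from_yon _)
  atlas := by
    obtain ⟨U', q, hq, hs⟩ := hF.atlas
    obtain ⟨T, e, t, rfl⟩ := exists_presentation q
    exact ⟨T, t,
      (repWith_shr_iff g _ t).1 ((MorphismProperty.cancel_left_of_respectsIso _ (yonIso g T).inv _).1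
        ((MorphismProperty.cancel_left_of_respectsIso _ ((yon S').map e.hom) _).1 hq)),
      (repWith_shr_iff g _ t).1 ((MorphismProperty.cancel_left_of_respectsIso _ (yonIso g T).inv _).1
        ((MorphismProperty.cancel_left_of_respectsIso _ ((yon S').map e.hom) _).1 hs))⟩

theorem isAlgSpace_shr_iff {F : Sp S} : IsAlgSpace ((shr g).obj F) ↔ IsAlgSpace F :=
  ⟨isAlgSpace_of_shr, isAlgSpace_shr⟩

variable (g) in
/-- The component in `F'` of a section. -/
def counitEl (F' : Sp S') (T' : Over S')
    (σ : El g ((Scheme.fppfTopology.overMapPullback (Type (u + 1)) g).obj F').obj T') : F'.obj.obj (op T') :=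
  ((adj g).counit.app F').hom.app (op T') σ

theorem el_ext_counit (F' : Sp S') (T' : Over S')
    {σ τ : El g ((Scheme.fppfTopology.overMapPullback (Type (u + 1)) g).obj F').obj T'} (h₁ : σ.1 = τ.1)
    (h₂ : counitEl g F' T' σ = counitEl g F' T' τ) : σ = τ := by
  obtain ⟨φ, a⟩ := σ
  obtain ⟨ψ, b⟩ := τ
  obtain rfl : φ = ψ := h₁
  have hinv : ∀ z, F'.obj.map (eBase φ).inv.op (F'.obj.map (eBase φ).hom.op z) = z := fun z => by
    rw [← FunctorToTypes.map_comp_apply, ← op_comp, Iso.inv_hom_id, op_id, FunctorToTypes.map_id_apply]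
  exact congrArg (Sigma.mk φ) ((hinv a).symm.trans ((congrArg (F'.obj.map (eBase φ).inv.op) h₂).trans (hinv b)))

theorem counitEl_pair (F' : Sp S') (T' : Over S') (φ : T' ⟶ Over.mk g) (x : F'.obj.obj (op T')) :
    counitEl g F' T' ⟨φ, F'.obj.map (eBase φ).inv.op x⟩ = x := by
  change F'.obj.map (eBase φ).hom.op (F'.obj.map (eBase φ).inv.op x) = x
  rw [← FunctorToTypes.map_comp_apply, ← op_comp, Iso.hom_inv_id, op_id, FunctorToTypes.map_id_apply]

variable (g) in
/-- Extension of a restriction is the product with `h_S`. -/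
noncomputable def shrResIso (F' : Sp S') :
    (shr g).obj ((Scheme.fppfTopology.overMapPullback (Type (u + 1)) g).obj F') ≅
      (yon S').obj (Over.mk g) ⨯ F' :=
  IsLimit.conePointUniqueUpToIso
    (BinaryFan.IsLimit.mk (BinaryFan.mk (toBase g _) ((adj g).counit.app F'))
      (fun {T} a b => ⟨{
        app := fun A => TypeCat.ofHom fun z => (⟨(a.hom.app A z).down,
          F'.obj.map (eBase (a.hom.app A z).down).inv.op (b.hom.app A z)⟩ : El g _ A.unop)
        naturality := fun A B h => ConcreteCategory.hom_ext _ _ fun z => el_ext_counit F' B.unop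
          (congrArg ULift.down (NatTrans.naturality_apply a.hom h z))
          ((counitEl_pair F' B.unop _ _).trans ((NatTrans.naturality_apply b.hom h z).trans
            ((congrArg (F'.obj.map h) (counitEl_pair F' A.unop _ _)).symm.trans
              (NatTrans.naturality_apply ((adj g).counit.app F').hom h _).symm))) }⟩)
      (fun a b => rfl)
      (fun a b => by
        apply CategoryTheory.Sheaf.hom_ext
        apply NatTrans.ext
        funext A
        exact ConcreteCategory.hom_ext _ _ fun z => counitEl_pair F' A.unop _ _)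
      (fun a b m h₁ h₂ => by
        apply CategoryTheory.Sheaf.hom_ext
        apply NatTrans.ext
        funext A
        exact ConcreteCategory.hom_ext _ _ fun z => el_ext_counit F' A.unop
          (congrArg ULift.down (congrArg (fun q => q.hom.app A z) h₁))
          ((congrArg (fun q => q.hom.app A z) h₂).trans (counitEl_pair F' A.unop _ _).symm)))
    (limit.isLimit _)

theorem isAlgSpace_prod {X Y : Sp S} (hX : IsAlgSpace X) (hY : IsAlgSpace Y) : IsAlgSpace (X ⨯ Y) :=
  IsAlgSpace.of_iso (isAlgSpace_pullback (IsAlgSpace.of_iso (IsAlgSpace.yon_obj (Over.mk (𝟙 S)))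
    (terminalIsoIsTerminal (IsTerminal.isTerminalObj (yon S) _ Over.mkIdTerminal)).symm).diag hX hY
    (terminal.from X) (terminal.from Y)) (prodIsoPullback X Y).symm

theorem isAlgSpace_res_iff (F' : Sp S') :
    IsAlgSpace ((Scheme.fppfTopology.overMapPullback (Type (u + 1)) g).obj F') ↔
      IsAlgSpace ((yon S').obj (Over.mk g) ⨯ F') :=
  isAlgSpace_shr_iff.symm.trans (isAlgSpace_iff_of_iso (shrResIso g F'))

theorem representableBy_of_iso {F : Sp S} {Y : Over S} (e : F ≅ (yon S).obj Y) :
    Nonempty (F.obj.RepresentableBy Y) :=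
  ⟨{ homEquiv := fun {T} =>
      { toFun := fun h => e.inv.hom.app (op T) (ULift.up h)
        invFun := fun x => (e.hom.hom.app (op T) x).down
        left_inv := fun h => congrArg ULift.down
          (congrArg (fun q : (yon S).obj Y ⟶ (yon S).obj Y => q.hom.app (op T) (ULift.up h)) e.inv_hom_id)
        right_inv := fun x => congrArg (fun q : F ⟶ F => q.hom.app (op T) x) e.hom_inv_id }
     homEquiv_comp := fun {T T'} f h => NatTrans.naturality_apply e.inv.hom f.op
       (ULift.up h : ((yon S).obj Y).obj.obj (op T')) }⟩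

end Groth.Agent.H12AlgSp.Shriek
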