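import Groth.Agent.H12AlgSp.Basic
import Groth.Prelude.Def_AlgSp3

/-!
Diagonals of morphisms representable by schemes.
-/

universe u

open CategoryTheory CategoryTheory.Limits AlgebraicGeometry Opposite
open AlgSp

namespace Groth.Agent.H12AlgSp

variable {S : Scheme.{u}} {F G : Sp S}

set_option backward.isDefEq.respectTransparency false in
/-- The diagonal of a base change is the base change of the diagonal. -/
theorem isPullback_diagonal {F' G' : Sp S} {f : F ⟶ G} {f' : F' ⟶ G'} {k : F' ⟶ F} {l : G' ⟶ G}
    (sq : IsPullback k f' f l) :
    IsPullback k (pullback.diagonal f') (pullback.diagonal f)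
      (pullback.map f' f' f f k k l sq.w.symm sq.w.symm) := by
  refine ⟨⟨by apply pullback.hom_ext <;> simp [pullback.map]⟩, ⟨PullbackCone.IsLimit.mk _
    (fun s => s.snd ≫ pullback.fst f' f') (fun s => ?_) (fun s => ?_) (fun s m h₁ h₂ => ?_)⟩⟩
  · simpa [pullback.map] using (s.condition =≫ pullback.fst f f).symm
  · apply pullback.hom_ext
    · simp
    · simp only [Category.assoc, pullback.diagonal_snd, Category.comp_id]
      apply sq.hom_ext
      · have h1 := s.condition =≫ pullback.fst f f
        have h2 := s.condition =≫ pullback.snd f f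
        simp [pullback.map] at h1 h2
        simp [← h1, ← h2]
      · simp [pullback.condition]
  · rw [← h₂]; simp

set_option backward.isDefEq.respectTransparency false in
/-- If all base changes of `f` to schemes have diagonal in `P`, the diagonal of `f` is representable with `P`. -/
theorem repWith_diagonal_of_diagonal {P : MorphismProperty Scheme.{u}} [P.IsStableUnderBaseChange]
    {f : F ⟶ G} (hf : RepWith P.diagonal f) : RepWith P (pullback.diagonal f) := by
  have : P.RespectsIso := MorphismProperty.IsStableUnderBaseChange.respectsIso
  refine MorphismProperty.relative.of_exists fun T x => ?_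
  obtain ⟨V, v, k, sq⟩ := hf.rep (x ≫ pullback.fst f f ≫ f)
  have hP : P (pullback.diagonal v.left) := hf.property _ k v sq
  have hΔ := (repWith_diagonal_yon_map_iff P v).2 hP
  let σ := sq.lift (x ≫ pullback.fst f f) (𝟙 _) (by simp)
  let τ := sq.lift (x ≫ pullback.snd f f) (𝟙 _) (by simp [pullback.condition])
  let x' : (yon S).obj T ⟶ pullback ((yon S).map v) ((yon S).map v) :=
    pullback.lift σ τ (by simp [σ, τ])
  have hx : x = x' ≫ pullback.map _ _ f f k k (x ≫ pullback.fst f f ≫ f) sq.w.symm sq.w.symm := by
    apply pullback.hom_ext <;> simp [x', σ, τ, pullback.map]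
  obtain ⟨W, w, e, sqW⟩ := hΔ.rep x'
  refine ⟨W, e ≫ k, w, ?_, hΔ.property x' e w sqW⟩
  rw [hx]
  exact sqW.paste_horiz (isPullback_diagonal sq)

theorem repWith_diagonal_iff {P : MorphismProperty Scheme.{u}} [P.IsStableUnderBaseChange]
    {f : F ⟶ G} (hf : Representable f) :
    RepWith P (pullback.diagonal f) ↔ RepWith P.diagonal f := by
  refine ⟨fun h => repWith_of_snd hf fun T g => ?_, repWith_diagonal_of_diagonal⟩
  exact (repWith_diagonal_yon_map_iff P _).1 (repWith_of_isPullback (isPullback_diagonal (hf.isPullback g)) h)

/-- The diagonal of a representable morphism is representable. -/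
theorem representable_diagonal_of_representable {f : F ⟶ G} (hf : Representable f) :
    Representable (pullback.diagonal f) :=
  ((repWith_diagonal_iff (P := (⊤ : MorphismProperty Scheme.{u})) hf).2
    (repWith_of_snd hf fun _ _ => trivial)).1

/-- A representable monomorphism has monomorphisms as base changes. -/
theorem repWith_mono_of_mono {f : F ⟶ G} (hf : Representable f) [Mono f] :
    RepWith (MorphismProperty.monomorphisms Scheme.{u}) f := by
  refine repWith_of_snd hf fun T g => ?_
  have : Mono ((yon S).map (hf.snd g)) :=
    MorphismProperty.of_isPullback (P := MorphismProperty.monomorphisms (Sp S)) (hf.isPullback g) ‹Mono f›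
  have : Mono (hf.snd g) := (yon S).mono_of_mono_map this
  exact (Over.forget S).map_mono _

/-- If `f ≫ g` has `P` and all base changes of `g` to schemes have diagonal in `P`, then `f` has `P`. -/
theorem repWith_of_comp_rep {P : MorphismProperty Scheme.{u}} [P.IsStableUnderBaseChange] [P.IsMultiplicative]
    {H : Sp S} (f : F ⟶ G) (g : G ⟶ H) (hg : RepWith P.diagonal g) (hfg : RepWith P (f ≫ g)) :
    RepWith P f :=
  repWith_of_comp f g (repWith_diagonal_of_diagonal hg) hfg

end Groth.Agent.H12AlgSp
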