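import Groth.Agent.H12AlgSp.EtaleSourceAlg
import Mathlib.RingTheory.Unramified.LocalStructure
import Mathlib.AlgebraicGeometry.Morphisms.Etale
import Mathlib.AlgebraicGeometry.Morphisms.QuasiFinite
import Mathlib.AlgebraicGeometry.Morphisms.Flat
import Mathlib.AlgebraicGeometry.Morphisms.FormallyUnramified

/-!
Properties of morphisms of schemes descend along etale surjective morphisms to the source.
-/

universe u

open CategoryTheory AlgebraicGeometry TensorProduct

namespace Groth.Agent.H12AlgSp.EtaleSource

/-- Standard etale descent on the source, for a property of ring maps. -/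
def RingDescends (Q : ∀ {R S : Type u} [CommRing R] [CommRing S], (R →+* S) → Prop) : Prop :=
  ∀ {A B C : Type u} [CommRing A] [CommRing B] [CommRing C] [Algebra A B] [Algebra A C]
    [Algebra B C] [IsScalarTower A B C] [Algebra.IsStandardEtale B C] [Module.FaithfullyFlat B C],
    Q (algebraMap A C) → Q (algebraMap A B)

attribute [local instance] Algebra.TensorProduct.rightAlgebra in
theorem exists_localization_of_etale
    {Q : ∀ {R S : Type u} [CommRing R] [CommRing S], (R →+* S) → Prop}
    (hloc : RingHom.StableUnderCompositionWithLocalizationAwayTarget Q)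
    (hQ : RingDescends Q) {A B T : Type u} [CommRing A] [CommRing B] [CommRing T]
    (g : A →+* B) (h : B →+* T) (he : h.Etale) (hg : Q (h.comp g)) (q : PrimeSpectrum T) :
    ∃ b : B, b ∉ (q.comap h).asIdeal ∧ Q ((algebraMap B (Localization.Away b)).comp g) := by
  let := g.toAlgebra
  let := h.toAlgebra
  let := (h.comp g).toAlgebra
  have : IsScalarTower A B T := .of_algebraMap_eq' rfl
  have : Algebra.Etale B T := he
  obtain ⟨f, hfq, hst⟩ := Algebra.IsEtaleAt.exists_isStandardEtale (R := B) q.asIdeal
  have hopen : IsOpen (Set.range (PrimeSpectrum.comap (algebraMap B (Localization.Away f)))) :=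
    (PrimeSpectrum.isOpenMap_comap_of_hasGoingDown_of_finitePresentation).isOpen_range
  have hmem : q.comap h ∈ Set.range (PrimeSpectrum.comap (algebraMap B (Localization.Away f))) := by
    have hq : q ∈ Set.range (PrimeSpectrum.comap (algebraMap T (Localization.Away f))) := by
      rw [PrimeSpectrum.localization_away_comap_range (Localization.Away f) f]
      exact hfq
    obtain ⟨q', hq'⟩ := hq
    refine ⟨q', ?_⟩
    rw [← hq', ← PrimeSpectrum.comap_comp_apply, ← RingHom.algebraMap_toAlgebra h,
      ← IsScalarTower.algebraMap_eq]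
  obtain ⟨_, ⟨_, ⟨b, rfl⟩, rfl⟩, hb, hbsub⟩ :=
    PrimeSpectrum.isBasis_basic_opens.exists_subset_of_mem_open hmem hopen
  refine ⟨b, hb, ?_⟩
  let Tf := Localization.Away f
  let C := Localization.Away b ⊗[B] Tf
  have : Module.FaithfullyFlat (Localization.Away b) C := by
    refine Module.FaithfullyFlat.of_comap_surjective fun p => exists_prime_tensor p (hbsub ?_)
    change b ∉ Ideal.comap _ p.asIdeal
    intro hp
    exact p.isPrime.ne_top' (Ideal.eq_top_of_isUnit_mem _ hp
      (IsLocalization.Away.algebraMap_isUnit b))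
  have h1 : Q (algebraMap A Tf) := by
    rw [IsScalarTower.algebraMap_eq A T Tf]
    exact hloc Tf f _ hg
  have h2 : Q (algebraMap A C) := by
    have : IsLocalization.Away (algebraMap B Tf b) C := by
      change IsLocalization (Submonoid.powers (algebraMap B Tf b)) C
      rw [← Algebra.algebraMapSubmonoid_powers]
      exact IsLocalization.tensorRight (S := Tf) (Localization.Away b) (Submonoid.powers b)
    have : IsScalarTower A Tf C := .of_algebraMap_eq fun a => by
      rw [IsScalarTower.algebraMap_apply A B C, IsScalarTower.algebraMap_apply A B Tf,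
        IsScalarTower.algebraMap_apply B Tf C]
    rw [IsScalarTower.algebraMap_eq A Tf C]
    exact hloc C (algebraMap B Tf b) _ h1
  rw [← RingHom.algebraMap_toAlgebra g, ← IsScalarTower.algebraMap_eq]
  exact hQ h2

/-- A property of morphisms induced by a ring property descends along etale surjective
morphisms to the source. -/
theorem of_etale_covering (P : MorphismProperty Scheme.{u})
    {Q : ∀ {R S : Type u} [CommRing R] [CommRing S], (R →+* S) → Prop} [HasRingHomProperty P Q]
    (hQ : RingDescends Q) {X Y : Scheme.{u}} (g : X ⟶ Y)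
    (hcov : ∀ x : X, ∃ (X' : Scheme.{u}) (f : X' ⟶ X), Etale f ∧ x ∈ Set.range f ∧ P (f ≫ g)) :
    P g := by
  have hl := HasRingHomProperty.isLocal_ringHomProperty P
  rw [HasRingHomProperty.iff_appLE (P := P)]
  intro U V e
  set ψ := (g.appLE U V e).hom
  let s : Set Γ(X, V.1) := { b | Q ((algebraMap _ (Localization.Away b)).comp ψ) }
  refine hl.ofLocalizationSpanTarget ψ s ?_ (fun r => r.2)
  by_contra hne
  obtain ⟨m, hm, hle⟩ := Ideal.exists_le_maximal _ hne
  let p : PrimeSpectrum Γ(X, V.1) := ⟨m, hm.isPrime⟩
  let x : X := V.2.fromSpec p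
  have hxV : x ∈ V.1 := V.2.range_fromSpec.le ⟨p, rfl⟩
  obtain ⟨X', f, hfe, ⟨x', hx'⟩, h⟩ := hcov x
  obtain ⟨W, hW, hxW, hWV⟩ := TopologicalSpace.Opens.isBasis_iff_nbhd.mp X'.isBasis_affineOpens
    (show x' ∈ f ⁻¹ᵁ V.1 by change f x' ∈ V.1; rwa [hx'])
  have hφ : (f.appLE V.1 W hWV).hom.Etale :=
    HasRingHomProperty.appLE @Etale f ‹_› V ⟨W, hW⟩ hWV
  have hcomp := HasRingHomProperty.appLE P (f ≫ g) h U ⟨W, hW⟩
    (hWV.trans ((TopologicalSpace.Opens.map f.base).map (homOfLE e)).le)
  rw [← Scheme.Hom.appLE_comp_appLE f g U V W e hWV, CommRingCat.hom_comp] at hcomp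
  obtain ⟨b, hb, hQb⟩ := exists_localization_of_etale hl.StableUnderCompositionWithLocalizationAwayTarget hQ _ _ hφ hcomp
    (hW.primeIdealOf ⟨x', hxW⟩)
  rw [IsAffineOpen.comap_primeIdealOf_appLE V.1 V.2 W hW hWV hxW] at hb
  have hp : V.2.primeIdealOf ⟨f x', hWV hxW⟩ = p := by
    apply V.2.fromSpec.injective
    rw [V.2.fromSpec_primeIdealOf]
    exact hx'
  rw [hp] at hb
  exact hb (hle (Ideal.subset_span hQb))

/-- `of_etale_covering` for a single etale surjective morphism. -/
theorem of_etale_surjective (P : MorphismProperty Scheme.{u})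
    {Q : ∀ {R S : Type u} [CommRing R] [CommRing S], (R →+* S) → Prop} [HasRingHomProperty P Q]
    (hQ : RingDescends Q) {X' X Y : Scheme.{u}} (f : X' ⟶ X) (g : X ⟶ Y) [Etale f] [Surjective f]
    (h : P (f ≫ g)) : P g :=
  of_etale_covering P hQ g fun x => ⟨X', f, ‹_›, f.surjective x, h⟩

theorem descends_finiteType : RingDescends RingHom.FiniteType := by
  intro A B C _ _ _ _ _ _ _ _ _ h
  rw [RingHom.finiteType_algebraMap] at h ⊢
  exact finiteType (C := C)

theorem descends_finitePresentation : RingDescends RingHom.FinitePresentation := by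
  intro A B C _ _ _ _ _ _ _ _ _ h
  rw [RingHom.finitePresentation_algebraMap] at h ⊢
  exact finitePresentation (C := C)

theorem descends_formallyUnramified : RingDescends RingHom.FormallyUnramified := by
  intro A B C _ _ _ _ _ _ _ _ _ h
  rw [RingHom.formallyUnramified_algebraMap] at h ⊢
  exact formallyUnramified (C := C)

theorem descends_flat : RingDescends RingHom.Flat := by
  intro A B C _ _ _ _ _ _ _ _ _ h
  rw [RingHom.flat_algebraMap_iff] at h ⊢
  exact flat (C := C)

theorem descends_quasiFinite : RingDescends RingHom.QuasiFinite := by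
  intro A B C _ _ _ _ _ _ _ _ _ h
  rw [RingHom.quasiFinite_algebraMap] at h ⊢
  exact quasiFinite (C := C)

theorem descends_smooth : RingDescends RingHom.Smooth := by
  intro A B C _ _ _ _ _ _ _ _ _ h
  rw [RingHom.smooth_algebraMap] at h ⊢
  exact smooth (C := C)

theorem descends_etale : RingDescends RingHom.Etale := by
  intro A B C _ _ _ _ _ _ _ _ _ h
  rw [RingHom.etale_algebraMap] at h ⊢
  exact etale (C := C)

section

variable {X' X Y : Scheme.{u}} (f : X' ⟶ X) (g : X ⟶ Y) [Etale f] [Surjective f]

theorem locallyOfFiniteType [h : LocallyOfFiniteType (f ≫ g)] : LocallyOfFiniteType g :=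
  of_etale_surjective @LocallyOfFiniteType descends_finiteType f g h

theorem locallyOfFinitePresentation [h : LocallyOfFinitePresentation (f ≫ g)] :
    LocallyOfFinitePresentation g :=
  of_etale_surjective @LocallyOfFinitePresentation descends_finitePresentation f g h

theorem formallyUnramified' [h : FormallyUnramified (f ≫ g)] : FormallyUnramified g :=
  of_etale_surjective @FormallyUnramified descends_formallyUnramified f g h

theorem flat' [h : Flat (f ≫ g)] : Flat g :=
  of_etale_surjective @Flat descends_flat f g h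

theorem locallyQuasiFinite [h : LocallyQuasiFinite (f ≫ g)] : LocallyQuasiFinite g :=
  of_etale_surjective @LocallyQuasiFinite descends_quasiFinite f g h

theorem smooth' [h : Smooth (f ≫ g)] : Smooth g :=
  of_etale_surjective @Smooth descends_smooth f g h

theorem etale' [h : Etale (f ≫ g)] : Etale g :=
  of_etale_surjective @Etale descends_etale f g h

end

end Groth.Agent.H12AlgSp.EtaleSource
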