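import Groth.Prelude.Def_AlgGrp
import Groth.Prelude.Def_Grpd
import Mathlib.CategoryTheory.Monoidal.Cartesian.Over

/-!
The groupoid scheme of an action of a group scheme.
-/

universe u

open CategoryTheory CategoryTheory.Limits AlgebraicGeometry MonoidalCategory CartesianMonoidalCategory MonObj

set_option backward.isDefEq.respectTransparency false

namespace Groth.Agent.H12AlgSp.ActionGroupoid

variable {S : Scheme.{u}} {G X : Over S} [GrpObj G] (a : AlgGrp.Action G X)

theorem act_one {T : Over S} (x : T ⟶ X) : lift (1 : T ⟶ G) x ≫ a.act = x := by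
  rw [show lift (1 : T ⟶ G) x = lift (toUnit T) x ≫ (η[G] ▷ X) by simp [Hom.one_def], Category.assoc, a.one_act]
  simp [leftUnitor_hom]

theorem act_mul {T : Over S} (g h : T ⟶ G) (x : T ⟶ X) :
    lift (g * h) x ≫ a.act = lift g (lift h x ≫ a.act) ≫ a.act := by
  rw [show lift (g * h) x = lift (lift g h) x ≫ (μ[G] ▷ X) by simp [Hom.mul_def], Category.assoc, a.mul_act]
  simp

/-- The source of an arrow. -/
noncomputable abbrev src : (G ⊗ X).left ⟶ X.left := (snd G X).left

/-- The target of an arrow. -/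
noncomputable abbrev tgt : (G ⊗ X).left ⟶ X.left := a.act.left

/-- The composite of two arrows. -/
noncomputable def compPt {T : Over S} (p q : T ⟶ G ⊗ X) : T ⟶ G ⊗ X :=
  lift ((p ≫ fst G X) * (q ≫ fst G X)) (q ≫ snd G X)

theorem compPt_comp {T T' : Over S} (k : T' ⟶ T) (p q : T ⟶ G ⊗ X) :
    k ≫ compPt p q = compPt (k ≫ p) (k ≫ q) := by
  simp [compPt, comp_lift, MonObj.comp_mul]

theorem compPt_fst {T : Over S} (p q : T ⟶ G ⊗ X) : compPt p q ≫ fst G X = (p ≫ fst G X) * (q ≫ fst G X) :=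
  lift_fst _ _

theorem compPt_snd {T : Over S} (p q : T ⟶ G ⊗ X) : compPt p q ≫ snd G X = q ≫ snd G X := lift_snd _ _

theorem eta_pt {T : Over S} (p : T ⟶ G ⊗ X) : lift (p ≫ fst G X) (p ≫ snd G X) = p := by
  ext1 <;> simp

theorem compPt_act {T : Over S} (p q : T ⟶ G ⊗ X) (h : p ≫ snd G X = q ≫ a.act) :
    compPt p q ≫ a.act = p ≫ a.act := by
  have e : lift (q ≫ fst G X) (q ≫ snd G X) ≫ a.act = q ≫ a.act := by rw [eta_pt]
  rw [compPt, act_mul, e, ← h, eta_pt]

/-- An arrow as a point over the base. -/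
noncomputable abbrev pt {T : Scheme.{u}} (α : T ⟶ (G ⊗ X).left) : Over.mk (α ≫ (G ⊗ X).hom) ⟶ G ⊗ X :=
  Over.homMk α rfl

theorem pR_eq {T : Scheme.{u}} {α β : T ⟶ (G ⊗ X).left} (h : α ≫ src = β ≫ tgt a) :
    β ≫ (G ⊗ X).hom = α ≫ (G ⊗ X).hom := by
  calc β ≫ (G ⊗ X).hom = β ≫ tgt a ≫ X.hom := by rw [Over.w a.act]
    _ = α ≫ src ≫ X.hom := by rw [← Category.assoc, ← h, Category.assoc]
    _ = α ≫ (G ⊗ X).hom := by rw [Over.w (snd G X)]

/-- A second arrow as a point over the base. -/
noncomputable abbrev pt' {T : Scheme.{u}} {α : T ⟶ (G ⊗ X).left} (β : T ⟶ (G ⊗ X).left)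
    (h : α ≫ src = β ≫ tgt a) : Over.mk (α ≫ (G ⊗ X).hom) ⟶ G ⊗ X :=
  Over.homMk β (pR_eq a h)

/-- Composition of arrows. -/
noncomputable def comp : pullback (src (G := G) (X := X)) (tgt a) ⟶ (G ⊗ X).left :=
  (compPt (pt (pullback.fst src (tgt a))) (pt' a (pullback.snd src (tgt a)) pullback.condition)).left

theorem lift_comp' {T : Over S} (p q : T ⟶ G ⊗ X) (h : p.left ≫ src = q.left ≫ tgt a) :
    pullback.lift p.left q.left h ≫ comp a = (compPt p q).left := by
  let k : T ⟶ Over.mk (pullback.fst src (tgt a) ≫ (G ⊗ X).hom) := Over.homMk (pullback.lift p.left q.left h) (by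
    change pullback.lift p.left q.left h ≫ pullback.fst src (tgt a) ≫ (G ⊗ X).hom = T.hom
    rw [pullback.lift_fst_assoc, Over.w p])
  have := congrArg (fun m : T ⟶ G ⊗ X => m.left)
    (compPt_comp k (pt (pullback.fst src (tgt a))) (pt' a (pullback.snd src (tgt a)) pullback.condition))
  refine (this : k.left ≫ comp a = _).trans (congrArg (fun m : T ⟶ G ⊗ X => m.left) ?_)
  congr 1 <;> apply Over.OverMorphism.ext
  · exact pullback.lift_fst _ _ _
  · exact pullback.lift_snd _ _ _

theorem lift_comp {T : Scheme.{u}} (α β : T ⟶ (G ⊗ X).left) (h : α ≫ src = β ≫ tgt a) :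
    pullback.lift α β h ≫ comp a = (compPt (pt α) (pt' a β h)).left :=
  lift_comp' a (pt α) (pt' a β h) h

/-- The unit arrow. -/
noncomputable abbrev unit : X ⟶ G ⊗ X := lift 1 (𝟙 X)

/-- The inverse arrow. -/
noncomputable abbrev inv : G ⊗ X ⟶ G ⊗ X := lift (fst G X)⁻¹ a.act

theorem inv_act : inv a ≫ a.act = snd G X := by
  have e := act_mul a (fst G X)⁻¹ (fst G X) (snd G X)
  rw [inv_mul_cancel, act_one, lift_fst_snd, Category.id_comp] at e
  exact e.symm

/-- The groupoid scheme of an action. -/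
noncomputable abbrev groupoid : Grpd.GroupoidScheme S where
  U := X.left
  R := (G ⊗ X).left
  pU := X.hom
  pR := (G ⊗ X).hom
  s := src
  t := tgt a
  e := unit.left
  i := (inv a).left
  c := comp a
  s_over := Over.w (snd G X)
  t_over := Over.w a.act
  comp_s α β h := by
    rw [lift_comp, ← Over.comp_left, compPt_snd]
    rfl
  comp_t α β h := by
    rw [lift_comp, ← Over.comp_left, compPt_act a _ _ (Over.OverMorphism.ext h)]
    rfl
  assoc α β γ h₁ h₂ := by
    let p := pt α
    let q := pt' a β h₁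
    let r : Over.mk (α ≫ (G ⊗ X).hom) ⟶ G ⊗ X := Over.homMk γ ((pR_eq a h₂).trans (pR_eq a h₁))
    have e₁ : pullback.lift α β h₁ ≫ comp a = (compPt p q).left := lift_comp a α β h₁
    have e₂ : pullback.lift β γ h₂ ≫ comp a = (compPt q r).left := lift_comp' a q r h₂
    simp only [e₁, e₂]
    have l := lift_comp' a (compPt p q) r (by
      rw [← Over.comp_left, compPt_snd, Over.comp_left]; exact h₂)
    have l' := lift_comp' a p (compPt q r) (by
      refine h₁.trans (Eq.symm ?_)
      refine (congrArg (fun m : Over.mk (α ≫ (G ⊗ X).hom) ⟶ X => m.left) (compPt_act a q r (Over.OverMorphism.ext h₂))).trans ?_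
      rfl)
    refine l.trans ((congrArg (fun m : Over.mk (α ≫ (G ⊗ X).hom) ⟶ G ⊗ X => m.left) ?_).trans l'.symm)
    unfold compPt
    simp [_root_.mul_assoc]
  e_s := by rw [← Over.comp_left, lift_snd]; rfl
  e_t := by rw [← Over.comp_left, act_one]; rfl
  comp_e α := by
    have e := lift_comp' a (pt α) (pt α ≫ snd G X ≫ unit) (by
      rw [← Over.comp_left, ← Over.comp_left, Category.assoc, Category.assoc, act_one, Category.comp_id])
    refine (e.trans (congrArg (fun m : Over.mk (α ≫ (G ⊗ X).hom) ⟶ G ⊗ X => m.left) ?_ : _ = (pt α).left))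
    apply CartesianMonoidalCategory.hom_ext <;> simp [compPt, comp_lift, MonObj.comp_one]
  e_comp α := by
    have e := lift_comp' a (pt α ≫ a.act ≫ unit) (pt α) (by
      rw [← Over.comp_left, ← Over.comp_left, Category.assoc, Category.assoc, lift_snd, Category.comp_id])
    refine (e.trans (congrArg (fun m : Over.mk (α ≫ (G ⊗ X).hom) ⟶ G ⊗ X => m.left) ?_ : _ = (pt α).left))
    apply CartesianMonoidalCategory.hom_ext <;> simp [compPt, comp_lift, MonObj.comp_one]
  i_s := by rw [← Over.comp_left, lift_snd]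
  i_t := by rw [← Over.comp_left, inv_act]
  comp_i α := by
    have e := lift_comp' a (pt α) (pt α ≫ inv a) (by
      rw [← Over.comp_left, ← Over.comp_left, Category.assoc, inv_act])
    refine (e.trans (congrArg (fun m : Over.mk (α ≫ (G ⊗ X).hom) ⟶ G ⊗ X => m.left) ?_ :
      _ = (pt α ≫ a.act ≫ unit).left))
    apply CartesianMonoidalCategory.hom_ext <;> simp [compPt, comp_lift, MonObj.comp_one, GrpObj.comp_inv]
  i_comp α := by
    have e := lift_comp' a (pt α ≫ inv a) (pt α) (by
      rw [← Over.comp_left, ← Over.comp_left, Category.assoc, lift_snd])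
    refine (e.trans (congrArg (fun m : Over.mk (α ≫ (G ⊗ X).hom) ⟶ G ⊗ X => m.left) ?_ :
      _ = (pt α ≫ snd G X ≫ unit).left))
    apply CartesianMonoidalCategory.hom_ext <;> simp [compPt, comp_lift, MonObj.comp_one, GrpObj.comp_inv]

end Groth.Agent.H12AlgSp.ActionGroupoid
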