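import Groth.Agent.H12AlgSp.FinLocFreeQuot
import Groth.Agent.H12AlgSp.ActionGroupoid
import Groth.Prelude.Def_NonAbH2

/-!
Quotients of schemes by free actions of finite locally free group schemes.
-/

universe u

open CategoryTheory CategoryTheory.Limits AlgebraicGeometry MonoidalCategory CartesianMonoidalCategory MonObj
open Groth.Agent.H13Grpd Opposite Topology TopologicalSpace

set_option backward.isDefEq.respectTransparency false

namespace Groth.Agent.H12AlgSp.ActionGroupoid

variable {S : Scheme.{u}} {G X : Over S} [GrpObj G] (a : AlgGrp.Action G X)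

theorem mono_j (hfree : ∀ (T : Over S) (g : T ⟶ G) (x : T ⟶ X), lift g x ≫ a.act = x → g = toUnit T ≫ η[G]) :
    Mono (groupoid a).j := ⟨fun {Z} r r' e => by
  have et : r ≫ (groupoid a).t = r' ≫ (groupoid a).t := by
    simpa [Grpd.GroupoidScheme.j] using e =≫ pullback.fst _ _
  have es : r ≫ (groupoid a).s = r' ≫ (groupoid a).s := by
    simpa [Grpd.GroupoidScheme.j] using e =≫ pullback.snd _ _
  have hr : r' ≫ (G ⊗ X).hom = r ≫ (G ⊗ X).hom := by
    have h₁ := es =≫ X.hom
    simp only [Category.assoc, Over.w] at h₁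
    exact h₁.symm
  let T : Over S := Over.mk (r ≫ (G ⊗ X).hom)
  let p : T ⟶ G ⊗ X := Over.homMk r rfl
  let q : T ⟶ G ⊗ X := Over.homMk r' hr
  have ht : p ≫ a.act = q ≫ a.act := Over.OverMorphism.ext et
  have hs : p ≫ snd G X = q ≫ snd G X := Over.OverMorphism.ext es
  have hg : (q ≫ fst G X)⁻¹ * (p ≫ fst G X) = 1 := by
    refine (hfree T _ (p ≫ snd G X) ?_).trans Hom.one_def.symm
    rw [act_mul, eta_pt, ht, ← eta_pt q, ← act_mul, lift_fst, inv_mul_cancel, act_one, hs]
  have hpq : p = q := by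
    rw [← eta_pt p, ← eta_pt q, hs, ← (inv_mul_eq_one.1 hg)]
  exact congrArg (fun m : T ⟶ G ⊗ X => m.left) hpq⟩

theorem orbit_in_affine (h3 : IsAffineHom X.hom ∨ (∃ (R : CommRingCat.{u}) (i : X.left ⟶ Spec R), IsOpenImmersion i) ∨
      UniversallyInjective G.hom) [IsFinite (groupoid a).s] (x : X.left) :
    ∃ V : X.left.Opens, IsAffineOpen V ∧ (groupoid a).t '' ((groupoid a).s ⁻¹' {x}) ⊆ (V : Set X.left) := by
  have hfin : ((groupoid a).t '' ((groupoid a).s ⁻¹' {x})).Finite :=
    ((groupoid a).s.finite_preimage_singleton x).image _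
  rcases h3 with h | ⟨R, i, hi⟩ | h
  · obtain ⟨V, hV, hxV, -⟩ := TopologicalSpace.Opens.isBasis_iff_nbhd.mp S.isBasis_affineOpens
      (show X.hom x ∈ (⊤ : S.Opens) from trivial)
    refine ⟨X.hom ⁻¹ᵁ V, hV.preimage X.hom, ?_⟩
    rintro _ ⟨r, hr, rfl⟩
    change X.hom ((groupoid a).t r) ∈ V
    have e : (groupoid a).t ≫ X.hom = (groupoid a).s ≫ X.hom := (groupoid a).t_over.trans (groupoid a).s_over.symm
    have e' : X.hom ((groupoid a).t r) = X.hom ((groupoid a).s r) := congr(($e) r)
    rw [e', show (groupoid a).s r = x from hr]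
    exact hxV
  · obtain ⟨f, hf, hfi⟩ := exists_basicOpen_finite (isAffineOpen_top (Spec R)) (hfin.image i)
      (O := i.opensRange) (Set.image_subset_range _ _) le_top
    refine ⟨i ⁻¹ᵁ (Spec R).basicOpen f, ((isAffineOpen_top (Spec R)).basicOpen f).preimage_of_isOpenImmersion i hfi,
      fun y hy => hf ⟨y, hy, rfl⟩⟩
  · have hs : UniversallyInjective (groupoid a).s :=
      MorphismProperty.pullback_snd (P := @UniversallyInjective) G.hom X.hom h
    obtain ⟨V, hV, hxV, -⟩ := TopologicalSpace.Opens.isBasis_iff_nbhd.mp X.left.isBasis_affineOpens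
      (show x ∈ (⊤ : X.left.Opens) from trivial)
    refine ⟨V, hV, ?_⟩
    rintro _ ⟨r, hr, rfl⟩
    have he : r = (groupoid a).e x := (groupoid a).s.injective (by
      rw [show (groupoid a).s r = x from hr, ← Scheme.Hom.comp_apply, (groupoid a).e_s]; rfl)
    rw [he, ← Scheme.Hom.comp_apply, (groupoid a).e_t]
    exact hxV

theorem exists_quotient (hG : IsFinite G.hom ∧ Flat G.hom ∧ LocallyOfFinitePresentation G.hom)
    (hfree : ∀ (T : Over S) (g : T ⟶ G) (x : T ⟶ X), lift g x ≫ a.act = x → g = toUnit T ≫ η[G])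
    (h3 : IsAffineHom X.hom ∨ (∃ (R : CommRingCat.{u}) (i : X.left ⟶ Spec R), IsOpenImmersion i) ∨
      UniversallyInjective G.hom) :
    ∃ (M : Over S) (q : X ⟶ M), QuotSh.IsQuotient Scheme.fppfPrecoverage (snd G X) a.act q ∧
      IsPullback a.act.left (snd G X).left q.left q.left ∧
      NonAbH1.IsLocallyTrivialFor Scheme.fppfPrecoverage (Over.mk q.left) := by
  obtain ⟨g1, g2, g3⟩ := hG
  haveI : IsFinite (groupoid a).s := inferInstanceAs (IsFinite (CategoryTheory.Limits.pullback.snd G.hom X.hom))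
  haveI : Flat (groupoid a).s := inferInstanceAs (Flat (CategoryTheory.Limits.pullback.snd G.hom X.hom))
  haveI : LocallyOfFinitePresentation (groupoid a).s :=
    inferInstanceAs (LocallyOfFinitePresentation (CategoryTheory.Limits.pullback.snd G.hom X.hom))
  haveI := mono_j a hfree
  obtain ⟨M, q, q1, q2, q3, sq, hq⟩ := exists_finLocFree_quotient (groupoid a) (orbit_in_affine a h3)
  haveI := surjective_of_isQuotient hq
  refine ⟨M, q, hq, sq, _, q.left.singleton_mem_fppfPrecoverage, ?_⟩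
  rintro _ _ ⟨⟩
  exact ⟨𝟙 _, Category.id_comp _⟩

end Groth.Agent.H12AlgSp.ActionGroupoid
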