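import Groth.Agent.H12AlgSp.SplittingAlg
import Groth.Agent.H22Alg.FlatSurj
import Groth.Prelude.Def_CInt
import Mathlib.RingTheory.Etale.StandardEtale
import Mathlib.RingTheory.Unramified.LocalStructure
import Mathlib.AlgebraicGeometry.Morphisms.UniversallyOpen
import Mathlib.AlgebraicGeometry.Morphisms.Etale
import Mathlib.RingTheory.Finiteness.ModuleFinitePresentation

/-!
Scheme theoretically dense opens pull back along etale morphisms and descend along flat surjections.
-/

set_option linter.unusedVariables false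
set_option backward.isDefEq.respectTransparency false

universe u

open CategoryTheory AlgebraicGeometry TopologicalSpace Opposite

namespace Groth.Agent.H12AlgSp.Dense

variable {X Y : Scheme.{u}}

/-- A section all of whose germs at points of `W` vanish. -/
def Killed (W : X.Opens) {V : X.Opens} (t : Γ(X, V)) : Prop :=
  ∀ (x : X) (hx : x ∈ V), x ∈ W → X.presheaf.germ V x hx t = 0

theorem germ_map {V V' : X.Opens} (h : V' ≤ V) (x : X) (hx : x ∈ V') (t : Γ(X, V)) :
    X.presheaf.germ V' x hx (X.presheaf.map (homOfLE h).op t) = X.presheaf.germ V x (h hx) t :=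
  TopCat.Presheaf.germ_res_apply _ _ _ _ _

theorem eq_zero_of_germ {V : X.Opens} {t : Γ(X, V)} (h : ∀ x hx, X.presheaf.germ V x hx t = 0) : t = 0 :=
  TopCat.Presheaf.section_ext X.sheaf V t 0 fun x hx => (h x hx).trans (map_zero _).symm

theorem Killed.map {W V V' : X.Opens} {t : Γ(X, V)} (ht : Killed W t) (h : V' ≤ V) :
    Killed W (X.presheaf.map (homOfLE h).op t) := fun x hx hW => by
  rw [germ_map]; exact ht x (h hx) hW

theorem killed_iff {W V : X.Opens} (t : Γ(X, V)) :
    Killed W t ↔ X.presheaf.map (homOfLE (inf_le_left : V ⊓ W ≤ V)).op t = 0 := by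
  constructor
  · exact fun h => eq_zero_of_germ fun x hx => by rw [germ_map]; exact h x hx.1 hx.2
  · intro h x hx hW
    rw [← germ_map (inf_le_left : V ⊓ W ≤ V) x ⟨hx, hW⟩ t, h, map_zero]

theorem isSchematicallyDense_iff {W : X.Opens} :
    CInt.IsSchematicallyDense W ↔ ∀ (V : X.Opens) (t : Γ(X, V)), Killed W t → t = 0 := by
  refine forall_congr' fun V => ?_
  rw [injective_iff_map_eq_zero]
  exact forall_congr' fun t => ⟨fun h ht => h ((killed_iff t).1 ht), fun h ht => h ((killed_iff t).2 ht)⟩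

theorem killed_appLE (f : X ⟶ Y) {W : Y.Opens} {O : Y.Opens} {V : X.Opens} (e : V ≤ f ⁻¹ᵁ O) {t : Γ(Y, O)}
    (ht : Killed W t) : Killed (f ⁻¹ᵁ W) (f.appLE O V e t) := fun x hx hW => by
  rw [germ_appLE f e x hx, ht (f x) (e hx) hW, map_zero]
where
  germ_appLE {X Y : Scheme.{u}} (f : X ⟶ Y) {O : Y.Opens} {V : X.Opens} (e : V ≤ f ⁻¹ᵁ O) (x : X)
      (hx : x ∈ V) {t : Γ(Y, O)} :
      X.presheaf.germ V x hx (f.appLE O V e t) = f.stalkMap x (Y.presheaf.germ O (f x) (e hx) t) := by
    rw [Scheme.Hom.germ_stalkMap_apply]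
    exact germ_map e x hx (f.app O t)

/-- Density descends along flat surjective morphisms. -/
theorem of_flat_surjective (g : X ⟶ Y) [Flat g] [Surjective g] {W : Y.Opens}
    (h : CInt.IsSchematicallyDense (g ⁻¹ᵁ W)) : CInt.IsSchematicallyDense W := by
  rw [isSchematicallyDense_iff] at h ⊢
  intro O t ht
  have h0 := h (g ⁻¹ᵁ O) (g.appLE O _ le_rfl t) (killed_appLE g le_rfl ht)
  refine eq_zero_of_germ fun y hy => ?_
  obtain ⟨x, rfl⟩ := g.surjective y
  apply Groth.Agent.H22Alg.stalkMap_injective_of_flat g x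
  rw [map_zero]
  refine (killed_appLE.germ_appLE g le_rfl x hy).symm.trans ?_
  rw [h0, map_zero]

/-- Density passes to open subschemes. -/
theorem preimage_openImmersion (j : X ⟶ Y) [IsOpenImmersion j] {W : Y.Opens}
    (h : CInt.IsSchematicallyDense W) : CInt.IsSchematicallyDense (j ⁻¹ᵁ W) := by
  rw [isSchematicallyDense_iff] at h ⊢
  intro V t ht
  have e : V ≤ j ⁻¹ᵁ (j ''ᵁ V) := by rw [Scheme.Hom.preimage_image_eq]
  have ht' : j.appLE (j ''ᵁ V) V e ((j.appIso V).inv t) = t := by
    rw [← Scheme.Hom.appIso_hom' j V]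
    exact (j.appIso V).inv_hom_id_apply t
  have h0 : (j.appIso V).inv t = 0 := h _ _ fun y hy hW => by
    obtain ⟨x, hx, rfl⟩ := hy
    apply (ConcreteCategory.bijective_of_isIso (j.stalkMap x)).1
    rw [map_zero]
    refine (killed_appLE.germ_appLE j e x hx).symm.trans ?_
    rw [ht']
    exact ht x hx hW
  rw [← ht', h0, map_zero]

/-- Density may be checked locally on the source. -/
theorem of_cover {W : X.Opens} (h : ∀ x : X, ∃ (U : Scheme.{u}) (j : U ⟶ X) (_ : IsOpenImmersion j),
    x ∈ Set.range j ∧ CInt.IsSchematicallyDense (j ⁻¹ᵁ W)) : CInt.IsSchematicallyDense W := by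
  rw [isSchematicallyDense_iff]
  intro V t ht
  refine eq_zero_of_germ fun x hx => ?_
  obtain ⟨U, j, _, ⟨u, rfl⟩, hU⟩ := h x
  have h0 := isSchematicallyDense_iff.1 hU (j ⁻¹ᵁ V) (j.appLE V _ le_rfl t) (killed_appLE j le_rfl ht)
  apply (ConcreteCategory.bijective_of_isIso (j.stalkMap u)).1
  rw [map_zero, ← killed_appLE.germ_appLE j le_rfl u hx, h0, map_zero]

/-- Sections over preimages in a free algebra are zero when killed on a dense open. -/
theorem eq_zero_of_free {A B : CommRingCat.{u}} [Algebra A B] [Module.Free A B]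
    {W : (Spec A).Opens} (hW : CInt.IsSchematicallyDense W)
    (O : (Spec A).Opens)
    (t : Γ(Spec B, Spec.map (CommRingCat.ofHom (algebraMap A B)) ⁻¹ᵁ O))
    (ht : Killed (Spec.map (CommRingCat.ofHom (algebraMap A B)) ⁻¹ᵁ W) t) : t = 0 := by
  classical
  let π := Spec.map (CommRingCat.ofHom (algebraMap A B))
  let b := Module.Free.chooseBasis A B
  refine eq_zero_of_germ fun x hx => ?_
  obtain ⟨_, ⟨a, rfl⟩, hxa, haO⟩ := Opens.isBasis_iff_nbhd.mp PrimeSpectrum.isBasis_basic_opens
    (show π x ∈ O from hx)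
  let Da : (Spec B).Opens := PrimeSpectrum.basicOpen (algebraMap A B a)
  have hDa : Da ≤ π ⁻¹ᵁ O := fun y hy => haO hy
  suffices h : (Spec B).presheaf.map (homOfLE hDa).op t = 0 by
    rw [← germ_map hDa x hxa t, h, map_zero]
  obtain ⟨⟨z, ⟨_, k, rfl⟩⟩, hz⟩ := IsLocalization.surj (M := Submonoid.powers (algebraMap A B a))
    (S := Γ(Spec B, Da)) ((Spec B).presheaf.map (homOfLE hDa).op t)
  have hunit := IsLocalization.map_units (Γ(Spec B, Da))
    (⟨(algebraMap A B a) ^ k, k, rfl⟩ : Submonoid.powers (algebraMap A B a))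
  refine (hunit.mul_left_eq_zero).1 ?_
  rw [hz]
  -- every coordinate of `z` is killed, hence zero, over `D a`
  have hc : ∀ i, algebraMap A Γ(Spec A, PrimeSpectrum.basicOpen a) (b.repr z i) = 0 := by
    intro i
    refine isSchematicallyDense_iff.1 hW _ _ fun y hy hyW => ?_
    obtain ⟨_, ⟨c, rfl⟩, hyc, hcle⟩ := Opens.isBasis_iff_nbhd.mp PrimeSpectrum.isBasis_basic_opens
      (show y ∈ PrimeSpectrum.basicOpen a ⊓ W from ⟨hy, hyW⟩)
    let Dc : (Spec B).Opens := PrimeSpectrum.basicOpen (algebraMap A B c)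
    have hDc : Dc ≤ Da := fun w hw => (@hcle (π w) hw).1
    have hz0 : algebraMap B Γ(Spec B, Dc) z = 0 := by
      have h1 := congrArg ((Spec B).presheaf.map (homOfLE hDc).op) hz
      rw [map_mul] at h1
      refine Eq.trans ?_ (h1.symm.trans ?_)
      · rfl
      · have h2 : (Spec B).presheaf.map (homOfLE hDc).op
            ((Spec B).presheaf.map (homOfLE hDa).op t) = 0 :=
          eq_zero_of_germ fun w hw => by
            rw [germ_map hDc, germ_map hDa]
            exact ht w (hDa (hDc hw)) (@hcle (π w) hw).2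
        rw [h2, zero_mul]
    obtain ⟨⟨_, m, rfl⟩, hm⟩ := (IsLocalization.map_eq_zero_iff (Submonoid.powers (algebraMap A B c))
      Γ(Spec B, Dc) z).1 hz0
    have hi : c ^ m * b.repr z i = 0 := by
      have := congrArg (fun w => b.repr w i) (show c ^ m • z = 0 by
        rw [Algebra.smul_def, map_pow]; exact hm)
      simpa using this
    have hy' : (Spec A).presheaf.map (homOfLE (fun w hw => (hcle hw).1 :
        PrimeSpectrum.basicOpen c ≤ PrimeSpectrum.basicOpen a)).op
        (algebraMap A Γ(Spec A, PrimeSpectrum.basicOpen a) (b.repr z i)) = 0 :=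
      ((IsLocalization.map_eq_zero_iff (Submonoid.powers c) Γ(Spec A, PrimeSpectrum.basicOpen c) _).2
        ⟨⟨c ^ m, m, rfl⟩, hi⟩)
    have h3 := congrArg ((Spec A).presheaf.germ _ y hyc) hy'
    rwa [map_zero, germ_map] at h3
  have hm : ∀ i, ∃ m : ℕ, a ^ m * b.repr z i = 0 := fun i => by
    obtain ⟨⟨_, m, rfl⟩, hm⟩ := (IsLocalization.map_eq_zero_iff (Submonoid.powers a) _ _).1 (hc i)
    exact ⟨m, hm⟩
  choose m hm using hm
  let M := (b.repr z).support.sup m
  have : a ^ M • z = 0 := by
    apply b.repr.injective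
    ext i
    rw [map_smul, map_zero, Finsupp.smul_apply, Finsupp.zero_apply, smul_eq_mul]
    by_cases hi : i ∈ (b.repr z).support
    · obtain ⟨d, hd⟩ := Nat.exists_eq_add_of_le (Finset.le_sup hi : m i ≤ M)
      change a ^ M * _ = 0
      rw [show a ^ M = a ^ d * a ^ m i from (congrArg (a ^ ·) hd).trans (by rw [pow_add, mul_comm]), mul_assoc, hm, mul_zero]
    · rw [Finsupp.notMem_support_iff.1 hi, mul_zero]
  exact (IsLocalization.map_eq_zero_iff (Submonoid.powers (algebraMap A B a)) _ z).2
    ⟨⟨_, M, rfl⟩, by change algebraMap A B a ^ M * z = 0; rw [← map_pow, ← Algebra.smul_def]; exact this⟩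

/-- If a finite group acts on `X` over `Y` transitively on fibres and killed sections over preimages
vanish, then all killed sections vanish. -/
theorem of_action {G : Type*} [Group G] [Fintype G] (f : X ⟶ Y) (hf : IsOpenMap f) (h : G → (X ⟶ X))
    (hcomp : ∀ σ, h σ ≫ f = f) (hone : h 1 = 𝟙 X) (hmul : ∀ σ τ, h (σ * τ) = h σ ≫ h τ)
    (htrans : ∀ x y, f x = f y → ∃ σ, h σ x = y) (W : Y.Opens)
    (hbase : ∀ (O : Y.Opens) (t : Γ(X, f ⁻¹ᵁ O)), Killed (f ⁻¹ᵁ W) t → t = 0) :
    CInt.IsSchematicallyDense (f ⁻¹ᵁ W) := by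
  classical
  rw [isSchematicallyDense_iff]
  intro V t ht
  let VS : Finset G → X.Opens := fun T => T.inf fun σ => h σ ⁻¹ᵁ V
  have hV1 : VS {1} = V := by simp [VS, hone]
  have hpre : ∀ τ T, h τ ⁻¹ᵁ VS T = VS (T.image (τ * ·)) := fun τ T => by
    induction T using Finset.induction with
    | empty => simp [VS]
    | insert a T _ ih =>
      simp only [VS, Finset.inf_insert, Finset.image_insert] at ih ⊢
      rw [← ih, hmul]
      rfl
  have key : ∀ (k : ℕ) (T : Finset G), T.Nonempty → Fintype.card G ≤ T.card + k →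
      ∀ (e : VS T ≤ V), X.presheaf.map (homOfLE e).op t = 0 := by
    intro k
    induction k with
    | zero =>
      intro T hT hcard e
      have hTu : T = Finset.univ := Finset.eq_univ_of_card T (le_antisymm T.card_le_univ hcard)
      subst hTu
      let O : Y.Opens := ⟨f '' (VS Finset.univ : Set X), hf _ (VS Finset.univ).2⟩
      have hO : f ⁻¹ᵁ O ≤ VS Finset.univ := by
        rintro x ⟨y, hy, hxy⟩
        obtain ⟨σ, rfl⟩ := htrans y x hxy
        have : y ∈ h σ ⁻¹ᵁ VS Finset.univ := by
          rw [hpre]; rwa [Finset.image_univ_of_surjective (mul_left_surjective σ)]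
        exact this
      refine eq_zero_of_germ fun x hx => ?_
      have hx' : x ∈ f ⁻¹ᵁ O := ⟨x, hx, rfl⟩
      rw [germ_map, ← germ_map (hO.trans e) x hx', hbase O _ (ht.map _), map_zero]
    | succ k ih =>
      intro T hT hcard e
      let I := {T' : Finset G // ∃ τ, T.image (τ * ·) = T'}
      let O : Y.Opens := ⟨f '' (VS T : Set X), hf _ (VS T).2⟩
      have hcover : f ⁻¹ᵁ O ≤ iSup fun i : I => VS i.1 := by
        rintro x ⟨y, hy, hxy⟩
        obtain ⟨σ, rfl⟩ := htrans x y hxy.symm
        exact Opens.mem_iSup.2 ⟨⟨_, σ, rfl⟩, (hpre σ T).le hy⟩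
      have hTle : ∀ (T₁ T₂ : Finset G), T₁ ⊆ T₂ → VS T₂ ≤ VS T₁ := fun T₁ T₂ hle => Finset.inf_mono hle
      let sec : ∀ i : I, Γ(X, VS i.1 ⊓ f ⁻¹ᵁ O) := fun i =>
        if hi : i.1 = T then X.presheaf.map (homOfLE (inf_le_left.trans ((congrArg VS hi).le.trans e))).op t else 0
      have hcompat : TopCat.Presheaf.IsCompatible X.sheaf.1 (fun i : I => VS i.1 ⊓ f ⁻¹ᵁ O) sec := by
        intro i j
        refine TopCat.Presheaf.section_ext X.sheaf _ _ _ fun x hx => ?_
        refine (TopCat.Presheaf.germ_res_apply X.presheaf _ x hx _).trans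
          (Eq.trans ?_ (TopCat.Presheaf.germ_res_apply X.presheaf _ x hx _).symm)
        by_cases hij : i = j
        · subst hij; rfl
        have hbig : ∀ T', (∃ τ, T.image (τ * ·) = T') → T' ≠ T → ∀ (hxT : x ∈ VS T) (hxT' : x ∈ VS T'),
            X.presheaf.germ V x (e hxT) t = 0 := by
          rintro T' ⟨τ, rfl⟩ hne hxT hxT'
          have hlt : T.card < (T ∪ T.image (τ * ·)).card := by
            refine Finset.card_lt_card (Finset.ssubset_iff_subset_ne.2 ⟨Finset.subset_union_left, fun hu => hne ?_⟩)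
            refine Finset.eq_of_subset_of_card_le (fun z hz => hu ▸ Finset.mem_union_right _ hz) ?_
            rw [Finset.card_image_of_injective _ (mul_right_injective τ)]
          have e' : VS (T ∪ T.image (τ * ·)) ≤ V := (hTle _ _ Finset.subset_union_left).trans e
          have := ih _ (hT.mono Finset.subset_union_left) (by omega) e'
          rw [← germ_map e' x (by simp only [VS, Finset.inf_union]; exact ⟨hxT, hxT'⟩) t, this, map_zero]
        by_cases hi : i.1 = T
        · have hj : j.1 ≠ T := fun hj => hij (Subtype.ext (hi.trans hj.symm))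
          simp only [sec, dif_pos hi, dif_neg hj]
          rw [map_zero, germ_map]
          exact hbig j.1 j.2 hj (hi ▸ hx.1.1) hx.2.1
        · by_cases hj : j.1 = T
          · simp only [sec, dif_neg hi, dif_pos hj]
            rw [map_zero, germ_map]
            exact (hbig i.1 i.2 hi (hj ▸ hx.2.1) hx.1.1).symm
          · simp only [sec, dif_neg hi, dif_neg hj]
            rw [map_zero, map_zero]
      obtain ⟨s, hs, -⟩ := X.sheaf.existsUnique_gluing' (fun i : I => VS i.1 ⊓ f ⁻¹ᵁ O) (f ⁻¹ᵁ O)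
        (fun i => homOfLE inf_le_right) (fun x hx => by
          obtain ⟨i, hi⟩ := Opens.mem_iSup.1 (hcover hx)
          exact Opens.mem_iSup.2 ⟨i, hi, hx⟩) sec hcompat
      have hs0 : s = 0 := hbase O s fun x hx hW => by
        obtain ⟨i, hi⟩ := Opens.mem_iSup.1 (hcover hx)
        have hxi : x ∈ VS i.1 ⊓ f ⁻¹ᵁ O := ⟨hi, hx⟩
        refine ((germ_map (inf_le_right : VS i.1 ⊓ f ⁻¹ᵁ O ≤ f ⁻¹ᵁ O) x hxi s).symm).trans ?_
        refine (congrArg (X.presheaf.germ _ x hxi) (hs i)).trans ?_
        simp only [sec]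
        split_ifs with hiT
        · rw [germ_map]; exact ht x _ hW
        · exact map_zero _
      refine eq_zero_of_germ fun x hx => ?_
      let i₀ : I := ⟨T, 1, by simp⟩
      have hx' : x ∈ VS i₀.1 ⊓ f ⁻¹ᵁ O := ⟨hx, x, hx, rfl⟩
      have h4 := congrArg (X.presheaf.germ _ x hx') (hs i₀)
      rw [hs0, map_zero, map_zero] at h4
      rw [show sec i₀ = _ from dif_pos rfl] at h4
      rw [germ_map] at h4 ⊢
      exact h4.symm
  refine eq_zero_of_germ fun x hx => ?_
  have h0 := key (Fintype.card G) {1} (Finset.singleton_nonempty _) (Nat.le_add_left _ _) hV1.le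
  rw [← germ_map hV1.le x (hV1.ge hx) t, h0, map_zero]

/-- Density pulls back to `Spec A[X]/(p)` for monic `p`. -/
theorem preimage_adjoinRoot {A : Type u} [CommRing A] (p : Polynomial A) (hp : p.Monic)
    {W : (Spec (CommRingCat.of A)).Opens} (hW : CInt.IsSchematicallyDense W) :
    CInt.IsSchematicallyDense (Spec.map (CommRingCat.ofHom (algebraMap A (AdjoinRoot p))) ⁻¹ᵁ W) := by
  classical
  by_cases hd : p.natDegree = 0
  · have h1 : (1 : AdjoinRoot p) = 0 := by
      have h2 := AdjoinRoot.mk_self (f := p)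
      rwa [show AdjoinRoot.mk p p = 1 by
        conv_lhs => arg 2; rw [hp.natDegree_eq_zero.mp hd]
        exact map_one _] at h2
    have : Subsingleton (AdjoinRoot p) := subsingleton_of_zero_eq_one h1.symm
    rw [isSchematicallyDense_iff]
    exact fun V t ht => eq_zero_of_germ fun x =>
      (inferInstance : IsEmpty (PrimeSpectrum (AdjoinRoot p))).elim x
  obtain ⟨B, _, _, r, _, _, _, hB, hφ⟩ := Split.exists_isSplit p.natDegree A p hp rfl
  obtain ⟨φ, hφf, hφs⟩ := hφ (Nat.pos_of_ne_zero hd)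
  let π := Spec.map (CommRingCat.ofHom (algebraMap A B))
  let ρ := Spec.map (CommRingCat.ofHom φ.toRingHom)
  have hρ : ρ ≫ Spec.map (CommRingCat.ofHom (algebraMap A (AdjoinRoot p))) = π := by
    rw [← Spec.map_comp]; exact congrArg Spec.map (CommRingCat.hom_ext φ.comp_algebraMap)
  have hπdense : CInt.IsSchematicallyDense (π ⁻¹ᵁ W) := by
    have : Flat π := (HasRingHomProperty.Spec_iff (P := @Flat)).2 (RingHom.flat_algebraMap_iff.2 inferInstance)
    have hfp : (algebraMap A B).FinitePresentation := by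
      rw [RingHom.finitePresentation_algebraMap]
      have : Module.FinitePresentation A B := Module.finitePresentation_of_projective A B
      exact Algebra.FinitePresentation.of_finitePresentation _ _
    have : LocallyOfFinitePresentation π := (HasRingHomProperty.Spec_iff (P := @LocallyOfFinitePresentation)).2 hfp
    refine of_action π π.isOpenMap (fun σ => Spec.map (CommRingCat.ofHom (hB.act σ).toRingHom))
      (fun σ => ?_) ?_ (fun σ τ => ?_) (fun x y e => hB.exists_act_comap x y e) W (eq_zero_of_free (A := CommRingCat.of A) (B := CommRingCat.of B) hW)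
    · rw [← Spec.map_comp]; exact congrArg Spec.map (CommRingCat.hom_ext (hB.act σ).comp_algebraMap)
    · rw [hB.act_one]; exact Spec.map_id _
    · rw [← Spec.map_comp, hB.act_mul]; rfl
  have hρdense : CInt.IsSchematicallyDense
      (ρ ⁻¹ᵁ (Spec.map (CommRingCat.ofHom (algebraMap A (AdjoinRoot p))) ⁻¹ᵁ W)) := by
    rw [← Scheme.Hom.comp_preimage, hρ]; exact hπdense
  have : Flat ρ := (HasRingHomProperty.Spec_iff (P := @Flat)).2 hφf
  have : Surjective ρ := ⟨hφs⟩
  exact of_flat_surjective ρ hρdense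

/-- Density pulls back along etale morphisms. -/
theorem preimage_etale (g : X ⟶ Y) [Etale g] {W : Y.Opens} (hW : CInt.IsSchematicallyDense W) :
    CInt.IsSchematicallyDense (g ⁻¹ᵁ W) := by
  refine of_cover fun x => ?_
  obtain ⟨V, hV, hxV, -⟩ := exists_isAffineOpen_mem_and_subset (Opens.mem_top (g x))
  obtain ⟨U, hU, hxU, hle⟩ := exists_isAffineOpen_mem_and_subset (X := X) (U := g ⁻¹ᵁ V) hxV
  let A := Γ(Y, V)
  let C := Γ(X, U)
  let e : A ⟶ C := g.appLE V U hle
  letI : Algebra A C := e.hom.toAlgebra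
  have he : Spec.map e ≫ hV.fromSpec = hU.fromSpec ≫ g := hV.SpecMap_appLE_fromSpec g hU hle
  have het : Algebra.Etale A C := by
    have h1 : e.hom.Etale := HasRingHomProperty.appLE (P := @Etale) g inferInstance ⟨V, hV⟩ ⟨U, hU⟩ hle
    exact h1
  obtain ⟨u, rfl⟩ : x ∈ Set.range hU.fromSpec := by rw [hU.range_fromSpec]; exact hxU
  have : Algebra.IsEtaleAt A u.asIdeal :=
    Algebra.FormallyEtale.comp A C _
  obtain ⟨f, hf, hst⟩ := Algebra.IsEtaleAt.exists_isStandardEtale (R := A) u.asIdeal
  obtain ⟨P⟩ := hst.nonempty_standardEtalePresentation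
  let S' := Localization.Away f
  let L := Localization.Away (AdjoinRoot.mk P.f P.g)
  let ε : S' ≃ₐ[A] L := P.equivRing.trans P.P.equivAwayAdjoinRoot
  let σ : Spec (CommRingCat.of S') ⟶ Spec C := Spec.map (CommRingCat.ofHom (algebraMap C S'))
  refine ⟨_, σ ≫ hU.fromSpec, inferInstance, ?_, ?_⟩
  · have hu : u ∈ Set.range σ := by
      rw [show Set.range σ = _ from PrimeSpectrum.localization_away_comap_range S' f]
      exact hf
    obtain ⟨v, hv⟩ := hu
    exact ⟨v, by rw [Scheme.Hom.comp_apply, hv]⟩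
  let q : Spec (CommRingCat.of L) ⟶ Spec (CommRingCat.of (AdjoinRoot P.f)) :=
    Spec.map (CommRingCat.ofHom (algebraMap (AdjoinRoot P.f) L))
  let ei : Spec (CommRingCat.of S') ⟶ Spec (CommRingCat.of L) :=
    Spec.map (CommRingCat.ofHom ε.symm.toAlgHom.toRingHom)
  have : IsIso ei := by
    have : IsIso (CommRingCat.ofHom ε.symm.toAlgHom.toRingHom) :=
      (inferInstanceAs (IsIso ε.symm.toRingEquiv.toCommRingCatIso.hom))
    infer_instance
  have key : (σ ≫ hU.fromSpec) ≫ g = ((ei ≫ q) ≫ Spec.map (CommRingCat.ofHom (algebraMap A (AdjoinRoot P.f)))) ≫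
      hV.fromSpec := by
    rw [Category.assoc, ← he, ← Category.assoc]
    congr 1
    rw [Category.assoc, ← Spec.map_comp, ← Spec.map_comp, ← Spec.map_comp]
    congr 1
    refine CommRingCat.hom_ext (RingHom.ext fun a => ?_)
    refine (IsScalarTower.algebraMap_apply A C S' a).symm.trans ((ε.symm.commutes a).symm.trans ?_)
    exact congrArg ε.symm (IsScalarTower.algebraMap_apply A (AdjoinRoot P.f) L a)
  have h1 := preimage_adjoinRoot (A := A) P.f P.monic_f (preimage_openImmersion hV.fromSpec hW)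
  have h2 := preimage_openImmersion (ei ≫ q) h1
  rw [← Scheme.Hom.comp_preimage, ← Scheme.Hom.comp_preimage, ← key, Scheme.Hom.comp_preimage] at h2
  exact h2

end Groth.Agent.H12AlgSp.Dense
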