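import Groth.Agent.H12AlgSp.RelDim

/-!
Residue transcendence degrees under base change.
-/

set_option backward.isDefEq.respectTransparency false

universe u

open CategoryTheory CategoryTheory.Limits AlgebraicGeometry Topology TopologicalSpace
open AlgSp

namespace Groth.Agent.H12AlgSp

theorem exists_nat_resTrdeg {X Y : Scheme.{u}} (f : X ⟶ Y) [LocallyOfFiniteType f] {y : Y} (u : f.fiber y) :
    ∃ s : ℕ, H8Props.FieldDim.cdim u = s ∧ Dual3.resTrdeg f (f.fiberι y u) = s :=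
  H8Props.FieldDim.exists_trdeg_fiber f u

theorem cdim_asFiber {X Y : Scheme.{u}} (f : X ⟶ Y) [LocallyOfFiniteType f] (x : X) :
    ∃ s : ℕ, H8Props.FieldDim.cdim (f.asFiber x) = s ∧ Dual3.resTrdeg f x = s := by
  obtain ⟨s, h1, h2⟩ := exists_nat_resTrdeg f (f.asFiber x)
  rw [f.fiberι_asFiber] at h2
  exact ⟨s, h1, h2⟩

variable {X Y X' Y' : Scheme.{u}} {g' : X' ⟶ X} {f' : X' ⟶ Y'} {f : X ⟶ Y} {g : Y' ⟶ Y}

theorem resTrdeg_baseChange_le [LocallyOfFiniteType f] (hc : IsPullback g' f' f g) (x' : X') :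
    Dual3.resTrdeg f' x' ≤ Dual3.resTrdeg f (g' x') := by
  haveI := H8Props.FieldDim.locallyOfFiniteType_fiberToSpec f (g (f' x'))
  haveI : LocallyOfFiniteType f' := MorphismProperty.of_isPullback hc ‹_›
  letI := (g.residueFieldMap (f' x')).hom.toAlgebra
  have h := (H8Props.FieldDim.baseChange_point (k := Y.residueField (g (f' x')))
    (f.fiberToSpecResidueField (g (f' x'))) (K := Y'.residueField (f' x')) _ _
    (isPullback_fiberToSpecResidueField_of_isPullback hc (f' x')) (f'.asFiber x')).1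
  obtain ⟨s', hs', e'⟩ := cdim_asFiber f' x'
  obtain ⟨s, hs, e⟩ := exists_nat_resTrdeg f (y := g (f' x')) _
  rw [hs', hs] at h
  refine e'.trans_le (le_trans (Nat.cast_le.2 (by exact_mod_cast h)) (le_of_eq (e.symm.trans ?_)))
  congr 1
  erw [← Scheme.Hom.comp_apply, pullback.lift_fst]
  exact congrArg g' (f'.fiberι_asFiber x')

theorem exists_resTrdeg_baseChange_eq [LocallyOfFiniteType f] (hc : IsPullback g' f' f g) (x : X) (y' : Y')
    (e : f x = g y') :
    ∃ x' : X', g' x' = x ∧ f' x' = y' ∧ Dual3.resTrdeg f' x' = Dual3.resTrdeg f x := by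
  obtain ⟨x₀, hx₀, hy₀⟩ := Scheme.Pullback.exists_preimage_pullback x y' e
  obtain ⟨z₀, rfl, rfl⟩ : ∃ z₀ : X', g' z₀ = x ∧ f' z₀ = y' := ⟨hc.isoPullback.inv x₀,
    by rw [← Scheme.Hom.comp_apply, hc.isoPullback_inv_fst]; exact hx₀,
    by rw [← Scheme.Hom.comp_apply, hc.isoPullback_inv_snd]; exact hy₀⟩
  haveI := H8Props.FieldDim.locallyOfFiniteType_fiberToSpec f (g (f' z₀))
  haveI : LocallyOfFiniteType f' := MorphismProperty.of_isPullback hc ‹_›
  letI := (g.residueFieldMap (f' z₀)).hom.toAlgebra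
  obtain ⟨η', -, hη, hd⟩ := (H8Props.FieldDim.baseChange_point (k := Y.residueField (g (f' z₀)))
    (f.fiberToSpecResidueField (g (f' z₀))) (K := Y'.residueField (f' z₀)) _ _
    (isPullback_fiberToSpecResidueField_of_isPullback hc (f' z₀)) (f'.asFiber z₀)).2 _ specializes_rfl
  obtain ⟨s', hs', e'⟩ := exists_nat_resTrdeg f' η'
  obtain ⟨s, hs, es⟩ := exists_nat_resTrdeg f (y := g (f' z₀)) _
  rw [hs', hs] at hd
  refine ⟨f'.fiberι _ η', ?_, (f'.range_fiberι _).subset ⟨η', rfl⟩, ?_⟩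
  · have := congrArg (f.fiberι (g (f' z₀))) hη
    erw [← Scheme.Hom.comp_apply, pullback.lift_fst] at this
    rw [← Scheme.Hom.comp_apply]
    refine this.trans ?_
    erw [← Scheme.Hom.comp_apply, pullback.lift_fst]
    exact congrArg g' (f'.fiberι_asFiber z₀)
  · refine e'.trans ((Nat.cast_inj.2 (by exact_mod_cast hd)).trans (es.symm.trans ?_))
    congr 1
    erw [← Scheme.Hom.comp_apply, pullback.lift_fst]
    exact congrArg g' (f'.fiberι_asFiber z₀)

theorem fibre_ringKrullDim_eq {X Y : Scheme.{u}} (f : X ⟶ Y) [LocallyOfFiniteType f] (x : X) :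
    ∃ (e : ℕ∞) (t : ℕ), ringKrullDim ↥((f.fiber (f x)).presheaf.stalk (f.asFiber x)) = e ∧
      Dual3.resTrdeg f x = t ∧ FlatMor.fibreDimAt f x = ((e + t : ℕ∞) : WithBot ℕ∞) := by
  obtain ⟨t, ht, ht'⟩ := H8Props.FieldDim.fibreDimAt_eq f x
  rw [← ringKrullDim_eq_of_ringEquiv (H8Props.FibreStalk.asFiberStalkEquiv f x)]
  haveI : Nontrivial (X.presheaf.stalk x ⧸ (IsLocalRing.maximalIdeal (Y.presheaf.stalk (f x))).map (f.stalkMap x).hom) :=
    Ideal.Quotient.nontrivial_iff.mpr (ne_top_of_le_ne_top (IsLocalRing.maximalIdeal.isMaximal _).ne_top (IsLocalRing.map_maximalIdeal_le _))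
  obtain ⟨e, he⟩ := WithBot.ne_bot_iff_exists.1 (ne_of_gt
    (lt_of_lt_of_le (WithBot.bot_lt_coe 0) (ringKrullDim_nonneg_of_nontrivial
      (R := X.presheaf.stalk x ⧸ (IsLocalRing.maximalIdeal (Y.presheaf.stalk (f x))).map (f.stalkMap x).hom))))
  rw [← he] at ht ⊢
  exact ⟨e, t, rfl, ht', ht⟩

end Groth.Agent.H12AlgSp

namespace Groth.Agent.H12AlgSp

theorem enat_cancel {a b : ℕ∞} (t : ℕ) (h : a + t = b + t) : a = b :=
  WithTop.add_right_cancel (ENat.natCast_ne_top t) h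

theorem fibreStalkDim_eq_of_eq {X Y X' Y' : Scheme.{u}} (f : X ⟶ Y) (f' : X' ⟶ Y') [LocallyOfFiniteType f]
    [LocallyOfFiniteType f'] {x : X} {x' : X'} (hd : FlatMor.fibreDimAt f x = FlatMor.fibreDimAt f' x')
    (ht : Dual3.resTrdeg f x = Dual3.resTrdeg f' x') :
    ringKrullDim ↥((f.fiber (f x)).presheaf.stalk (f.asFiber x)) =
      ringKrullDim ↥((f'.fiber (f' x')).presheaf.stalk (f'.asFiber x')) := by
  obtain ⟨e, t, he, hr, hd₁⟩ := fibre_ringKrullDim_eq f x
  obtain ⟨e', t', he', hr', hd₂⟩ := fibre_ringKrullDim_eq f' x'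
  rw [hr, hr', Nat.cast_inj] at ht
  subst ht
  rw [hd₁, hd₂, WithBot.coe_inj] at hd
  rw [he, he', enat_cancel t hd]

theorem etInvAt_fibreStalkDim (p : WithBot ℕ∞ → Prop) :
    EtInvAt @LocallyOfFiniteType.{u}
      fun _ _ h u => p (ringKrullDim ↥((h.fiber (h u)).presheaf.stalk (h.asFiber u))) where
  precomp g f _ hf w := by
    have : LocallyOfFiniteType f := hf
    have := lqf_of_etale g
    exact iff_of_eq (congrArg p (fibreStalkDim_eq_of_eq (g ≫ f) f (fibreDimAt_etale_precomp g f w)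
      (by rw [resTrdeg_comp, resTrdeg_eq_zero_of_lqf g w, add_zero])))
  postcomp f g _ hf u := by
    have : LocallyOfFiniteType f := hf
    have := lqf_of_etale g
    exact iff_of_eq (congrArg p (fibreStalkDim_eq_of_eq (f ≫ g) f (fibreDimAt_etale_postcomp f g u)
      (by rw [resTrdeg_comp, resTrdeg_eq_zero_of_lqf g _, zero_add])))

end Groth.Agent.H12AlgSp
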