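import Groth.Agent.H12AlgSp.Bootstrap

/-!
Small facts on representable maps: factorisation through monomorphisms, descent along surjections of sheaves,
restriction of etale equivalence relations.
-/

universe u

open CategoryTheory CategoryTheory.Limits AlgebraicGeometry Opposite
open AlgSp Groth.Agent.H13AlgSp

namespace Groth.Agent.H12AlgSp

variable {S : Scheme.{u}}

theorem repWith_of_comp_mono {P : MorphismProperty Scheme.{u}} {F F₁ F₂ : Sp S} {f₁ : F₁ ⟶ F} {f₂ : F₂ ⟶ F}
    (h₁ : RepWith P f₁) [Mono f₂] {g : F₁ ⟶ F₂} (w : g ≫ f₂ = f₁) : RepWith P g := by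
  have sq : IsPullback (𝟙 F₁) g f₁ f₂ := ⟨⟨by rw [Category.id_comp, w]⟩, ⟨PullbackCone.isLimitAux' _ fun s =>
    ⟨s.fst, Category.comp_id _, (cancel_mono f₂).1 (by
      change (s.fst ≫ g) ≫ f₂ = s.snd ≫ f₂
      rw [Category.assoc, w, s.condition]),
      fun {m : s.pt ⟶ F₁} (hm : m ≫ 𝟙 F₁ = s.fst) _ => (Category.comp_id m).symm.trans hm⟩⟩⟩
  exact repWith_of_isPullback sq h₁

/-- The representable properties which are fppf local on the base descend along surjections of sheaves. -/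
theorem repWith_of_locallySurjective_base {F G H Q : Sp S} {a : F ⟶ G} (ha : Representable a) {b : H ⟶ G}
    (hb : Sheaf.IsLocallySurjective b) {b' : Q ⟶ F} {a' : Q ⟶ H} (sq : IsPullback b' a' a b)
    {P : MorphismProperty Scheme.{u}} [P.IsStableUnderBaseChange] [P.IsLocalAtTarget Scheme.fppfPrecoverage]
    (h : RepWith P a') : RepWith P a := by
  refine repWith_of_snd ha fun T g => ?_
  obtain ⟨κ, C, c, hfl, hfp, hs, hl⟩ := exists_local_lifts hb g
  let R : Presieve T.left := Presieve.ofArrows (fun i => (C i).left) (fun i => (c i).left)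
  have hR : R ∈ Scheme.fppfPrecoverage T.left := by
    rw [Scheme.fppfPrecoverage]
    rw [Scheme.ofArrows_mem_precoverage_iff]
    exact ⟨fun t => by obtain ⟨i, hi⟩ := hs t; exact ⟨i, hi⟩, fun i => ⟨hfl i, hfp i⟩⟩
  refine MorphismProperty.IsLocalAtTarget.of_forall_pullbackSnd hR ?_
  rintro _ _ _ ⟨i⟩
  obtain ⟨l, hl⟩ := hl i
  obtain ⟨V, v, m, sqV⟩ := h.rep l
  have hv : P v.left := h.property _ _ v sqV
  have sqA := sqV.paste_horiz sq
  rw [hl] at sqA
  have sqT := ha.isPullback g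
  let k : V ⟶ ha.pullback g := ha.lift (m ≫ b') (v ≫ c i) (by rw [sqA.w, Functor.map_comp, Category.assoc])
  have sqk : IsPullback ((yon S).map k) ((yon S).map v) ((yon S).map (ha.snd g)) ((yon S).map (c i)) :=
    IsPullback.of_right (by rw [ha.lift_fst]; exact sqA)
      (by rw [← Functor.map_comp, ha.lift_snd, Functor.map_comp]) sqT
  have sqS : IsPullback k.left v.left (ha.snd g).left (c i).left :=
    (IsPullback.of_map_of_faithful (yon S) sqk).map (Over.forget S)
  rw [← sqS.isoPullback_inv_snd]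
  exact (MorphismProperty.cancel_left_of_respectsIso P _ _).2 hv

/-- Restriction of an etale equivalence relation along an etale map. -/
theorem isEtaleEqvRel_restrict {R U R' U' : Over S} (s t : R ⟶ U) (g : U' ⟶ U) (s' t' : R' ⟶ U') (r : R' ⟶ R)
    (hsq : IsPullback (prod.lift t' s') r (prod.map g g) (prod.lift t s)) (h : IsEtaleEqvRel s t) [Etale g.left] :
    IsEtaleEqvRel s' t' := by
  have w₁ : t' ≫ g = r ≫ t := by
    have := hsq.w =≫ prod.fst
    simpa only [Category.assoc, prod.map_fst, prod.lift_fst, prod.lift_fst_assoc] using this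
  have w₂ : s' ≫ g = r ≫ s := by
    have := hsq.w =≫ prod.snd
    simpa only [Category.assoc, prod.map_snd, prod.lift_snd, prod.lift_snd_assoc] using this
  have lift : ∀ {T : Over S} (a b : T ⟶ U') (q : T ⟶ R), q ≫ t = a ≫ g → q ≫ s = b ≫ g →
      ∃ q' : T ⟶ R', q' ≫ t' = a ∧ q' ≫ s' = b ∧ q' ≫ r = q := fun a b q e₁ e₂ => by
    obtain ⟨q', h₁, h₂⟩ := hsq.exists_lift (prod.lift a b) q (by
      apply Limits.prod.hom_ext
      · simp only [Category.assoc, prod.map_fst, prod.lift_fst, prod.lift_fst_assoc, e₁]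
      · simp only [Category.assoc, prod.map_snd, prod.lift_snd, prod.lift_snd_assoc, e₂])
    refine ⟨q', ?_, ?_, h₂⟩
    · have := h₁ =≫ prod.fst; simpa only [Category.assoc, prod.lift_fst] using this
    · have := h₁ =≫ prod.snd; simpa only [Category.assoc, prod.lift_snd] using this
  have inj : ∀ (T : Over S) (x y : T ⟶ R'), x ≫ t' = y ≫ t' → x ≫ s' = y ≫ s' → x = y := fun T x y e₁ e₂ => by
    refine hsq.hom_ext ?_ (h.injective T _ _ ?_ ?_)
    · apply Limits.prod.hom_ext
      · simpa only [Category.assoc, prod.lift_fst] using e₁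
      · simpa only [Category.assoc, prod.lift_snd] using e₂
    · rw [Category.assoc, Category.assoc, ← w₁, reassoc_of% e₁]
    · rw [Category.assoc, Category.assoc, ← w₂, reassoc_of% e₂]
  refine ⟨⟨inj, fun T => ⟨fun a => ?_, ?_, ?_⟩⟩, ?_, ?_⟩
  · obtain ⟨q, h₁, h₂⟩ := (h.equivalence T).refl (a ≫ g)
    obtain ⟨q', h₁', h₂', -⟩ := lift a a q h₁ h₂
    exact ⟨q', h₁', h₂'⟩
  · rintro a b ⟨q', h₁', h₂'⟩
    obtain ⟨q, h₁, h₂⟩ := (h.equivalence T).symm (x := a ≫ g) (y := b ≫ g)
      ⟨q' ≫ r, by rw [Category.assoc, ← w₁, reassoc_of% h₁'], by rw [Category.assoc, ← w₂, reassoc_of% h₂']⟩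
    obtain ⟨q'', h₁'', h₂'', -⟩ := lift b a q h₁ h₂
    exact ⟨q'', h₁'', h₂''⟩
  · rintro a b c ⟨q₁, h₁', h₂'⟩ ⟨q₂, k₁, k₂⟩
    obtain ⟨q, h₁, h₂⟩ := (h.equivalence T).trans (x := a ≫ g) (y := b ≫ g) (z := c ≫ g)
      ⟨q₁ ≫ r, by rw [Category.assoc, ← w₁, reassoc_of% h₁'], by rw [Category.assoc, ← w₂, reassoc_of% h₂']⟩
      ⟨q₂ ≫ r, by rw [Category.assoc, ← w₁, reassoc_of% k₁], by rw [Category.assoc, ← w₂, reassoc_of% k₂]⟩
    obtain ⟨q'', h₁'', h₂'', -⟩ := lift a c q h₁ h₂
    exact ⟨q'', h₁'', h₂''⟩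
  all_goals
    have he : ∀ (x y : R ⟶ U) (x' y' : R' ⟶ U'), Etale x.left → Etale y.left → x' ≫ g = r ≫ x → y' ≫ g = r ≫ y →
        (∀ {T : Over S} (a b : T ⟶ U') (q : T ⟶ R), q ≫ x = a ≫ g → q ≫ y = b ≫ g →
          ∃ q' : T ⟶ R', q' ≫ x' = a ∧ q' ≫ y' = b ∧ q' ≫ r = q) →
        (∀ (T : Over S) (p q : T ⟶ R'), p ≫ x' = q ≫ x' → p ≫ y' = q ≫ y' → p = q) → Etale y'.left := by
      intro x y x' y' hx hy wx wy hlift hinj
      let R₁ := pullback g x
      let κ : R' ⟶ R₁ := pullback.lift x' r wx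
      have sq : IsPullback κ y' (pullback.snd g x ≫ y) g := by
        refine ⟨⟨by rw [← Category.assoc, pullback.lift_snd, wy]⟩, ⟨PullbackCone.isLimitAux' _ fun s => ?_⟩⟩
        have hc := s.condition
        have hex := hlift (s.fst ≫ pullback.fst g x) s.snd (s.fst ≫ pullback.snd g x)
          (by rw [Category.assoc, Category.assoc, pullback.condition]) (by rw [Category.assoc, hc])
        have h₁ := hex.choose_spec.1
        have h₂ := hex.choose_spec.2.1
        have h₃ := hex.choose_spec.2.2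
        refine ⟨hex.choose, ?_, h₂, fun {m : s.pt ⟶ R'} (hm₁ : m ≫ κ = s.fst) (hm₂ : m ≫ y' = s.snd) => ?_⟩
        · change hex.choose ≫ κ = s.fst
          apply pullback.hom_ext
          · rw [Category.assoc, pullback.lift_fst, h₁]
          · rw [Category.assoc, pullback.lift_snd, h₃]
        · refine hinj _ _ _ ?_ (hm₂.trans h₂.symm)
          rw [h₁, ← hm₁, Category.assoc, pullback.lift_fst]
      have sq₁ : IsPullback (pullback.fst g x).left (pullback.snd g x).left g.left x.left :=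
        (IsPullback.of_hasPullback g x).map (Over.forget S)
      have : Etale (pullback.snd g x).left := MorphismProperty.of_isPullback sq₁ ‹Etale g.left›
      have : Etale (pullback.snd g x ≫ y).left := inferInstanceAs (Etale ((pullback.snd g x).left ≫ y.left))
      exact MorphismProperty.of_isPullback (sq.map (Over.forget S)) this
  · exact he t s t' s' h.etale_right h.etale_left w₁ w₂ lift inj
  · exact he s t s' t' h.etale_left h.etale_right w₂ w₁
      (fun a b q e₁ e₂ => by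
        obtain ⟨q', h₁, h₂, h₃⟩ := lift b a q e₂ e₁
        exact ⟨q', h₂, h₁, h₃⟩)
      (fun T p q e₁ e₂ => inj T p q e₂ e₁)

theorem isLocallySurjective_of_fppf {F G : Sp S} {a : F ⟶ G} (h₁ : RepWith @Flat a)
    (h₂ : RepWith @LocallyOfFinitePresentation a) (h₃ : RepWith @Surjective a) : Sheaf.IsLocallySurjective a := by
  refine (Sheaf.isLocallySurjective_iff_epi a).2 (epi_of_local_lifts a fun T y => ?_)
  obtain ⟨V, v, l, sq⟩ := h₁.rep y
  refine ⟨PUnit, fun _ => V, fun _ => v, ofArrows_mem_J _ (fun _ => h₁.property _ _ v sq)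
    (fun _ => h₂.property _ _ v sq) (fun t => ⟨⟨⟩, (h₃.property _ _ v sq).surj t⟩), fun _ => ⟨l, sq.w⟩⟩

end Groth.Agent.H12AlgSp
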