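import Groth.Agent.H12AlgSp.GlueSheaf
import Groth.Agent.H12AlgSp.OpenSub
import Groth.Agent.H12AlgSp.LocP
import Groth.Agent.H12AlgSp.RepMisc
import Mathlib.AlgebraicGeometry.Limits

/-!
A sheaf with an open covering by algebraic spaces is an algebraic space.
-/

universe u

open CategoryTheory CategoryTheory.Limits AlgebraicGeometry Opposite Topology
open AlgSp Groth.Agent.H13AlgSp

namespace Groth.Agent.H12AlgSp

variable {S : Scheme.{u}}

/-- Morphisms from representable sheaves glue along covers. -/
theorem exists_glue {G : Sp S} {T : Over S} {κ : Type u} {C : κ → Over S} (c : ∀ i, C i ⟶ T)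
    (hc : Sieve.ofArrows C c ∈ J S T) (f : ∀ i, (yon S).obj (C i) ⟶ G)
    (h : ∀ i j (W : Over S) (a : W ⟶ C i) (b : W ⟶ C j), a ≫ c i = b ≫ c j →
      (yon S).map a ≫ f i = (yon S).map b ≫ f j) :
    ∃ g : (yon S).obj T ⟶ G, ∀ i, (yon S).map (c i) ≫ g = f i := by
  have hs : Presieve.IsSheafFor G.obj (Presieve.ofArrows C c) :=
    (Presieve.isSheafFor_iff_generate _).mpr (((isSheaf_iff_isSheaf_of_type _ _).1 G.property) _ hc)
  obtain ⟨x, hx, -⟩ := (Presieve.isSheafFor_arrows_iff _ _).1 hs
    (fun i => (J S).uliftYonedaEquiv (f i)) (fun i j W a b e => by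
      rw [GrothendieckTopology.uliftYonedaEquiv_naturality, GrothendieckTopology.uliftYonedaEquiv_naturality,
        h i j W a b e])
  refine ⟨(J S).uliftYonedaEquiv.symm x, fun i => (J S).uliftYonedaEquiv.injective ?_⟩
  rw [← GrothendieckTopology.uliftYonedaEquiv_naturality, Equiv.apply_symm_apply, hx i]

variable {F : Sp S} {ι : Type u} {Fi : ι → Sp S} (f : ∀ i, Fi i ⟶ F)

/-- A map from a scheme to a sheaf with an open covering by algebraic spaces is representable. -/
theorem representable_of_openCover (halg : ∀ i, IsAlgSpace (Fi i))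
    (hopen : ∀ i, RepWith @IsOpenImmersion (f i))
    (hcov : ∀ x : Points F, ∃ i, x ∈ Set.range (Points.map (f i))) {T : Over S}
    (a : (yon S).obj T ⟶ F) : Representable a := by
  intro U b
  have hm : ∀ i, Mono (f i) := fun i => mono_of_openImmersion (hopen i)
  choose Ti ti ai sqT using fun i => (hopen i).1 a
  choose Ui ui bi sqU using fun i => (hopen i).1 b
  choose Ri ri₂ ri₁ sqR using fun i => (halg i).representable_from_yon (ai i) (bi i)
  have hj : ∀ i, (ri₁ i ≫ (yon S).map (ti i)) ≫ a = ((yon S).map (ri₂ i) ≫ (yon S).map (ui i)) ≫ b := fun i => by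
    rw [Category.assoc, Category.assoc, ← (sqT i).w, ← (sqU i).w, ← Category.assoc, ← Category.assoc, (sqR i).w]
  let j : ∀ i, (yon S).obj (Ri i) ⟶ pullback a b := fun i => pullback.lift _ _ (hj i)
  have hj1 : ∀ i, j i ≫ pullback.fst a b = ri₁ i ≫ (yon S).map (ti i) := fun i => pullback.lift_fst _ _ _
  have hj2 : ∀ i, j i ≫ pullback.snd a b = (yon S).map (ri₂ i) ≫ (yon S).map (ui i) := fun i =>
    pullback.lift_snd _ _ _
  have sqP : ∀ i, IsPullback (ri₁ i ≫ ai i) (j i) (f i) (pullback.fst a b ≫ a) := by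
    intro i
    have w : (ri₁ i ≫ ai i) ≫ f i = j i ≫ pullback.fst a b ≫ a := by
      rw [← Category.assoc (j i), hj1, Category.assoc, Category.assoc, (sqT i).w]
    have hex : ∀ s : PullbackCone (f i) (pullback.fst a b ≫ a),
        ∃ r, r ≫ ri₁ i ≫ ai i = s.fst ∧ r ≫ j i = s.snd := by
      intro s
      let x := (sqT i).lift s.fst (s.snd ≫ pullback.fst a b) (by rw [s.condition, Category.assoc])
      let y := (sqU i).lift s.fst (s.snd ≫ pullback.snd a b)
        (by rw [s.condition, Category.assoc]; exact s.snd ≫= pullback.condition)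
      have hxy : x ≫ ai i = y ≫ bi i := by simp [x, y]
      refine ⟨(sqR i).lift x y hxy, by simp [x], pullback.hom_ext ?_ ?_⟩
      · rw [Category.assoc, hj1, ← Category.assoc, (sqR i).lift_fst, (sqT i).lift_snd]
      · rw [Category.assoc, hj2, ← Category.assoc, (sqR i).lift_snd, (sqU i).lift_snd]
    choose r hr₁ hr₂ using hex
    refine ⟨⟨w⟩, ⟨PullbackCone.IsLimit.mk w r hr₁ hr₂ fun s m hm₁ hm₂ => ?_⟩⟩
    apply (sqR i).hom_ext
    · apply (sqT i).hom_ext
      · rw [Category.assoc, Category.assoc, hm₁, hr₁]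
      · rw [Category.assoc, Category.assoc, ← hj1, reassoc_of% hm₂, reassoc_of% (hr₂ s)]
    · apply (sqU i).hom_ext
      · rw [Category.assoc, Category.assoc, ← (sqR i).w, hm₁, hr₁]
      · rw [Category.assoc, Category.assoc, ← hj2, reassoc_of% hm₂, reassoc_of% (hr₂ s)]
  obtain ⟨R, μ, hμ⟩ := exists_iso_of_openCover Ri j (fun i => repWith_of_isPullback (sqP i) (hopen i))
    fun W y w => by
      obtain ⟨i, hi⟩ := hcov (Points.map (pullback.fst a b ≫ a) (Points.ofPt y w))
      exact ⟨i, (range_snd_of_isPullback (sqP i)).ge hi⟩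
  obtain ⟨r₂, hr₂⟩ := (yon S).map_surjective (μ ≫ pullback.snd a b)
  refine ⟨R, r₂, μ ≫ pullback.fst a b, IsPullback.of_iso_pullback ⟨?_⟩ (asIso μ) rfl hr₂.symm⟩
  rw [Category.assoc, pullback.condition, hr₂, Category.assoc]

/-- A sheaf with an open covering by algebraic spaces is an algebraic space. -/
theorem isAlgSpace_of_openCover (halg : ∀ i, IsAlgSpace (Fi i))
    (hopen : ∀ i, RepWith @IsOpenImmersion (f i))
    (hcov : ∀ x : Points F, ∃ i, x ∈ Set.range (Points.map (f i))) : IsAlgSpace F := by
  refine ⟨Functor.relativelyRepresentable.diag_of_map_from_obj fun T a =>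
    representable_of_openCover f halg hopen hcov a, ?_⟩
  choose Ui pi hpe hps using fun i => (halg i).atlas
  let V : ι → Scheme.{u} := fun i => (Ui i).left
  let U : Over S := Over.mk (Sigma.desc fun i => (Ui i).hom : (∐ V) ⟶ S)
  let κ : ∀ i, Ui i ⟶ U := fun i => Over.homMk (Sigma.ι V i) (Sigma.ι_desc _ _)
  have hκ : ∀ i, IsOpenImmersion (κ i).left := fun i => inferInstanceAs (IsOpenImmersion (Sigma.ι V i))
  have hcovU : ∀ u : U.left, ∃ i, u ∈ Set.range (κ i).left := fun u =>
    ⟨_, (sigmaOpenCover V).covers u⟩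
  obtain ⟨p, hp⟩ := exists_glue κ
    (ofArrows_mem_J _ (fun i => have := hκ i; inferInstance) (fun i => have := hκ i; inferInstance) hcovU)
    (fun i => pi i ≫ f i) (fun i i' W a b e => by
      by_cases hii : i = i'
      · subst hii
        have := hκ i
        have he : a.left = b.left := by
          rw [← cancel_mono (κ i).left, ← Over.comp_left, e, Over.comp_left]
        rw [Over.OverMorphism.ext he]
      · have : IsEmpty W.left := isEmpty_of_commSq_sigmaι_of_ne (g := V) ⟨congrArg CommaMorphism.left e⟩ hii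
        refine hom_ext_of_cover (κ := PEmpty.{u + 1}) (C := PEmpty.elim) (fun e => e.elim)
          (ofArrows_mem_J _ (fun e => e.elim) (fun e => e.elim) fun w => isEmptyElim w) fun e => e.elim)
  have hpr : Representable p := representable_of_openCover f halg hopen hcov p
  refine ⟨U, p, ⟨hpr, fun T W g fst snd sq => ?_⟩, repWith_surjective_of_map hpr fun x => ?_⟩
  · obtain ⟨fst, rfl⟩ := (yon S).map_surjective fst
    change Etale snd.left
    have hcovW : ∀ w : W.left, ∃ i, w ∈ Set.range (pullback.snd (κ i) fst).left := fun w => by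
      obtain ⟨i, z, hz⟩ := hcovU (fst.left w)
      obtain ⟨v, -, hv⟩ := Scheme.exists_preimage_of_isPullback
        ((IsPullback.of_hasPullback (κ i) fst).map (Over.forget S)) z w hz
      exact ⟨i, v, hv⟩
    have hop : ∀ i, IsOpenImmersion (pullback.snd (κ i) fst).left := fun i =>
      MorphismProperty.of_isPullback ((IsPullback.of_hasPullback (κ i) fst).map (Over.forget S)) (hκ i)
    have het : ∀ i, Etale ((pullback.snd (κ i) fst ≫ snd).left) := fun i => by
      have sqi : IsPullback ((yon S).map (pullback.fst (κ i) fst))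
          ((yon S).map (pullback.snd (κ i) fst ≫ snd)) (pi i ≫ f i) g := by
        rw [← hp i, Functor.map_comp]
        exact ((IsPullback.of_hasPullback (κ i) fst).map (yon S)).paste_vert sq
      exact (repWith_comp (hpe i) (repWith_le (fun _ _ k (_ : IsOpenImmersion k) => inferInstanceAs (Etale k))
        (hopen i))).2 _ _ _ sqi
    let 𝒰 : W.left.OpenCover := Scheme.Cover.mkOfCovers (P := @IsOpenImmersion) ι _
      (fun i => (pullback.snd (κ i) fst).left) hcovW hop
    exact IsZariskiLocalAtSource.of_openCover 𝒰 fun i => het i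
  · obtain ⟨i, y, rfl⟩ := hcov x
    obtain ⟨z, rfl⟩ := surjective_map_of_repWith le_rfl (hps i) y
    exact ⟨Points.map ((yon S).map (κ i)) z, by rw [← Points.map_comp, hp, Points.map_comp]⟩

end Groth.Agent.H12AlgSp
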