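import Groth.Agent.H12AlgSp.Coprod
import Groth.Agent.H12AlgSp.OpenCover
import Groth.Agent.H12AlgSp.QC
import Groth.Agent.H12AlgSp.AffineMor

/-!
Coproducts of algebraic spaces.
-/

universe u

open CategoryTheory CategoryTheory.Limits AlgebraicGeometry Opposite Topology
open AlgSp Groth.Agent.H13AlgSp

namespace Groth.Agent.H12AlgSp

variable {S : Scheme.{u}} {ι : Type u} {F : ι → Sp S} {c : Cofan F}

theorem repWith_open_inj (hc : IsColimit c) (i : ι) : RepWith @IsOpenImmersion (c.inj i) :=
  repWith_le inf_le_left (Coprod.repWith_inj hc i)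

theorem repWith_closed_inj (hc : IsColimit c) (i : ι) : RepWith @IsClosedImmersion (c.inj i) :=
  repWith_le inf_le_right (Coprod.repWith_inj hc i)

theorem exists_point_summand (hc : IsColimit c) (x : Points c.pt) :
    ∃ i, x ∈ Set.range (Points.map (c.inj i)) := by
  induction x using Points.ind with | h p => ?_
  obtain ⟨κ, C, g, idx, -, -, hs, hl⟩ := Coprod.exists_local_lift hc p.toHom
  obtain ⟨k, z, hz⟩ := hs (IsLocalRing.closedPoint p.K)
  obtain ⟨l, hl⟩ := hl k
  refine ⟨idx k, Points.ofPt l z, ?_⟩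
  rw [Points.map_ofPt, hl, ofPt_map, hz, Points.ofPt_toHom]

theorem isAlgSpace_cofan (h : ∀ i, IsAlgSpace (F i)) (hc : IsColimit c) : IsAlgSpace c.pt :=
  isAlgSpace_of_openCover c.inj h (repWith_open_inj hc) (exists_point_summand hc)

theorem isAlgSpace_summand (h : IsAlgSpace c.pt) (hc : IsColimit c) (i : ι) : IsAlgSpace (F i) :=
  isAlgSpace_of_representable _ (repWith_open_inj hc i).1 h

theorem isAlgSpace_of_cofan_cover {G : Sp S} (f : ∀ i, F i ⟶ G) (halg : ∀ i, IsAlgSpace (F i))
    (hopen : ∀ i, RepWith @IsOpenImmersion (f i)) (hc : IsColimit c)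
    (hsurj : Sheaf.IsLocallySurjective (Cofan.IsColimit.desc hc f)) : IsAlgSpace G := by
  refine isAlgSpace_of_openCover f halg hopen fun x => ?_
  induction x using Points.ind with | h p => ?_
  obtain ⟨κ, C, g, -, -, hs, hl⟩ := exists_local_lifts hsurj p.toHom
  obtain ⟨k, z, hz⟩ := hs (IsLocalRing.closedPoint p.K)
  obtain ⟨l, hl⟩ := hl k
  obtain ⟨i, y, hy⟩ := exists_point_summand hc (Points.ofPt l z)
  refine ⟨i, y, ?_⟩
  rw [← Cofan.IsColimit.fac hc f i, Points.map_comp, hy, Points.map_ofPt, hl, ofPt_map, hz,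
    Points.ofPt_toHom]

/-- A binary coproduct as a coproduct over a type in any universe. -/
theorem exists_cofan_of_binary {A B : Sp S} (c : BinaryCofan A B) (hc : IsColimit c) :
    ∃ (d : Cofan (fun b : ULift.{u} Bool => if b.down then A else B)) (_ : IsColimit d)
      (e : d.pt = c.pt), d.inj ⟨true⟩ ≫ eqToHom e = c.inl := by
  let d : Cofan (fun b : ULift.{u} Bool => if b.down then A else B) :=
    Cofan.mk c.pt fun b => match b with | ⟨true⟩ => c.inl | ⟨false⟩ => c.inr
  refine ⟨d, Cofan.IsColimit.mk _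
    (fun t => (BinaryCofan.IsColimit.desc' hc (t.inj ⟨true⟩) (t.inj ⟨false⟩)).1) ?_ ?_, rfl, Category.comp_id _⟩
  · intro t b
    match b with
    | ⟨true⟩ => exact (BinaryCofan.IsColimit.desc' hc _ _).2.1
    | ⟨false⟩ => exact (BinaryCofan.IsColimit.desc' hc _ _).2.2
  · intro t m hm
    apply BinaryCofan.IsColimit.hom_ext hc
    · exact (hm ⟨true⟩).trans (BinaryCofan.IsColimit.desc' hc _ _).2.1.symm
    · exact (hm ⟨false⟩).trans (BinaryCofan.IsColimit.desc' hc _ _).2.2.symm

theorem repWith_binary_inl {A B : Sp S} (c : BinaryCofan A B) (hc : IsColimit c) :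
    RepWith (@IsOpenImmersion ⊓ @IsClosedImmersion) c.inl := by
  obtain ⟨d, hd, e, he⟩ := exists_cofan_of_binary c hc
  rw [← he]
  exact MorphismProperty.RespectsIso.postcomp _ _ _ (Coprod.repWith_inj hd ⟨true⟩)

/-- A decomposition of a scheme as a coproduct of sheaves is a decomposition into open and closed subschemes. -/
theorem exists_decomposition {U : Over S} (hc : IsColimit c) (e : c.pt ≅ (yon S).obj U) :
    ∃ (V : ι → Over S) (g : ∀ i, V i ⟶ U) (ei : ∀ i, (yon S).obj (V i) ≅ F i),
      (∀ i, IsOpenImmersion (g i).left ∧ IsClosedImmersion (g i).left) ∧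
      (∀ i, (ei i).hom ≫ c.inj i ≫ e.hom = (yon S).map (g i)) ∧
      Nonempty (IsColimit (Cofan.mk U.left (fun i => (g i).left))) := by
  choose O l hO sq using fun i => Coprod.exists_isPullback_openIncl hc e.inv i
  have hl : ∀ i, IsIso (l i) := fun i => (sq i).isIso_fst_of_isIso
  refine ⟨fun i => openOver U (O i), fun i => openIncl U (O i), fun i => @asIso _ _ _ _ (l i) (hl i),
    fun i => ⟨inferInstanceAs (IsOpenImmersion (O i).ι), ?_⟩, fun i => ?_, ?_⟩
  · change IsClosedImmersion (O i).ι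
    refine IsClosedImmersion.of_isPreimmersion (O i).ι ?_
    rw [Scheme.Opens.range_ι]
    exact hO i
  · rw [asIso_hom, ← Category.assoc, (sq i).w, Category.assoc, e.inv_hom_id, Category.comp_id]
  · have : ∀ i, IsOpenImmersion (openIncl U (O i)).left := fun i => inferInstanceAs (IsOpenImmersion (O i).ι)
    refine nonempty_isColimit_cofanMk_of (fun i => (openIncl U (O i)).left)
      (le_antisymm le_top fun u _ => ?_) fun i j hij => ?_
    · obtain ⟨i, y, hy⟩ := exists_point_summand hc (Points.ofPt e.inv u)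
      refine TopologicalSpace.Opens.mem_iSup.2 ⟨i, ?_⟩
      obtain ⟨p, -, hp⟩ := exists_point_of_isPullback (sq i) y (Points.ofScheme U u)
        (by rw [hy, ← Points.ofPt_eq_map_ofScheme])
      obtain ⟨v, rfl⟩ := (Points.schemeEquiv _).surjective p
      refine ⟨v, (Points.schemeEquiv U).injective (Eq.trans ?_ hp)⟩
      change Points.ofScheme U _ = Points.map _ (Points.ofScheme _ v)
      rw [← Points.ofPt_eq_map_ofScheme, ← Category.comp_id ((yon S).map _), ofPt_map]
    · rw [Function.onFun, disjoint_iff, eq_bot_iff]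
      rintro u ⟨⟨a, ha⟩, ⟨b, hb⟩⟩
      let W : Over S := openOver U (O i ⊓ O j)
      have : IsEmpty W.left := Coprod.isEmpty_of_inj_eq hc hij
        (a := (yon S).map (openLE U inf_le_left) ≫ l i) (b := (yon S).map (openLE U inf_le_right) ≫ l j) (by
          rw [Category.assoc, Category.assoc, (sq i).w, (sq j).w, ← Functor.map_comp_assoc, openLE_incl,
            ← Functor.map_comp_assoc, openLE_incl])
      exact (this.false ⟨u, ha ▸ a.2, hb ▸ b.2⟩).elim

theorem isQuasiCompactSp_cofan [Finite ι] (h : ∀ i, IsAlgSpace (F i)) (hc : IsColimit c)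
    (hqc : ∀ i, IsQuasiCompactSp (F i)) : IsQuasiCompactSp c.pt := by
  refine (isQuasiCompactSp_iff (isAlgSpace_cofan h hc)).2 ⟨?_⟩
  rw [show (Set.univ : Set (Points c.pt)) = ⋃ i, Set.range (Points.map (c.inj i)) from
    (Set.eq_univ_of_forall fun x => Set.mem_iUnion.2 (exists_point_summand hc x)).symm]
  refine isCompact_iUnion fun i => ?_
  have := compactSpace_points_of_isQuasiCompactSp (hqc i)
  exact isCompact_range (Points.continuous_map _)

end Groth.Agent.H12AlgSp

namespace Groth.Agent.H12AlgSp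

theorem universallyClosed_of_finite_cover {R T : Scheme.{u}} (h : R ⟶ T) {κ : Type u} [Finite κ]
    {V : κ → Scheme.{u}} (v : ∀ i, V i ⟶ R) (hs : ∀ r : R, ∃ i, r ∈ Set.range (v i))
    (hv : ∀ i, UniversallyClosed (v i ≫ h)) : UniversallyClosed h := by
  constructor
  intro X' Y' i₁ i₂ f' sq
  change IsClosedMap f'
  intro Z hZ
  have : f' '' Z = ⋃ i, (pullback.snd (v i) i₁ ≫ f') '' (pullback.snd (v i) i₁ ⁻¹' Z) := by
    ext y
    simp only [Set.mem_iUnion, Set.mem_image]
    constructor
    · rintro ⟨x, hx, rfl⟩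
      obtain ⟨i, a, ha⟩ := hs (i₁ x)
      obtain ⟨z, -, hz⟩ := Scheme.exists_preimage_of_isPullback (IsPullback.of_hasPullback (v i) i₁) a x ha
      exact ⟨i, z, show pullback.snd (v i) i₁ z ∈ Z from hz.symm ▸ hx, by rw [Scheme.Hom.comp_apply, hz]⟩
    · rintro ⟨i, z, hz, rfl⟩
      exact ⟨_, hz, (Scheme.Hom.comp_apply _ _ _).symm⟩
  rw [this]
  refine isClosed_iUnion_of_finite fun i => ?_
  have hU : UniversallyClosed (pullback.snd (v i) i₁ ≫ f') :=
    MorphismProperty.of_isPullback ((IsPullback.of_hasPullback (v i) i₁).flip.paste_horiz sq).flip (hv i)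
  exact (pullback.snd (v i) i₁ ≫ f').isClosedMap _ (hZ.preimage (pullback.snd (v i) i₁).continuous)

theorem isFinite_of_disjoint_cover {R T : Scheme.{u}} (h : R ⟶ T) {κ : Type u} [Finite κ]
    {V : κ → Scheme.{u}} (v : ∀ i, V i ⟶ R) (hopen : ∀ i, IsOpenImmersion (v i))
    (hs : ∀ r : R, ∃ i, r ∈ Set.range (v i)) (hd : ∀ i i', i ≠ i' → Disjoint (Set.range (v i)) (Set.range (v i')))
    (hv : ∀ i, IsFinite (v i ≫ h)) : IsFinite h := by
  have hc := universallyClosed_of_finite_cover h v hs fun i => inferInstance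
  have haff : IsAffineHom h := ⟨fun W hW => by
    have e : h ⁻¹ᵁ W = ⨆ i, v i ''ᵁ ((v i ≫ h) ⁻¹ᵁ W) := by
      ext r
      simp only [TopologicalSpace.Opens.coe_iSup, Set.mem_iUnion, SetLike.mem_coe]
      constructor
      · intro hr
        obtain ⟨i, a, rfl⟩ := hs r
        exact ⟨i, a, hr, rfl⟩
      · rintro ⟨i, a, ha, rfl⟩
        exact ha
    rw [e]
    refine IsAffineOpen.iSup_of_disjoint (fun i => (hW.preimage (v i ≫ h)).image_of_isOpenImmersion (v i))
      fun i i' hii => ?_
    rw [Function.onFun, disjoint_iff, eq_bot_iff]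
    rintro r ⟨⟨a, -, ha⟩, ⟨b, -, hb⟩⟩
    exact (Set.disjoint_left.1 (hd i i' hii) ⟨a, ha⟩ ⟨b, hb⟩).elim⟩
  rw [IsFinite.iff_isIntegralHom_and_locallyOfFiniteType, IsIntegralHom.iff_universallyClosed_and_isAffineHom]
  refine ⟨⟨hc, haff⟩, ?_⟩
  exact IsZariskiLocalAtSource.of_openCover (P := @LocallyOfFiniteType)
    (Scheme.Cover.mkOfCovers (P := @IsOpenImmersion) κ _ v hs hopen) fun i =>
      (inferInstanceAs (LocallyOfFiniteType (v i ≫ h)))

variable {S : Scheme.{u}} {ι : Type u} {F : ι → Sp S} {c : Cofan F}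

theorem isFiniteMor_cofan_desc [Finite ι] (hc : IsColimit c) {Y : Sp S} (d : c.pt ⟶ Y)
    (hd : ∀ i, IsFiniteMor (c.inj i ≫ d)) : IsFiniteMor d := by
  have hd' := fun i => isFiniteMor_iff.1 (hd i)
  -- the pieces of a base change
  have key : ∀ ⦃T : Over S⦄ (g : (yon S).obj T ⟶ Y), ∃ (R : Over S) (h : R ⟶ T) (fst : (yon S).obj R ⟶ c.pt),
      IsPullback fst ((yon S).map h) d g ∧ IsFinite h.left := by
    intro T g
    choose Vi vi fi sqi using fun i => (hd' i).1 g
    let j : ∀ i, (yon S).obj (Vi i) ⟶ pullback d g := fun i =>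
      pullback.lift (fi i ≫ c.inj i) ((yon S).map (vi i)) (by rw [Category.assoc, (sqi i).w])
    have sqj : ∀ i, IsPullback (fi i) (j i) (c.inj i) (pullback.fst d g) := fun i =>
      IsPullback.of_bot (by rw [pullback.lift_snd]; exact sqi i) (pullback.lift_fst _ _ _).symm
        (IsPullback.of_hasPullback d g)
    have hjo : ∀ i, RepWith @IsOpenImmersion (j i) := fun i =>
      repWith_of_isPullback (sqj i) (repWith_open_inj hc i)
    obtain ⟨R, μ, hμ⟩ := exists_iso_of_openCover Vi j hjo fun W y w => by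
      obtain ⟨i, hi⟩ := exists_point_summand hc (Points.map (pullback.fst d g) (Points.ofPt y w))
      exact ⟨i, (range_snd_of_isPullback (sqj i)).ge hi⟩
    obtain ⟨h, hh⟩ := (yon S).map_surjective (μ ≫ pullback.snd d g)
    refine ⟨R, h, μ ≫ pullback.fst d g, IsPullback.of_iso_pullback ⟨?_⟩ (asIso μ) rfl hh.symm, ?_⟩
    · rw [Category.assoc, pullback.condition, hh, Category.assoc]
    choose v hv using fun i => (yon S).map_surjective (j i ≫ inv μ)
    have hvh : ∀ i, v i ≫ h = vi i := fun i => (yon S).map_injective (by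
      rw [Functor.map_comp, hv, hh, Category.assoc, IsIso.inv_hom_id_assoc, pullback.lift_snd])
    refine isFinite_of_disjoint_cover h.left (fun i => (v i).left) (fun i => ?_) (fun r => ?_)
      (fun i i' hii => ?_) fun i => ?_
    · refine (repWith_yon_map_iff @IsOpenImmersion (v i)).1 ?_
      rw [hv]
      exact MorphismProperty.RespectsIso.postcomp _ _ _ (hjo i)
    · obtain ⟨i, hi⟩ := exists_point_summand hc (Points.map (pullback.fst d g) (Points.ofPt μ r))
      obtain ⟨z, hz⟩ := (range_snd_of_isPullback (sqj i)).ge hi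
      obtain ⟨z, rfl⟩ := (Points.schemeEquiv (Vi i)).surjective z
      refine ⟨i, z, (Points.schemeEquiv R).injective (injective_map_of_mono μ ?_)⟩
      change Points.map μ (Points.ofScheme R _) = Points.map μ (Points.ofScheme R r)
      rw [← Points.ofPt_eq_map_ofScheme, ← Points.ofPt_eq_map_ofScheme μ r, ← ofPt_map, hv, Category.assoc,
        IsIso.inv_hom_id, Category.comp_id, ← hz]
      exact Points.ofPt_eq_map_ofScheme _ _
    · rw [Set.disjoint_left]
      rintro _ ⟨a, rfl⟩ ⟨b, hb⟩
      obtain ⟨W, p, q, sq⟩ : ∃ (W : Over S) (p : W ⟶ Vi i') (q : W ⟶ Vi i), IsPullback p q (v i') (v i) :=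
        ⟨pullback (v i') (v i), _, _, IsPullback.of_hasPullback _ _⟩
      obtain ⟨w, -, -⟩ := Scheme.exists_preimage_of_isPullback (sq.map (Over.forget S)) b a hb
      refine (Coprod.isEmpty_of_inj_eq hc hii (a := (yon S).map q ≫ fi i) (b := (yon S).map p ≫ fi i') ?_).false w
      have e := congrArg (fun m => (yon S).map m ≫ μ) sq.w
      simp only [Functor.map_comp, Category.assoc, hv, IsIso.inv_hom_id, Category.comp_id] at e
      rw [Category.assoc, Category.assoc, (sqj i).w, (sqj i').w, ← Category.assoc, ← Category.assoc, e]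
    · have := (hd' i).2 g _ (vi i) (sqi i)
      rw [← hvh i] at this
      exact this
  refine isFiniteMor_iff.2 (MorphismProperty.relative.of_exists fun T g => ?_)
  obtain ⟨R, h, fst, sq, hf⟩ := key g
  exact ⟨R, fst, h, sq, hf⟩

end Groth.Agent.H12AlgSp
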