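import Groth.Agent.H12AlgSp.GeomLift
import Groth.Agent.H12AlgSp.Bootstrap
import Groth.Agent.H17.Fibre
import Groth.Agent.H7Weight.GeomPts
import Mathlib.FieldTheory.IsAlgClosed.Classification

/-!
Lifting geometric points with values in large fields.
-/

universe u

open CategoryTheory CategoryTheory.Limits AlgebraicGeometry Opposite Cardinal
open AlgSp Groth.Agent.H13AlgSp

set_option backward.isDefEq.respectTransparency false

namespace Groth.Agent.H12AlgSp

/-- A small field extension embeds into an algebraically closed one. -/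
theorem exists_algHom_of_mk_lt {k L K : Type u} [Field k] [Field L] [Field K] [IsAlgClosed K] [Algebra k L]
    [Algebra k K] (h : #L < #K) : Nonempty (L →ₐ[k] K) := by
  obtain ⟨s, hs⟩ := exists_isTranscendenceBasis k L
  obtain ⟨t, ht⟩ := exists_isTranscendenceBasis k K
  have hst : #s ≤ #t := by
    by_contra hc
    have hc' : #t < #s := not_le.1 hc
    obtain ⟨⟨x, hx⟩⟩ : Nonempty s := mk_ne_zero_iff.1 (fun h0 => not_lt_zero (h0 ▸ hc'))
    have : Nonempty s := ⟨⟨x, hx⟩⟩
    have hinj := algebraicIndependent_iff_injective_aeval.1 hs.1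
    have : Infinite L := Infinite.of_injective _ hinj
    have hk : #k ≤ #L := mk_le_of_injective (algebraMap k L).injective
    have hs' : #s ≤ #L := mk_set_le s
    exact absurd (IsAlgClosed.cardinal_le_max_transcendence_basis' _ ht)
      (not_le.2 ((max_le (max_le hk (hc'.le.trans hs')) (aleph0_le_mk L)).trans_lt h))
  obtain ⟨g⟩ := hst
  have hy := ht.1.comp g g.injective
  let ψ := (MvPolynomial.aeval (R := k) ((Subtype.val : t → K) ∘ g)).comp hs.1.aevalEquiv.symm.toAlgHom
  have hψ : Function.Injective ψ :=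
    (algebraicIndependent_iff_injective_aeval.1 hy).comp hs.1.aevalEquiv.symm.injective
  let A := Algebra.adjoin k (Set.range (Subtype.val : s → L))
  letI : Algebra A K := ψ.toRingHom.toAlgebra
  have : FaithfulSMul A K := (faithfulSMul_iff_algebraMap_injective A K).2 hψ
  have : Algebra.IsAlgebraic A L := hs.isAlgebraic
  let φ : L →ₐ[A] K := IsAlgClosed.lift
  exact ⟨⟨φ.toRingHom, fun c => by
    show φ (algebraMap k L c) = _
    rw [IsScalarTower.algebraMap_apply k A L, φ.commutes]
    exact ψ.commutes c⟩⟩

theorem mk_lt_of_finite {F L : Type u} [Field F] [Field L] [Algebra F L] [Module.Finite F L] {c : Cardinal.{u}}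
    (h : #F < c) (hc : ℵ₀ ≤ c) : #L < c := by
  let b := Module.finBasis F L
  rw [b.equivFun.toEquiv.cardinal_eq, mk_arrow, mk_fin, lift_natCast, lift_uzero]
  rcases lt_or_ge #F ℵ₀ with hF | hF
  · exact (power_lt_aleph0 hF natCast_lt_aleph0).trans_le hc
  · exact (power_nat_le hF).trans_lt h

theorem finite_residueFieldMap_etale {X Y : Scheme.{u}} (f : X ⟶ Y) [Etale f] (x : X) :
    (f.residueFieldMap x).hom.Finite := by
  have := lqf_of_etale f
  refine Groth.Agent.H17.finite_residueFieldMap f x ?_
  have : DiscreteTopology (f.fiber (f x)) :=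
    have := (f.isDiscrete_preimage_singleton (f x)).to_subtype
    (f.fiberHomeo (f x)).symm.discreteTopology
  exact isClosed_discrete _

variable {S : Scheme.{u}}

/-- A point and a large geometric point with the same image come from a geometric point. -/
theorem exists_geometric_lift_large {X Y : Sp S} (hX : IsAlgSpace X) (hY : IsAlgSpace Y) (f : X ⟶ Y)
    {U : Over S} (a : (yon S).obj U ⟶ X) (ha : RepWith @Etale a) (has : RepWith @Surjective a)
    (ybar : FieldPt Y) (hy : ybar.IsGeometric)
    (hk : ∀ u : U.left, #(U.left.residueField u) < #ybar.K)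
    (x : Points X) (hx : Points.map f x = Points.mk ybar) :
    ∃ xbar : (yon S).obj ybar.pt ⟶ X, xbar ≫ f = ybar.toHom ∧
      Points.ofPt xbar (IsLocalRing.closedPoint ybar.K) = x := by
  have : IsAlgClosed ybar.K := hy
  obtain ⟨u, rfl⟩ := surjective_ofPt_of_repWith le_rfl has x
  obtain ⟨V, c, hc, hcs⟩ := hY.atlas
  obtain ⟨P, h₁, h₂', sq⟩ := hc.1 (a ≫ f)
  obtain ⟨h₂, rfl⟩ := (yon S).map_surjective h₂'
  have he : Etale h₁.left := hc.2 _ _ _ sq
  have : Surjective h₁.left := hcs.2 _ _ _ sq
  obtain ⟨p, hp⟩ := h₁.left.surjective u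
  have hv : Points.map c (Points.ofScheme V (h₂.left p)) = Points.mk ybar := by
    rw [← Points.ofPt_eq_map_ofScheme, ← hx, Points.map_ofPt, ← hp, ← ofPt_map, sq.w, ofPt_map]
  obtain ⟨vbar, hvc, hvp⟩ := exists_lift_geometric_point (IsAlgSpace.yon_obj V)
    (isEtaleMor_of_locP_etale hY (locP_of_repWith etLocal_etale hc)) ybar hy (Points.ofScheme V (h₂.left p)) hv
  obtain ⟨bv, rfl⟩ := (yon S).map_surjective vbar
  have hbv : bv.left (IsLocalRing.closedPoint ybar.K) = h₂.left p := by
    apply (Points.schemeEquiv V).injective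
    change Points.ofScheme V _ = Points.ofScheme V _
    rw [← hvp, ← Category.comp_id ((yon S).map bv), ofPt_map, Points.ofPt_eq_map_ofScheme, Points.map_id]
  obtain ⟨σ, hσ⟩ := Groth.Agent.H7Weight.exists_residue_hom bv.left hbv
  letI : Algebra (V.left.residueField (h₂.left p)) (P.left.residueField p) :=
    (h₂.left.residueFieldMap p).hom.toAlgebra
  letI : Algebra (V.left.residueField (h₂.left p)) ybar.K := σ.hom.toAlgebra
  have hsmall : #(P.left.residueField p) < #ybar.K := by
    letI : Algebra (U.left.residueField (h₁.left p)) (P.left.residueField p) :=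
      (h₁.left.residueFieldMap p).hom.toAlgebra
    have : Module.Finite (U.left.residueField (h₁.left p)) (P.left.residueField p) :=
      finite_residueFieldMap_etale h₁.left p
    exact mk_lt_of_finite (F := U.left.residueField (h₁.left p)) (hk _) (aleph0_le_mk ybar.K)
  obtain ⟨φ⟩ := exists_algHom_of_mk_lt (k := V.left.residueField (h₂.left p)) hsmall
  let τ : Spec (CommRingCat.of ybar.K) ⟶ P.left :=
    Spec.map (CommRingCat.ofHom φ.toRingHom) ≫ P.left.fromSpecResidueField p
  have hτ : τ ≫ h₂.left = bv.left := by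
    rw [← hσ, Category.assoc, ← h₂.left.SpecMap_residueFieldMap_fromSpecResidueField p, ← Category.assoc,
      ← Spec.map_comp]
    congr 2
    exact CommRingCat.hom_ext (RingHom.ext φ.commutes)
  let τo : ybar.pt ⟶ P := Over.homMk τ (by
    show τ ≫ P.hom = ybar.str
    rw [← Over.w h₂, ← Category.assoc, hτ]
    exact Over.w bv)
  have hτo : τo ≫ h₂ = bv := Over.OverMorphism.ext hτ
  refine ⟨(yon S).map (τo ≫ h₁) ≫ a, ?_, ?_⟩
  · rw [Category.assoc, Functor.map_comp, Category.assoc, ← sq.w, ← Category.assoc, ← Functor.map_comp, hτo, hvc]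
  · rw [ofPt_map, ← hp]
    show Points.ofPt a (h₁.left (P.left.fromSpecResidueField p _)) = _
    rw [Scheme.fromSpecResidueField_apply]

end Groth.Agent.H12AlgSp
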