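import Groth.Agent.H12AlgSp.GlueSheaf
import Groth.Agent.H13AlgSp.RelRep
import Groth.Agent.H13AlgSp.FlatEqualizer
import Mathlib.AlgebraicGeometry.ZariskisMainTheorem
import Mathlib.AlgebraicGeometry.QuasiAffine
import Mathlib.AlgebraicGeometry.Morphisms.Flat
import Mathlib.CategoryTheory.Sites.RegularEpi

/-!
Effective fppf descent for separated locally quasi-finite morphisms, phrased for sheaves.
-/

universe u

open CategoryTheory CategoryTheory.Limits AlgebraicGeometry Opposite Topology
open AlgSp Groth.Agent.H13AlgSp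

namespace Groth.Agent.H12AlgSp

variable {S : Scheme.{u}}

/-- A quasi-compact separated quasi-finite scheme over an affine one is quasi-affine. -/
theorem isQuasiAffine_of_lqf {X W : Scheme.{u}} [IsAffine W] [CompactSpace X] (b : X ⟶ W)
    [LocallyQuasiFinite b] [LocallyOfFiniteType b] [IsSeparated b] : X.IsQuasiAffine := by
  have : QuasiCompact b := (quasiCompact_iff_compactSpace b).2 ‹_›
  have : IsAffine b.normalization := isAffine_of_isAffineHom b.fromNormalization
  exact Scheme.IsQuasiAffine.of_isImmersion b.toNormalization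

/-- Flat base change of global sections of a quasi-compact quasi-separated scheme. -/
theorem isPushout_appTop_of_flat {X T W P : Scheme.{u}} [IsAffine T] [IsAffine W] [CompactSpace X]
    [QuasiSeparatedSpace X] {f : W ⟶ T} [Flat f] {g : P ⟶ X} {iX : X ⟶ T} {iY : P ⟶ W}
    (H : IsPullback g iY iX f) : IsPushout iX.appTop f.appTop g.appTop iY.appTop := by
  have := isIso_pushoutSection_of_isQuasiSeparated_of_flat_right H (US := ⊤) (UT := ⊤) (UX := ⊤) (UY := ⊤)
    le_top le_top (by simp) (isAffineOpen_top T) (isAffineOpen_top W)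
    (isCompact_univ (X := X)) (isQuasiSeparated_univ (α := X))
  have h := (isIso_pushoutSection_iff H (US := ⊤) (UT := ⊤) (UX := ⊤) (UY := ⊤) le_top le_top (by simp)).1 this
  simpa [Scheme.Hom.appLE, Scheme.Hom.appTop] using h

theorem cover_pullback {A T W : Over S} (g : A ⟶ T) (c : W ⟶ T) [Flat c.left] [Surjective c.left]
    [LocallyOfFinitePresentation c.left] :
    Sieve.ofArrows (fun _ : PUnit.{u + 1} => pullback g c) (fun _ => pullback.fst g c) ∈ J S A := by
  have sq := (IsPullback.of_hasPullback g c).map (Over.forget S)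
  refine ofArrows_mem_J _ (fun _ => MorphismProperty.of_isPullback sq.flip ‹Flat c.left›)
    (fun _ => MorphismProperty.of_isPullback sq.flip ‹LocallyOfFinitePresentation c.left›) fun a => ⟨⟨⟩, ?_⟩
  have : Surjective (pullback.fst g c).left := MorphismProperty.of_isPullback sq.flip ‹Surjective c.left›
  exact (pullback.fst g c).left.surjective a

/-- The descent of a quasi-affine scheme. -/
theorem exists_iso_of_quasiAffine {Q : Sp S} {T W Q' : Over S} [IsAffine T.left] [IsAffine W.left]
    (q : Q ⟶ (yon S).obj T) (c : W ⟶ T) [Flat c.left] [Surjective c.left]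
    [LocallyOfFinitePresentation c.left] (q' : (yon S).obj Q' ⟶ Q) (b' : Q' ⟶ W)
    (sqQ : IsPullback q' ((yon S).map b') q ((yon S).map c)) [Q'.left.IsQuasiAffine] :
    ∃ (GT : Over S) (μ : (yon S).obj GT ⟶ Q), IsIso μ ∧ GT.left.IsQuasiAffine := by
  let uu : Q' ⟶ T := b' ≫ c
  have huu : q' ≫ q = (yon S).map uu := by rw [sqQ.w, ← Functor.map_comp]
  let U' := pullback uu c
  let r₁ : U' ⟶ Q' := pullback.fst uu c
  let w₁ : U' ⟶ W := pullback.snd uu c
  obtain ⟨r₂, hr₂⟩ := (yon S).map_surjective (sqQ.lift ((yon S).map r₁ ≫ q') ((yon S).map w₁)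
    (by rw [Category.assoc, huu, ← Functor.map_comp, ← Functor.map_comp, pullback.condition]))
  have hr₂q : (yon S).map r₂ ≫ q' = (yon S).map r₁ ≫ q' := by rw [hr₂, sqQ.lift_fst]
  have hr₂b : r₂ ≫ b' = w₁ := (yon S).map_injective (by rw [Functor.map_comp, hr₂, sqQ.lift_snd])
  have hext : ∀ {A : Over S} {a a' : A ⟶ Q'},
      (yon S).map a ≫ q' = (yon S).map a' ≫ q' → a ≫ b' = a' ≫ b' → a = a' := fun {A a a'} e₁ e₂ =>
    (yon S).map_injective (sqQ.hom_ext e₁ (by rw [← Functor.map_comp, e₂, Functor.map_comp]))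
  let σ : Q' ⟶ U' := pullback.lift (𝟙 Q') b' (Category.id_comp _)
  have hσ : σ ≫ r₂ = 𝟙 Q' := hext (by
    rw [Functor.map_comp, Category.assoc, hr₂q, ← Category.assoc, ← Functor.map_comp, pullback.lift_fst])
    (by rw [Category.assoc, hr₂b, pullback.lift_snd, Category.id_comp])
  have hruu : r₁ ≫ uu = r₂ ≫ uu := (yon S).map_injective (by
    rw [(yon S).map_comp r₁, (yon S).map_comp r₂ uu, ← huu, ← reassoc_of% hr₂q])
  have sqU : IsPullback r₁.left w₁.left uu.left c.left := (IsPullback.of_hasPullback uu c).map (Over.forget S)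
  -- the second order base change
  let R' := pullback (r₁ ≫ uu) c
  let cR : R' ⟶ U' := pullback.fst (r₁ ≫ uu) c
  let wR : R' ⟶ W := pullback.snd (r₁ ≫ uu) c
  let p₁ : R' ⟶ U' := pullback.lift (cR ≫ r₁) wR (by rw [Category.assoc]; exact pullback.condition)
  let p₂ : R' ⟶ U' := pullback.lift (cR ≫ r₂) wR (by rw [Category.assoc, ← hruu]; exact pullback.condition)
  have hp : p₁ ≫ r₂ = p₂ ≫ r₂ := by
    refine hext ?_ (by rw [Category.assoc, Category.assoc, hr₂b, pullback.lift_snd, pullback.lift_snd])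
    rw [Functor.map_comp, Functor.map_comp, Category.assoc, Category.assoc, hr₂q, ← Category.assoc,
      ← Category.assoc, ← Functor.map_comp, ← Functor.map_comp, pullback.lift_fst, pullback.lift_fst,
      Functor.map_comp, Functor.map_comp, Category.assoc, Category.assoc, hr₂q]
  have sqR : IsPullback cR.left wR.left (r₁ ≫ uu).left c.left :=
    (IsPullback.of_hasPullback (r₁ ≫ uu) c).map (Over.forget S)
  have : IsAffineHom r₁.left := MorphismProperty.of_isPullback sqU.flip
    (inferInstanceAs (IsAffineHom c.left))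
  have : U'.left.IsQuasiAffine := Scheme.IsQuasiAffine.of_isAffineHom r₁.left
  -- the affine envelope
  let A₀ := RingHom.eqLocus r₁.left.appTop.hom r₂.left.appTop.hom
  let ι₀ : CommRingCat.of A₀ ⟶ Γ(Q'.left, ⊤) := CommRingCat.ofHom A₀.subtype
  have hruu' : r₁.left ≫ uu.left = r₂.left ≫ uu.left := congrArg (fun f => Over.Hom.left f) hruu
  let α₀ : Γ(T.left, ⊤) ⟶ CommRingCat.of A₀ :=
    CommRingCat.ofHom (uu.left.appTop.hom.codRestrict A₀ fun x => congr(($(hruu')).appTop.hom x))
  have hαι : α₀ ≫ ι₀ = uu.left.appTop := rfl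
  let z₀ : Spec (CommRingCat.of A₀) ⟶ T.left := Spec.map α₀ ≫ T.left.isoSpec.inv
  let Z₀ : Over S := Over.mk (z₀ ≫ T.hom)
  let z : Z₀ ⟶ T := Over.homMk z₀ rfl
  let u₀' : Q'.left ⟶ Spec (CommRingCat.of A₀) := Q'.left.toSpecΓ ≫ Spec.map ι₀
  have hu₀z : u₀' ≫ z₀ = uu.left := by
    simp only [u₀', z₀, Category.assoc]
    rw [← Spec.map_comp_assoc, hαι, ← Scheme.toSpecΓ_naturality_assoc]
    simp [Scheme.isoSpec]
  let u₀ : Q' ⟶ Z₀ := Over.homMk u₀' (by
    change u₀' ≫ z₀ ≫ T.hom = Q'.hom
    rw [reassoc_of% hu₀z]; exact Over.w uu)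
  have hu₀ : u₀ ≫ z = uu := Over.OverMorphism.ext hu₀z
  have happ : u₀'.appTop = (Scheme.ΓSpecIso (CommRingCat.of A₀)).hom ≫ ι₀ := by
    rw [Scheme.Hom.comp_appTop, Scheme.toSpecΓ_appTop, Scheme.ΓSpecIso_naturality]
  have hinj : Function.Injective u₀.left.appTop.hom := by
    rw [show u₀.left.appTop = u₀'.appTop from rfl, happ, CommRingCat.hom_comp, RingHom.coe_comp]
    exact Subtype.val_injective.comp
      (ConcreteCategory.bijective_of_isIso (Scheme.ΓSpecIso (CommRingCat.of A₀)).hom).injective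
  have hrange : ∀ x, r₁.left.appTop.hom x = r₂.left.appTop.hom x ↔ x ∈ Set.range u₀.left.appTop.hom := by
    intro x
    rw [show u₀.left.appTop = u₀'.appTop from rfl, happ, CommRingCat.hom_comp, RingHom.coe_comp, Set.range_comp,
      (ConcreteCategory.bijective_of_isIso (Scheme.ΓSpecIso (CommRingCat.of A₀)).hom).surjective.range_eq,
      Set.image_univ]
    exact ⟨fun h => ⟨⟨x, h⟩, rfl⟩, by rintro ⟨⟨y, hy⟩, rfl⟩; exact hy⟩
  have hru : r₁ ≫ u₀ = r₂ ≫ u₀ := Over.OverMorphism.ext (ext_of_isAffine (Y := Spec (CommRingCat.of A₀)) (by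
    ext x
    exact (hrange _).2 ⟨x, rfl⟩))
  have : IsAffine Z₀.left := inferInstanceAs (IsAffine (Spec (CommRingCat.of A₀)))
  let P₁ := pullback z c
  have sqA : IsPullback (pullback.fst z c).left (pullback.snd z c).left z.left c.left :=
    (IsPullback.of_hasPullback z c).map (Over.forget S)
  have : IsAffine P₁.left := IsAffine.of_isIso sqA.isoPullback.hom
  let φ : Q' ⟶ P₁ := pullback.lift u₀ b' (by rw [hu₀])
  let v : U' ⟶ P₁ := pullback.lift (r₁ ≫ u₀) w₁ (by rw [Category.assoc, hu₀, pullback.condition])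
  have hv : r₂ ≫ φ = v := by
    apply pullback.hom_ext
    · rw [Category.assoc, pullback.lift_fst, pullback.lift_fst, hru]
    · rw [Category.assoc, pullback.lift_snd, pullback.lift_snd, hr₂b]
  have eL : ∀ {A B C : Over S} {f : A ⟶ B} {g : B ⟶ C} {h : A ⟶ C}, f ≫ g = h →
      g.left.appTop ≫ f.left.appTop = h.left.appTop := fun e => by
    rw [← Scheme.Hom.comp_appTop, ← Over.comp_left, e]
  obtain ⟨hinj', hrange'⟩ := injective_and_range_of_flat (r := c.left.appTop) c.left.flat_appTop
    (isPushout_appTop_of_isPullback sqA).flip (isPushout_appTop_of_flat sqU).flip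
    (isPushout_appTop_of_flat sqR).flip
    (ι := u₀.left.appTop) (eL hu₀) (f := r₁.left.appTop) (g := r₂.left.appTop) (eL rfl) (eL hruu.symm)
    hinj hrange
    (ι' := v.left.appTop) (eL (pullback.lift_snd _ _ _))
    (by rw [eL (f := v) (pullback.lift_fst _ _ _), eL rfl])
    (f' := p₁.left.appTop) (g' := p₂.left.appTop) (eL (pullback.lift_snd _ _ _))
    (by rw [eL (f := p₁) (pullback.lift_fst _ _ _), eL rfl])
    (eL (pullback.lift_snd _ _ _))
    (by rw [eL (f := p₂) (pullback.lift_fst _ _ _), eL rfl])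
  have hr₂inj : Function.Injective r₂.left.appTop.hom :=
    Function.LeftInverse.injective (g := σ.left.appTop.hom) fun x => by
      have h := eL hσ
      rw [Over.id_left, Scheme.Hom.id_appTop] at h
      exact congr($(h).hom x)
  have hvφ : φ.left.appTop ≫ r₂.left.appTop = v.left.appTop := eL hv
  have hbij : Function.Bijective φ.left.appTop.hom := by
    refine ⟨fun a b e => hinj' ?_, fun x => ?_⟩
    · rw [← hvφ]
      exact congrArg r₂.left.appTop.hom e
    · obtain ⟨y, hy⟩ := hrange' (r₂.left.appTop.hom x) congr($((eL rfl).trans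
        ((congrArg (fun t : R' ⟶ Q' => t.left.appTop) hp).trans (eL rfl).symm)).hom x)
      refine ⟨y, hr₂inj ?_⟩
      rw [← hy, ← hvφ]
      rfl
  have : IsIso φ.left.appTop := (ConcreteCategory.isIso_iff_bijective _).2 hbij
  have hφo : IsOpenImmersion φ.left := by
    have e : φ.left = Q'.left.toSpecΓ ≫ Spec.map φ.left.appTop ≫ P₁.left.isoSpec.inv := by
      rw [← Scheme.toSpecΓ_naturality_assoc]
      simp [Scheme.isoSpec]
    rw [e]
    infer_instance
  -- the image is saturated
  have sqV : IsPullback r₁.left v.left u₀.left (pullback.fst z c).left := by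
    refine IsPullback.of_bot ?_ ?_ sqA
    · rw [show v.left ≫ (pullback.snd z c).left = w₁.left from
        congrArg (fun t => Over.Hom.left t) (pullback.lift_snd _ _ _ : v ≫ pullback.snd z c = w₁)]
      rw [← Over.comp_left, hu₀]
      exact sqU
    · exact congrArg (fun t => Over.Hom.left t) (pullback.lift_fst _ _ _ : v ≫ pullback.fst z c = r₁ ≫ u₀).symm
  have hfo : UniversallyOpen (pullback.fst z c).left := by
    have : Flat (pullback.fst z c).left := MorphismProperty.of_isPullback sqA.flip ‹Flat c.left›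
    have : LocallyOfFinitePresentation (pullback.fst z c).left :=
      MorphismProperty.of_isPullback sqA.flip ‹LocallyOfFinitePresentation c.left›
    infer_instance
  let O : Z₀.left.Opens := ⟨(pullback.fst z c).left '' (φ.left.opensRange : Set P₁.left),
    (pullback.fst z c).left.isOpenMap _ φ.left.opensRange.2⟩
  have hsat : ∀ x : P₁.left, (pullback.fst z c).left x ∈ O → x ∈ Set.range φ.left := by
    rintro x ⟨_, ⟨a, rfl⟩, e⟩
    have ea : u₀.left a = (pullback.fst z c).left x := by
      rw [← e, ← Scheme.Hom.comp_apply, ← Over.comp_left, pullback.lift_fst]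
    obtain ⟨p, -, hp'⟩ := Scheme.exists_preimage_of_isPullback sqV a x ea
    refine ⟨r₂.left p, ?_⟩
    rw [← hp', ← hv]
    rfl
  let Zq := openOver Z₀ O
  let jO : Zq ⟶ Z₀ := openIncl Z₀ O
  have hOι : IsOpenImmersion (Scheme.Opens.ι O) := Scheme.Opens.instIsOpenImmersionι O
  have hjO : Mono jO := (Over.forget S).mono_of_mono_map (inferInstanceAs (Mono O.ι))
  have hfac : ∀ {A : Over S} (a : A ⟶ Z₀), Set.range a.left ⊆ (O : Set Z₀.left) → ∃ a' : A ⟶ Zq, a' ≫ jO = a := by
    intro A a ha
    have hsub : Set.range a.left ⊆ Set.range O.ι := by rwa [Scheme.Opens.range_ι]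
    have hlift : ∀ {X Y Z : Scheme.{u}} (f : X ⟶ Z) (g : Y ⟶ Z), IsOpenImmersion f →
        Set.range g ⊆ Set.range f → ∃ k : Y ⟶ X, k ≫ f = g := fun f g hf h =>
      have := hf
      ⟨IsOpenImmersion.lift f g h, IsOpenImmersion.lift_fac f g h⟩
    obtain ⟨k, hk⟩ := hlift O.ι a.left hOι hsub
    refine ⟨Over.homMk (U := A) (V := Zq) k ?_, Over.OverMorphism.ext hk⟩
    change k ≫ O.ι ≫ Z₀.hom = A.hom
    rw [reassoc_of% hk]
    exact Over.w a
  obtain ⟨u₁, hu₁⟩ := hfac u₀ (by
    rintro _ ⟨a, rfl⟩
    refine ⟨φ.left a, ⟨a, rfl⟩, ?_⟩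
    rw [← Scheme.Hom.comp_apply, ← Over.comp_left, pullback.lift_fst])
  have hru₁ : r₁ ≫ u₁ = r₂ ≫ u₁ := by
    rw [← cancel_mono jO, Category.assoc, Category.assoc, hu₁, hru]
  -- lifts to the cover
  have hcov : ∀ {A : Over S} (y : (yon S).obj A ⟶ Q) {g : A ⟶ T}, (yon S).map g = y ≫ q →
      ∃ l : pullback g c ⟶ Q', (yon S).map l ≫ q' = (yon S).map (pullback.fst g c) ≫ y ∧
        l ≫ b' = pullback.snd g c := by
    intro A y g hg
    obtain ⟨l, hl⟩ := (yon S).map_surjective (sqQ.lift ((yon S).map (pullback.fst g c) ≫ y)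
      ((yon S).map (pullback.snd g c))
      (by rw [Category.assoc, ← hg, ← Functor.map_comp, ← Functor.map_comp, pullback.condition]))
    exact ⟨l, by rw [hl, sqQ.lift_fst], (yon S).map_injective (by rw [Functor.map_comp, hl, sqQ.lift_snd])⟩
  have hepi : Epi q' := epi_of_local_lifts q' fun A y => by
    obtain ⟨g, hg⟩ := (yon S).map_surjective (y ≫ q)
    obtain ⟨l, hl, -⟩ := hcov y hg
    exact ⟨_, _, _, cover_pullback g c, fun _ => ⟨_, hl⟩⟩
  have : EffectiveEpi q' := by
    have := IsRegularEpiCategory.regularEpiOfEpi q'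
    infer_instance
  let κ : Q ⟶ (yon S).obj Zq := EffectiveEpi.desc q' ((yon S).map u₁) fun {A} g₁ g₂ e => hom_ext_yon fun B y => by
    obtain ⟨a₁, ha₁⟩ := (yon S).map_surjective (y ≫ g₁)
    obtain ⟨a₂, ha₂⟩ := (yon S).map_surjective (y ≫ g₂)
    have hq : (yon S).map a₁ ≫ q' = (yon S).map a₂ ≫ q' := by rw [ha₁, ha₂, Category.assoc, Category.assoc, e]
    let k : B ⟶ U' := pullback.lift a₁ (a₂ ≫ b') (by
      refine (yon S).map_injective ?_
      rw [Category.assoc, (yon S).map_comp a₁, (yon S).map_comp a₂ uu, ← huu, reassoc_of% hq])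
    have hk : k ≫ r₂ = a₂ := hext (by
      rw [Functor.map_comp, Category.assoc, hr₂q, ← Category.assoc, ← Functor.map_comp, pullback.lift_fst, hq])
      (by rw [Category.assoc, hr₂b, pullback.lift_snd])
    rw [← Category.assoc, ← ha₁, ← Category.assoc, ← ha₂, ← Functor.map_comp, ← Functor.map_comp, ← hk,
      Category.assoc, ← hru₁, pullback.lift_fst_assoc]
  have hκ : q' ≫ κ = (yon S).map u₁ := EffectiveEpi.fac _ _ _
  have hκq : κ ≫ (yon S).map (jO ≫ z) = q := by
    rw [← cancel_epi q', reassoc_of% hκ, ← Functor.map_comp, reassoc_of% hu₁, hu₀, huu]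
  have : Mono κ := mono_of_yon fun A a b e => by
    have eq : a ≫ q = b ≫ q := by rw [← hκq, reassoc_of% e]
    obtain ⟨g, hg⟩ := (yon S).map_surjective (a ≫ q)
    obtain ⟨la, hla, hla'⟩ := hcov a hg
    obtain ⟨lb, hlb, hlb'⟩ := hcov b (g := g) (hg.trans eq)
    refine hom_ext_of_cover _ (cover_pullback g c) fun _ => ?_
    rw [← hla, ← hlb]
    have : Mono φ := (Over.forget S).mono_of_mono_map (inferInstanceAs (Mono φ.left))
    refine congrArg (fun t => (yon S).map t ≫ q') ((cancel_mono φ).1 (pullback.hom_ext ?_ ?_))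
    · rw [Category.assoc, Category.assoc, pullback.lift_fst, ← hu₁, ← Category.assoc, ← Category.assoc]
      refine congrArg (· ≫ jO) ((yon S).map_injective ?_)
      rw [Functor.map_comp, Functor.map_comp, ← hκ, reassoc_of% hla, reassoc_of% hlb, e]
    · rw [Category.assoc, Category.assoc, pullback.lift_snd, hla', hlb']
  have : IsIso κ := isIso_of_mono_of_local_lifts κ fun A y => by
    obtain ⟨y, rfl⟩ := (yon S).map_surjective y
    refine ⟨_, _, _, cover_pullback (y ≫ jO ≫ z) c, fun _ => ?_⟩
    let y' : pullback (y ≫ jO ≫ z) c ⟶ P₁ := pullback.lift (pullback.fst _ _ ≫ y ≫ jO)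
      (pullback.snd _ _) (by simpa only [Category.assoc] using pullback.condition)
    have hsub : Set.range y'.left ⊆ Set.range φ.left := by
      rintro _ ⟨a, rfl⟩
      refine hsat _ ?_
      rw [← Scheme.Hom.comp_apply, ← Over.comp_left, pullback.lift_fst]
      exact (y.left ((pullback.fst _ _ : pullback (y ≫ jO ≫ z) c ⟶ A).left a)).2
    let l : pullback (y ≫ jO ≫ z) c ⟶ Q' := Over.homMk (IsOpenImmersion.lift φ.left y'.left hsub) (by
      rw [← Over.w φ, IsOpenImmersion.lift_fac_assoc]
      exact Over.w y')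
    have hl : l ≫ φ = y' := Over.OverMorphism.ext (IsOpenImmersion.lift_fac _ _ _)
    refine ⟨(yon S).map l ≫ q', ?_⟩
    rw [Category.assoc, hκ, ← Functor.map_comp, ← Functor.map_comp]
    refine congrArg (yon S).map ((cancel_mono jO).1 ?_)
    have h := congrArg (· ≫ pullback.fst z c) hl
    simp only [Category.assoc, φ, y', pullback.lift_fst] at h
    rw [Category.assoc, hu₁, h, Category.assoc]
  have : CompactSpace (O : Scheme) := isCompact_iff_compactSpace.1
    ((isCompact_range φ.left.continuous).image (pullback.fst z c).left.continuous)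
  have hqa : ∀ {X Y : Scheme.{u}} (f : X ⟶ Y), IsOpenImmersion f → IsAffine Y → CompactSpace X →
      X.IsQuasiAffine := fun f hf hY hX => have := hf; have := hY; have := hX; Scheme.IsQuasiAffine.of_isImmersion f
  exact ⟨Zq, inv κ, inferInstance, hqa O.ι hOι inferInstance ‹CompactSpace (O : Scheme)›⟩

/-- Effective descent of a separated locally quasi-finite scheme along an affine fppf cover of an affine. -/
theorem exists_iso_of_lqf_affine {Q : Sp S} {T W Q' : Over S} [IsAffine T.left] [IsAffine W.left]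
    (q : Q ⟶ (yon S).obj T) (c : W ⟶ T) [Flat c.left] [Surjective c.left]
    [LocallyOfFinitePresentation c.left] (q' : (yon S).obj Q' ⟶ Q) (b' : Q' ⟶ W)
    (sqQ : IsPullback q' ((yon S).map b') q ((yon S).map c)) [LocallyQuasiFinite b'.left]
    [LocallyOfFiniteType b'.left] [IsSeparated b'.left] :
    ∃ (GT : Over S) (μ : (yon S).obj GT ⟶ Q), IsIso μ := by
  have hc : ∀ {P : MorphismProperty Scheme.{u}} [P.IsStableUnderBaseChange], P c.left → RepWith P q' :=
    fun h => repWith_of_isPullback sqQ.flip ((repWith_yon_map_iff _ _).2 h)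
  have hqo : RepWith @UniversallyOpen q' := hc (inferInstance : UniversallyOpen c.left)
  have hqs : RepWith @Surjective q' := hc ‹Surjective c.left›
  have hqq : RepWith @QuasiCompact q' := hc (inferInstance : QuasiCompact c.left)
  let W₀ : Q'.left.affineOpens → Set (Points Q) := fun V => Points.ofPt q' '' (V.1 : Set Q'.left)
  have hW₀ : ∀ V, IsOpen (W₀ V) := fun V => isOpenMap_ofPt_of_repWith le_rfl hqo _ V.1.2
  have key : ∀ V, ∃ (GT : Over S) (j : (yon S).obj GT ⟶ Q), RepWith @IsOpenImmersion j ∧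
      W₀ V ⊆ Set.range (Points.map j) := by
    intro V
    obtain ⟨P, p₁, k, sqP⟩ := hqo.rep q'
    obtain ⟨k, rfl⟩ := (yon S).map_surjective k
    have hk : QuasiCompact k.left := hqq.property _ _ k sqP.flip
    have hcpt : IsCompact (Points.ofPt q' ⁻¹' W₀ V) := by
      have e : W₀ V = Points.map q' '' (Points.schemeHomeo Q' '' (V.1 : Set Q'.left)) := by
        rw [Set.image_image]
        exact Set.image_congr fun x _ => Points.ofPt_eq_map_ofScheme q' x
      rw [e, preimage_ofPt_image sqP]
      refine IsCompact.image ?_ p₁.left.continuous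
      have e2 : Points.ofPt ((yon S).map k) ⁻¹' (Points.schemeHomeo Q' '' (V.1 : Set Q'.left)) =
            k.left ⁻¹' V.1 := by
        ext a
        rw [Set.mem_preimage, Set.mem_preimage, ← Category.comp_id ((yon S).map k), ofPt_map]
        exact (Points.schemeHomeo Q').injective.mem_set_image
      rw [e2]
      exact k.left.isCompact_preimage V.2.isCompact
    obtain ⟨W', w, l, sq⟩ := (repWith_openSubι (hW₀ V)).rep q'
    have hwo : IsOpenImmersion w.left := (repWith_openSubι (hW₀ V)).property _ _ _ sq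
    have hrw : Set.range w.left = Points.ofPt q' ⁻¹' W₀ V := by
      refine Set.Subset.antisymm ?_ fun x hx => ?_
      · rintro _ ⟨a, rfl⟩
        rw [Set.mem_preimage, ← ofPt_map, ← sq.w]
        exact ofPt_openSubι_mem _ a
      · let O : Q'.left.Opens := ⟨Points.ofPt q' ⁻¹' W₀ V, (hW₀ V).preimage (Points.continuous_ofPt q')⟩
        obtain ⟨lO, hlO⟩ := exists_openSub_lift (W := W₀ V) ((yon S).map (openIncl Q' O) ≫ q')
          (fun a => by rw [ofPt_map]; exact a.2)
        obtain ⟨m, -, hm⟩ := sq.exists_lift lO ((yon S).map (openIncl Q' O)) hlO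
        obtain ⟨m, rfl⟩ := (yon S).map_surjective m
        refine ⟨m.left ⟨x, hx⟩, ?_⟩
        rw [← Scheme.Hom.comp_apply, ← Over.comp_left, (yon S).map_injective
          (((yon S).map_comp m w).trans hm)]
        rfl
    have : CompactSpace W'.left := by
      rw [← isCompact_univ_iff, w.left.isOpenEmbedding.isEmbedding.isCompact_iff, Set.image_univ, hrw]
      exact hcpt
    have : LocallyQuasiFinite (w ≫ b').left := inferInstanceAs (LocallyQuasiFinite (w.left ≫ b'.left))
    have : LocallyOfFiniteType (w ≫ b').left := inferInstanceAs (LocallyOfFiniteType (w.left ≫ b'.left))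
    have : IsSeparated (w ≫ b').left := inferInstanceAs (IsSeparated (w.left ≫ b'.left))
    have : W'.left.IsQuasiAffine := isQuasiAffine_of_lqf (w ≫ b').left
    obtain ⟨GT, μ, hμ, -⟩ := exists_iso_of_quasiAffine (openSubι (W₀ V) ≫ q) c l (w ≫ b')
      (by simpa only [Functor.map_comp] using sq.paste_vert sqQ)
    refine ⟨GT, μ ≫ openSubι (W₀ V), repWith_comp (repWith_of_isIso _) (repWith_openSubι (hW₀ V)), ?_⟩
    rintro _ ⟨x, hx, rfl⟩
    have hxw : x ∈ Set.range w.left := hrw.ge ⟨x, hx, rfl⟩
    obtain ⟨a, rfl⟩ := hxw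
    refine ⟨Points.map (inv μ) (Points.ofPt l a), ?_⟩
    rw [← Points.map_comp, IsIso.inv_hom_id_assoc, Points.map_ofPt, sq.w, ofPt_map]
  choose GT j hj hjW using key
  refine exists_iso_of_openCover GT j hj fun A y t => ?_
  obtain ⟨x, hx⟩ := surjective_ofPt_of_repWith le_rfl hqs (Points.ofPt y t)
  obtain ⟨V, hV⟩ := TopologicalSpace.Opens.mem_iSup.1 ((iSup_affineOpens_eq_top Q'.left).ge (Set.mem_univ x))
  exact ⟨V, hjW V ⟨x, hV, hx⟩⟩

/-- Effective descent of separated locally quasi-finite schemes along flat surjective morphisms locally of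
finite presentation: a sheaf over a scheme is representable as soon as its base change is. -/
theorem exists_iso_of_lqf {Q : Sp S} {T W Q' : Over S}
    (q : Q ⟶ (yon S).obj T) (c : W ⟶ T) [Flat c.left] [Surjective c.left]
    [LocallyOfFinitePresentation c.left] (q' : (yon S).obj Q' ⟶ Q) (b' : Q' ⟶ W)
    (sqQ : IsPullback q' ((yon S).map b') q ((yon S).map c)) [LocallyQuasiFinite b'.left]
    [LocallyOfFiniteType b'.left] [IsSeparated b'.left] :
    ∃ (GT : Over S) (γ : GT ⟶ T) (μ : (yon S).obj GT ⟶ Q), IsIso μ ∧ μ ≫ q = (yon S).map γ := by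
  refine exists_iso_of_local_rep q fun V => ?_
  let j := openIncl T V.1
  have : IsAffine (openOver T V.1).left := V.2
  let P := pullback c j
  have sqP : IsPullback (pullback.fst c j).left (pullback.snd c j).left c.left j.left :=
    (IsPullback.of_hasPullback c j).map (Over.forget S)
  have : Flat (pullback.snd c j).left := MorphismProperty.of_isPullback sqP ‹Flat c.left›
  have : Surjective (pullback.snd c j).left := MorphismProperty.of_isPullback sqP ‹Surjective c.left›
  have : LocallyOfFinitePresentation (pullback.snd c j).left :=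
    MorphismProperty.of_isPullback sqP ‹LocallyOfFinitePresentation c.left›
  obtain ⟨s, hs⟩ := isCompact_univ.elim_finite_subcover
    (fun A : P.left.affineOpens => (pullback.snd c j).left '' (A.1 : Set P.left))
    (fun A => (pullback.snd c j).left.isOpenMap _ A.1.isOpen)
    (fun x _ => by
      obtain ⟨y, rfl⟩ := (pullback.snd c j).left.surjective x
      obtain ⟨A, hA⟩ := TopologicalSpace.Opens.mem_iSup.1 ((iSup_affineOpens_eq_top P.left).ge (Set.mem_univ y))
      exact Set.mem_iUnion.2 ⟨A, y, hA, rfl⟩)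
  let σ : (∐ fun A : s => A.1.1.toScheme) ⟶ P.left := Sigma.desc fun A => A.1.1.ι
  have : ∀ A : s, IsAffine A.1.1.toScheme := fun A => A.1.2
  have hσ : Etale σ := IsZariskiLocalAtSource.sigmaDesc (P := @Etale) fun A => inferInstance
  let W₁ : Over S := Over.mk (σ ≫ P.hom)
  let σ' : W₁ ⟶ P := Over.homMk σ rfl
  have : IsAffine W₁.left := inferInstanceAs (IsAffine (∐ fun A : s => A.1.1.toScheme))
  let c₁ : W₁ ⟶ openOver T V.1 := σ' ≫ pullback.snd c j
  have : Flat c₁.left := inferInstanceAs (Flat (σ ≫ (pullback.snd c j).left))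
  have : LocallyOfFinitePresentation c₁.left :=
    inferInstanceAs (LocallyOfFinitePresentation (σ ≫ (pullback.snd c j).left))
  have : Surjective c₁.left := ⟨fun x => by
    obtain ⟨A, hA, y, hy, e⟩ := Set.mem_iUnion₂.1 (hs (Set.mem_univ x))
    refine ⟨Sigma.ι (fun A : s => A.1.1.toScheme) ⟨A, hA⟩ ⟨y, hy⟩, ?_⟩
    change (σ ≫ (pullback.snd c j).left) _ = x
    rw [← Scheme.Hom.comp_apply, Sigma.ι_desc_assoc]
    exact e⟩
  let QV := pullback q ((yon S).map j)
  let g : W₁ ⟶ W := σ' ≫ pullback.fst c j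
  let Q₁ := pullback b' g
  have : LocallyQuasiFinite (pullback.snd b' g).left := MorphismProperty.of_isPullback
    ((IsPullback.of_hasPullback b' g).map (Over.forget S)) ‹LocallyQuasiFinite b'.left›
  have : LocallyOfFiniteType (pullback.snd b' g).left := MorphismProperty.of_isPullback
    ((IsPullback.of_hasPullback b' g).map (Over.forget S)) ‹LocallyOfFiniteType b'.left›
  have : IsSeparated (pullback.snd b' g).left := MorphismProperty.of_isPullback
    ((IsPullback.of_hasPullback b' g).map (Over.forget S)) ‹IsSeparated b'.left›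
  have big := ((IsPullback.of_hasPullback b' g).map (yon S)).paste_horiz sqQ
  have hg : g ≫ c = c₁ ≫ j := by simp only [g, c₁, Category.assoc, pullback.condition]
  rw [← Functor.map_comp, hg, Functor.map_comp] at big
  let q₁ : (yon S).obj Q₁ ⟶ QV := pullback.lift ((yon S).map (pullback.fst b' g) ≫ q')
    ((yon S).map (pullback.snd b' g) ≫ (yon S).map c₁) (by rw [Category.assoc]; exact big.w.trans (Category.assoc _ _ _).symm)
  have sq₁ : IsPullback q₁ ((yon S).map (pullback.snd b' g)) (pullback.snd q ((yon S).map j)) ((yon S).map c₁) := by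
    refine IsPullback.of_right ?_ (pullback.lift_snd _ _ _) (IsPullback.of_hasPullback q ((yon S).map j))
    rw [pullback.lift_fst]
    exact big
  obtain ⟨GT, μ, hμ⟩ := exists_iso_of_lqf_affine (pullback.snd q ((yon S).map j)) c₁ q₁ _ sq₁
  obtain ⟨i, hi⟩ := (yon S).map_surjective (μ ≫ pullback.snd q ((yon S).map j))
  exact ⟨GT, i, μ ≫ pullback.fst q ((yon S).map j), IsPullback.of_iso_pullback
    ⟨by rw [Category.assoc, pullback.condition, ← Category.assoc, hi]⟩ (asIso μ) rfl hi.symm⟩

end Groth.Agent.H12AlgSp
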