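import Groth.Agent.H18Et.EtaleLocalRing
import Groth.Agent.H9Hens.PairOps
import Groth.Prelude.Def_Hensel
import Mathlib.RingTheory.Henselian
import Mathlib.RingTheory.Unramified.Field

/-!
The etale local ring at a geometric point is a strict henselization of the local ring at its image.
-/

set_option backward.isDefEq.respectTransparency false

universe u

open CategoryTheory CategoryTheory.Limits AlgebraicGeometry Opposite TopologicalSpace IsLocalRing
open Groth.Agent.H18Et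

namespace Groth.Agent.H12AlgSp.EtStrictHens

variable {X : Scheme.{u}} {Ω : Type u} [Field Ω] [IsSepClosed Ω] (ξ : Spec (CommRingCat.of Ω) ⟶ X)

/-- The image of the geometric point. -/
noncomputable abbrev imagePt : X := ξ (default : Spec (CommRingCat.of Ω))

variable {ξ} in
omit [IsSepClosed Ω] in
theorem range_subset {W : X.Opens} (hx : imagePt ξ ∈ W) :
    Set.range ξ ⊆ Set.range W.ι := by
  rintro _ ⟨t, rfl⟩
  rw [Scheme.Opens.range_ι, Subsingleton.elim (α := ↥(Spec (CommRingCat.of Ω))) t default]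
  exact hx

/-- An open subscheme in the small etale site. -/
noncomputable def openEt (W : X.Opens) : X.Etale :=
  MorphismProperty.Over.mk ⊤ W.ι (inferInstanceAs (Etale W.ι))

/-- The lift of the geometric point to an open subscheme. -/
noncomputable def openPt (W : X.Opens) (hx : imagePt ξ ∈ W) :
    (Scheme.pointSmallEtale ξ).fiber.obj (openEt W) :=
  Over.homMk (IsOpenImmersion.lift W.ι ξ (range_subset hx)) (IsOpenImmersion.lift_fac _ _ _)

/-- A function on an open neighbourhood of the image as an element of the etale local ring. -/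
noncomputable def openGerm (W : X.Opens) (hx : imagePt ξ ∈ W) : Γ(X, W) ⟶ EtBase.etaleLocalRing ξ :=
  W.topIso.inv ≫ funGerm ξ (openEt W) (openPt ξ W hx)

theorem openGerm_apply (W : X.Opens) (hx : imagePt ξ ∈ W) (a : Γ(X, W)) :
    openGerm ξ W hx a = funGerm ξ (openEt W) (openPt ξ W hx) (W.topIso.inv a) := rfl

theorem funGerm_appLE (U : X.Etale) (z : (Scheme.pointSmallEtale ξ).fiber.obj U) (W : X.Opens)
    (hx : imagePt ξ ∈ W) (h : (⊤ : U.left.Opens) ≤ U.hom ⁻¹ᵁ W) (a : Γ(X, W)) :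
    funGerm ξ U z (U.hom.appLE W ⊤ h a) = openGerm ξ W hx a := by
  have hr : Set.range U.hom ⊆ Set.range W.ι := by
    rintro _ ⟨t, rfl⟩
    rw [Scheme.Opens.range_ι]
    exact h (Set.mem_univ t)
  let k : U.left ⟶ W.toScheme := IsOpenImmersion.lift W.ι U.hom hr
  have hk : k ≫ W.ι = U.hom := IsOpenImmersion.lift_fac _ _ _
  let g : U ⟶ openEt W := MorphismProperty.Over.homMk k hk trivial
  have hz : (Scheme.pointSmallEtale ξ).fiber.map g z = openPt ξ W hx := by
    refine Over.OverMorphism.ext ?_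
    change (z.left : Spec (CommRingCat.of Ω) ⟶ U.left) ≫ k = IsOpenImmersion.lift W.ι ξ (range_subset hx)
    refine (cancel_mono W.ι).1 ?_
    rw [Category.assoc, hk, IsOpenImmersion.lift_fac]
    exact Over.w z
  rw [openGerm_apply, ← hz, ← funGerm_map]
  congr 1
  have h2 : U.hom.appLE W ⊤ h = W.topIso.inv ≫ k.appTop := by
    have hb : (⊤ : U.left.Opens) ≤ (k ≫ W.ι) ⁻¹ᵁ W := by rw [hk]; exact h
    rw [show U.hom.appLE W ⊤ h = (k ≫ W.ι).appLE W ⊤ hb from by congr 1; exact hk.symm,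
      ← Scheme.Hom.appLE_comp_appLE k W.ι W ⊤ ⊤ (by rw [Scheme.Opens.ι_preimage_self]) le_top]
    congr 1
    · rw [Scheme.Opens.ι_appLE]; rfl
    · exact Scheme.Hom.appLE_eq_app ..
  exact ConcreteCategory.congr_hom h2 a

theorem openGerm_res {V W : X.Opens} (i : V ⟶ W) (hx : imagePt ξ ∈ V) (a : Γ(X, W)) :
    openGerm ξ V hx (X.presheaf.map i.op a) = openGerm ξ W (i.le hx) a := by
  have h : (⊤ : (openEt V).left.Opens) ≤ (openEt V).hom ⁻¹ᵁ V := fun y _ => y.2
  rw [← funGerm_appLE ξ (openEt V) (openPt ξ V hx) V hx h,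
    ← funGerm_appLE ξ (openEt V) (openPt ξ V hx) W (i.le hx) (fun y _ => i.le y.2)]
  congr 1
  exact ConcreteCategory.congr_hom (Scheme.Hom.map_appLE _ _ i.op) a

/-- The cocone defining `stalkHom`. -/
noncomputable def stalkCocone :
    Cocone ((OpenNhds.inclusion (imagePt ξ)).op ⋙ X.presheaf) where
  pt := EtBase.etaleLocalRing ξ
  ι :=
    { app := fun W => openGerm ξ W.unop.1 W.unop.2
      naturality := fun W W' i => by
        ext a
        exact openGerm_res ξ ((OpenNhds.inclusion (imagePt ξ)).map i.unop) W'.unop.2 a }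

/-- The map from the local ring at the image to the etale local ring. -/
noncomputable def stalkHom : X.presheaf.stalk (imagePt ξ) ⟶ EtBase.etaleLocalRing ξ :=
  colimit.desc ((OpenNhds.inclusion (imagePt ξ)).op ⋙ X.presheaf) (stalkCocone ξ)

theorem stalkHom_germ (W : X.Opens) (hx : imagePt ξ ∈ W) (a : Γ(X, W)) :
    stalkHom ξ (X.presheaf.germ W (imagePt ξ) hx a) = openGerm ξ W hx a :=
  ConcreteCategory.congr_hom
    (colimit.ι_desc (stalkCocone ξ) (op (⟨W, hx⟩ : OpenNhds (imagePt ξ)))) a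

theorem valueHom_ne_zero_of_isUnit {r : EtBase.etaleLocalRing ξ} (hr : IsUnit r) : valueHom ξ r ≠ 0 :=
  (hr.map (valueHom ξ).hom).ne_zero

theorem isLocalHom_stalkHom : IsLocalHom (stalkHom ξ).hom := by
  refine ⟨fun r hr => ?_⟩
  obtain ⟨W, hx, a, rfl⟩ := TopCat.Presheaf.exists_germ_eq X.presheaf r
  change IsUnit (stalkHom ξ (X.presheaf.germ W _ hx a)) at hr
  have h : (⊤ : (openEt W).left.Opens) ≤ (openEt W).hom ⁻¹ᵁ W := fun y _ => y.2
  rw [stalkHom_germ, ← funGerm_appLE ξ (openEt W) (openPt ξ W hx) W hx h] at hr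
  have hv : funValue ξ (openEt W) (openPt ξ W hx) ((openEt W).hom.appLE W ⊤ h a) ≠ 0 := by
    rw [← funGerm_valueHom]
    exact valueHom_ne_zero_of_isUnit ξ hr
  have hm := ptOf_mem_basicOpen ξ _ _ _ hv
  replace hm := (Scheme.basicOpen_appLE (openEt W).hom ⊤ W h a).le hm
  have e2 : (Scheme.Opens.ι W) (ptOf (openPt ξ W hx)) = imagePt ξ :=
    congrArg (fun k : Spec (CommRingCat.of Ω) ⟶ X => k (default : Spec (CommRingCat.of Ω)))
      (IsOpenImmersion.lift_fac (Scheme.Opens.ι W) ξ (range_subset hx))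
  exact (X.mem_basicOpen a (imagePt ξ) hx).1 (e2 ▸ hm.2)

/-- Elements coming from an etale algebra are separable over the field under it. -/
theorem isSeparable_of_etale_ringHom {R B k L : Type*} [CommRing R] [CommRing B] [Field k] [Field L]
    [Algebra k L] (φ : R →+* B) (hφ : φ.Etale) (ρ : R →+* k) (σ : B →+* L)
    (hσ : σ.comp φ = (algebraMap k L).comp ρ) (b : B) : _root_.IsSeparable k (σ b) := by
  algebraize [φ]
  let : Algebra R k := ρ.toAlgebra
  let : Algebra R L := ((algebraMap k L).comp ρ).toAlgebra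
  have : IsScalarTower R k L := IsScalarTower.of_algebraMap_eq fun _ => rfl
  let σ' : B →ₐ[R] L := { σ with commutes' := RingHom.congr_fun hσ }
  let ψ : TensorProduct R k B →ₐ[k] L :=
    Algebra.TensorProduct.lift (Algebra.ofId k L) σ' fun _ _ => Commute.all _ _
  have : Module.Finite k (TensorProduct R k B) := Algebra.FormallyUnramified.finite_of_free k _
  have hs : Function.Surjective ψ.rangeRestrict := ψ.rangeRestrict_surjective
  have : Module.Finite k ψ.range := Module.Finite.of_surjective ψ.rangeRestrict.toLinearMap hs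
  have : Algebra.FormallyUnramified k ψ.range := Algebra.FormallyUnramified.of_surjective ψ.rangeRestrict hs
  have hf : IsField ψ.range := isField_of_isIntegral_of_isField' (Field.toIsField k)
  let K : IntermediateField k L := ψ.range.toIntermediateField' hf
  have : Module.Finite k K := inferInstanceAs (Module.Finite k ψ.range)
  have : Algebra.FormallyUnramified k K := inferInstanceAs (Algebra.FormallyUnramified k ψ.range)
  have : Algebra.IsSeparable k K := Algebra.FormallyUnramified.isSeparable k K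
  have e : ψ (Algebra.TensorProduct.includeRight (R := R) (A := k) (B := B) b) = σ b := by
    simp only [ψ, Algebra.TensorProduct.includeRight_apply, Algebra.TensorProduct.lift_tmul, map_one, one_mul]
    rfl
  have hb : σ b ∈ K := ⟨_, e⟩
  have hy : _root_.IsSeparable k (⟨σ b, hb⟩ : K) := Algebra.IsSeparable.isSeparable k _
  have hm : minpoly k (σ b) = minpoly k (⟨σ b, hb⟩ : K) :=
    minpoly.algHom_eq K.val Subtype.val_injective (⟨σ b, hb⟩ : K)
  unfold _root_.IsSeparable at hy ⊢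
  rwa [hm]

theorem exists_affine_refinement (U : X.Etale) (z : (Scheme.pointSmallEtale ξ).fiber.obj U)
    (W : X.Opens) (hx : imagePt ξ ∈ W) :
    ∃ (V : X.Etale) (g : V ⟶ U) (z' : (Scheme.pointSmallEtale ξ).fiber.obj V),
      (Scheme.pointSmallEtale ξ).fiber.map g z' = z ∧ IsAffine V.left ∧
        (⊤ : V.left.Opens) ≤ V.hom ⁻¹ᵁ W := by
  have hz : ptOf z ∈ U.hom ⁻¹ᵁ W := by
    change U.hom (ptOf z) ∈ W
    rw [show U.hom (ptOf z) = imagePt ξ from
      congrArg (fun k : Spec (CommRingCat.of Ω) ⟶ X => k (default : Spec (CommRingCat.of Ω))) (Over.w z)]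
    exact hx
  obtain ⟨O, hO, hzO, hOW⟩ :=
    TopologicalSpace.Opens.isBasis_iff_nbhd.mp U.left.isBasis_affineOpens hz
  obtain ⟨V, g, z', hz', e, he⟩ := exists_nbhd_opens ξ U z O hzO
  have : IsAffine (Scheme.Opens.toScheme O) := hO
  refine ⟨V, g, z', hz', .of_isIso e.hom, fun v _ => ?_⟩
  have hg : g.left v ∈ O := by
    rw [← he]
    exact (e.hom v).2
  rw [show V.hom = g.left ≫ U.hom from (MorphismProperty.Over.w g).symm]
  exact hOW hg

theorem exists_good_stage (s : Finset (EtBase.etaleLocalRing ξ)) :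
    ∃ (U : X.Etale) (z : (Scheme.pointSmallEtale ξ).fiber.obj U) (W : X.Opens),
      IsAffine U.left ∧ IsAffineOpen W ∧ imagePt ξ ∈ W ∧ (⊤ : U.left.Opens) ≤ U.hom ⁻¹ᵁ W ∧
        ∀ r ∈ s, ∃ b, funGerm ξ U z b = r := by
  obtain ⟨U, z, -, hs⟩ := exists_common_stage ξ s
  obtain ⟨W, hW, hx, -⟩ := TopologicalSpace.Opens.isBasis_iff_nbhd.mp X.isBasis_affineOpens
    (TopologicalSpace.Opens.mem_top (imagePt ξ))
  obtain ⟨V, g, z', rfl, hV, h⟩ := exists_affine_refinement ξ U z W hx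
  refine ⟨V, z', W, hV, hW, hx, h, fun r hr => ?_⟩
  obtain ⟨b, rfl⟩ := hs r hr
  exact ⟨g.left.appTop b, funGerm_map ξ g z' b⟩

theorem etale_appLE {U : X.Etale} [IsAffine U.left] {W : X.Opens} (hW : IsAffineOpen W)
    (h : (⊤ : U.left.Opens) ≤ U.hom ⁻¹ᵁ W) : (U.hom.appLE W ⊤ h).hom.Etale :=
  HasRingHomProperty.appLE @Etale U.hom U.prop ⟨W, hW⟩ ⟨⊤, @isAffineOpen_top U.left ‹IsAffine U.left›⟩ h

/-- The etale local ring as an algebra over the local ring at the image. -/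
noncomputable instance algebraStalk :
    Algebra ↥(X.presheaf.stalk (imagePt ξ)) ↥(EtBase.etaleLocalRing ξ) := (stalkHom ξ).hom.toAlgebra

instance isLocalHom_algebraMap :
    IsLocalHom (algebraMap ↥(X.presheaf.stalk (imagePt ξ)) ↥(EtBase.etaleLocalRing ξ)) :=
  isLocalHom_stalkHom ξ

instance isLocalRing' : IsLocalRing ↥(EtBase.etaleLocalRing ξ) := isLocalRing_etaleLocalRing ξ

theorem isSeparable_residueField :
    Algebra.IsSeparable (ResidueField ↥(X.presheaf.stalk (imagePt ξ)))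
      (ResidueField ↥(EtBase.etaleLocalRing ξ)) := by
  refine ⟨fun x => ?_⟩
  obtain ⟨r, rfl⟩ := residue_surjective x
  obtain ⟨U, z, W, hU, hW, hx, h, hs⟩ := exists_good_stage ξ {r}
  obtain ⟨b, rfl⟩ := hs r (Finset.mem_singleton_self r)
  refine isSeparable_of_etale_ringHom (U.hom.appLE W ⊤ h).hom (etale_appLE hW h)
    ((residue _).comp (X.presheaf.germ W (imagePt ξ) hx).hom)
    ((residue ↥(EtBase.etaleLocalRing ξ)).comp (funGerm ξ U z).hom) ?_ b
  ext a
  change residue _ (funGerm ξ U z (U.hom.appLE W ⊤ h a)) = _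
  rw [funGerm_appLE ξ U z W hx h, ← stalkHom_germ]
  rfl

theorem isSepClosure_residueField :
    IsSepClosure (ResidueField ↥(X.presheaf.stalk (imagePt ξ)))
      (ResidueField ↥(EtBase.etaleLocalRing ξ)) := by
  obtain ⟨_, hk⟩ := isStrictlyHenselian_etaleLocalRing ξ
  exact ⟨hk, isSeparable_residueField ξ⟩

section Universal

variable (T : Type u) [CommRing T] [HenselianLocalRing T]
  (f : ↥(X.presheaf.stalk (imagePt ξ)) →+* T) [IsLocalHom f]
  (τ : ResidueField ↥(EtBase.etaleLocalRing ξ) →+* ResidueField T)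

/-- A lift of a germ map to `T`. -/
def Lifts (U : X.Etale) (z : (Scheme.pointSmallEtale ξ).fiber.obj U) (W : X.Opens) (hx : imagePt ξ ∈ W)
    (h : (⊤ : U.left.Opens) ≤ U.hom ⁻¹ᵁ W) (φ : Γ(U.left, ⊤) →+* T) : Prop :=
  (∀ b, residue T (φ b) = τ (residue _ (funGerm ξ U z b))) ∧
    φ.comp (U.hom.appLE W ⊤ h).hom = f.comp (X.presheaf.germ W (imagePt ξ) hx).hom

variable (hτ : τ.comp (ResidueField.map (algebraMap ↥(X.presheaf.stalk (imagePt ξ)) ↥(EtBase.etaleLocalRing ξ))) =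
    ResidueField.map f)

include hτ

theorem existsUnique_lifts (U : X.Etale) (z : (Scheme.pointSmallEtale ξ).fiber.obj U) (W : X.Opens)
    (hW : IsAffineOpen W) (hx : imagePt ξ ∈ W) (h : (⊤ : U.left.Opens) ≤ U.hom ⁻¹ᵁ W) [IsAffine U.left] :
    ∃! φ : Γ(U.left, ⊤) →+* T, Lifts ξ T f τ U z W hx h φ := by
  let R := Γ(X, W)
  let B := Γ(U.left, ⊤)
  let : Algebra R B := (U.hom.appLE W ⊤ h).hom.toAlgebra
  have : Algebra.Etale R B := (RingHom.etale_algebraMap (R := R) (S := B)).mp (etale_appLE hW h)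
  let : Algebra R T := (f.comp (X.presheaf.germ W (imagePt ξ) hx).hom).toAlgebra
  let σ : B →ₐ[R] T ⧸ maximalIdeal T :=
    { τ.comp ((residue ↥(EtBase.etaleLocalRing ξ)).comp (funGerm ξ U z).hom) with
      commutes' := fun a => by
        change τ (residue _ (funGerm ξ U z (U.hom.appLE W ⊤ h a))) = residue T (f (X.presheaf.germ W _ hx a))
        rw [funGerm_appLE ξ U z W hx h, ← stalkHom_germ]
        exact RingHom.congr_fun hτ (residue _ (X.presheaf.germ W _ hx a)) }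
  obtain ⟨φ, hφ, huniq⟩ := Groth.Agent.H9Hens.existsUnique_algHom_lift_rel (I := maximalIdeal T) σ
  refine ⟨φ.toRingHom, ⟨fun b => DFunLike.congr_fun hφ b, φ.comp_algebraMap⟩, fun φ' hφ' => ?_⟩
  let φ'' : B →ₐ[R] T := { φ' with commutes' := fun a => RingHom.congr_fun hφ'.2 a }
  exact congrArg AlgHom.toRingHom (huniq φ'' (AlgHom.ext fun b => hφ'.1 b))

theorem lifts_eq (U₁ U₂ : X.Etale) [IsAffine U₁.left] [IsAffine U₂.left]
    (z₁ : (Scheme.pointSmallEtale ξ).fiber.obj U₁) (z₂ : (Scheme.pointSmallEtale ξ).fiber.obj U₂)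
    (W₁ W₂ : X.Opens) (hW₁ : IsAffineOpen W₁) (hW₂ : IsAffineOpen W₂) (hx₁ : imagePt ξ ∈ W₁)
    (hx₂ : imagePt ξ ∈ W₂) (h₁ : (⊤ : U₁.left.Opens) ≤ U₁.hom ⁻¹ᵁ W₁)
    (h₂ : (⊤ : U₂.left.Opens) ≤ U₂.hom ⁻¹ᵁ W₂) (φ₁ : Γ(U₁.left, ⊤) →+* T) (φ₂ : Γ(U₂.left, ⊤) →+* T)
    (hφ₁ : Lifts ξ T f τ U₁ z₁ W₁ hx₁ h₁ φ₁) (hφ₂ : Lifts ξ T f τ U₂ z₂ W₂ hx₂ h₂ φ₂)
    (b₁ : Γ(U₁.left, ⊤)) (b₂ : Γ(U₂.left, ⊤)) (e : funGerm ξ U₁ z₁ b₁ = funGerm ξ U₂ z₂ b₂) :
    φ₁ b₁ = φ₂ b₂ := by
  obtain ⟨W, hW, hx, hle⟩ := TopologicalSpace.Opens.isBasis_iff_nbhd.mp X.isBasis_affineOpens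
    (show imagePt ξ ∈ W₁ ⊓ W₂ from ⟨hx₁, hx₂⟩)
  obtain ⟨⟨Z₀, w₀⟩, ⟨p, hp⟩, ⟨q, hq⟩, -⟩ := IsCofilteredOrEmpty.cone_objs
    (C := (Scheme.pointSmallEtale ξ).fiber.Elements) ⟨U₁, z₁⟩ ⟨U₂, z₂⟩
  dsimp at p q hp hq
  have e' : funGerm ξ Z₀ w₀ (p.left.appTop b₁) = funGerm ξ Z₀ w₀ (q.left.appTop b₂) := by
    rw [funGerm_map, funGerm_map, hp, hq]
    exact e
  obtain ⟨Z₁, c, w₁, hc, hcb⟩ := ((Scheme.pointSmallEtale ξ).toPresheafFiber_eq_iff'
    (P := EtBase.OO X) _ _ _ _).1 e'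
  obtain ⟨Z, d, w, hd, hZ, h⟩ := exists_affine_refinement ξ Z₁ w₁ W hx
  obtain ⟨φ, hφ, -⟩ := existsUnique_lifts ξ T f τ hτ Z w W hW hx h
  have key : ∀ (U : X.Etale) [IsAffine U.left] (z : (Scheme.pointSmallEtale ξ).fiber.obj U) (W' : X.Opens)
      (hW' : IsAffineOpen W') (hx' : imagePt ξ ∈ W') (h' : (⊤ : U.left.Opens) ≤ U.hom ⁻¹ᵁ W')
      (φ' : Γ(U.left, ⊤) →+* T) (i : W ⟶ W') (r : Z ⟶ U),
      (Scheme.pointSmallEtale ξ).fiber.map r w = z → Lifts ξ T f τ U z W' hx' h' φ' →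
        φ' = φ.comp r.left.appTop.hom := by
    intro U _ z W' hW' hx' h' φ' i r hr hφ'
    refine (existsUnique_lifts ξ T f τ hτ U z W' hW' hx' h').unique hφ' ⟨fun b => ?_, RingHom.ext fun a => ?_⟩
    · refine (hφ.1 _).trans ?_
      rw [← hr, ← funGerm_map]
    · have hh : (⊤ : Z.left.Opens) ≤ (r.left ≫ U.hom) ⁻¹ᵁ W' := fun y _ => h' (Set.mem_univ (r.left y))
      have h5 : r.left.appTop (U.hom.appLE W' ⊤ h' a) = Z.hom.appLE W ⊤ h (X.presheaf.map i.op a) := by
        refine (ConcreteCategory.congr_hom (?_ : U.hom.appLE W' ⊤ h' ≫ r.left.appTop =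
          X.presheaf.map i.op ≫ Z.hom.appLE W ⊤ h) a)
        rw [Scheme.Hom.map_appLE, show r.left.appTop = r.left.appLE ⊤ ⊤ le_top from
          (Scheme.Hom.appLE_eq_app ..).symm, Scheme.Hom.appLE_comp_appLE]
        congr 1
        exact MorphismProperty.Over.w r
      change φ (r.left.appTop (U.hom.appLE W' ⊤ h' a)) = _
      rw [h5]
      refine (RingHom.congr_fun hφ.2 _).trans ?_
      change f (X.presheaf.germ W _ hx (X.presheaf.map i.op a)) = f (X.presheaf.germ W' _ hx' a)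
      rw [TopCat.Presheaf.germ_res_apply]
  rw [key U₁ z₁ W₁ hW₁ hx₁ h₁ φ₁ (homOfLE (hle.trans inf_le_left)) (d ≫ c ≫ p)
      (by rw [Functor.map_comp, Functor.map_comp, ← hp, ← hc, ← hd]; rfl) hφ₁,
    key U₂ z₂ W₂ hW₂ hx₂ h₂ φ₂ (homOfLE (hle.trans inf_le_right)) (d ≫ c ≫ q)
      (by rw [Functor.map_comp, Functor.map_comp, ← hq, ← hc, ← hd]; rfl) hφ₂]
  change φ ((d.left ≫ c.left ≫ p.left).appTop b₁) = φ ((d.left ≫ c.left ≫ q.left).appTop b₂)
  simp only [Scheme.Hom.comp_appTop, CommRingCat.comp_apply]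
  exact congrArg φ (congrArg d.left.appTop hcb)

theorem existsUnique_value (r : EtBase.etaleLocalRing ξ) :
    ∃! t : T, ∀ (U : X.Etale) [IsAffine U.left] (z : (Scheme.pointSmallEtale ξ).fiber.obj U) (W : X.Opens)
      (_hW : IsAffineOpen W) (hx : imagePt ξ ∈ W) (h : (⊤ : U.left.Opens) ≤ U.hom ⁻¹ᵁ W)
      (φ : Γ(U.left, ⊤) →+* T), Lifts ξ T f τ U z W hx h φ → ∀ b, funGerm ξ U z b = r → φ b = t := by
  obtain ⟨U, z, W, hU, hW, hx, h, hs⟩ := exists_good_stage ξ {r}
  obtain ⟨b, rfl⟩ := hs r (Finset.mem_singleton_self r)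
  obtain ⟨φ, hφ, -⟩ := existsUnique_lifts ξ T f τ hτ U z W hW hx h
  exact ⟨φ b, fun U' _ z' W' hW' hx' h' φ' hφ' b' hb' =>
      lifts_eq ξ T f τ hτ U' U z' z W' W hW' hW hx' hx h' h φ' φ hφ' hφ b' b hb',
    fun t ht => (ht U z W hW hx h φ hφ b rfl).symm⟩

theorem universal : ∃! g : ↥(EtBase.etaleLocalRing ξ) →+* T,
    g.comp (algebraMap _ _) = f ∧ ∀ r, residue T (g r) = τ (residue _ r) := by
  choose t ht _ using existsUnique_value ξ T f τ hτ
  have key : ∀ s : Finset (EtBase.etaleLocalRing ξ), ∃ (U : X.Etale)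
      (z : (Scheme.pointSmallEtale ξ).fiber.obj U) (φ : Γ(U.left, ⊤) →+* T),
      (∀ b, t (funGerm ξ U z b) = φ b) ∧ ∀ r ∈ s, ∃ b, funGerm ξ U z b = r := by
    intro s
    obtain ⟨U, z, W, hU, hW, hx, h, hs⟩ := exists_good_stage ξ s
    obtain ⟨φ, hφ, -⟩ := existsUnique_lifts ξ T f τ hτ U z W hW hx h
    exact ⟨U, z, φ, fun b => (ht _ U z W hW hx h φ hφ b rfl).symm, hs⟩
  classical
  let g : ↥(EtBase.etaleLocalRing ξ) →+* T :=
    { toFun := t
      map_one' := by
        obtain ⟨U, z, φ, hφ, -⟩ := key ∅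
        rw [← map_one (funGerm ξ U z).hom, hφ, map_one]
      map_zero' := by
        obtain ⟨U, z, φ, hφ, -⟩ := key ∅
        rw [← map_zero (funGerm ξ U z).hom, hφ, map_zero]
      map_mul' := fun r r' => by
        obtain ⟨U, z, φ, hφ, hs⟩ := key {r, r'}
        obtain ⟨b, rfl⟩ := hs r (by simp)
        obtain ⟨b', rfl⟩ := hs r' (by simp)
        rw [← map_mul, hφ, hφ, hφ, map_mul]
      map_add' := fun r r' => by
        obtain ⟨U, z, φ, hφ, hs⟩ := key {r, r'}
        obtain ⟨b, rfl⟩ := hs r (by simp)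
        obtain ⟨b', rfl⟩ := hs r' (by simp)
        rw [← map_add, hφ, hφ, hφ, map_add] }
  refine ⟨g, ⟨RingHom.ext fun a => ?_, fun r => ?_⟩, fun g' hg' => RingHom.ext fun r => ?_⟩
  · obtain ⟨W₀, hx₀, a, rfl⟩ := TopCat.Presheaf.exists_germ_eq X.presheaf a
    obtain ⟨W, hW, hx, hle⟩ := TopologicalSpace.Opens.isBasis_iff_nbhd.mp X.isBasis_affineOpens hx₀
    rw [← TopCat.Presheaf.germ_res_apply X.presheaf (homOfLE hle) (imagePt ξ) hx a]
    have : IsAffine (openEt W).left := hW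
    have h : (⊤ : (openEt W).left.Opens) ≤ (openEt W).hom ⁻¹ᵁ W := fun y _ => y.2
    obtain ⟨φ, hφ, -⟩ := existsUnique_lifts ξ T f τ hτ (openEt W) (openPt ξ W hx) W hW hx h
    change t (stalkHom ξ _) = _
    rw [stalkHom_germ, ← funGerm_appLE ξ (openEt W) (openPt ξ W hx) W hx h,
      ← ht _ _ _ W hW hx h φ hφ _ rfl]
    exact RingHom.congr_fun hφ.2 _
  · obtain ⟨U, z, W, hU, hW, hx, h, hs⟩ := exists_good_stage ξ {r}
    obtain ⟨b, rfl⟩ := hs r (Finset.mem_singleton_self r)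
    obtain ⟨φ, hφ, -⟩ := existsUnique_lifts ξ T f τ hτ U z W hW hx h
    change residue T (t _) = _
    rw [← ht _ U z W hW hx h φ hφ b rfl]
    exact hφ.1 b
  · obtain ⟨U, z, W, hU, hW, hx, h, hs⟩ := exists_good_stage ξ {r}
    obtain ⟨b, rfl⟩ := hs r (Finset.mem_singleton_self r)
    have hl : Lifts ξ T f τ U z W hx h (g'.comp (funGerm ξ U z).hom) := by
      refine ⟨fun b => hg'.2 _, RingHom.ext fun a => ?_⟩
      change g' (funGerm ξ U z (U.hom.appLE W ⊤ h a)) = _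
      rw [funGerm_appLE ξ U z W hx h, ← stalkHom_germ]
      exact RingHom.congr_fun hg'.1 _
    exact ht _ U z W hW hx h _ hl b rfl

end Universal

theorem isStrictHenselization :
    Hensel.IsStrictHenselization ↥(X.presheaf.stalk (imagePt ξ)) ↥(EtBase.etaleLocalRing ξ) where
  henselian := (isStrictlyHenselian_etaleLocalRing ξ).1
  isSepClosure := isSepClosure_residueField ξ
  universal T _ _ f _ τ hτ := universal ξ T f τ hτ

end Groth.Agent.H12AlgSp.EtStrictHens
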