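import Groth.Agent.H12AlgSp.EtStalk
import Groth.Agent.H18Et.EtaleLocalRing
import Groth.Prelude.Def_AlgSpOX3

/-!
The etale local ring of an algebraic space at a geometric point is the etale local ring of any chart
at a lift of the point.
-/

set_option backward.isDefEq.respectTransparency false

universe u

open CategoryTheory CategoryTheory.Limits AlgebraicGeometry Opposite
open AlgSp

namespace Groth.Agent.H12AlgSp

variable {S : Scheme.{u}} {X : Sp S} {U : Over S} (a : (yon S).obj U ⟶ X) (ha : RepWith @Etale a)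

/-- The fibre product with the chart as an etale scheme over the chart. -/
noncomputable def toUEt (E : EtOver X) : U.left.Etale :=
  MorphismProperty.Over.mk ⊤ (EtOver.prodFst (EtOver.mk a ha) E).hom.left.left
    (EtOver.etale_left (EtOver.prodFst (EtOver.mk a ha) E))

/-- The projection to the given object. -/
noncomputable def toUSnd (E : EtOver X) : (toUEt a ha E).left ⟶ E.obj.left.left :=
  (EtOver.prodSnd (EtOver.mk a ha) E).hom.left.left

/-- Functoriality of `toUEt`. -/
noncomputable def toUMap {E E' : EtOver X} (g : E ⟶ E') : toUEt a ha E ⟶ toUEt a ha E' :=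
  MorphismProperty.Over.homMk
    ((EtOver.prodIsLimit (EtOver.mk a ha) E').lift
      (BinaryFan.mk (EtOver.prodFst (EtOver.mk a ha) E) (EtOver.prodSnd (EtOver.mk a ha) E ≫ g))).hom.left.left
    (congrArg (fun k => k.hom.left.left) ((EtOver.prodIsLimit (EtOver.mk a ha) E').fac
      (BinaryFan.mk (EtOver.prodFst (EtOver.mk a ha) E) (EtOver.prodSnd (EtOver.mk a ha) E ≫ g))
      ⟨WalkingPair.left⟩)) trivial

theorem toUMap_snd {E E' : EtOver X} (g : E ⟶ E') :
    (toUMap a ha g).left ≫ toUSnd a ha E' = toUSnd a ha E ≫ g.hom.left.left :=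
  congrArg (fun k => k.hom.left.left) ((EtOver.prodIsLimit (EtOver.mk a ha) E').fac
    (BinaryFan.mk (EtOver.prodFst (EtOver.mk a ha) E) (EtOver.prodSnd (EtOver.mk a ha) E ≫ g))
    ⟨WalkingPair.right⟩)

variable {p : FieldPt X} (hp : p.IsGeometric) (l : p.pt ⟶ U) (hl : (yon S).map l ≫ a = p.toHom)

/-- A geometric point has a separably closed field. -/
theorem isSepClosed_of_isGeometric (hp : p.IsGeometric) : IsSepClosed p.K :=
  have : IsAlgClosed p.K := hp
  inferInstance

/-- The pair of lifts as a point of `toUEt`. -/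
noncomputable def toUPt (N : EtNbhd p) :
    Over.mk l.left ⟶ (Scheme.Etale.forget U.left).obj (toUEt a ha N.1) :=
  Over.homMk (N.1.property.1.lift' N.2.1 l (N.2.2.trans hl.symm)).left
    (congrArg Over.Hom.left (Functor.relativelyRepresentable.lift'_snd N.1.property.1 N.2.1 l (N.2.2.trans hl.symm)))

theorem toUPt_snd (N : EtNbhd p) : (toUPt a ha l hl N).left ≫ toUSnd a ha N.1 = N.2.1.left :=
  congrArg Over.Hom.left (Functor.relativelyRepresentable.lift'_fst N.1.property.1 N.2.1 l (N.2.2.trans hl.symm))

theorem toUPt_map {N N' : EtNbhd p} (g : N ⟶ N') :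
    toUPt a ha l hl N ≫ (Scheme.Etale.forget U.left).map (toUMap a ha g.val) = toUPt a ha l hl N' := by
  let P := EtOver.prodIsLimit (EtOver.mk a ha) N'.1
  let s := BinaryFan.mk (EtOver.prodFst (EtOver.mk a ha) N.1) (EtOver.prodSnd (EtOver.mk a ha) N.1 ≫ g.val)
  have key : N.1.property.1.lift' N.2.1 l (N.2.2.trans hl.symm) ≫ (P.lift s).hom.left =
      N'.1.property.1.lift' N'.2.1 l (N'.2.2.trans hl.symm) := by
    apply Functor.relativelyRepresentable.hom_ext'
    · rw [Functor.relativelyRepresentable.lift'_fst]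
      change (_ ≫ (P.lift s).hom.left) ≫ (EtOver.prodSnd (EtOver.mk a ha) N'.1).hom.left = _
      rw [Category.assoc]
      refine (congrArg (_ ≫ ·) (congrArg (fun k => k.hom.left) (P.fac s ⟨WalkingPair.right⟩))).trans ?_
      change _ ≫ (EtOver.prodSnd (EtOver.mk a ha) N.1).hom.left ≫ g.val.hom.left = _
      refine (Category.assoc _ _ _).symm.trans ?_
      refine (congrArg (· ≫ g.val.hom.left) (Functor.relativelyRepresentable.lift'_fst _ _ _ _)).trans ?_
      exact congrArg Subtype.val g.property
    · rw [Functor.relativelyRepresentable.lift'_snd]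
      change (_ ≫ (P.lift s).hom.left) ≫ (EtOver.prodFst (EtOver.mk a ha) N'.1).hom.left = _
      rw [Category.assoc]
      refine (congrArg (_ ≫ ·) (congrArg (fun k => k.hom.left) (P.fac s ⟨WalkingPair.left⟩))).trans ?_
      exact Functor.relativelyRepresentable.lift'_snd _ _ _ _
  have key' := congrArg Over.Hom.left key
  exact Over.OverMorphism.ext key'

section Scheme

variable [IsSepClosed p.K] (V : U.left.Etale) (z : (Scheme.pointSmallEtale l.left).fiber.obj V)

/-- A point of an etale scheme over the chart as a lift of the point of the space. -/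
noncomputable def liftOfScheme : p.pt ⟶ ((EtOver.ofChart a ha).obj V).obj.left :=
  Over.homMk (z.left : Spec (CommRingCat.of p.K) ⟶ V.left) (by
    change (z.left : Spec (CommRingCat.of p.K) ⟶ V.left) ≫ V.hom ≫ U.hom = p.str
    rw [← Category.assoc]
    exact (congrArg (· ≫ U.hom) (Over.w z)).trans (Over.w l))

theorem liftOfScheme_hom : liftOfScheme a ha l V z ≫ EtOver.homOfEtale V = l :=
  Over.OverMorphism.ext (Over.w z)

theorem liftOfScheme_comp (hl : (yon S).map l ≫ a = p.toHom) :
    (yon S).map (liftOfScheme a ha l V z) ≫ ((EtOver.ofChart a ha).obj V).obj.hom = p.toHom := by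
  change (yon S).map (liftOfScheme a ha l V z) ≫ (yon S).map (EtOver.homOfEtale V) ≫ a = _
  rw [← Category.assoc, ← Functor.map_comp, liftOfScheme_hom]
  exact hl

/-- A neighbourhood on the chart as a neighbourhood on the space. -/
noncomputable def nbhdOfScheme : EtNbhd p :=
  ⟨(EtOver.ofChart a ha).obj V, ⟨liftOfScheme a ha l V z, liftOfScheme_comp a ha l V z hl⟩⟩

/-- An etale scheme over the chart maps to its fibre product with the chart. -/
noncomputable def toUUnit : V ⟶ toUEt a ha ((EtOver.ofChart a ha).obj V) :=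
  MorphismProperty.Over.homMk
    (((EtOver.ofChart a ha).obj V).property.1.lift' (𝟙 _) (EtOver.homOfEtale V) (by
      rw [CategoryTheory.Functor.map_id, Category.id_comp]; rfl)).left
    (congrArg Over.Hom.left (Functor.relativelyRepresentable.lift'_snd
      ((EtOver.ofChart a ha).obj V).property.1 (𝟙 _) (EtOver.homOfEtale V) _)) trivial

theorem toUUnit_snd : (toUUnit a ha V).left ≫ toUSnd a ha ((EtOver.ofChart a ha).obj V) = 𝟙 V.left :=
  congrArg Over.Hom.left (Functor.relativelyRepresentable.lift'_fst
    ((EtOver.ofChart a ha).obj V).property.1 (𝟙 _) (EtOver.homOfEtale V) _)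

theorem toUUnit_pt :
    (Scheme.pointSmallEtale l.left).fiber.map (toUUnit a ha V) z =
      toUPt a ha l hl (nbhdOfScheme a ha l hl V z) := by
  let E := (EtOver.ofChart a ha).obj V
  have key : liftOfScheme a ha l V z ≫ E.property.1.lift' (𝟙 _) (EtOver.homOfEtale V) (by
      rw [CategoryTheory.Functor.map_id, Category.id_comp]; rfl) =
      E.property.1.lift' (liftOfScheme a ha l V z) l ((liftOfScheme_comp a ha l V z hl).trans hl.symm) := by
    apply Functor.relativelyRepresentable.hom_ext'
    · rw [Category.assoc, Functor.relativelyRepresentable.lift'_fst,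
        Functor.relativelyRepresentable.lift'_fst, Category.comp_id]
    · rw [Category.assoc, Functor.relativelyRepresentable.lift'_snd,
        Functor.relativelyRepresentable.lift'_snd, liftOfScheme_hom]
  have key' := congrArg Over.Hom.left key
  exact Over.OverMorphism.ext key'

end Scheme

open Groth.Agent.H18Et

section Stalk

variable [IsSepClosed p.K]

/-- The germ at the chart of a function on a neighbourhood in the space. -/
noncomputable def nbhdGerm (N : EtNbhd p) :
    ↥((OEt X).obj.obj (op N.1)) →+* ULift.{u + 1} ↥(EtBase.etaleLocalRing l.left) :=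
  ULift.ringEquiv.symm.toRingHom.comp
    (((funGerm l.left (toUEt a ha N.1) (toUPt a ha l hl N)).hom.comp (toUSnd a ha N.1).appTop.hom).comp
      (ULift.ringEquiv (R := Γ(N.1.obj.left.left, ⊤))).toRingHom)

theorem nbhdGerm_apply (N : EtNbhd p) (f : ↥((OEt X).obj.obj (op N.1))) :
    (nbhdGerm a ha l hl N f).down =
      funGerm l.left (toUEt a ha N.1) (toUPt a ha l hl N) ((toUSnd a ha N.1).appTop f.down) := rfl

theorem nbhdGerm_naturality {N N' : EtNbhd p} (g : N ⟶ N') (f : ↥((OEt X).obj.obj (op N'.1))) :
    nbhdGerm a ha l hl N (((OEt X).obj.map g.val.op).hom f) = nbhdGerm a ha l hl N' f := by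
  apply ULift.ext
  rw [nbhdGerm_apply, nbhdGerm_apply]
  have h1 := funGerm_map l.left (toUMap a ha g.val) (toUPt a ha l hl N) ((toUSnd a ha N'.1).appTop f.down)
  have h2 : (toUMap a ha g.val).left.appTop ((toUSnd a ha N'.1).appTop f.down) =
      (toUSnd a ha N.1).appTop (g.val.hom.left.left.appTop f.down) :=
    ((ConcreteCategory.congr_hom (Scheme.Hom.comp_appTop _ _) f.down).symm.trans
      (congrArg (fun k : (toUEt a ha N.1).left ⟶ _ => k.appTop f.down) (toUMap_snd a ha g.val))).trans
        (ConcreteCategory.congr_hom (Scheme.Hom.comp_appTop _ _) f.down)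
  refine Eq.trans ?_ (h1.trans ?_)
  · exact congrArg _ h2.symm
  · exact congrArg (fun z => funGerm l.left (toUEt a ha N'.1) z ((toUSnd a ha N'.1).appTop f.down))
      (toUPt_map a ha l hl g)

/-- The comparison map of etale local rings. -/
noncomputable def stalkToChart :
    OEtStalk p ⟶ CommRingCat.of (ULift.{u + 1} ↥(EtBase.etaleLocalRing l.left)) :=
  colimit.desc _
    { pt := CommRingCat.of (ULift.{u + 1} ↥(EtBase.etaleLocalRing l.left))
      ι :=
        { app := fun N => CommRingCat.ofHom (nbhdGerm a ha l hl N.unop)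
          naturality := fun N N' g => by
            ext f
            exact nbhdGerm_naturality a ha l hl g.unop f } }

theorem stalkToChart_ι (N : EtNbhd p) (f : ↥((OEt X).obj.obj (op N.1))) :
    (stalkToChart a ha l hl).hom ((stalkEtι p (OEt X) N).hom f) = nbhdGerm a ha l hl N f :=
  ConcreteCategory.congr_hom (colimit.ι_desc (F := stalkEtDiagram p (OEt X))
    { pt := CommRingCat.of (ULift.{u + 1} ↥(EtBase.etaleLocalRing l.left))
      ι :=
        { app := fun N => CommRingCat.ofHom (nbhdGerm a ha l hl N.unop)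
          naturality := fun N N' g => by
            ext f
            exact nbhdGerm_naturality a ha l hl g.unop f } } (op N)) f

theorem nbhdGerm_nbhdOfScheme (V : U.left.Etale) (z : (Scheme.pointSmallEtale l.left).fiber.obj V)
    (c : Γ(V.left, ⊤)) :
    nbhdGerm a ha l hl (nbhdOfScheme a ha l hl V z) (ULift.up c) = ULift.up (funGerm l.left V z c) := by
  apply ULift.ext
  rw [nbhdGerm_apply]
  have h1 := funGerm_map l.left (toUUnit a ha V) z
    ((toUSnd a ha ((EtOver.ofChart a ha).obj V)).appTop c)
  rw [toUUnit_pt a ha l hl V z] at h1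
  refine h1.symm.trans (congrArg (funGerm l.left V z) ?_)
  exact ((ConcreteCategory.congr_hom (Scheme.Hom.comp_appTop _ _) c).symm.trans
    (congrArg (fun k : V.left ⟶ V.left => k.appTop c) (toUUnit_snd a ha V))).trans
      (ConcreteCategory.congr_hom (Scheme.Hom.id_appTop) c)

theorem stalkToChart_bijective (hX : IsAlgSpace X) (hp : p.IsGeometric) :
    Function.Bijective (stalkToChart a ha l hl).hom := by
  have := preservesFilteredColimitsOfSize_shrink.{u, u + 1, u, u + 1} (forget CommRingCat.{u + 1})
  have : HasColimitsOfSize.{u, u} CommRingCat.{u + 1} := hasColimitsOfSizeShrink.{u, u, u + 1, u + 1} _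
  let Φ := etPoint p hX hp
  refine ⟨(injective_iff_map_eq_zero _).2 fun x hx => ?_, fun x => ?_⟩
  · obtain ⟨E, y, f, rfl⟩ := Φ.toPresheafFiber_jointly_surjective (P := (OEt X).obj) x
    replace hx : (nbhdGerm a ha l hl ⟨E, y⟩ f).down = 0 := by
      rw [← stalkToChart_ι a ha l hl ⟨E, y⟩ f]
      exact congrArg ULift.down hx
    rw [nbhdGerm_apply] at hx
    obtain ⟨W, g, z, hz, hg⟩ := ((Scheme.pointSmallEtale l.left).toPresheafFiber_eq_iff'
      (P := EtBase.OO U.left) _ _ _ 0).1 (hx.trans (map_zero _).symm)
    let P : EtOver X := EtOver.prodObj (EtOver.mk a ha) E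
    have hgw : g.left ≫ (EtOver.prodFst (EtOver.mk a ha) E).hom.left.left = W.hom := MorphismProperty.Over.w g
    let gO : EtOver.overOfEtale W ⟶ P.obj.left := Over.homMk g.left (by
      change g.left ≫ P.obj.left.hom = W.hom ≫ U.hom
      rw [← hgw, Category.assoc]
      exact congrArg (g.left ≫ ·) (Over.w (EtOver.prodFst (EtOver.mk a ha) E).hom.left).symm)
    have hgO : gO ≫ (EtOver.prodFst (EtOver.mk a ha) E).hom.left = EtOver.homOfEtale W :=
      Over.OverMorphism.ext hgw
    let q : (EtOver.ofChart a ha).obj W ⟶ P := EtOver.homMk gO (by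
      change (yon S).map gO ≫ (yon S).map (EtOver.prodFst (EtOver.mk a ha) E).hom.left ≫ a =
        (yon S).map (EtOver.homOfEtale W) ≫ a
      rw [← Category.assoc, ← Functor.map_comp, hgO])
    let k : nbhdOfScheme a ha l hl W z ⟶ (⟨E, y⟩ : EtNbhd p) :=
      CategoryOfElements.homMk _ _ (q ≫ EtOver.prodSnd (EtOver.mk a ha) E) (Subtype.ext (by
        refine Over.OverMorphism.ext ?_
        have hz' : (z.left : Spec (CommRingCat.of p.K) ⟶ W.left) ≫ g.left = (toUPt a ha l hl ⟨E, y⟩).left :=
          congrArg CommaMorphism.left hz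
        change (z.left : Spec (CommRingCat.of p.K) ⟶ W.left) ≫ g.left ≫ toUSnd a ha E = y.1.left
        rw [← Category.assoc, hz']
        exact toUPt_snd a ha l hl ⟨E, y⟩))
    have hk : ((OEt X).obj.map k.val.op).hom f = 0 := by
      apply ULift.ext
      change (g.left ≫ toUSnd a ha E).appTop f.down = 0
      rw [Scheme.Hom.comp_appTop]
      exact hg.trans (map_zero _)
    have hw := Φ.toPresheafFiber_w_apply k.val (nbhdOfScheme a ha l hl W z).2 (OEt X).obj f
    rw [show Φ.fiber.map k.val (nbhdOfScheme a ha l hl W z).2 = y from k.property] at hw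
    exact hw.symm.trans ((congrArg _ hk).trans (map_zero _))
  · obtain ⟨r⟩ := x
    obtain ⟨V, z, c, rfl⟩ := funGerm_surjective l.left r
    refine ⟨(stalkEtι p (OEt X) (nbhdOfScheme a ha l hl V z)).hom (ULift.up c), ?_⟩
    rw [stalkToChart_ι]
    exact nbhdGerm_nbhdOfScheme a ha l hl V z c

/-- The etale local ring of the space is that of the chart at the lift. -/
theorem exists_equiv_etaleLocalRing (hX : IsAlgSpace X) (hp : p.IsGeometric) (a : (yon S).obj U ⟶ X)
    (ha : RepWith @Etale a) (l : p.pt ⟶ U) (hl : (yon S).map l ≫ a = p.toHom) :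
    Nonempty (↥(OEtStalk p) ≃+* ↥(EtBase.etaleLocalRing l.left)) :=
  ⟨(RingEquiv.ofBijective _ (stalkToChart_bijective a ha l hl hX hp)).trans ULift.ringEquiv⟩

end Stalk

section Transfer

universe v w

open Polynomial in
theorem henselianLocalRing_of_ringEquiv {R : Type v} {R' : Type w} [CommRing R] [CommRing R']
    [HenselianLocalRing R] (e : R ≃+* R') : HenselianLocalRing R' := by
  have : IsLocalRing R' := e.isLocalRing
  have hm : ∀ x : R', x ∈ IsLocalRing.maximalIdeal R' ↔ e.symm x ∈ IsLocalRing.maximalIdeal R := fun x => by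
    rw [IsLocalRing.mem_maximalIdeal, IsLocalRing.mem_maximalIdeal, mem_nonunits_iff, mem_nonunits_iff,
      MulEquiv.isUnit_map]
  refine ⟨fun f hf a₀ h₁ h₂ => ?_⟩
  obtain ⟨r, hr, hr'⟩ := HenselianLocalRing.is_henselian (f.map e.symm.toRingHom) (hf.map _) (e.symm a₀)
    (by rw [show e.symm a₀ = e.symm.toRingHom a₀ from rfl, eval_map_apply]; exact (hm _).1 h₁)
    (by rw [derivative_map, show e.symm a₀ = e.symm.toRingHom a₀ from rfl, eval_map_apply]; exact h₂.map _)
  refine ⟨e r, e.symm.injective ?_, (hm _).2 ?_⟩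
  · rw [map_zero]
    have h3 : e.symm.toRingHom (f.eval (e r)) = 0 := by
      rw [← eval_map_apply, show e.symm.toRingHom (e r) = r from e.symm_apply_apply r]
      exact hr
    exact h3
  · rw [map_sub, e.symm_apply_apply]
    exact hr'

theorem isStrictlyHenselianLocalRing_of_ringEquiv {R : Type v} {R' : Type w} [CommRing R] [CommRing R']
    (e : R ≃+* R') (h : EtCoh.IsStrictlyHenselianLocalRing R) : EtCoh.IsStrictlyHenselianLocalRing R' := by
  obtain ⟨hR, hk⟩ := h
  have hR' := henselianLocalRing_of_ringEquiv e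
  refine ⟨hR', ?_⟩
  let k := IsLocalRing.ResidueField.mapEquiv e
  refine IsSepClosed.of_exists_root _ fun f hm hf hs => ?_
  have hf' : (f.map k.symm.toRingHom).degree ≠ 0 := by rw [Polynomial.degree_map]; exact hf.degree_pos.ne'
  obtain ⟨x, hx⟩ := IsSepClosed.exists_root _ hf' (hs.map (f := k.symm.toRingHom))
  refine ⟨k x, k.symm.injective ?_⟩
  rw [map_zero]
  change k.symm.toRingHom (f.eval (k x)) = 0
  rw [← Polynomial.eval_map_apply, show k.symm.toRingHom (k x) = x from k.symm_apply_apply x]
  exact hx

end Transfer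

end Groth.Agent.H12AlgSp
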