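import Groth.Agent.H12AlgSp.LocPCancel
import Groth.Agent.H12AlgSp.Sep

/-!
Finite presentation: diagonals, permanence of Noetherianity.
-/

universe u

open CategoryTheory CategoryTheory.Limits AlgebraicGeometry Opposite
open AlgSp

namespace Groth.Agent.H12AlgSp

variable {S : Scheme.{u}} {X Y : Sp S}

theorem locP_lfp_diagonal (hX : IsAlgSpace X) (hY : IsAlgSpace Y) {f : X ⟶ Y}
    (hf : LocP @LocallyOfFiniteType f) : LocP @LocallyOfFinitePresentation (pullback.diagonal f) := by
  have hlft := locP_of_isPullback etLocal_lft (IsPullback.of_hasPullback f f).flip hX hY hX hf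
  refine locP_of_postcomp etLocal_lfp (fun _ _ _ g h hgh hh =>
    have : LocallyOfFinitePresentation (g ≫ h) := hgh
    have : LocallyOfFiniteType h := hh
    lfp_of_comp g h) hX ?_ hlft
  rw [pullback.diagonal_fst]
  have : MorphismProperty.ContainsIdentities (@LocallyOfFinitePresentation : MorphismProperty Scheme.{u}) :=
    ⟨fun _ => inferInstance⟩
  exact locP_of_repWith etLocal_lfp (repWith_of_isIso (𝟙 X))

theorem isFinitePresentationMor_diagonal (hX : IsAlgSpace X) (hY : IsAlgSpace Y) {f : X ⟶ Y}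
    (hf : LocP @LocallyOfFiniteType f) (hq : IsQuasiSeparatedMor f) :
    IsFinitePresentationMor (pullback.diagonal f) :=
  ⟨locP_lfp_diagonal hX hY hf,
    isQuasiCompactMor_of_repWith hX (isAlgSpace_pullback hY.diag hX hX f f) hq,
    repWith_of_isIso _⟩

theorem isQuasiSeparatedSp_of_mor {f : X ⟶ Y} (hf : IsQuasiSeparatedMor f) (hY : IsQuasiSeparatedSp Y) :
    IsQuasiSeparatedSp X := by
  have h := repWith_comp (P := @QuasiCompact) hf
    (repWith_of_isPullback (isPullback_diag_prodMap (IsPullback.of_hasPullback f f)) hY)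
  have e : pullback.diagonal f ≫ prod.lift (pullback.fst f f) (pullback.snd f f) = Limits.diag X := by
    apply Limits.prod.hom_ext <;> simp
  rwa [e] at h

theorem noetherian_of_finitePresentation (hX : IsAlgSpace X) (hY : IsAlgSpace Y) {f : X ⟶ Y}
    (hf : IsFinitePresentationMor f)
    (h : IsQuasiCompactSp Y ∧ IsQuasiSeparatedSp Y ∧ IsLocNoethSp Y) :
    IsQuasiCompactSp X ∧ IsQuasiSeparatedSp X ∧ IsLocNoethSp X := by
  obtain ⟨hl, hq, hqs⟩ := hf
  obtain ⟨hYc, hYs, V, b, hb, hbs, hV⟩ := h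
  refine ⟨hq hY hYc (𝟙 Y) (𝟙 X) f (IsPullback.of_horiz_isIso ⟨by simp⟩), isQuasiSeparatedSp_of_mor hqs hYs, ?_⟩
  have sq := IsPullback.of_hasPullback f b
  obtain ⟨T, d, hde, hds⟩ := (isAlgSpace_of_isPullback hY.diag hX (IsAlgSpace.yon_obj V) sq).atlas
  obtain ⟨k, hk⟩ := (yon S).map_surjective (d ≫ pullback.snd f b)
  have hTe : RepWith @Etale (d ≫ pullback.fst f b) := repWith_comp hde (repWith_of_isPullback sq.flip hb)
  have : LocallyOfFinitePresentation k.left := hl _ b k hTe hb (by rw [hk, Category.assoc, Category.assoc, sq.w])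
  exact ⟨T, d ≫ pullback.fst f b, hTe, repWith_comp hds (repWith_of_isPullback sq.flip hbs),
    LocallyOfFiniteType.isLocallyNoetherian k.left⟩

end Groth.Agent.H12AlgSp
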