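import Groth.Agent.H12AlgSp.DecentClosed

/-!
Separatedness of group and groupoid objects with decent total space over a field.
-/

set_option backward.isDefEq.respectTransparency false

universe u

open CategoryTheory CategoryTheory.Limits AlgebraicGeometry Opposite Topology
open AlgSp Groth.Agent.H13AlgSp

namespace Groth.Agent.H12AlgSp

variable {S : Scheme.{u}}

/-- A separated morphism to a space separated over the base has source separated over the base. -/
theorem isSeparatedSp_of_mor {X U : Sp S} (f : X ⟶ U) (hf : IsSeparatedMor f) (hU : IsSeparatedSp U) :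
    IsSeparatedSp X := by
  have sq : IsPullback (pullback.fst f f ≫ f) (prod.lift (pullback.fst f f) (pullback.snd f f))
      (Limits.diag U) (prod.map f f) := by
    refine ⟨⟨?_⟩, ⟨PullbackCone.isLimitAux' _ fun c => ?_⟩⟩
    · ext <;> simp [pullback.condition]
    have h1 := congrArg (fun t => t ≫ (prod.fst : U ⨯ U ⟶ U)) c.condition
    have h2 := congrArg (fun t => t ≫ (prod.snd : U ⨯ U ⟶ U)) c.condition
    simp only [Category.assoc, Limits.diag, prod.lift_fst, prod.lift_snd, Category.comp_id, prod.map_fst,
      prod.map_snd] at h1 h2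
    refine ⟨pullback.lift (c.snd ≫ prod.fst) (c.snd ≫ prod.snd)
      (by rw [Category.assoc, Category.assoc, ← h1, ← h2]), ?_, ?_, fun {m : c.pt ⟶ pullback f f} _ hm => ?_⟩
    · change pullback.lift _ _ _ ≫ pullback.fst f f ≫ f = c.fst
      rw [pullback.lift_fst_assoc, Category.assoc, h1]
    · change pullback.lift _ _ _ ≫ prod.lift _ _ = c.snd
      ext
      · rw [Category.assoc, prod.lift_fst, pullback.lift_fst]
      · rw [Category.assoc, prod.lift_snd, pullback.lift_snd]
    · change m ≫ prod.lift _ _ = c.snd at hm
      apply pullback.hom_ext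
      · rw [pullback.lift_fst, ← hm, Category.assoc, prod.lift_fst]
      · rw [pullback.lift_snd, ← hm, Category.assoc, prod.lift_snd]
  have e : Limits.diag X = pullback.diagonal f ≫ prod.lift (pullback.fst f f) (pullback.snd f f) := by
    ext <;> simp
  unfold IsSeparatedSp
  rw [e]
  exact repWith_comp hf (repWith_of_isPullback sq hU)

theorem isSeparatedSp_yon {A : Over S} (hA : IsSeparated A.hom) : IsSeparatedSp ((yon S).obj A) :=
  (repWith_diag_yon_iff @IsClosedImmersion A).2 hA.1

/-- In a groupoid, the diagonal of the source map is a base change of the identity section. -/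
theorem isPullback_diagonal_s_e {B : Sp S} (G : GroupoidSp B) :
    IsPullback G.t (pullback.diagonal G.s) G.e
      (pullback.lift (pullback.fst G.s G.s) (pullback.snd G.s G.s ≫ G.i)
        (by rw [Category.assoc, G.i_t, pullback.condition]) ≫ G.c) := by
  have key : ∀ {T : Sp S} (a b : T ⟶ G.R) (h : a ≫ G.s = b ≫ G.s) (u : T ⟶ G.U),
      u ≫ G.e = pullback.lift a (b ≫ G.i) (by rw [Category.assoc, G.i_t, h]) ≫ G.c → u = a ≫ G.t ∧ b = a := by
    intro T a b h u he
    have hu : u = a ≫ G.t := by
      rw [← G.comp_t a (b ≫ G.i) (by rw [Category.assoc, G.i_t, h]), ← he, Category.assoc, G.e_t,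
        Category.comp_id]
    have hu' : u = b ≫ G.t := by
      have := G.comp_s a (b ≫ G.i) (by rw [Category.assoc, G.i_t, h])
      rw [← he, Category.assoc, G.e_s, Category.comp_id, Category.assoc, G.i_s] at this
      exact this
    refine ⟨hu, ?_⟩
    calc b = pullback.lift (b ≫ G.t ≫ G.e) b (by
              rw [Category.assoc, Category.assoc, G.e_s, Category.comp_id]) ≫ G.c := (G.e_comp b).symm
      _ = pullback.lift (pullback.lift a (b ≫ G.i) (by rw [Category.assoc, G.i_t, h]) ≫ G.c) b ((G.comp_s a (b ≫ G.i) _).trans
            (by rw [Category.assoc, G.i_s])) ≫ G.c := by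
          congr 1
          apply pullback.hom_ext
          · rw [pullback.lift_fst, pullback.lift_fst, ← he, hu', Category.assoc]
          · rw [pullback.lift_snd, pullback.lift_snd]
      _ = pullback.lift a (pullback.lift (b ≫ G.i) b (by rw [Category.assoc, G.i_s]) ≫ G.c)
            ((show a ≫ G.s = (b ≫ G.i) ≫ G.t by rw [Category.assoc, G.i_t, h]).trans
              (G.comp_t (b ≫ G.i) b _).symm) ≫ G.c := G.assoc a (b ≫ G.i) b _ _
      _ = a := by
          conv_rhs => rw [← G.comp_e a]
          congr 1
          apply pullback.hom_ext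
          · rw [pullback.lift_fst, pullback.lift_fst]
          · rw [pullback.lift_snd, pullback.lift_snd, G.i_comp b, ← Category.assoc, ← h, Category.assoc]
  refine ⟨⟨?_⟩, ⟨PullbackCone.isLimitAux' _ fun c => ?_⟩⟩
  · have hl : pullback.diagonal G.s ≫ pullback.lift (pullback.fst G.s G.s) (pullback.snd G.s G.s ≫ G.i)
        (by rw [Category.assoc, G.i_t, pullback.condition]) =
        pullback.lift (𝟙 G.R) (𝟙 G.R ≫ G.i) (by rw [Category.assoc, G.i_t]) := by
      apply pullback.hom_ext <;>
        simp only [Category.assoc, pullback.lift_fst, pullback.lift_snd, pullback.diagonal_fst,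
          pullback.diagonal_snd_assoc, Category.id_comp]
    rw [← Category.assoc (pullback.diagonal G.s), hl, G.comp_i, Category.id_comp]
  have hl : c.snd ≫ pullback.lift (pullback.fst G.s G.s) (pullback.snd G.s G.s ≫ G.i)
      (by rw [Category.assoc, G.i_t, pullback.condition]) =
      pullback.lift (c.snd ≫ pullback.fst G.s G.s) ((c.snd ≫ pullback.snd G.s G.s) ≫ G.i)
        (by simp only [Category.assoc, G.i_t, pullback.condition]) := by
    apply pullback.hom_ext <;> simp only [Category.assoc, pullback.lift_fst, pullback.lift_snd]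
  obtain ⟨hu, hb⟩ := key (c.snd ≫ pullback.fst G.s G.s) (c.snd ≫ pullback.snd G.s G.s)
    (by simp only [Category.assoc, pullback.condition]) c.fst
    (c.condition.trans ((Category.assoc _ _ _).symm.trans (congrArg (· ≫ G.c) hl)))
  refine ⟨c.snd ≫ pullback.fst G.s G.s, hu.symm, ?_, fun {m : c.pt ⟶ G.R} _ hm => ?_⟩
  · change (c.snd ≫ pullback.fst G.s G.s) ≫ pullback.diagonal G.s = c.snd
    apply pullback.hom_ext
    · simp only [Category.assoc, pullback.diagonal_fst, Category.comp_id]
    · simp only [Category.assoc, pullback.diagonal_snd, Category.comp_id, hb]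
  · change m ≫ pullback.diagonal G.s = c.snd at hm
    simp only [← hm, Category.assoc, pullback.diagonal_fst, Category.comp_id]

end Groth.Agent.H12AlgSp
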