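import Groth.Agent.H12AlgSp.LimitDescend
import Groth.Agent.H18Descent.Basic

/-!
Descent along limits of properties of morphisms which imply being affine.
-/

universe u

open CategoryTheory CategoryTheory.Limits AlgebraicGeometry Opposite
open AlgSp Groth.Agent.H13AlgSp

set_option backward.isDefEq.respectTransparency false

attribute [local instance] CategoryTheory.isConnected_of_hasTerminal

namespace Groth.Agent.H12AlgSp

variable {S : Scheme.{u}}

/-- Products of quasi-separated spaces are quasi-separated. -/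
theorem isQuasiSeparatedSp_prod {F G : Sp S} (hF : IsQuasiSeparatedSp F) (hG : IsQuasiSeparatedSp G) :
    IsQuasiSeparatedSp (F ⨯ G) := by
  let e : (F ⨯ F) ⨯ (G ⨯ G) ≅ (F ⨯ G) ⨯ (F ⨯ G) :=
    { hom := prod.lift (prod.map prod.fst prod.fst) (prod.map prod.snd prod.snd)
      inv := prod.lift (prod.map prod.fst prod.fst) (prod.map prod.snd prod.snd)
      hom_inv_id := by
        apply Limits.prod.hom_ext <;> apply Limits.prod.hom_ext <;> simp
      inv_hom_id := by
        apply Limits.prod.hom_ext <;> apply Limits.prod.hom_ext <;> simp }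
  have h : Limits.diag (F ⨯ G) = prod.map (Limits.diag F) (Limits.diag G) ≫ e.hom := by
    apply Limits.prod.hom_ext <;> apply Limits.prod.hom_ext <;> simp [e]
  change RepWith @QuasiCompact (Limits.diag (F ⨯ G))
  rw [h]
  have : IsIso e.hom := Iso.isIso_hom e
  exact MorphismProperty.RespectsIso.postcomp _ _ _ (repWith_prodMap hF hG)

/-- Fibre products of quasi-separated spaces are quasi-separated. -/
theorem isQuasiSeparatedSp_pullback {F G H : Sp S} (hF : IsQuasiSeparatedSp F) (hG : IsQuasiSeparatedSp G)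
    (f : F ⟶ H) (g : G ⟶ H) : IsQuasiSeparatedSp (pullback f g) := by
  let m := prod.lift (pullback.fst f g) (pullback.snd f g)
  have : Mono m := ⟨fun x y h => by
    have h₁ := h =≫ prod.fst
    have h₂ := h =≫ prod.snd
    simp only [m, Category.assoc, prod.lift_fst, prod.lift_snd] at h₁ h₂
    exact pullback.hom_ext h₁ h₂⟩
  exact isQuasiSeparatedSp_of_mono (isQuasiSeparatedSp_prod hF hG) m

theorem isQuasiSeparatedSp_yon [QuasiSeparatedSpace S] {U : Over S} (h : QuasiSeparatedSpace U.left) :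
    IsQuasiSeparatedSp ((yon S).obj U) :=
  have : QuasiSeparated U.hom := QuasiSeparated.of_comp U.hom (terminal.from S)
  (repWith_diag_yon_iff @QuasiCompact U).2 this.1

theorem etLocal_top : EtLocal (⊤ : MorphismProperty Scheme.{u}) where
  baseChange := inferInstance
  comp := inferInstance
  etale_le := le_top
  descends _ _ _ _ _ := trivial

/-- Properties implying affineness descend. -/
theorem descendsToBase_affineType [QuasiSeparatedSpace S] {P Q : MorphismProperty Scheme.{u}}
    [P.IsStableUnderBaseChange] [IsZariskiLocalAtTarget P] [P.DescendsAlong Groth.Agent.H18Descent.fpqc.{u}]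
    [Q.IsStableUnderBaseChange] (hPaff : P ≤ @IsAffineHom) (hQ : EtLocal Q)
    (hdesc : Groth.Agent.H7Lim.DescendsAffine P Q) :
    DescendsToBase (S := S) (RepWith P) (LocP Q) := by
  intro J _ _ E d h e X₀ f₀ hX₀ hXqc hXqs hQf X f pX hX hf
  obtain ⟨hd⟩ := h.isLimit
  obtain ⟨A⟩ := exists_atlasSystem_of_qc h.affine hd h.alg e (h.qc e)
  let j₀ : Over e := Over.mk (𝟙 e)
  let a₀ : (yon S).obj (A.U.obj j₀) ⟶ E.obj e := A.a j₀
  let x' := pullback.snd f₀ a₀
  have hX' : IsAlgSpace (pullback f₀ a₀) := isAlgSpace_pullback (h.alg e).diag hX₀ (IsAlgSpace.yon_obj _) f₀ a₀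
  have := A.affine j₀
  have hX'c : IsQuasiCompactSp (pullback f₀ a₀) :=
    isQuasiCompactMor_pullback (isQuasiCompactMor_of_qc_qs hX₀ (h.alg e) f₀ hXqc (h.qs e)) _ a₀
  have hX's : IsQuasiSeparatedSp (pullback f₀ a₀) :=
    isQuasiSeparatedSp_pullback hXqs (isQuasiSeparatedSp_yon inferInstance) f₀ a₀
  -- maps which are base changes of `f₀` along the limit chart
  have key : ∀ {R : Sp S} (m : R ⟶ X₀) (r : R ⟶ (yon S).obj A.cU.pt),
      IsPullback m r f₀ (A.aLim ≫ d.π.app e) → RepWith P r := fun {R} m r sq =>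
    repWith_of_isPullback (fst := hX.lift m (r ≫ A.aLim) (by rw [Category.assoc]; exact sq.w))
      (IsPullback.of_right (by rw [hX.lift_fst]; exact sq) (hX.lift_snd _ _ _) hX) hf
  -- the system of affine charts
  let G : Over e ⥤ Sp S := A.U ⋙ yon S
  have hGa : ∀ j k (φ : j ⟶ k), IsAffineMor (G.map φ) := fun j k φ =>
    isAffineMor_iff.2 ((repWith_yon_map_iff @IsAffineHom _).2
      (have := A.affine j; have := A.affine k; inferInstance))
  have hGl : IsLimit ((yon S).mapCone A.cU) := isLimitOfPreserves _ A.isLimit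
  let πG : (yon S).obj A.cU.pt ⟶ G.obj j₀ := (yon S).map (A.cU.π.app j₀)
  have hπG : πG ≫ a₀ = A.aLim ≫ d.π.app e := (A.sqLim j₀).w
  have hY : IsPullback (pullback.fst x' πG) (pullback.snd x' πG) x' (((yon S).mapCone A.cU).π.app j₀) :=
    IsPullback.of_hasPullback _ _
  have hrl : RepWith P (pullback.snd x' πG) := key (pullback.fst x' πG ≫ pullback.fst f₀ a₀) _ (by
    rw [← hπG]
    exact (IsPullback.of_hasPullback x' πG).paste_horiz (IsPullback.of_hasPullback f₀ a₀))
  obtain ⟨T, ⟨μ⟩⟩ := exists_iso_yon_of_representable hrl.1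
  obtain ⟨w, hw⟩ := (yon S).map_surjective (μ.hom ≫ pullback.snd x' πG)
  have : IsAffineHom w.left := hPaff _ ((repWith_yon_map_iff P _).1
    (hw ▸ MorphismProperty.RespectsIso.precomp _ _ _ hrl))
  have := A.affineLim
  have hT : IsAffine T.left := isAffine_of_isAffineHom w.left
  obtain ⟨hlim'⟩ := nonempty_isLimit_bcCone G x' hY hGl
  obtain ⟨l, hl⟩ := exists_affine_of_affine_limit (isAlgSpace_bcDiagram (fun j => IsAlgSpace.yon_obj _) hX')
    (isAffineMor_bcDiagram_map hGa) hlim'
    (isQuasiCompactSp_bcDiagram (fun j => IsAlgSpace.yon_obj _) hGa hX' hX'c)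
    (isQuasiSeparatedSp_bcDiagram hGa hX's) hT μ
  obtain ⟨Tl, hTl, ⟨eT⟩⟩ := hl l (𝟙 l)
  obtain ⟨k, hk⟩ := (yon S).map_surjective (eT.hom ≫ pullback.snd x' (G.map l.hom))
  have sq' : IsPullback (eT.hom ≫ pullback.fst x' (G.map l.hom)) ((yon S).map k) x' (G.map l.hom) :=
    IsPullback.of_iso_pullback ⟨by rw [hk, Category.assoc, Category.assoc, pullback.condition]⟩ eT rfl hk.symm
  have sqk := sq'.paste_horiz (IsPullback.of_hasPullback f₀ a₀)
  have hla : G.map l.hom ≫ a₀ = A.a l.left ≫ E.map l.left.hom := by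
    have hw : l.hom.left = l.left.hom := by simpa [j₀] using Over.w l.hom
    rw [← hw]
    exact (A.sq l.hom).w
  rw [hla] at sqk
  have hQk : Q k.left :=
    (locP_of_isPullback hQ sq' hX' (IsAlgSpace.yon_obj _) (IsAlgSpace.yon_obj _)
      (locP_of_isPullback hQ (IsPullback.of_hasPullback f₀ a₀) hX₀ (h.alg e) (IsAlgSpace.yon_obj _) hQf))
      (𝟙 _) (𝟙 _) k (repWith_id _ _) (repWith_id _ _) (by rw [Category.id_comp, Category.comp_id])
  have hPk : P (pullback.snd k (A.cU.π.app l.left)).left := (repWith_yon_map_iff P _).1 (key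
    ((yon S).map (pullback.fst k (A.cU.π.app l.left)) ≫ (eT.hom ≫ pullback.fst x' (G.map l.hom)) ≫ pullback.fst f₀ a₀) _ (by
    have hla' : (yon S).map (A.cU.π.app l.left) ≫ A.a l.left ≫ E.map l.left.hom = A.aLim ≫ d.π.app e := by
      rw [← Category.assoc, (A.sqLim l.left).w, Category.assoc, d.w]
    rw [← hla']
    exact ((IsPullback.of_hasPullback k (A.cU.π.app l.left)).map (yon S)).paste_horiz sqk))
  have hlim : IsLimit ((Over.forget S).mapCone A.cU) := isLimitOfPreserves _ A.isLimit
  have : ∀ j, IsAffine ((A.U ⋙ Over.forget S).obj j) := fun j => A.affine j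
  have : IsAffine Tl.left := hTl
  have : QuasiSeparatedSpace Tl.left := inferInstance
  obtain ⟨n, χ, hn⟩ := hdesc (Over e) (A.U ⋙ Over.forget S) _ hlim l.left
    (show Tl.left ⟶ (A.U ⋙ Over.forget S).obj l.left from k.left) hQk
    ((Groth.Agent.H7Lim.prop_iff_of_isPullback
      ((IsPullback.of_hasPullback k (A.cU.π.app l.left)).map (Over.forget S))).1 hPk)
  have hPn : P (pullback.snd k (A.U.map χ)).left :=
    (Groth.Agent.H7Lim.prop_iff_of_isPullback ((IsPullback.of_hasPullback k (A.U.map χ)).map (Over.forget S))).2 hn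
  refine ⟨n.left, n.hom, fun Z g hg Xj fj p hXj => ?_⟩
  have hp : (A.a n ≫ inv g) ≫ g ≫ E.map n.hom = (yon S).map (A.U.map χ) ≫ A.a l.left ≫ E.map l.left.hom := by
    rw [Category.assoc, IsIso.inv_hom_id_assoc, ← Category.assoc ((yon S).map _), (A.sq χ).w, Category.assoc,
      ← E.map_comp, Over.w χ]
  have sqn := ((IsPullback.of_hasPullback k (A.U.map χ)).map (yon S)).paste_horiz sqk
  have hZ : IsAlgSpace Z := (h.alg n.left).of_iso (asIso g).symm
  have hXa : IsAlgSpace Xj := isAlgSpace_of_isPullback (h.alg e).diag hX₀ hZ hXj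
  refine repWith_of_etale_cover hPaff hXa hZ (MorphismProperty.RespectsIso.postcomp _ _ _ (A.etale n))
    (MorphismProperty.RespectsIso.postcomp _ _ _ (A.surjective n))
    (fst := hXj.lift _ ((yon S).map (pullback.snd k (A.U.map χ)) ≫ A.a n ≫ inv g)
      (by rw [sqn.w, Category.assoc ((yon S).map (pullback.snd k (A.U.map χ))), hp]))
    (IsPullback.of_right ?_ (hXj.lift_snd _ _ _) hXj) ((repWith_yon_map_iff P _).2 hPn)
  rw [hXj.lift_fst, hp]
  exact sqn

end Groth.Agent.H12AlgSp
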