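import Groth.Agent.H12AlgSp.QSPullback
import Groth.Agent.H12AlgSp.AffineMor

/-!
Consequences of quasi-separatedness over a quasi-separated base.
-/

universe u

open CategoryTheory CategoryTheory.Limits AlgebraicGeometry Opposite Topology
open AlgSp Groth.Agent.H13AlgSp

namespace Groth.Agent.H12AlgSp

variable {S : Scheme.{u}} [QuasiSeparatedSpace S]

/-- Over a quasi-separated base, fibre products of compact schemes over a quasi-separated space are compact. -/
theorem compactSpace_of_isPullback' {X : Sp S} (hX : IsQuasiSeparatedSp X) {U V P : Over S}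
    [CompactSpace U.left] [CompactSpace V.left]
    {a : (yon S).obj U ⟶ X} {b : (yon S).obj V ⟶ X} {p : P ⟶ U} {q : P ⟶ V}
    (sq : IsPullback ((yon S).map p) ((yon S).map q) a b) : CompactSpace P.left := by
  have : QuasiCompact U.hom := quasiCompact_of_compactSpace _
  exact compactSpace_of_isPullback hX sq

theorem isQuasiCompactMor_of_qc_qs {X Y : Sp S} (hX : IsAlgSpace X) (hY : IsAlgSpace Y) (f : X ⟶ Y)
    (hXc : IsQuasiCompactSp X) (hYs : IsQuasiSeparatedSp Y) : IsQuasiCompactMor f := by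
  refine isQuasiCompactMor_of_affine hX hY fun T hT g => ?_
  have := compactSpace_points_of_isQuasiCompactSp hXc
  obtain ⟨U, a, hU, ha, has⟩ := exists_affine_atlas hX
  obtain ⟨R, r, p', sq⟩ := hY.representable_from_yon (a ≫ f) g
  obtain ⟨p, rfl⟩ := (yon S).map_surjective p'
  have : CompactSpace R.left := compactSpace_of_isPullback' hYs sq
  let k : (yon S).obj R ⟶ pullback f g :=
    pullback.lift ((yon S).map p ≫ a) ((yon S).map r) (by rw [Category.assoc, sq.w])
  have hk₁ : (yon S).map p ≫ a = k ≫ pullback.fst f g := (pullback.lift_fst _ _ _).symm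
  have big : IsPullback ((yon S).map p) (k ≫ pullback.snd f g) (a ≫ f) g := by
    rw [show k ≫ pullback.snd f g = (yon S).map r from pullback.lift_snd _ _ _]
    exact sq
  have sqk : IsPullback k ((yon S).map p) (pullback.fst f g) a :=
    (IsPullback.of_bot big hk₁ (IsPullback.of_hasPullback f g)).flip
  have hs : Function.Surjective (Points.map k) := by
    intro z
    obtain ⟨u, hu⟩ := surjective_map_of_repWith le_rfl has (Points.map (pullback.fst f g) z)
    obtain ⟨w, hw, -⟩ := exists_point_of_isPullback sqk z u hu.symm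
    exact ⟨w, hw⟩
  exact isQuasiCompactSp_of_surjective (isAlgSpace_pullback hY.diag hX (IsAlgSpace.yon_obj T) f g) k hs
    (isQuasiCompactSp_yon_iff.2 inferInstance)

theorem qcqs_of_isPullback {X Y Z P : Sp S} (hX : IsAlgSpace X) (hY : IsAlgSpace Y) (hZ : IsAlgSpace Z)
    (hP : IsAlgSpace P) {f : X ⟶ Y} {g : Z ⟶ Y} {fst : P ⟶ X} {snd : P ⟶ Z} (sq : IsPullback fst snd f g)
    (hXc : IsQuasiCompactSp X) (hXs : IsQuasiSeparatedSp X) (hYs : IsQuasiSeparatedSp Y)
    (hZc : IsQuasiCompactSp Z) (hZs : IsQuasiSeparatedSp Z) :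
    IsQuasiCompactSp P ∧ IsQuasiSeparatedSp P := by
  refine ⟨isQuasiCompactMor_of_qc_qs hX hY f hXc hYs hZ hZc g fst snd sq,
    isQuasiSeparatedSp_of_compact hP fun A B W a b p q hA hB sqW => ?_⟩
  obtain ⟨W₁, q₁, p₁', sq₁⟩ := hX.representable_from_yon (a ≫ fst) (b ≫ fst)
  obtain ⟨p₁, rfl⟩ := (yon S).map_surjective p₁'
  obtain ⟨W₂, q₂, p₂', sq₂⟩ := hZ.representable_from_yon (a ≫ snd) (b ≫ snd)
  obtain ⟨p₂, rfl⟩ := (yon S).map_surjective p₂'
  have : CompactSpace W₁.left := compactSpace_of_isPullback' hXs sq₁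
  have hq₂ : QuasiCompact (prod.lift p₂ q₂).left :=
    (repWith_yon_map_iff @QuasiCompact _).1 (repWith_of_isPullback (isPullback_diag_prodHom sq₂) hZs)
  let l₁ := prod.lift p₁ q₁
  let l₂ := prod.lift p₂ q₂
  have : QuasiCompact (pullback.fst l₁ l₂).left :=
    MorphismProperty.of_isPullback ((IsPullback.of_hasPullback l₁ l₂).map (Over.forget S)).flip hq₂
  have : CompactSpace (pullback l₁ l₂).left :=
    QuasiCompact.compactSpace_of_compactSpace (pullback.fst l₁ l₂).left
  have ep : pullback.fst l₁ l₂ ≫ p₁ = pullback.snd l₁ l₂ ≫ p₂ := by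
    have h := pullback.condition (f := l₁) (g := l₂) =≫ prod.fst
    rwa [Category.assoc, Category.assoc, prod.lift_fst, prod.lift_fst] at h
  have eq : pullback.fst l₁ l₂ ≫ q₁ = pullback.snd l₁ l₂ ≫ q₂ := by
    have h := pullback.condition (f := l₁) (g := l₂) =≫ prod.snd
    rwa [Category.assoc, Category.assoc, prod.lift_snd, prod.lift_snd] at h
  obtain ⟨d, hd⟩ := (yon S).map_surjective (sqW.lift ((yon S).map (pullback.fst l₁ l₂ ≫ p₁))
    ((yon S).map (pullback.fst l₁ l₂ ≫ q₁)) (by
      apply sq.hom_ext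
      · simp only [Functor.map_comp, Category.assoc, sq₁.w]
      · conv_lhs => rw [ep]
        conv_rhs => rw [eq]
        simp only [Functor.map_comp, Category.assoc, sq₂.w]))
  obtain ⟨e₁, he₁⟩ := (yon S).map_surjective (sq₁.lift ((yon S).map p) ((yon S).map q)
    (by rw [← Category.assoc, sqW.w, Category.assoc]))
  obtain ⟨e₂, he₂⟩ := (yon S).map_surjective (sq₂.lift ((yon S).map p) ((yon S).map q)
    (by rw [← Category.assoc, sqW.w, Category.assoc]))
  have e₁p : e₁ ≫ p₁ = p := (yon S).map_injective (by rw [Functor.map_comp, he₁, sq₁.lift_fst])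
  have e₁q : e₁ ≫ q₁ = q := (yon S).map_injective (by rw [Functor.map_comp, he₁, sq₁.lift_snd])
  have e₂p : e₂ ≫ p₂ = p := (yon S).map_injective (by rw [Functor.map_comp, he₂, sq₂.lift_fst])
  have e₂q : e₂ ≫ q₂ = q := (yon S).map_injective (by rw [Functor.map_comp, he₂, sq₂.lift_snd])
  let e : W ⟶ pullback l₁ l₂ := pullback.lift e₁ e₂ (by
    apply Limits.prod.hom_ext <;> simp [l₁, l₂, e₁p, e₁q, e₂p, e₂q])
  have hde : e ≫ d = 𝟙 W := (yon S).map_injective (by
    rw [Functor.map_comp, CategoryTheory.Functor.map_id, hd]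
    apply sqW.hom_ext
    · rw [Category.assoc, sqW.lift_fst, ← Functor.map_comp, Category.id_comp, pullback.lift_fst_assoc, e₁p]
    · rw [Category.assoc, sqW.lift_snd, ← Functor.map_comp, Category.id_comp, pullback.lift_fst_assoc, e₁q])
  have hsurj : Function.Surjective d.left := fun w => ⟨e.left w, by
    rw [← Scheme.Hom.comp_apply, ← Over.comp_left, hde]; rfl⟩
  exact hsurj.compactSpace d.left.continuous

theorem isAffineMor_from_artinian {X : Sp S} (hX : IsAlgSpace X) (hXs : IsQuasiSeparatedSp X) {A : Type u}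
    [CommRing A] [IsArtinianRing A] {str : Spec (CommRingCat.of A) ⟶ S}
    (a : (yon S).obj (Over.mk str) ⟶ X) : IsAffineMor a := by
  refine isAffineMor_of_etale_affines (IsAlgSpace.yon_obj _) hX fun V hV b hb P fst snd sq => ?_
  obtain ⟨W, p, q', sqW⟩ := hb.1 a
  obtain ⟨q, rfl⟩ := (yon S).map_surjective q'
  let p' : W.left ⟶ Spec (CommRingCat.of A) := p.left
  have : Etale p' := hb.2 a _ p sqW
  have : CompactSpace (Over.mk str).left := inferInstanceAs (CompactSpace (Spec (CommRingCat.of A)))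
  have : CompactSpace W.left := compactSpace_of_isPullback' hXs sqW
  have : QuasiCompact p' := (quasiCompact_iff_compactSpace p').2 inferInstance
  have := lqf_of_etale p'
  have : IsFinite p' := IsFinite.of_locallyQuasiFinite p'
  exact ⟨W, isAffine_of_isAffineHom p', ⟨sqW.flip.isoIsPullback _ _ sq⟩⟩

end Groth.Agent.H12AlgSp
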