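import Groth.Agent.H12AlgSp.LimitImmersion
import Groth.Agent.H12AlgSp.LimitSep
import Groth.Agent.H12AlgSp.LimitScheme
import Groth.Agent.H12AlgSp.LimitDescendAffine
import Groth.Agent.H12AlgSp.DecentSeparated
import Groth.Agent.H12AlgSp.Proper
import Groth.Agent.H12AlgSp.QSApps

/-!
If the limit of a system over a space is separated over it, so is some stage.
-/

universe u

open CategoryTheory CategoryTheory.Limits AlgebraicGeometry Opposite Topology
open AlgSp Groth.Agent.H13AlgSp

set_option backward.isDefEq.respectTransparency false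

namespace Groth.Agent.H12AlgSp

variable {S : Scheme.{u}} {I : Type u} [SmallCategory I] [IsCofiltered I]

/-- An affine scheme is separated over any base. -/
theorem isSeparatedSp_yon_affine {V : Over S} [IsAffine V.left] : IsSeparatedSp ((yon S).obj V) :=
  isSeparatedSp_yon (IsSeparated.of_comp V.hom (terminal.from S))

/-- A map from the limit of a system of quasi-compact spaces which is separated is separated from some stage. -/
theorem eventually_isSeparatedMor [QuasiSeparatedSpace S] {D : I ⥤ Sp S} (hD : ∀ i, IsAlgSpace (D.obj i))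
    (hDa : ∀ (i j : I) (φ : i ⟶ j), IsAffineMor (D.map φ)) {c : Cone D} (hc : IsLimit c)
    {Y : Sp S} (hY : IsAlgSpace Y) (hYs : IsQuasiSeparatedSp Y) {i₁ : I} (t : D.obj i₁ ⟶ Y)
    (hqc : IsQuasiCompactSp (D.obj i₁)) (hqs : IsQuasiSeparatedSp (D.obj i₁))
    (hX : IsSeparatedMor (c.π.app i₁ ≫ t)) :
    ∃ l₀ : Over i₁, ∀ (i : I) (φ : i ⟶ l₀.left), IsSeparatedMor (D.map (φ ≫ l₀.hom) ≫ t) := by
  have := compactSpace_points_of_isQuasiCompactSp hqc
  obtain ⟨W, hWo, hWc, hKW, -⟩ := exists_compact_open_between hY (isCompact_range (Points.continuous_map t))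
    isOpen_univ (Set.subset_univ _)
  obtain ⟨O, ι, hO, hι, hr⟩ := exists_open_subspace hY hWo
  have := mono_of_openImmersion hι
  obtain ⟨t₁, rfl⟩ := exists_factor_open hι t (hr ▸ hKW)
  have hOc : IsQuasiCompactSp O := isQuasiCompactSp_of_openImmersion hY hι (hr ▸ hWc)
  have hOs : IsQuasiSeparatedSp O := isQuasiSeparatedSp_of_mono hYs ι
  have := compactSpace_points_of_isQuasiCompactSp hOc
  obtain ⟨V, v, hV, hv, hvs⟩ := exists_affine_atlas hO
  have hQ := isAlgSpace_pullback hO.diag (hD i₁) (IsAlgSpace.yon_obj V) t₁ v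
  obtain ⟨hQc, hQs⟩ := qcqs_of_isPullback (hD i₁) hO (IsAlgSpace.yon_obj V) hQ
    (IsPullback.of_hasPullback t₁ v) hqc hqs hOs (isQuasiCompactSp_yon_iff.2 inferInstance)
    (isQuasiSeparatedSp_yon inferInstance)
  let b := pullback.fst t₁ v
  have sqP := IsPullback.of_hasPullback b (c.π.app i₁)
  have hgs : IsSeparatedMor (c.π.app i₁ ≫ t₁) := isSeparatedMor_of_comp (g := ι) (by rwa [Category.assoc])
  have hP : IsSeparatedSp (pullback b (c.π.app i₁)) :=
    isSeparatedSp_of_mor _ (isSeparatedMor_of_isPullback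
      (sqP.flip.paste_vert (IsPullback.of_hasPullback t₁ v)) hgs) isSeparatedSp_yon_affine
  obtain ⟨hlim⟩ := nonempty_isLimit_bcCone D b sqP hc
  obtain ⟨l₀, hl₀⟩ := exists_isSeparatedSp_of_limit (isAlgSpace_bcDiagram hD hQ) (isAffineMor_bcDiagram_map hDa)
    hlim (isQuasiSeparatedSp_bcDiagram hDa hQs) (i₁ := Over.mk (𝟙 i₁))
    (isQuasiCompactSp_bcDiagram hD hDa hQ hQc _) hP
  refine ⟨l₀, fun i φ => ?_⟩
  let l : Over i₁ := Over.mk (φ ≫ l₀.hom)
  have sq : IsPullback ((bcSnd D b).app l) (pullback.fst b (D.map l.hom) ≫ pullback.snd t₁ v)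
      (D.map l.hom ≫ t₁) v :=
    (isPullback_bcDiagram_fst D b l).flip.paste_vert (IsPullback.of_hasPullback t₁ v)
  rw [← Category.assoc]
  exact isSeparatedMor_comp (repWith_diagonal_of_cover (hD i) hv hvs sq
    (repWith_diagonal _ (hl₀ l (Over.homMk φ rfl)))) (isSeparatedMor_of_mono ι)

end Groth.Agent.H12AlgSp
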