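import Groth.Agent.H12AlgSp.LQFScheme2
import Groth.Agent.H12AlgSp.LocPCancel

/-!
Algebraic spaces etale over a field are schemes.
-/

universe u

open CategoryTheory CategoryTheory.Limits AlgebraicGeometry Opposite Topology
open AlgSp Groth.Agent.H13AlgSp

namespace Groth.Agent.H12AlgSp

variable {S : Scheme.{u}}

theorem isSeparatedMor_of_etale_field {X : Sp S} (hX : IsAlgSpace X) {T : Over S} [Subsingleton T.left]
    {f : X ⟶ (yon S).obj T} (he : LocP @Etale f) : IsSeparatedMor f := by
  let Δ := pullback.diagonal f
  have hT := IsAlgSpace.yon_obj (S := S) T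
  have hP : IsAlgSpace (pullback f f) := isAlgSpace_pullback hT.diag hX hX f f
  have hsnd : LocP @Etale (pullback.snd f f) :=
    locP_of_isPullback etLocal_etale (IsPullback.of_hasPullback f f) hX hT hX he
  have hid : LocP @Etale (Δ ≫ pullback.snd f f) := by
    rw [show Δ ≫ pullback.snd f f = 𝟙 X from pullback.diagonal_snd f]
    exact locP_of_repWith etLocal_etale (repWith_of_isIso _)
  have hΔe : LocP @Etale Δ := locP_of_postcomp etLocal_etale
    (fun A B C a b hab (hb : Etale b) => by
      have : Etale (a ≫ b) := hab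
      exact Etale.of_comp a b) hX hid hsnd
  have hΔ : RepWith @IsOpenImmersion Δ := (mono_iff_locP_openImmersion hX hP).2 ⟨inferInstance, hΔe⟩
  obtain ⟨W, d, hd, hds⟩ := hP.atlas
  obtain ⟨g, hg⟩ := (yon S).map_surjective (d ≫ pullback.snd f f ≫ f)
  have hcomp : LocP @Etale (pullback.snd f f ≫ f) := locP_comp etLocal_etale hP hX hT hsnd he
  have : Etale g.left := hcomp d (𝟙 _) g hd (repWith_of_isIso _) (by rw [Category.comp_id, hg])
  have : LocallyQuasiFinite g.left := lqf_of_etale g.left
  have : DiscreteTopology W.left := by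
    rcases isEmpty_or_nonempty W.left with hW | ⟨⟨w⟩⟩
    · infer_instance
    · have h := g.left.isDiscrete_preimage_singleton (g.left w)
      rw [show g.left ⁻¹' {g.left w} = Set.univ from Set.eq_univ_of_forall fun x => Subsingleton.elim _ _] at h
      exact isDiscrete_univ_iff.mp h
  have : DiscreteTopology (Points (pullback f f)) :=
    discreteTopology_iff_forall_isOpen.2 fun s => (isQuotientMap_ofPt hd hds).isOpen_preimage.1 (isOpen_discrete _)
  refine MorphismProperty.relative.of_exists fun A y => ?_
  obtain ⟨V, i, l, sq⟩ := hΔ.rep y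

  have : IsOpenImmersion i.left := hΔ.property _ _ i sq
  refine ⟨V, l, i, sq, IsClosedImmersion.of_isPreimmersion i.left ?_⟩
  rw [← preimage_ofPt_range sq]
  exact (isClosed_discrete _).preimage (Points.continuous_ofPt y)

theorem isRepresentable_of_etale_field {X : Sp S} (hX : IsAlgSpace X) {T : Over S} [Subsingleton T.left]
    {f : X ⟶ (yon S).obj T} (he : LocP @Etale f) : X.obj.IsRepresentable :=
  isRepresentable_of_lqf_separated hX (isSeparatedMor_of_etale_field hX he)
    (locP_mono (fun _ _ k (_ : Etale k) => ⟨lqf_of_etale k, inferInstanceAs (LocallyOfFiniteType k)⟩) he)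

end Groth.Agent.H12AlgSp
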