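import Groth.Agent.H12AlgSp.Presentation
import Groth.Agent.H12AlgSp.SepSpace
import Groth.Agent.H12AlgSp.UnivInj
import Mathlib.AlgebraicGeometry.Morphisms.FormallyUnramified

/-!
Immersions, etale monomorphisms and monomorphisms into spectra of fields.
-/

set_option linter.unusedVariables false

universe u

open CategoryTheory CategoryTheory.Limits AlgebraicGeometry Opposite Topology
open AlgSp Groth.Agent.H13AlgSp

namespace Groth.Agent.H12AlgSp

variable {S : Scheme.{u}} {X Y : Sp S}

/-- The three classes of immersions are local for the Zariski topology on the affine base. -/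
theorem repWith_of_affine_pullbacks {P : MorphismProperty Scheme.{u}} [P.IsStableUnderBaseChange]
    [IsZariskiLocalAtTarget P] {f : X ⟶ Y}
    (h : ∀ (Z : Over S), IsAffine Z.left → ∀ (g : (yon S).obj Z ⟶ Y) (P₀ : Sp S)
      (fst : P₀ ⟶ X) (snd : P₀ ⟶ (yon S).obj Z), IsPullback fst snd f g → RepWith P snd) :
    RepWith P f := by
  refine repWith_of_affine_base fun Z hZ g => ?_
  have hs := h Z hZ g _ _ _ (IsPullback.of_hasPullback f g)
  obtain ⟨W, i, k, sq⟩ := hs.rep (𝟙 _)
  have big := sq.paste_horiz (IsPullback.of_hasPullback f g)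
  rw [Category.id_comp] at big
  exact ⟨W, i, k ≫ pullback.fst f g, big, hs.property _ k i sq⟩

/-- Being an immersion descends along etale surjective charts of the target. -/
theorem repWith_isImmersion_of_etale_cover (hX : IsAlgSpace X) (hY : IsAlgSpace Y) {f : X ⟶ Y} {V : Over S}
    {p : (yon S).obj V ⟶ Y} (hp : RepWith @Etale p) (hps : RepWith @Surjective p) {Q : Sp S} {fst : Q ⟶ X}
    {snd : Q ⟶ (yon S).obj V} (sq : IsPullback fst snd f p) (h : RepWith @IsImmersion snd) :
    RepWith @IsImmersion f := by
  have : Mono snd := mono_of_repWith (fun _ _ k (_ : IsImmersion k) => (inferInstance : Mono k)) h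
  have : Mono f := mono_of_cover hX hp hps sq
  have hlc : IsLocallyClosed (Set.range (Points.map f)) := by
    have hq := isQuotientMap_ofPt hp hps
    have h1 : IsLocallyClosed (Points.ofPt p ⁻¹' Set.range (Points.map f)) := by
      have e : Points.ofPt p = Points.map p ∘ Points.schemeHomeo V :=
        funext fun t => Points.ofPt_eq_map_ofScheme p t
      rw [e, Set.preimage_comp, ← range_snd_of_isPullback sq]
      exact (isEmbedding_of_immersion (IsAlgSpace.yon_obj V) snd h).2.preimage (Points.schemeHomeo V).continuous
    rw [isLocallyClosed_iff_isOpen_coborder, ← hq.isOpen_preimage,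
      ← coborder_preimage (isOpenMap_ofPt_of_repWith etale_le_universallyOpen hp) (Points.continuous_ofPt p)]
    exact isLocallyClosed_iff_isOpen_coborder.1 h1
  obtain ⟨X', j, hX', hj, hr⟩ := exists_open_subspace hY (isLocallyClosed_iff_isOpen_coborder.1 hlc)
  have := mono_of_openImmersion hj
  obtain ⟨g, hg⟩ := exists_factor_open hj f (by rw [hr]; exact subset_coborder)
  have hclosed : IsClosed (Set.range (Points.map g)) := by
    have e : Set.range (Points.map g) = Points.map j ⁻¹' closure (Set.range (Points.map f)) := by
      ext y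
      constructor
      · rintro ⟨x, rfl⟩
        refine subset_closure ⟨x, ?_⟩
        rw [← Points.map_comp, hg]
      · intro hy
        obtain ⟨x, hx⟩ : Points.map j y ∈ Set.range (Points.map f) := by
          rw [← closure_inter_coborder (s := Set.range (Points.map f))]
          exact ⟨hy, hr.le ⟨y, rfl⟩⟩
        exact ⟨x, injective_map_of_mono j (by rw [← Points.map_comp, hg, hx])⟩
    rw [e]
    exact isClosed_closure.preimage (Points.continuous_map j)
  obtain ⟨V', v, k, sqV⟩ := hj.rep p
  have hke : RepWith @Etale k := repWith_of_isPullback sqV.flip hp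
  have hks : RepWith @Surjective k := repWith_of_isPullback sqV.flip hps
  have sqg := IsPullback.of_hasPullback g k
  have sq₁ : IsPullback (𝟙 X) g f j := IsPullback.of_horiz_isIso_mono ⟨by rw [Category.id_comp, hg]⟩
  have sq₂ : IsPullback (pullback.fst g k) (pullback.snd g k) f ((yon S).map v ≫ p) := by
    have := sqg.paste_horiz sq₁
    rw [Category.comp_id] at this
    rw [← sqV.w]
    exact this
  have sq₃ : IsPullback (sq.lift (pullback.fst g k) (pullback.snd g k ≫ (yon S).map v)
      (by rw [Category.assoc]; exact sq₂.w)) (pullback.snd g k) snd ((yon S).map v) :=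
    IsPullback.of_right (by rw [sq.lift_fst]; exact sq₂) (sq.lift_snd _ _ _) sq
  have hi : RepWith @IsImmersion (pullback.snd g k) := repWith_of_isPullback sq₃ h
  have hc : RepWith @IsClosedImmersion (pullback.snd g k) := by
    refine repWith_of_snd hi.1 fun T x => ?_
    have : IsImmersion (hi.1.snd x).left := hi.property_snd x
    refine IsClosedImmersion.of_isPreimmersion _ ?_
    rw [← preimage_ofPt_range (hi.1.isPullback x), range_snd_of_isPullback sqg]
    exact (hclosed.preimage (Points.continuous_map k)).preimage (Points.continuous_ofPt x)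
  have hgc : RepWith @IsClosedImmersion g := repWith_of_etale_cover
    (fun _ _ i (_ : IsClosedImmersion i) => inferInstanceAs (IsAffineHom i)) hX hX' hke hks sqg hc
  rw [← hg]
  exact repWith_comp (repWith_le (fun _ _ i (_ : IsClosedImmersion i) => inferInstanceAs (IsImmersion i)) hgc)
    (repWith_le (fun _ _ i (_ : IsOpenImmersion i) => inferInstanceAs (IsImmersion i)) hj)

theorem repWith_of_etale_cover_immersions (hX : IsAlgSpace X) (hY : IsAlgSpace Y)
    {P : MorphismProperty Scheme.{u}}
    (hP : P = @IsClosedImmersion ∨ P = @IsOpenImmersion ∨ P = @IsImmersion) {f : X ⟶ Y} {V : Over S}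
    {p : (yon S).obj V ⟶ Y} (hp : RepWith @Etale p) (hps : RepWith @Surjective p) {Q : Sp S} {fst : Q ⟶ X}
    {snd : Q ⟶ (yon S).obj V} (sq : IsPullback fst snd f p) (h : RepWith P snd) : RepWith P f := by
  rcases hP with rfl | rfl | rfl
  · exact repWith_of_etale_cover
      (fun _ _ i (_ : IsClosedImmersion i) => inferInstanceAs (IsAffineHom i)) hX hY hp hps sq h
  · have := mono_of_openImmersion h
    refine (mono_iff_locP_openImmersion hX hY).2 ⟨mono_of_cover hX hp hps sq, ?_⟩
    exact locP_of_target_cover etLocal_etale hX hY hp hps sq (locP_of_repWith etLocal_etale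
      (repWith_le (fun _ _ i (_ : IsOpenImmersion i) => inferInstanceAs (Etale i)) h))
  · exact repWith_isImmersion_of_etale_cover hX hY hp hps sq h

/-- The diagonal of an etale morphism of spaces is etale. -/
theorem locP_etale_diagonal (hX : IsAlgSpace X) (hY : IsAlgSpace Y) {f : X ⟶ Y} (h : LocP @Etale f) :
    LocP @Etale (pullback.diagonal f) := by
  have hfst : LocP @Etale (pullback.fst f f) :=
    locP_of_isPullback etLocal_etale (IsPullback.of_hasPullback f f).flip hX hY hX h
  refine locP_of_postcomp etLocal_etale
    (fun A B C a b hab hb => by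
      have : Etale (a ≫ b) := hab
      have : Etale b := hb
      exact Etale.of_comp a b)
    hX ?_ hfst
  rw [pullback.diagonal_fst]
  exact locP_of_repWith etLocal_etale (repWith_of_isIso _)

theorem isOpenImmersion_diagonal_of_etale (hX : IsAlgSpace X) (hY : IsAlgSpace Y) {f : X ⟶ Y}
    (h : LocP @Etale f) : RepWith @IsOpenImmersion (pullback.diagonal f) :=
  (mono_iff_locP_openImmersion hX (isAlgSpace_pullback hY.diag hX hX f f)).2
    ⟨inferInstance, locP_etale_diagonal hX hY h⟩

/-- An etale universally injective morphism is an open immersion. -/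
theorem repWith_isOpenImmersion_of_univInjective (hX : IsAlgSpace X) (hY : IsAlgSpace Y) {f : X ⟶ Y}
    (het : IsEtaleMor f) (hinj : IsUnivInjectiveMor f) : RepWith @IsOpenImmersion f := by
  have he := locP_etale_of_isEtaleMor het
  refine (mono_iff_locP_openImmersion hX hY).2 ⟨?_, he⟩
  have hd := isOpenImmersion_diagonal_of_etale hX hY he
  have hs : RepWith @Surjective (pullback.diagonal f) := repWith_surjective_of_map hd.1
    ((isUnivInjectiveMor_iff hX f).2.1 hinj)
  refine mono_of_yon fun T a b e => ?_
  obtain ⟨W, w, k, sqW⟩ := hd.rep (pullback.lift a b e)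
  have : IsOpenImmersion w.left := hd.property _ k w sqW
  have : Surjective w.left := hs.property _ k w sqW
  have hw : IsIso w.left := (isIso_iff_isOpenImmersion_and_surjective w.left).2 ⟨‹_›, ‹_›⟩
  have : IsIso w := by
    have : IsIso ((Over.forget S).map w) := hw
    exact isIso_of_reflects_iso w (Over.forget S)
  have e1 : ((yon S).map (inv w) ≫ k) ≫ pullback.diagonal f = pullback.lift a b e := by
    rw [Category.assoc, sqW.w, Functor.map_inv, IsIso.inv_hom_id_assoc]
  have e2 := e1 =≫ pullback.fst f f
  have e3 := e1 =≫ pullback.snd f f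
  simp only [Category.assoc, pullback.diagonal_fst, pullback.diagonal_snd, Category.comp_id,
    pullback.lift_fst, pullback.lift_snd] at e2 e3
  exact e2.symm.trans e3

/-- The diagonal of an unramified morphism is an open immersion. -/
theorem isOpenImmersion_diagonal_of_unramified (hX : IsAlgSpace X) (hY : IsAlgSpace Y) {f : X ⟶ Y}
    (h : LocP (@LocallyOfFiniteType ⊓ @FormallyUnramified) f) :
    RepWith @IsOpenImmersion (pullback.diagonal f) := by
  obtain ⟨U, V, a, b, g, ha, has, hb, -, w⟩ := exists_chart hX hY f
  obtain ⟨hg₁, hg₂⟩ := h a b g ha hb w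
  refine (mono_iff_locP_openImmersion hX (isAlgSpace_pullback hY.diag hX hX f f)).2 ⟨inferInstance, ?_⟩
  refine locP_of_source_cover etLocal_etale _ (IsAlgSpace.yon_obj U) (isAlgSpace_pullback hY.diag hX hX f f)
    ha has (locP_of_repWith etLocal_etale ?_)
  have hdg : RepWith @Etale (pullback.diagonal ((yon S).map g)) := by
    refine repWith_le (fun _ _ i (_ : IsOpenImmersion i) => inferInstanceAs (Etale i))
      ((repWith_diagonal_iff (representable_yon_map g)).2 ((repWith_yon_map_iff _ g).2 ?_))
    exact (inferInstance : IsOpenImmersion (pullback.diagonal g.left))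
  have hb' : RepWith @Etale (pullback.diagonal b) :=
    repWith_le (fun _ _ i (_ : IsOpenImmersion i) => inferInstanceAs (Etale i))
      ((repWith_diagonal_iff (hY.representable_from_yon b)).2 (repWith_of_snd (hY.representable_from_yon b)
        fun T x => by
          have : Etale ((hY.representable_from_yon b).snd x).left :=
            hb.property x _ _ ((hY.representable_from_yon b).isPullback x)
          exact (inferInstance : IsOpenImmersion (pullback.diagonal ((hY.representable_from_yon b).snd x).left))))
  have hδ : RepWith @Etale (pullback.diagonal ((yon S).map g ≫ b)) := by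
    rw [pullback.diagonal_comp]
    exact repWith_comp hdg (repWith_comp (repWith_of_isIso _)
      (repWith_of_isPullback (IsPullback.of_hasPullback _ _) hb'))
  have e : a ≫ pullback.diagonal f = pullback.diagonal ((yon S).map g ≫ b) ≫
      pullback.map _ _ f f a a (𝟙 _) (by simpa using w.symm) (by simpa using w.symm) := by
    apply pullback.hom_ext <;> simp only [Category.assoc, pullback.map, pullback.lift_fst, pullback.lift_snd, pullback.diagonal_fst, pullback.diagonal_snd, Category.comp_id] <;>
        simp only [← Category.assoc, pullback.diagonal_fst, pullback.diagonal_snd, Category.id_comp]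
  rw [e]
  exact repWith_comp hδ (repWith_pullbackMap ha ha (by simpa using w.symm) (by simpa using w.symm))

/-- A morphism locally of finite type with open immersion diagonal is unramified. -/
theorem unramified_of_isOpenImmersion_diagonal (hX : IsAlgSpace X) (hY : IsAlgSpace Y) {f : X ⟶ Y}
    (hft : LocP @LocallyOfFiniteType f) (h : RepWith @IsOpenImmersion (pullback.diagonal f)) :
    LocP (@LocallyOfFiniteType ⊓ @FormallyUnramified) f := by
  intro U V a b g ha hb w
  have : LocallyOfFiniteType g.left := hft a b g ha hb w
  refine ⟨this, ?_⟩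
  have e : a ≫ pullback.diagonal f = pullback.diagonal (a ≫ f) ≫
      pullback.map _ _ f f a a (𝟙 _) (by simp) (by simp) := by
    apply pullback.hom_ext <;> simp only [Category.assoc, pullback.map, pullback.lift_fst, pullback.lift_snd, pullback.diagonal_fst, pullback.diagonal_snd, Category.comp_id] <;>
        simp only [← Category.assoc, pullback.diagonal_fst, pullback.diagonal_snd, Category.id_comp]
  have hP : IsAlgSpace (pullback f f) := isAlgSpace_pullback hY.diag hX hX f f
  have hd : RepWith @Etale (pullback.diagonal ((yon S).map g ≫ b)) := by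
    suffices key : RepWith @Etale (pullback.diagonal (a ≫ f)) by
      have gen : ∀ k, a ≫ f = k → RepWith @Etale (pullback.diagonal k) := by rintro k rfl; exact key
      exact gen _ w
    refine repWith_of_locP etLocal_etale (isAlgSpace_pullback hY.diag (IsAlgSpace.yon_obj U) (IsAlgSpace.yon_obj U) _ _)
      (representable_diagonal _ (IsAlgSpace.yon_obj U).diag) ?_
    refine locP_of_postcomp etLocal_etale
      (fun A B C i j hij hj => by
        have : Etale (i ≫ j) := hij
        have : Etale j := hj
        exact Etale.of_comp i j) hP ?_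
      (locP_of_repWith etLocal_etale (repWith_pullbackMap (f := a ≫ f) (g := a ≫ f) (f' := f) (g' := f)
        ha ha rfl rfl))
    rw [← e]
    exact locP_of_repWith etLocal_etale (repWith_comp ha
      (repWith_le (fun _ _ i (_ : IsOpenImmersion i) => inferInstanceAs (Etale i)) h))
  have hg' : RepWith @Etale (pullback.diagonal ((yon S).map g)) := by
    have hb' : RepWith (MorphismProperty.monomorphisms Scheme.{u}) (pullback.diagonal b) :=
      repWith_diagonal b (repWith_mono_diag (IsAlgSpace.yon_obj V))
    have hm := mono_of_repWith le_rfl hb'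
    rw [pullback.diagonal_comp] at hd
    exact repWith_of_isPullback (IsPullback.of_horiz_isIso_mono (fst := 𝟙 _) ⟨Category.id_comp _⟩) hd
  have h1 : Etale (pullback.diagonal g.left) :=
    (repWith_yon_map_iff (MorphismProperty.diagonal (@Etale : MorphismProperty Scheme.{u})) g).1
      ((repWith_diagonal_iff (representable_yon_map g)).1 hg')
  have h2 : IsOpenImmersion (pullback.diagonal g.left) := IsOpenImmersion.of_flat_of_mono _
  exact inferInstanceAs (FormallyUnramified g.left)

/-- A monomorphism from a space to the spectrum of a field is empty or an isomorphism. -/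
theorem isIso_of_mono_to_field_space (hX : IsAlgSpace X) {k : Type u} [Field k]
    {str : Spec (CommRingCat.of k) ⟶ S} (f : X ⟶ (yon S).obj (Over.mk str)) [Mono f] [Nonempty (Points X)] :
    IsIso f := by
  obtain ⟨U, p, hp, hps⟩ := hX.atlas
  obtain ⟨u, -⟩ := surjective_ofPt_of_repWith le_rfl hps (Classical.arbitrary (Points X))
  obtain ⟨A, hA, hu⟩ : ∃ A : U.left.Opens, IsAffineOpen A ∧ u ∈ A :=
    let ⟨A, hA, hu, _⟩ := TopologicalSpace.Opens.isBasis_iff_nbhd.mp U.left.isBasis_affineOpens
      (TopologicalSpace.Opens.mem_top u)
    ⟨A, hA, hu⟩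
  let U₀ := openOver U A
  let q : (yon S).obj U₀ ⟶ X := (yon S).map (openIncl U A) ≫ p
  have hq : RepWith @Etale q :=
    repWith_comp ((repWith_yon_map_iff _ _).2 (inferInstanceAs (Etale A.ι))) hp
  obtain ⟨c, hc⟩ := (yon S).map_surjective (q ≫ f)
  have sq : IsPullback ((yon S).map (pullback.fst c c)) ((yon S).map (pullback.snd c c)) q q := by
    have h0 := (IsPullback.of_hasPullback c c).map (yon S)
    rw [hc] at h0
    exact IsKernelPair.cancel_right ((cancel_mono f).1 (by simpa using h0.w)) h0
  have he : Etale (pullback.snd c c).left := hq.property q _ _ sq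
  have : Etale c.left := by
    have hAff : IsAffine U₀.left := hA
    have : Nonempty U₀.left := ⟨(⟨u, hu⟩ : A)⟩
    have hf : Groth.Agent.H18Descent.fpqc.{u} c.left :=
      ⟨⟨⟨fun y => ⟨Classical.arbitrary _, Subsingleton.elim (α := Spec (CommRingCat.of k)) _ _⟩⟩, flat_to_field c.left⟩,
        inferInstanceAs (QuasiCompact (X := U₀.left) (Y := Spec (CommRingCat.of k)) c.left)⟩
    exact MorphismProperty.of_isPullback_of_descendsAlong (P := @Etale) (Q := Groth.Agent.H18Descent.fpqc.{u})
      ((IsPullback.of_hasPullback c c).map (Over.forget S)).flip hf he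
  have hcs : Surjective c.left := ⟨fun y => ⟨(⟨u, hu⟩ : A), Subsingleton.elim (α := Spec (CommRingCat.of k)) _ _⟩⟩
  refine isIso_of_mono_of_local_lifts f fun T y => ?_
  obtain ⟨y, rfl⟩ := (yon S).map_surjective y
  have sqT := (IsPullback.of_hasPullback c y).map (Over.forget S)
  have : Etale (pullback.snd c y).left := MorphismProperty.of_isPullback (P := @Etale) sqT ‹_›
  have : Surjective (pullback.snd c y).left := MorphismProperty.of_isPullback (P := @Surjective) sqT hcs
  exact ⟨PUnit.{u + 1}, fun _ => _, fun _ => pullback.snd c y, ofArrows_mem_J _ (fun _ => inferInstance)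
    (fun _ => inferInstance) (fun t => ⟨⟨⟩, (pullback.snd c y).left.surjective t⟩),
    fun _ => ⟨(yon S).map (pullback.fst c y) ≫ q, by
      rw [Category.assoc, ← hc, ← Functor.map_comp, ← Functor.map_comp, pullback.condition]⟩⟩

end Groth.Agent.H12AlgSp
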