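import Groth.Agent.H13AlgSp.Decent
import Groth.Agent.H12AlgSp.EtaleField
import Groth.Agent.H12AlgSp.Immersion
import Groth.Agent.H12AlgSp.Codim
import Groth.Agent.H12AlgSp.OpenSub
import Groth.Prelude.Def_AlgSpCov

/-!
Decent spaces: independence of the representative, locality, etale maps, specializations in fibres.
-/

universe u

open CategoryTheory CategoryTheory.Limits AlgebraicGeometry Opposite Topology
open AlgSp Groth.Agent.H13AlgSp

namespace Groth.Agent.H12AlgSp

variable {S : Scheme.{u}}

theorem isDecent_yon (T : Over S) : IsDecent ((yon S).obj T) := fun x => by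
  obtain ⟨t, rfl⟩ := (Points.schemeEquiv T).surjective x
  exact exists_fieldPt_of_mono_qc (𝟙 _) (repWith_of_isIso _) t

theorem isDecent_of_representable {P : Sp S} (h : P.obj.IsRepresentable) : IsDecent P := by
  obtain ⟨T, ⟨e⟩⟩ := h.has_representation
  exact (isDecent_yon T).of_iso (isoOfRepresentableBy e)

/-- Every representative of a point with a quasi-compact mono representative is quasi-compact. -/
theorem repWith_qc_of_mk_eq {X : Sp S} (hX : IsAlgSpace X) (p q : FieldPt X) (hm : Mono p.toHom)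
    (hp : RepWith @QuasiCompact p.toHom) (h : Points.mk q = Points.mk p) :
    RepWith @QuasiCompact q.toHom := by
  obtain ⟨W, w, fst, sq⟩ := hp.1 q.toHom
  have : Mono ((yon S).map w) := mono_of_sq sq.flip
  obtain ⟨z, -, -⟩ := exists_point_of_isPullback sq
    (Points.ofScheme p.pt (IsLocalRing.closedPoint p.K)) (Points.ofScheme q.pt (IsLocalRing.closedPoint q.K))
    (by rw [← Points.ofPt_eq_map_ofScheme, ← Points.ofPt_eq_map_ofScheme, Points.ofPt_toHom,
      Points.ofPt_toHom, h])
  have : Nonempty (Points ((yon S).obj W)) := ⟨z⟩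
  have : IsIso ((yon S).map w) := isIso_of_mono_to_field_space (IsAlgSpace.yon_obj W) _
  have e : q.toHom = (inv ((yon S).map w) ≫ fst) ≫ p.toHom := by
    rw [Category.assoc, sq.w, IsIso.inv_hom_id_assoc]
  rw [e]
  refine repWith_comp ?_ hp
  obtain ⟨σ, hσ⟩ := (yon S).map_surjective (inv ((yon S).map w) ≫ fst)
  rw [← hσ, repWith_yon_map_iff]
  exact @quasiCompact_of_finite_source _ _ σ.left (inferInstanceAs (Finite (Spec (CommRingCat.of q.K))))

theorem isDecent_of_representable_mor {X Y : Sp S} {f : X ⟶ Y} (hf : Representable f)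
    (hY : IsDecent Y) : IsDecent X := by
  refine isDecent_of_isDecentMor f (fun T F' g fst snd sq => ?_) hY
  obtain ⟨W, w, fst', sq'⟩ := hf g
  exact (isDecent_yon W).of_iso (sq'.isoIsPullback _ _ sq)

theorem isDecentMor_of_etale {X Y : Sp S} (hX : IsAlgSpace X) (hY : IsAlgSpace Y) {f : X ⟶ Y}
    (hf : IsEtaleMor f) : IsDecentMor f := by
  intro T P g fst snd sq x
  have hP := isAlgSpace_of_isPullback hY.diag hX (IsAlgSpace.yon_obj T) sq
  have he : LocP @Etale snd :=
    locP_of_isPullback etLocal_etale sq hX hY (IsAlgSpace.yon_obj T) (locP_etale_of_isEtaleMor hf)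
  let t := Points.toScheme T (Points.map snd x)
  let K := Over.mk (T.left.fromSpecResidueField t ≫ T.hom)
  let j : (yon S).obj K ⟶ (yon S).obj T := (yon S).map (Over.homMk (T.left.fromSpecResidueField t) rfl)
  have hj : RepWith @QuasiCompact j := repWith_quasiCompact_residueField t
  have hjm : Mono j := mono_residueField t
  have sq' := IsPullback.of_hasPullback snd j
  have hPK := isAlgSpace_of_isPullback (IsAlgSpace.yon_obj T).diag hP (IsAlgSpace.yon_obj K) sq'
  have heK : LocP @Etale (pullback.snd snd j) :=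
    locP_of_isPullback etLocal_etale sq' hP (IsAlgSpace.yon_obj T) (IsAlgSpace.yon_obj K) he
  have : Subsingleton K.left := inferInstanceAs (Subsingleton (Spec (T.left.residueField t)))
  have hd : IsDecent (pullback snd j) := isDecent_of_representable (isRepresentable_of_etale_field hPK heK)
  obtain ⟨y, hy, -⟩ := exists_point_of_isPullback sq' x
    (Points.ofScheme K (IsLocalRing.closedPoint _)) (by
      refine ((Points.schemeEquiv T).apply_symm_apply (Points.map snd x)).symm.trans ?_
      change Points.ofScheme T t = Points.map j (Points.ofPt (𝟙 _) _)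
      rw [Points.map_ofPt, Category.id_comp]
      refine Eq.trans ?_ (ofPt_map (Over.homMk (T.left.fromSpecResidueField t) rfl : K ⟶ T) (𝟙 _) _).symm
        |>.trans (by rw [Category.comp_id])
      change _ = Points.ofPt (𝟙 _) (T.left.fromSpecResidueField t _)
      rw [Scheme.fromSpecResidueField_apply])
  have : Mono (pullback.fst snd j) := mono_of_sq sq'
  obtain ⟨p, hp, h1, h2⟩ := exists_fieldPt_of_decent (pullback.fst snd j)
    (repWith_of_isPullback sq'.flip hj) hd y
  exact ⟨p, hp.trans hy, h1, h2⟩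

/-- Decency is local in the Zariski topology. -/
theorem isDecent_of_isZarCover {X : Sp S} (hX : IsAlgSpace X) {ι : Type u} {Xi : ι → Sp S}
    {j : ∀ i, Xi i ⟶ X} (hj : IsZarCover Xi j) (hd : ∀ i, IsDecent (Xi i)) : IsDecent X := by
  intro x
  obtain ⟨i₀, x₀, hx₀⟩ := hj.2 x
  obtain ⟨p, hp, hm, hqc⟩ := hd i₀ x₀
  have : Mono (j i₀) := mono_of_openImmersion (hj.1 i₀)
  refine ⟨p.map (j i₀), by rw [← Points.map_mk, hp, hx₀], ?_, ?_⟩
  · rw [FieldPt.toHom_map]; exact @mono_comp _ _ _ _ _ _ hm _ inferInstance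
  have hrep := hX.representable_from_yon (p.map (j i₀)).toHom
  refine repWith_of_snd hrep fun T g => ?_
  let v := hrep.snd g
  have sq := hrep.isPullback g
  choose Ti ti ai sqT using fun i => (hj.1 i).1 g
  have hop : ∀ i, IsOpenImmersion (ti i).left := fun i => (hj.1 i).2 _ _ _ (sqT i)
  have hcov : ∀ t : T.left, ∃ i, t ∈ Set.range (ti i).left := fun t => by
    obtain ⟨i, hi⟩ := hj.2 (Points.ofPt g t)
    exact ⟨i, (preimage_ofPt_range (sqT i)).le hi⟩
  let 𝒰 : T.left.OpenCover := Scheme.Cover.mkOfCovers (P := @IsOpenImmersion) ι _ (fun i => (ti i).left) hcov hop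
  refine IsZariskiLocalAtTarget.of_openCover 𝒰 fun i => ?_
  have sqi : IsPullback (pullback.fst v (ti i)).left (pullback.snd v (ti i)).left v.left (ti i).left :=
    (IsPullback.of_hasPullback v (ti i)).map (Over.forget S)
  change QuasiCompact (pullback.snd v.left (ti i).left)
  suffices QuasiCompact (pullback.snd v (ti i)).left by
    rw [← sqi.isoPullback_inv_snd]
    infer_instance
  by_cases hne : IsEmpty (pullback v (ti i)).left
  · exact quasiCompact_of_finite_source _
  obtain ⟨z⟩ := not_isEmpty_iff.1 hne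
  let l := (yon S).map (pullback.fst v (ti i)) ≫ hrep.fst g
  have hl : l ≫ (p.map (j i₀)).toHom = (yon S).map (pullback.snd v (ti i)) ≫ (ai i ≫ j i) := by
    rw [Category.assoc, sq.w, ← Functor.map_comp_assoc, pullback.condition, Functor.map_comp_assoc,
      (sqT i).w]
  have hx : x ∈ Set.range (Points.map (j i)) := by
    refine ⟨Points.ofPt ((yon S).map (pullback.snd v (ti i)) ≫ ai i) z, ?_⟩
    rw [Points.map_ofPt, Category.assoc, ← hl]
    obtain ⟨l', hl'⟩ := (yon S).map_surjective l
    rw [← hl', ofPt_map, Points.ofPt_toHom, ← Points.map_mk, hp, hx₀]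
  obtain ⟨q', hq'⟩ := exists_factor_open (hj.1 i) (p.map (j i₀)).toHom (by
    rintro _ ⟨y, rfl⟩
    obtain ⟨s, rfl⟩ := (Points.schemeEquiv _).surjective y
    change Points.map _ (Points.ofScheme _ s) ∈ _
    rw [← Points.ofPt_eq_map_ofScheme, Points.ofPt_toHom, ← Points.map_mk, hp, hx₀]
    exact hx)
  let q : FieldPt (Xi i) := ⟨p.K, p.str, (J S).uliftYonedaEquiv q'⟩
  have hq : q.toHom = q' := Equiv.symm_apply_apply _ _
  have := mono_of_openImmersion (hj.1 i)
  have hqqc : RepWith @QuasiCompact q.toHom := by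
    obtain ⟨r, hr, hrm, hrqc⟩ := hd i (Points.mk q)
    exact repWith_qc_of_mk_eq (isAlgSpace_of_representable (j i) (hj.1 i).1 hX) r q hrm hrqc hr.symm
  refine hqqc.2 (ai i) l (pullback.snd v (ti i)) ?_
  have big : IsPullback l ((yon S).map (pullback.snd v (ti i))) (p.map (j i₀)).toHom ((yon S).map (ti i) ≫ g) :=
    ((IsPullback.of_hasPullback v (ti i)).map (yon S)).flip.paste_vert sq.flip |>.flip
  have w : l ≫ q.toHom = (yon S).map (pullback.snd v (ti i)) ≫ ai i := by
    rw [← cancel_mono (j i), Category.assoc, hq, hq', hl, Category.assoc]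
  have hcw : ∀ c : PullbackCone q.toHom (ai i),
      c.fst ≫ (p.map (j i₀)).toHom = c.snd ≫ (yon S).map (ti i) ≫ g := fun c => by
    have h := c.fst ≫= hq'
    rw [← hq] at h
    exact h.symm.trans ((Category.assoc _ _ _).symm.trans
      ((c.condition =≫ j i).trans ((Category.assoc _ _ _).trans (c.snd ≫= (sqT i).w))))
  refine IsPullback.of_isLimit' ⟨w⟩ (PullbackCone.IsLimit.mk _ (fun c => big.lift c.fst c.snd (hcw c))
    (fun c => big.lift_fst _ _ _) (fun c => big.lift_snd _ _ _) fun c m h1 h2 => ?_)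
  exact big.hom_ext (h1.trans (big.lift_fst _ _ _).symm) (h2.trans (big.lift_snd _ _ _).symm)

/-- In a decent space there are no specializations in the fibres of etale charts. -/
theorem eq_of_specializes_of_isDecent {X : Sp S} (hX : IsAlgSpace X) (hd : IsDecent X) {U : Over S}
    {a : (yon S).obj U ⟶ X} (ha : RepWith @Etale a) (u u' : U.left)
    (he : Points.ofPt a u = Points.ofPt a u') (hs : u' ⤳ u) : u = u' := by
  obtain ⟨A, hA, huA, -⟩ := TopologicalSpace.Opens.isBasis_iff_nbhd.mp U.left.isBasis_affineOpens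
    (TopologicalSpace.Opens.mem_top u)
  let x := Points.ofPt a u
  have hfin : ((A : Set U.left) ∩ Points.ofPt a ⁻¹' {x}).Finite := by
    obtain ⟨p, hp, hm, hqc⟩ := hd x
    have hb : RepWith @Etale ((yon S).map (openIncl U A) ≫ a) :=
      repWith_comp ((repWith_yon_map_iff _ _).2 (inferInstanceAs (Etale (Scheme.Opens.ι A)))) ha
    obtain ⟨P, v, fst, sq⟩ := hqc.1 ((yon S).map (openIncl U A) ≫ a)
    have hvqc : QuasiCompact v.left := hqc.2 _ _ v sq
    have : IsAffine (openOver U A).left := hA
    have : CompactSpace P.left := QuasiCompact.compactSpace_of_compactSpace v.left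
    obtain ⟨f, rfl⟩ := (yon S).map_surjective fst
    let f' : P.left ⟶ Spec (CommRingCat.of p.K) := f.left
    have : Etale f' := hb.2 p.toHom _ f sq.flip
    have := lqf_of_etale f'
    have : QuasiCompact f' := (quasiCompact_iff_compactSpace f').2 inferInstance
    have hP : (Set.univ : Set P.left).Finite := by
      rw [show (Set.univ : Set P.left) = f' ⁻¹' {IsLocalRing.closedPoint p.K} from
        (Set.eq_univ_of_forall fun y => Subsingleton.elim (α := ↥(Spec (CommRingCat.of p.K))) _ _).symm]
      exact f'.finite_preimage_singleton _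
    refine (hP.image (fun z => (Scheme.Opens.ι A) (v.left z))).subset ?_
    rintro w ⟨hwA, hw⟩
    obtain ⟨z, -, hz⟩ := exists_point_of_isPullback sq
      (Points.ofScheme p.pt (IsLocalRing.closedPoint p.K)) (Points.ofScheme (openOver U A) ⟨w, hwA⟩) (by
        rw [← Points.ofPt_eq_map_ofScheme, ← Points.ofPt_eq_map_ofScheme, Points.ofPt_toHom, hp, ofPt_map]
        exact hw.symm)
    obtain ⟨z, rfl⟩ := (Points.schemeEquiv P).surjective z
    refine ⟨z, trivial, ?_⟩
    have e : v.left z = (⟨w, hwA⟩ : (openOver U A).left) := by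
      apply (Points.schemeEquiv _).injective
      refine Eq.trans ?_ hz
      change Points.ofScheme _ _ = Points.map _ (Points.ofScheme _ _)
      rw [← Points.ofPt_eq_map_ofScheme, ← Category.comp_id ((yon S).map v), ofPt_map]
    exact congrArg (fun y : (openOver U A).left => (Scheme.Opens.ι A) y) e
  let fib := (A : Set U.left) ∩ Points.ofPt a ⁻¹' {x}
  by_contra hne
  let E := {w' ∈ fib | ∃ w ∈ fib, w' ⤳ w ∧ w' ≠ w}
  have hu : u ∈ fib := ⟨huA, rfl⟩
  have hu' : u' ∈ fib := ⟨hs.mem_open A.isOpen huA, he.symm⟩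
  obtain ⟨w', hw'E, hmin⟩ := Set.exists_min_image E (fun w' => {z ∈ fib | z ⤳ w'}.ncard)
    (hfin.subset fun z hz => hz.1) ⟨u', hu', u, hu, hs, fun e => hne e.symm⟩
  obtain ⟨hw', w, hw, hww, hwne⟩ := hw'E
  obtain ⟨R, s, t', sq⟩ := ha.1 a
  obtain ⟨t, rfl⟩ := (yon S).map_surjective t'
  have hse : Etale s.left := ha.2 a _ s sq
  have hte : Etale t.left := ha.2 a _ t sq.flip
  obtain ⟨r, hr₁, hr₂⟩ := exists_point_of_isPullback sq (Points.ofScheme U w') (Points.ofScheme U w) (by
    rw [← Points.ofPt_eq_map_ofScheme, ← Points.ofPt_eq_map_ofScheme]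
    exact hw'.2.trans hw.2.symm)
  obtain ⟨r, rfl⟩ := (Points.schemeEquiv R).surjective r
  have key : ∀ (k : R ⟶ U) (w₀ : U.left),
      Points.map ((yon S).map k) (Points.schemeEquiv R r) = Points.ofScheme U w₀ → k.left r = w₀ := by
    intro k w₀ h
    apply (Points.schemeEquiv U).injective
    refine Eq.trans ?_ h
    change Points.ofScheme _ _ = Points.map _ (Points.ofScheme _ _)
    rw [← Points.ofPt_eq_map_ofScheme, ← Category.comp_id ((yon S).map k), ofPt_map]
  have hr₁' := key t w' hr₁
  have hr₂' := key s w hr₂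
  obtain ⟨r₁, hr, hsr⟩ := Flat.generalizingMap s.left (a := r) (b := w') (hr₂' ▸ hww)
  have hspec : t.left r₁ ⤳ w' := hr₁' ▸ hr.map t.left.continuous
  have hfib : t.left r₁ ∈ fib := by
    refine ⟨hspec.mem_open A.isOpen hw'.1, ?_⟩
    change Points.ofPt a (t.left r₁) = x
    rw [← ofPt_map, sq.w, ofPt_map, hsr]
    exact hw'.2
  have hne' : t.left r₁ ≠ w' := fun e => by
    have := lqf_of_etale t.left
    have hrr := Groth.Agent.H05EGA4.eq_of_specializes_of_fibre t.left hr (e.trans hr₁'.symm)
    exact hwne (hsr.symm.trans ((congrArg s.left hrr).trans hr₂'))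
  refine absurd (hmin (t.left r₁) ⟨hfib, w', hw', hspec, hne'⟩) (not_le.2 ?_)
  refine Set.ncard_lt_ncard ⟨fun z hz => ⟨hz.1, hz.2.trans hspec⟩, fun h => ?_⟩ (hfin.subset fun z hz => hz.1)
  exact hne' (Specializes.antisymm hspec (h ⟨hw', specializes_rfl⟩).2).eq
end Groth.Agent.H12AlgSp
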