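import Groth.Agent.H12AlgSp.Proper
import Mathlib.AlgebraicGeometry.Morphisms.UniversallyClosed
import Mathlib.Topology.Maps.Proper.Basic

/-!
Universally closed morphisms of algebraic spaces are quasi-compact.
-/

set_option linter.unusedVariables false

universe u

open CategoryTheory CategoryTheory.Limits AlgebraicGeometry Opposite Topology TopologicalSpace
open AlgSp

namespace Groth.Agent.H12AlgSp

variable {S : Scheme.{u}} {X Y Z : Sp S}

/-- A space universally closed over a field is quasi-compact. -/
theorem compactSpace_of_univClosed {K : Type u} [Field K] (str : Spec (CommRingCat.of K) ⟶ S)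
    {P : Sp S} (hP : IsAlgSpace P) {f : P ⟶ (yon S).obj (Over.mk str)} (hf : IsUnivClosedMor f) :
    CompactSpace (Points P) := by
  classical
  obtain ⟨U, a, ha, has⟩ := hP.atlas
  let ι := U.left.affineOpens
  let W (i : ι) : Set (Points P) := Points.ofPt a '' (i.1 : Set ↥U.left)
  have hWo : ∀ i, IsOpen (W i) := fun i =>
    isOpenMap_ofPt_of_repWith etale_le_universallyOpen ha _ i.1.2
  have hWc : ∀ i, IsCompact (W i) := fun i => (IsAffineOpen.isCompact i.2).image (Points.continuous_ofPt a)
  have hWs : ∀ x, ∃ i, x ∈ W i := fun x => by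
    obtain ⟨u, rfl⟩ := surjective_ofPt_of_repWith le_rfl has x
    obtain ⟨O, hO, hu, -⟩ := Opens.isBasis_iff_nbhd.mp U.left.isBasis_affineOpens (Opens.mem_top u)
    exact ⟨⟨O, hO⟩, u, hu, rfl⟩
  let q₀ : Spec (CommRingCat.of (MvPolynomial ι K)) ⟶ Spec (CommRingCat.of K) :=
    Spec.map (CommRingCat.ofHom MvPolynomial.C)
  let T : Over S := Over.mk (q₀ ≫ str)
  let q : T ⟶ Over.mk str := Over.homMk q₀
  let Ti (i : ι) : T.left.Opens := PrimeSpectrum.basicOpen (MvPolynomial.X i)
  let p := pullback.fst f ((yon S).map q)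
  let fT : Points (pullback f ((yon S).map q)) → ↥T.left :=
    fun z => (Points.schemeHomeo T).symm (Points.map (pullback.snd f ((yon S).map q)) z)
  have hfTc : Continuous fT := (Points.schemeHomeo T).symm.continuous.comp (Points.continuous_map _)
  have hfTcl : IsClosedMap fT := (Points.schemeHomeo T).symm.isClosedMap.comp
    (hf (IsAlgSpace.yon_obj T) _ _ _ (IsPullback.of_hasPullback f ((yon S).map q)))
  let Zs : Set (Points (pullback f ((yon S).map q))) :=
    (⋃ i, fT ⁻¹' (Ti i : Set ↥T.left) ∩ Points.map p ⁻¹' W i)ᶜ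
  have hZs : IsClosed Zs := isClosed_compl_iff.2 (isOpen_iUnion fun i =>
    ((Ti i).2.preimage hfTc).inter ((hWo i).preimage (Points.continuous_map p)))
  let Zc : T.left.Opens := ⟨(fT '' Zs)ᶜ, (hfTcl _ hZs).isOpen_compl⟩
  let ψ : MvPolynomial ι K →ₐ[K] K := MvPolynomial.aeval (fun _ ↦ 1)
  let t : ↥T.left := Spec.map (CommRingCat.ofHom ψ.toRingHom) default
  have ht (i : ι) : t ∈ Ti i := show ψ (.X i) ≠ 0 by simp [ψ]
  have htZc : t ∈ Zc := by
    rintro ⟨z, hz, hzt⟩
    obtain ⟨i, hi⟩ := hWs (Points.map p z)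
    exact hz (Set.mem_iUnion.2 ⟨i, by rw [Set.mem_preimage, hzt]; exact ht i, hi⟩)
  obtain ⟨U', ⟨g, rfl⟩, htU', hU'le⟩ := Opens.isBasis_iff_nbhd.mp PrimeSpectrum.isBasis_basic_opens htZc
  let σ : Finset ι := MvPolynomial.vars g
  let φ : MvPolynomial ι K →+* MvPolynomial ι K :=
    (MvPolynomial.aeval fun i : ι ↦ if i ∈ σ then MvPolynomial.X i else 0).toRingHom
  let t' : ↥T.left := Spec.map (CommRingCat.ofHom φ) t
  have ht'g : t' ∈ PrimeSpectrum.basicOpen g :=
    show φ g ∉ t.asIdeal from
      (show φ g = g from MvPolynomial.aeval_ite_mem_eq_self g subset_rfl).symm ▸ htU'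
  have h : t' ∉ fT '' Zs := hU'le ht'g
  suffices ⋃ i ∈ σ, W i = Set.univ from ⟨this ▸ Finset.isCompact_biUnion _ fun i _ ↦ hWc i⟩
  rw [Set.iUnion₂_eq_univ_iff]
  contrapose! h
  obtain ⟨x, hx⟩ := h
  have : Subsingleton (Points ((yon S).obj (Over.mk str))) :=
    (Points.schemeHomeo (Over.mk str)).symm.injective.subsingleton (β := ↥(Spec (CommRingCat.of K)))
  obtain ⟨z, rfl, hzr⟩ := exists_point_of_isPullback (IsPullback.of_hasPullback f ((yon S).map q)) x
    (Points.schemeHomeo T t') (Subsingleton.elim _ _)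
  have hfz : fT z = t' := by
    change (Points.schemeHomeo T).symm (Points.map _ z) = t'
    rw [hzr, Homeomorph.symm_apply_apply]
  refine ⟨z, fun hz => ?_, hfz⟩
  obtain ⟨i, hi₁, hi₂⟩ := Set.mem_iUnion.1 hz
  rw [Set.mem_preimage, hfz] at hi₁
  have h0 : φ (MvPolynomial.X i) = 0 := by simpa [φ] using (hx i · hi₂)
  exact hi₁ (show φ (MvPolynomial.X i) ∈ t.asIdeal from h0 ▸ t.asIdeal.zero_mem)

/-- Universally closed morphisms are quasi-compact. -/
theorem isQuasiCompactMor_of_isUnivClosedMor (hX : IsAlgSpace X) (hY : IsAlgSpace Y) {f : X ⟶ Y}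
    (hf : IsUnivClosedMor f) : IsQuasiCompactMor f := by
  refine isQuasiCompactMor_of_affine hX hY fun V hV g => ?_
  let sd := pullback.snd f g
  have hsd : IsUnivClosedMor sd := univSp_of_isPullback (IsPullback.of_hasPullback f g) hf
  have hV' := IsAlgSpace.yon_obj (S := S) V
  have hP := isAlgSpace_pullback hY.diag hX hV' f g
  have hcl : IsClosedMap (Points.map sd) := hf hV' g _ sd (IsPullback.of_hasPullback f g)
  have hproper : IsProperMap (Points.map sd) := by
    refine isProperMap_iff_isClosedMap_and_compact_fibers.2 ⟨Points.continuous_map sd, hcl, fun y => ?_⟩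
    obtain ⟨v, rfl⟩ := (Points.schemeEquiv V).surjective y
    let str : Spec (V.left.residueField v) ⟶ S := V.left.fromSpecResidueField v ≫ V.hom
    let k : Over.mk str ⟶ V := Over.homMk (V.left.fromSpecResidueField v)
    have : CompactSpace (Points (pullback sd ((yon S).map k))) :=
      compactSpace_of_univClosed (K := V.left.residueField v) str
        (isAlgSpace_pullback hV'.diag hP (IsAlgSpace.yon_obj _) sd _)
        (univSp_of_isPullback (IsPullback.of_hasPullback sd ((yon S).map k)) hsd)
    have e : Points.map sd ⁻¹' {Points.schemeEquiv V v} =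
        Set.range (Points.map (pullback.fst sd ((yon S).map k))) := by
      rw [range_snd_of_isPullback (IsPullback.of_hasPullback sd ((yon S).map k)).flip]
      congr 1
      ext y
      obtain ⟨w, rfl⟩ := (Points.schemeEquiv V).surjective y
      rw [Set.mem_singleton_iff, (Points.schemeEquiv V).injective.eq_iff]
      constructor
      · rintro rfl
        exact ⟨Points.schemeHomeo (Over.mk str) (default : ↥(Spec (V.left.residueField w))),
          (Points.map_yon_map_apply k _).trans (congrArg _ (Scheme.fromSpecResidueField_apply w _))⟩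
      · rintro ⟨z, hz⟩
        obtain ⟨z, rfl⟩ := (Points.schemeHomeo (Over.mk str)).surjective z
        rw [Points.map_yon_map_apply] at hz
        exact ((Points.schemeEquiv V).injective hz).symm.trans (Scheme.fromSpecResidueField_apply v z)
    rw [e]
    exact isCompact_range (Points.continuous_map _)
  have : CompactSpace (Points ((yon S).obj V)) := (Points.schemeHomeo V).compactSpace
  have : CompactSpace (Points (pullback f g)) := ⟨by simpa using hproper.isCompact_preimage isCompact_univ⟩
  exact isQuasiCompactSp_of_compactSpace hP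

set_option backward.isDefEq.respectTransparency false in
theorem isUnivClosedMor_map {B : Sp S} (hX : IsAlgSpace X) (hY : IsAlgSpace Y) (hB : IsAlgSpace B)
    {f : X ⟶ Y} {q : Y ⟶ B} (hc : IsUnivClosedMor f) :
    IsUnivClosedMor (pullback.map (f ≫ q) (f ≫ q) q q f f (𝟙 B) (by simp) (by simp)) := by
  let m₁ : pullback (f ≫ q) (f ≫ q) ⟶ pullback q (f ≫ q) :=
    pullback.lift (pullback.fst _ _ ≫ f) (pullback.snd _ _) (by rw [Category.assoc, pullback.condition])
  let m₂ : pullback q (f ≫ q) ⟶ pullback q q :=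
    pullback.lift (pullback.fst _ _) (pullback.snd _ _ ≫ f) (by rw [Category.assoc, pullback.condition])
  have sq₁ : IsPullback (pullback.fst (f ≫ q) (f ≫ q)) m₁ f (pullback.fst q (f ≫ q)) := by
    refine IsPullback.of_bot ?_ (pullback.lift_fst _ _ _).symm (IsPullback.of_hasPullback q (f ≫ q))
    rw [pullback.lift_snd]
    exact IsPullback.of_hasPullback _ _
  have sq₂ : IsPullback (pullback.snd q (f ≫ q)) m₂ f (pullback.snd q q) := by
    refine IsPullback.of_bot ?_ (pullback.lift_snd _ _ _).symm (IsPullback.of_hasPullback q q).flip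
    rw [pullback.lift_fst]
    exact (IsPullback.of_hasPullback q (f ≫ q)).flip
  have e : pullback.map (f ≫ q) (f ≫ q) q q f f (𝟙 B) (by simp) (by simp) = m₁ ≫ m₂ := by
    apply pullback.hom_ext <;> simp [pullback.map, m₁, m₂]
  rw [e]
  exact univSp_comp_of (isAlgSpace_pullback hB.diag hY hX q (f ≫ q))
    (isAlgSpace_pullback hB.diag hY hY q q) (univSp_of_isPullback sq₁ hc) (univSp_of_isPullback sq₂ hc)

set_option backward.isDefEq.respectTransparency false in
/-- Separation properties descend along surjective universally closed morphisms. -/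
theorem separation_of_surjective_univClosed {B : Sp S} (hX : IsAlgSpace X) (hY : IsAlgSpace Y)
    (hB : IsAlgSpace B) {f : X ⟶ Y} {q : Y ⟶ B} (hs : Function.Surjective (Points.map f))
    (hc : IsUnivClosedMor f) :
    (IsQuasiSeparatedMor (f ≫ q) → IsQuasiSeparatedMor q) ∧
      (IsSeparatedMor (f ≫ q) → IsSeparatedMor q) := by
  let m := pullback.map (f ≫ q) (f ≫ q) q q f f (𝟙 B) (by simp) (by simp)
  have hm : IsUnivClosedMor m := isUnivClosedMor_map hX hY hB hc
  have e : f ≫ pullback.diagonal q = pullback.diagonal (f ≫ q) ≫ m := by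
    apply pullback.hom_ext <;> simp [m, pullback.map]
  have hXX := isAlgSpace_pullback hB.diag hX hX (f ≫ q) (f ≫ q)
  have hYY := isAlgSpace_pullback hB.diag hY hY q q
  refine ⟨fun h => ?_, fun h => ?_⟩
  · refine repWith_quasiCompact_of_mor (representable_diagonal q hY.diag)
      (isQuasiCompactMor_of_surjective_triangle hX hY hYY hs ?_)
    rw [e]
    exact isQuasiCompactMor_comp hXX hYY (isQuasiCompactMor_of_repWith hX hXX h)
      (isQuasiCompactMor_of_isUnivClosedMor hXX hYY hm)
  · refine (isSeparatedMor_iff hY hB q).1.2 (isUnivClosedMor_of_surjective (f := f) ?_ hs)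
    rw [e]
    exact univSp_comp_of hXX hYY ((isSeparatedMor_iff hX hB (f ≫ q)).1.1 h) hm

end Groth.Agent.H12AlgSp
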