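import Mathlib.AlgebraicGeometry.ResidueField
import Mathlib.AlgebraicGeometry.Properties
import Mathlib.AlgebraicGeometry.Morphisms.Preimmersion

/-!
Morphisms from reduced schemes with image a single point factor through its residue field.
-/

universe u

open CategoryTheory CategoryTheory.Limits AlgebraicGeometry IsLocalRing

namespace Groth.Agent.H12AlgSp

/-- A map from a reduced affine scheme with image a point factors through the residue field of the point. -/
theorem exists_factor_fromSpecResidueField_affine {C : CommRingCat.{u}} [_root_.IsReduced C] {U : Scheme.{u}}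
    (g : Spec C ⟶ U) (u : U) (h : ∀ w, g w = u) :
    ∃ l : Spec C ⟶ Spec (U.residueField u), l ≫ U.fromSpecResidueField u = g := by
  obtain ⟨B, hB, huB, -⟩ := TopologicalSpace.Opens.isBasis_iff_nbhd.mp U.isBasis_affineOpens
    (TopologicalSpace.Opens.mem_top u)
  have hg : Set.range g ⊆ Set.range hB.fromSpec := by
    rintro _ ⟨w, rfl⟩
    rw [h w, hB.range_fromSpec]
    exact huB
  obtain ⟨φ, hφ⟩ := Spec.map_surjective (IsOpenImmersion.lift hB.fromSpec g hg)
  have hg' : Spec.map φ ≫ hB.fromSpec = g := by rw [hφ]; exact IsOpenImmersion.lift_fac _ _ _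
  let q := hB.primeIdealOf ⟨u, huB⟩
  have hq : ∀ P : PrimeSpectrum C, PrimeSpectrum.comap φ.hom P = q := fun P => by
    apply hB.fromSpec.isOpenEmbedding.injective
    rw [hB.fromSpec_primeIdealOf]
    change hB.fromSpec ((Spec.map φ) P) = u
    rw [← Scheme.Hom.comp_apply, hg', h]
  have hunit : ∀ y : q.asIdeal.primeCompl, IsUnit (φ.hom y.1) := fun y => by
    by_contra hy
    obtain ⟨m, hm, hym⟩ := exists_max_ideal_of_mem_nonunits hy
    have hmem : y.1 ∈ (PrimeSpectrum.comap φ.hom ⟨m, hm.isPrime⟩).asIdeal := hym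
    exact y.2 ((congrArg PrimeSpectrum.asIdeal (hq ⟨m, hm.isPrime⟩)).le hmem)
  have hzero : ∀ x ∈ q.asIdeal, φ.hom x = 0 := fun x hx => by
    apply IsNilpotent.eq_zero
    rw [nilpotent_iff_mem_prime]
    intro P hP
    rw [← hq ⟨P, hP⟩] at hx
    exact hx
  let := (U.presheaf.germ B u huB).hom.toAlgebra
  have := hB.isLocalization_stalk ⟨u, huB⟩
  let ψ : U.presheaf.stalk u →+* C := IsLocalization.lift (M := q.asIdeal.primeCompl) hunit
  have hψ : ∀ a ∈ maximalIdeal (U.presheaf.stalk u), ψ a = 0 := by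
    intro a ha
    rw [← IsLocalization.AtPrime.map_eq_maximalIdeal q.asIdeal (U.presheaf.stalk u)] at ha
    refine (Ideal.map_le_iff_le_comap.mpr ?_ ha : a ∈ RingHom.ker ψ)
    intro x hx
    rw [Ideal.mem_comap, RingHom.mem_ker, IsLocalization.lift_eq]
    exact hzero x hx
  let κ : U.residueField u ⟶ C := CommRingCat.ofHom (Ideal.Quotient.lift _ ψ hψ)
  have hκ : U.presheaf.germ B u huB ≫ U.residue u ≫ κ = φ := by
    ext x
    exact IsLocalization.lift_eq hunit x
  refine ⟨Spec.map κ, ?_⟩
  rw [Scheme.fromSpecResidueField, ← hB.fromSpecStalk_eq_fromSpecStalk huB, IsAffineOpen.fromSpecStalk,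
    ← Spec.map_comp_assoc, ← Spec.map_comp_assoc, hκ, hg']

/-- A map from a reduced scheme with image a point factors through the residue field of the point. -/
theorem exists_factor_fromSpecResidueField {W U : Scheme.{u}} [IsReduced W] (g : W ⟶ U) (u : U)
    (h : ∀ w, g w = u) : ∃ l : W ⟶ Spec (U.residueField u), l ≫ U.fromSpecResidueField u = g := by
  let 𝒱 := W.affineCover
  have hl : ∀ i, ∃ l : 𝒱.X i ⟶ Spec (U.residueField u), l ≫ U.fromSpecResidueField u = 𝒱.f i ≫ g := fun i => by
    have : IsReduced (𝒱.X i) := isReduced_of_isOpenImmersion (𝒱.f i)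
    have hC := (affine_isReduced_iff _).1 ‹IsReduced (𝒱.X i)›
    exact @exists_factor_fromSpecResidueField_affine _ hC U _ u fun w => h _
  choose l hl using hl
  refine ⟨𝒱.glueMorphisms l fun i j => ?_, 𝒱.hom_ext _ _ fun i => ?_⟩
  · rw [← cancel_mono (U.fromSpecResidueField u), Category.assoc, Category.assoc, hl, hl, pullback.condition_assoc]
  · rw [← Category.assoc, Scheme.Cover.ι_glueMorphisms, hl]

end Groth.Agent.H12AlgSp
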