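import Groth.Agent.H12AlgSp.DecentLocal
import Groth.Agent.H12AlgSp.ReducedPoint
import Groth.Prelude.Def_AlgSpSub

/-!
Points of decent spaces: monomorphic representatives, reduced spaces over a point.
-/

universe u

open CategoryTheory CategoryTheory.Limits AlgebraicGeometry Opposite Topology
open AlgSp Groth.Agent.H13AlgSp

namespace Groth.Agent.H12AlgSp

variable {S : Scheme.{u}}

theorem repWith_etale_openIncl {X : Sp S} {U : Over S} {a : (yon S).obj U ⟶ X} (ha : RepWith @Etale a)
    (A : U.left.Opens) : RepWith @Etale ((yon S).map (openIncl U A) ≫ a) :=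
  repWith_comp ((repWith_yon_map_iff _ _).2 (inferInstanceAs (Etale (Scheme.Opens.ι A)))) ha

theorem exists_factor_of_mk_eq {X : Sp S} (hX : IsAlgSpace X) (p q : FieldPt X) (hm : Mono p.toHom)
    (h : Points.mk p = Points.mk q) :
    ∃! c : q.pt ⟶ p.pt, (yon S).map c ≫ p.toHom = q.toHom := by
  obtain ⟨W, w, fst, sq⟩ := hX.representable_from_yon p.toHom q.toHom
  have : Mono ((yon S).map w) := mono_of_sq sq.flip
  obtain ⟨z, -, -⟩ := exists_point_of_isPullback sq
    (Points.ofScheme p.pt (IsLocalRing.closedPoint p.K)) (Points.ofScheme q.pt (IsLocalRing.closedPoint q.K))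
    (by rw [← Points.ofPt_eq_map_ofScheme, ← Points.ofPt_eq_map_ofScheme, Points.ofPt_toHom,
      Points.ofPt_toHom, h])
  have : Nonempty (Points ((yon S).obj W)) := ⟨z⟩
  have : IsIso ((yon S).map w) := isIso_of_mono_to_field_space (IsAlgSpace.yon_obj W) _
  obtain ⟨σ, hσ⟩ := (yon S).map_surjective (inv ((yon S).map w) ≫ fst)
  refine ⟨σ, ?_, fun c hc => (yon S).map_injective ?_⟩
  · dsimp only
    rw [hσ, Category.assoc, sq.w, IsIso.inv_hom_id_assoc]
  · rw [← cancel_mono p.toHom, hc, hσ, Category.assoc, sq.w, IsIso.inv_hom_id_assoc]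

/-- Affine etale charts have finite fibres over points with a quasi-compact representative. -/
theorem finite_fibre_affine {X : Sp S} (p : FieldPt X) (hqc : RepWith @QuasiCompact p.toHom) {V : Over S}
    [IsAffine V.left] {b : (yon S).obj V ⟶ X} (hb : RepWith @Etale b) :
    (Points.ofPt b ⁻¹' {Points.mk p}).Finite := by
  obtain ⟨P, v, fst, sq⟩ := hqc.1 b
  have hvqc : QuasiCompact v.left := hqc.2 _ _ v sq
  have : CompactSpace P.left := QuasiCompact.compactSpace_of_compactSpace v.left
  obtain ⟨f, rfl⟩ := (yon S).map_surjective fst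
  let f' : P.left ⟶ Spec (CommRingCat.of p.K) := f.left
  have : Etale f' := hb.2 p.toHom _ f sq.flip
  have := lqf_of_etale f'
  have : QuasiCompact f' := (quasiCompact_iff_compactSpace f').2 inferInstance
  have hP : (Set.univ : Set P.left).Finite := by
    rw [show (Set.univ : Set P.left) = f' ⁻¹' {IsLocalRing.closedPoint p.K} from
      (Set.eq_univ_of_forall fun y => Subsingleton.elim (α := ↥(Spec (CommRingCat.of p.K))) _ _).symm]
    exact f'.finite_preimage_singleton _
  refine (hP.image fun z => v.left z).subset ?_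
  intro w hw
  obtain ⟨z, -, hz⟩ := exists_point_of_isPullback sq
    (Points.ofScheme p.pt (IsLocalRing.closedPoint p.K)) (Points.ofScheme V w) (by
      rw [← Points.ofPt_eq_map_ofScheme, ← Points.ofPt_eq_map_ofScheme, Points.ofPt_toHom]
      exact hw.symm)
  obtain ⟨z, rfl⟩ := (Points.schemeEquiv P).surjective z
  refine ⟨z, trivial, (Points.schemeEquiv V).injective (Eq.trans ?_ hz)⟩
  change Points.ofScheme _ _ = Points.map _ (Points.ofScheme _ _)
  rw [← Points.ofPt_eq_map_ofScheme, ← Category.comp_id ((yon S).map v), ofPt_map]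

/-- A finite set without specializations is discrete. -/
theorem exists_open_inter_eq {U : Type*} [TopologicalSpace U] {s : Set U} (hs : s.Finite)
    (h : ∀ a ∈ s, ∀ b ∈ s, a ⤳ b → a = b) {u : U} (hu : u ∈ s) :
    ∃ O : Set U, IsOpen O ∧ u ∈ O ∧ ∀ z ∈ s, z ∈ O → z = u := by
  have key : ∀ z ∈ s, ∃ O : Set U, IsOpen O ∧ u ∈ O ∧ (z ∈ O → z = u) := fun z hz => by
    by_cases hzu : z = u
    · exact ⟨Set.univ, isOpen_univ, trivial, fun _ => hzu⟩
    · have : ¬ z ⤳ u := fun hzu' => hzu (h z hz u hu hzu')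
      rw [specializes_iff_forall_open] at this
      push Not at this
      obtain ⟨O, hO, huO, hzO⟩ := this
      exact ⟨O, hO, huO, fun h' => absurd h' hzO⟩
  choose O h1 h2 h3 using key
  have := hs.to_subtype
  exact ⟨⋂ z : s, O z.1 z.2, isOpen_iInter_of_finite fun z => h1 _ _, Set.mem_iInter.2 fun z => h2 _ _,
    fun z hz hzO => h3 z hz (Set.mem_iInter.1 hzO ⟨z, hz⟩)⟩

/-- Specializations in fibres of charts over a point over which affine charts have finite fibres. -/
theorem eq_of_specializes_of_finite {X : Sp S} {x : Points X}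
    (hx : ∀ (V : Over S) (b : (yon S).obj V ⟶ X), IsAffine V.left → RepWith @Etale b →
      (Points.ofPt b ⁻¹' {x}).Finite) {U : Over S}
    {a : (yon S).obj U ⟶ X} (ha : RepWith @Etale a) {u u' : U.left}
    (hu₀ : Points.ofPt a u = x) (hu'₀ : Points.ofPt a u' = x) (hs : u' ⤳ u) :
    u = u' := by
  obtain ⟨A, hA, huA, -⟩ := TopologicalSpace.Opens.isBasis_iff_nbhd.mp U.left.isBasis_affineOpens
    (TopologicalSpace.Opens.mem_top u)
  let fib := (A : Set U.left) ∩ Points.ofPt a ⁻¹' {x}
  have hfin : fib.Finite := by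
    refine ((hx (openOver U A) _ hA (repWith_etale_openIncl ha A)).image
      fun z => (openIncl U A).left z).subset ?_
    rintro w ⟨hwA, hw⟩
    exact ⟨⟨w, hwA⟩, (ofPt_map (openIncl U A) a _).trans hw, rfl⟩
  by_contra hne
  let E := {w' ∈ fib | ∃ w ∈ fib, w' ⤳ w ∧ w' ≠ w}
  have hu : u ∈ fib := ⟨huA, hu₀⟩
  have hu' : u' ∈ fib := ⟨hs.mem_open A.isOpen huA, hu'₀⟩
  obtain ⟨w', hw'E, hmin⟩ := Set.exists_min_image E (fun w' => {z ∈ fib | z ⤳ w'}.ncard)
    (hfin.subset fun z hz => hz.1) ⟨u', hu', u, hu, hs, fun e => hne e.symm⟩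
  obtain ⟨hw', w, hw, hww, hwne⟩ := hw'E
  obtain ⟨R, s, t', sq⟩ := ha.1 a
  obtain ⟨t, rfl⟩ := (yon S).map_surjective t'
  have hse : Etale s.left := ha.2 a _ s sq
  have hte : Etale t.left := ha.2 a _ t sq.flip
  obtain ⟨r, hr₁, hr₂⟩ := exists_point_of_isPullback sq (Points.ofScheme U w') (Points.ofScheme U w) (by
    rw [← Points.ofPt_eq_map_ofScheme, ← Points.ofPt_eq_map_ofScheme]
    exact hw'.2.trans hw.2.symm)
  obtain ⟨r, rfl⟩ := (Points.schemeEquiv R).surjective r
  have key : ∀ (k : R ⟶ U) (w₀ : U.left),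
      Points.map ((yon S).map k) (Points.schemeEquiv R r) = Points.ofScheme U w₀ → k.left r = w₀ := by
    intro k w₀ h
    apply (Points.schemeEquiv U).injective
    refine Eq.trans ?_ h
    change Points.ofScheme _ _ = Points.map _ (Points.ofScheme _ _)
    rw [← Points.ofPt_eq_map_ofScheme, ← Category.comp_id ((yon S).map k), ofPt_map]
  have hr₁' := key t w' hr₁
  have hr₂' := key s w hr₂
  obtain ⟨r₁, hr, hsr⟩ := Flat.generalizingMap s.left (a := r) (b := w') (hr₂' ▸ hww)
  have hspec : t.left r₁ ⤳ w' := hr₁' ▸ hr.map t.left.continuous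
  have hfib : t.left r₁ ∈ fib := by
    refine ⟨hspec.mem_open A.isOpen hw'.1, ?_⟩
    change Points.ofPt a (t.left r₁) = x
    rw [← ofPt_map, sq.w, ofPt_map, hsr]
    exact hw'.2
  have hne' : t.left r₁ ≠ w' := fun e => by
    have := lqf_of_etale t.left
    have hrr := Groth.Agent.H05EGA4.eq_of_specializes_of_fibre t.left hr (e.trans hr₁'.symm)
    exact hwne (hsr.symm.trans ((congrArg s.left hrr).trans hr₂'))
  refine absurd (hmin (t.left r₁) ⟨hfib, w', hw', hspec, hne'⟩) (not_le.2 ?_)
  refine Set.ncard_lt_ncard ⟨fun z hz => ⟨hz.1, hz.2.trans hspec⟩, fun h => ?_⟩ (hfin.subset fun z hz => hz.1)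
  exact hne' (Specializes.antisymm hspec (h ⟨hw', specializes_rfl⟩).2).eq

/-- Specializations in fibres of charts over a point with a quasi-compact representative. -/
theorem eq_of_specializes_of_qc {X : Sp S} (p : FieldPt X) (hqc : RepWith @QuasiCompact p.toHom) {U : Over S}
    {a : (yon S).obj U ⟶ X} (ha : RepWith @Etale a) {u u' : U.left}
    (hu₀ : Points.ofPt a u = Points.mk p) (hu'₀ : Points.ofPt a u' = Points.mk p) (hs : u' ⤳ u) :
    u = u' :=
  eq_of_specializes_of_finite (fun _ _ hV hb => @finite_fibre_affine _ _ p hqc _ hV _ hb) ha hu₀ hu'₀ hs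

/-- A map from a reduced space with image a point with a quasi-compact mono representative factors
through it. -/
theorem exists_factor_reduced {Y X : Sp S} (hX : IsAlgSpace X) (f : Y ⟶ X) (p : FieldPt X) (hm : Mono p.toHom)
    (hqc : RepWith @QuasiCompact p.toHom) (hY : IsReducedSp Y) (hf : ∀ y, Points.map f y = Points.mk p) :
    ∃ g : Y ⟶ (yon S).obj p.pt, g ≫ p.toHom = f := by
  obtain ⟨T, t, hte, hts, hT⟩ := hY
  have := epi_of_etale_surjective hte hts
  obtain ⟨U, a, ha, has⟩ := hX.atlas
  suffices IsIso (pullback.fst f p.toHom) from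
    ⟨inv (pullback.fst f p.toHom) ≫ pullback.snd f p.toHom, by
      rw [Category.assoc, ← pullback.condition, IsIso.inv_hom_id_assoc]⟩
  obtain ⟨W, w, b', sq⟩ := ha.1 (t ≫ f)
  obtain ⟨b, rfl⟩ := (yon S).map_surjective b'
  have hwe : Etale w.left := ha.2 _ _ w sq
  have hws : Surjective w.left := has.2 _ _ w sq
  have : IsReduced T.left := hT
  have : IsReduced W.left := Groth.Agent.H13AlgSp.isReduced_of_smooth_mor w.left
  have hfib : ∀ z : W.left, Points.ofPt a (b.left z) = Points.mk p := fun z => by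
    rw [← ofPt_map, sq.w, ← Category.assoc, ← Points.map_ofPt, hf]
  -- the lift, locally on `W`
  have hloc : ∀ z : W.left, ∃ O : W.left.Opens, z ∈ O ∧
      ∃ l : (yon S).obj (openOver W O) ⟶ (yon S).obj p.pt,
        l ≫ p.toHom = (yon S).map (openIncl W O ≫ b) ≫ a := by
    intro z
    obtain ⟨A, hA, hzA, -⟩ := TopologicalSpace.Opens.isBasis_iff_nbhd.mp U.left.isBasis_affineOpens
      (TopologicalSpace.Opens.mem_top (b.left z))
    have : IsAffine (openOver U A).left := hA
    have hfin : ((A : Set U.left) ∩ Points.ofPt a ⁻¹' {Points.mk p}).Finite := by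
      refine ((finite_fibre_affine p hqc (V := openOver U A)
        (repWith_etale_openIncl ha A)).image
        fun y => (openIncl U A).left y).subset ?_
      rintro y ⟨hyA, hy⟩
      exact ⟨⟨y, hyA⟩, (ofPt_map (openIncl U A) a _).trans hy, rfl⟩
    obtain ⟨N, hN, hzN, hNu⟩ := exists_open_inter_eq hfin
      (fun a₁ h₁ a₂ h₂ h => (eq_of_specializes_of_qc p hqc ha h₂.2 h₁.2 h).symm)
      (⟨hzA, hfib z⟩ : b.left z ∈ (A : Set U.left) ∩ Points.ofPt a ⁻¹' {Points.mk p})
    let O : W.left.Opens := ⟨b.left ⁻¹' ((A : Set U.left) ∩ N), (A.isOpen.inter hN).preimage b.left.continuous⟩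
    have hO : ∀ y : (openOver W O).left, (openIncl W O ≫ b).left y = b.left z := fun y =>
      hNu _ ⟨y.2.1, hfib y.1⟩ y.2.2
    have : IsOpenImmersion (openIncl W O).left := inferInstanceAs (IsOpenImmersion (Scheme.Opens.ι (X := W.left) O))
    have : IsReduced (openOver W O).left := isReduced_of_isOpenImmersion (openIncl W O).left
    obtain ⟨l₀, hl₀⟩ := exists_factor_fromSpecResidueField (openIncl W O ≫ b).left (b.left z) hO
    obtain ⟨c, hc, -⟩ := exists_factor_of_mk_eq hX p (FieldPt.ofPt a (b.left z)) hm (hfib z).symm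
    let l₁ : openOver W O ⟶ (FieldPt.ofPt a (b.left z)).pt := Over.homMk l₀ (by
      change l₀ ≫ U.left.fromSpecResidueField (b.left z) ≫ U.hom = _
      rw [← Category.assoc, hl₀]
      exact Over.w (openIncl W O ≫ b))
    refine ⟨O, ⟨hzA, hzN⟩, (yon S).map (l₁ ≫ c), ?_⟩
    have e : l₁ ≫ Over.homMk (U.left.fromSpecResidueField (b.left z)) rfl = openIncl W O ≫ b :=
      Over.OverMorphism.ext hl₀
    rw [Functor.map_comp, Category.assoc, hc, FieldPt.toHom_ofPt, ← Functor.map_comp_assoc]
    exact congrArg (fun m => (yon S).map m ≫ a) e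
  choose O hO l hl using hloc
  have hlift : ∀ z, ∃ m, m ≫ pullback.fst f p.toHom = ((yon S).map (openIncl W (O z) ≫ w)) ≫ t := fun z => by
    refine ⟨pullback.lift (((yon S).map (openIncl W (O z) ≫ w)) ≫ t) (l z) ?_, pullback.lift_fst _ _ _⟩
    rw [hl, Functor.map_comp, Functor.map_comp, Category.assoc, Category.assoc, Category.assoc, sq.w]
  have : Epi (pullback.fst f p.toHom) := by
    refine ⟨fun {H} x y exy => ?_⟩
    rw [← cancel_epi t]
    have : Flat w.left := inferInstance
    have : LocallyOfFinitePresentation w.left := inferInstance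
    refine hom_ext_of_cover (κ := W.left) (fun z => openIncl W (O z) ≫ w)
      (ofArrows_mem_J _ (fun z => ?_) (fun z => ?_) fun τ => ?_) fun z => ?_
    · have : Flat (openIncl W (O z)).left := inferInstanceAs (Flat (Scheme.Opens.ι (O z)))
      rw [Over.comp_left]; infer_instance
    · have : LocallyOfFinitePresentation (openIncl W (O z)).left :=
        inferInstanceAs (LocallyOfFinitePresentation (Scheme.Opens.ι (O z)))
      rw [Over.comp_left]; infer_instance
    · obtain ⟨z, rfl⟩ := w.left.surjective τ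
      exact ⟨z, ⟨z, hO z⟩, rfl⟩
    · obtain ⟨m, hm'⟩ := hlift z
      rw [← Category.assoc, ← Category.assoc, ← hm', Category.assoc, Category.assoc, exy]
  exact isIso_of_mono_of_epi _

end Groth.Agent.H12AlgSp
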