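import Groth.Agent.H12AlgSp.LimitScheme
import Groth.Agent.H12AlgSp.FinPres

/-!
Base changes of systems of algebraic spaces with affine transition maps along a map to a stage.
-/

universe u

open CategoryTheory CategoryTheory.Limits AlgebraicGeometry Opposite
open AlgSp Groth.Agent.H13AlgSp

set_option backward.isDefEq.respectTransparency false

attribute [local instance] CategoryTheory.isConnected_of_hasTerminal

namespace Groth.Agent.H12AlgSp

variable {S : Scheme.{u}} {I : Type u} [SmallCategory I] (D : I ⥤ Sp S) {i : I} {Y : Sp S}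
  (b : Y ⟶ D.obj i)

/-- The base change of the system above `i` along `b`. -/
noncomputable def bcDiagram : Over i ⥤ Sp S where
  obj j := pullback b (D.map j.hom)
  map {j k} φ := pullback.map _ _ _ _ (𝟙 _) (D.map φ.left) (𝟙 _) (by simp)
    (by rw [Category.comp_id, ← D.map_comp, Over.w φ])
  map_id j := by apply pullback.hom_ext <;> simp
  map_comp φ ψ := by apply pullback.hom_ext <;> simp

/-- The projection to the system. -/
noncomputable def bcSnd : bcDiagram D b ⟶ Over.forget i ⋙ D where
  app j := pullback.snd b (D.map j.hom)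
  naturality _ _ _ := pullback.lift_snd _ _ _

theorem bcDiagram_map_fst {j k : Over i} (φ : j ⟶ k) :
    (bcDiagram D b).map φ ≫ pullback.fst b (D.map k.hom) = pullback.fst b (D.map j.hom) :=
  (pullback.lift_fst _ _ _).trans (Category.comp_id _)

theorem isPullback_bcDiagram_map {j k : Over i} (φ : j ⟶ k) :
    IsPullback ((bcDiagram D b).map φ) ((bcSnd D b).app j) ((bcSnd D b).app k) (D.map φ.left) := by
  refine IsPullback.of_right (h₁₂ := pullback.fst b (D.map k.hom)) (v₁₃ := b) (h₂₂ := D.map k.hom) ?_
    ((bcSnd D b).naturality φ) (IsPullback.of_hasPullback _ _)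
  rw [bcDiagram_map_fst, ← D.map_comp, Over.w φ]
  exact IsPullback.of_hasPullback _ _

theorem isPullback_bcDiagram_fst (j : Over i) :
    IsPullback (pullback.fst b (D.map j.hom)) ((bcSnd D b).app j) b (D.map j.hom) :=
  IsPullback.of_hasPullback _ _

theorem repWith_bcDiagram_fst {P : MorphismProperty Scheme.{u}} (j : Over i) (h : RepWith P (D.map j.hom)) :
    RepWith P (pullback.fst b (D.map j.hom)) :=
  repWith_of_isPullback (IsPullback.of_hasPullback b (D.map j.hom)).flip h

variable {D b}

theorem isAffineMor_bcDiagram_map (hDa : ∀ (k l : I) (φ : k ⟶ l), IsAffineMor (D.map φ)) (j k : Over i)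
    (φ : j ⟶ k) : IsAffineMor ((bcDiagram D b).map φ) :=
  isAffineMor_iff.2 (repWith_of_isPullback (isPullback_bcDiagram_map D b φ).flip (isAffineMor_iff.1 (hDa _ _ φ.left)))

theorem isAlgSpace_bcDiagram (hD : ∀ k, IsAlgSpace (D.obj k)) (hY : IsAlgSpace Y) (j : Over i) :
    IsAlgSpace ((bcDiagram D b).obj j) :=
  isAlgSpace_pullback (hD i).diag hY (hD _) b (D.map j.hom)

theorem isQuasiCompactSp_bcDiagram (hD : ∀ k, IsAlgSpace (D.obj k))
    (hDa : ∀ (k l : I) (φ : k ⟶ l), IsAffineMor (D.map φ)) (hY : IsAlgSpace Y) (hYc : IsQuasiCompactSp Y)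
    (j : Over i) : IsQuasiCompactSp ((bcDiagram D b).obj j) := by
  have hE := isAlgSpace_bcDiagram (b := b) hD hY j
  have := compactSpace_points_of_isQuasiCompactSp hYc
  have h : IsQuasiCompactMor (pullback.fst b (D.map j.hom)) := isQuasiCompactMor_of_repWith hE hY
    (repWith_le (P := @IsAffineHom) (Q := @QuasiCompact) (fun _ _ k (_ : IsAffineHom k) => inferInstance)
      (repWith_bcDiagram_fst D b j (isAffineMor_iff.1 (hDa _ _ j.hom))))
  have hc := isCompact_preimage hY h isOpen_univ isCompact_univ
  rw [Set.preimage_univ] at hc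
  have : CompactSpace (Points ((bcDiagram D b).obj j)) := ⟨hc⟩
  exact isQuasiCompactSp_of_compactSpace hE

theorem isQuasiSeparatedSp_bcDiagram (hDa : ∀ (k l : I) (φ : k ⟶ l), IsAffineMor (D.map φ))
    (hYs : IsQuasiSeparatedSp Y) (j : Over i) : IsQuasiSeparatedSp ((bcDiagram D b).obj j) :=
  isQuasiSeparatedSp_of_mor (X := (bcDiagram D b).obj j)
    (repWith_le (P := @IsClosedImmersion) (Q := @QuasiCompact) (fun _ _ k (_ : IsClosedImmersion k) => inferInstance)
      (isSeparatedMor_of_repWith (repWith_le (P := @IsAffineHom) (Q := @IsSeparated)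
        (fun _ _ k (_ : IsAffineHom k) => inferInstance)
        (repWith_bcDiagram_fst D b j (isAffineMor_iff.1 (hDa _ _ j.hom)))))) hYs

variable (D b) {c : Cone D} {Y' : Sp S} {pY : Y' ⟶ Y} {qY : Y' ⟶ c.pt} (hY : IsPullback pY qY b (c.π.app i))

/-- The base change of the limit as a cone over the base change of the system. -/
noncomputable def bcCone : Cone (bcDiagram D b) where
  pt := Y'
  π :=
    { app := fun j => pullback.lift pY (qY ≫ c.π.app j.left) (by rw [Category.assoc, c.w]; exact hY.w)
      naturality := fun j k φ => by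
        apply pullback.hom_ext
        · simp [bcDiagram]
        · simp [bcDiagram] }

theorem isPullback_bcCone_π (j : Over i) :
    IsPullback ((bcCone D b hY).π.app j) qY ((bcSnd D b).app j) (c.π.app j.left) := by
  refine IsPullback.of_right (h₁₂ := pullback.fst b (D.map j.hom)) (v₁₃ := b) (h₂₂ := D.map j.hom) ?_
    (pullback.lift_snd _ _ _) (IsPullback.of_hasPullback _ _)
  change IsPullback (pullback.lift pY (qY ≫ c.π.app j.left) _ ≫ pullback.fst b (D.map j.hom)) qY b _
  rw [pullback.lift_fst]
  change IsPullback pY qY b (c.π.app j.left ≫ D.map j.hom)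
  rw [c.w]
  exact hY

/-- The base change of the limit is the limit of the base changes. -/
theorem nonempty_isLimit_bcCone [IsCofiltered I] (hc : IsLimit c) : Nonempty (IsLimit (bcCone D b hY)) :=
  ⟨isLimitOfIsPullbackOfIsConnected (bcSnd D b) (bcCone D b hY) (c.whisker (Over.forget i))
    { hom := qY, w := fun j => (isPullback_bcCone_π D b hY j).w.symm } (isPullback_bcCone_π D b hY)
    ((Functor.Initial.isLimitWhiskerEquiv (Over.forget i) c).symm hc)⟩

end Groth.Agent.H12AlgSp
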