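import Groth.Agent.H12AlgSp.LimitScheme
import Groth.Agent.H12AlgSp.LimitBaseChange
import Groth.Agent.H12AlgSp.QSApps
import Groth.Agent.H12AlgSp.LimitDescendAffine

/-!
Spaces over an affine base and directed unions of ideals.
-/

universe u

open CategoryTheory CategoryTheory.Limits AlgebraicGeometry Opposite
open AlgSp Groth.Agent.H13AlgSp

set_option backward.isDefEq.respectTransparency false

namespace Groth.Agent.H12AlgSp

variable {A : CommRingCat.{u}}

/-- The closed subscheme of an ideal, over the affine base. -/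
noncomputable abbrev quotOver (I : Ideal A) : Over (Spec A) :=
  Over.mk (Spec.map (CommRingCat.ofHom (Ideal.Quotient.mk I)))

/-- The inclusion into the base. -/
noncomputable abbrev quotStr (I : Ideal A) : quotOver I ⟶ Over.mk (𝟙 (Spec A)) :=
  Over.homMk (Spec.map (CommRingCat.ofHom (Ideal.Quotient.mk I))) (Category.comp_id _)

instance (I : Ideal A) : IsClosedImmersion (quotOver I).hom :=
  IsClosedImmersion.spec_of_surjective (CommRingCat.ofHom (Ideal.Quotient.mk I)) Ideal.Quotient.mk_surjective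

instance (I : Ideal A) : IsAffine (quotOver I).left := inferInstanceAs (IsAffine (Spec _))

/-- The transition map. -/
noncomputable abbrev quotMapOver {I J : Ideal A} (h : I ≤ J) : quotOver J ⟶ quotOver I :=
  Over.homMk (Spec.map (CommRingCat.ofHom (Ideal.Quotient.factor h))) (by
    change Spec.map _ ≫ Spec.map _ = Spec.map _
    rw [← Spec.map_comp, ← CommRingCat.ofHom_comp, Ideal.Quotient.factor_comp_mk])

instance (I : Ideal A) (T : Over (Spec A)) : Subsingleton (T ⟶ quotOver I) :=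
  ⟨fun f g => Over.OverMorphism.ext ((cancel_mono (quotOver I).hom).1 ((Over.w f).trans (Over.w g).symm))⟩

variable {ι : Type u} [Preorder ι] (c : ι → Ideal A) (hc : Monotone c)

/-- The system of closed subschemes of a directed family of ideals. -/
noncomputable def quotSystem : ιᵒᵖ ⥤ Over (Spec A) where
  obj i := quotOver (c i.unop)
  map f := quotMapOver (hc f.unop.le)
  map_id _ := Subsingleton.elim _ _
  map_comp _ _ := Subsingleton.elim _ _

/-- The closed subscheme of the union as a cone. -/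
noncomputable def quotCone : Cone (quotSystem c hc) where
  pt := quotOver (⨆ i, c i)
  π := { app := fun i => quotMapOver (le_iSup c i.unop), naturality := fun _ _ _ => Subsingleton.elim (α := _ ⟶ quotOver _) _ _ }

theorem le_ker_of_factor {I : Ideal A} {T : Over (Spec A)} (f : T ⟶ quotOver I) :
    I ≤ RingHom.ker ((Scheme.ΓSpecIso A).inv ≫ T.hom.appTop).hom := fun a ha => by
  rw [RingHom.mem_ker, ← Over.w f, Scheme.Hom.comp_appTop, ← Category.assoc]
  erw [← Scheme.ΓSpecIso_inv_naturality]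
  change ((f.left).appTop) ((Scheme.ΓSpecIso _).inv (Ideal.Quotient.mk I a)) = 0
  rw [Ideal.Quotient.eq_zero_iff_mem.2 ha, map_zero, map_zero]

/-- The union gives the limit. -/
noncomputable def isLimitQuotCone : IsLimit (quotCone c hc) where
  lift s := Over.homMk (s.pt.left.toSpecΓ ≫ Spec.map (CommRingCat.ofHom
      (Ideal.Quotient.lift (⨆ i, c i) ((Scheme.ΓSpecIso A).inv ≫ s.pt.hom.appTop).hom
        fun a ha => (iSup_le fun i => le_ker_of_factor (s.π.app (op i))) ha))) (by
    change (_ ≫ _) ≫ Spec.map _ = _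
    rw [Category.assoc, ← Spec.map_comp, ← CommRingCat.ofHom_comp, Ideal.Quotient.lift_comp_mk,
      CommRingCat.ofHom_hom, Spec.map_comp, ← Category.assoc, ← Scheme.toSpecΓ_naturality, Category.assoc,
      toSpecΓ_SpecMap_ΓSpecIso_inv, Category.comp_id])
  fac s i := Subsingleton.elim (α := _ ⟶ quotOver _) _ _
  uniq s m _ := Subsingleton.elim (α := _ ⟶ quotOver _) _ _

variable (X : AlgSp.Space (Spec A)) (q : X.obj ⟶ (yon (Spec A)).obj (Over.mk (𝟙 (Spec A))))

theorem isRepresentable_iff_exists_iso {S : Scheme.{u}} {F : Sp S} :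
    F.obj.IsRepresentable ↔ ∃ T : Over S, Nonempty ((yon S).obj T ≅ F) :=
  ⟨fun h => let ⟨T, ⟨e⟩⟩ := h.has_representation; ⟨T, ⟨isoOfRepresentableBy e⟩⟩,
    fun ⟨_, ⟨e⟩⟩ => (representableByOfIso e).isRepresentable⟩

/-- The base change to the quotient by an ideal is a scheme. -/
def RepOn (I : Ideal A) : Prop := (pullback q ((yon (Spec A)).map (quotStr I))).obj.IsRepresentable

variable {X q}

include hc in
theorem exists_repOn_of_iSup [Nonempty ι] [IsDirected ι (· ≤ ·)] (hqc : IsQuasiCompactMor q)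
    (hqs : IsQuasiSeparatedMor q) (h : RepOn X q (⨆ i, c i)) : ∃ i, RepOn X q (c i) := by
  obtain ⟨i₀⟩ := ‹Nonempty ι›
  let G : ιᵒᵖ ⥤ Sp (Spec A) := quotSystem c hc ⋙ yon (Spec A)
  have hG : ∀ i, IsAlgSpace (G.obj i) := fun i => IsAlgSpace.yon_obj _
  have hGa : ∀ i j (φ : i ⟶ j), IsAffineMor (G.map φ) := fun i j φ =>
    isAffineMor_iff.2 ((repWith_yon_map_iff @IsAffineHom _).2
      (inferInstanceAs (IsAffineHom (quotMapOver (hc φ.unop.le)).left)))
  have hGl : IsLimit ((yon (Spec A)).mapCone (quotCone c hc)) := isLimitOfPreserves _ (isLimitQuotCone c hc)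
  let b := pullback.snd q ((yon (Spec A)).map (quotStr (c i₀)))
  have hB := isAlgSpace_pullback (IsAlgSpace.yon_obj _).diag X.property (hG (op i₀)) q
    ((yon (Spec A)).map (quotStr (c i₀)))
  have hBc : IsQuasiCompactSp (pullback q ((yon (Spec A)).map (quotStr (c i₀)))) := isQuasiCompactMor_pullback hqc _ _
  have hBs : IsQuasiSeparatedSp (pullback q ((yon (Spec A)).map (quotStr (c i₀)))) :=
    isQuasiSeparatedSp_pullback (isQuasiSeparatedSp_of_mor hqs (isQuasiSeparatedSp_yon (inferInstanceAs (QuasiSeparatedSpace (Spec A)))))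
      (isQuasiSeparatedSp_yon inferInstance) _ _
  have sqP := IsPullback.of_hasPullback b (((yon (Spec A)).mapCone (quotCone c hc)).π.app (op i₀))
  obtain ⟨hlim⟩ := nonempty_isLimit_bcCone G b sqP hGl
  -- the pieces are the base changes
  have piece : ∀ {T : Over (Spec A)} (m : T ⟶ quotOver (c i₀)) {P : Sp (Spec A)} (p₁ : P ⟶ pullback q ((yon (Spec A)).map (quotStr (c i₀))))
      (p₂ : P ⟶ (yon (Spec A)).obj T) (_ : IsPullback p₁ p₂ b ((yon (Spec A)).map m)),
      IsPullback (p₁ ≫ pullback.fst q ((yon (Spec A)).map (quotStr (c i₀)))) p₂ q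
        ((yon (Spec A)).map (m ≫ quotStr (c i₀))) := fun m P p₁ p₂ sq => by
    rw [Functor.map_comp]
    exact sq.paste_horiz (IsPullback.of_hasPullback _ _)
  have e₀ : quotMapOver (le_iSup c i₀) ≫ quotStr (c i₀) = quotStr (⨆ i, c i) :=
    Over.OverMorphism.ext (Over.w (quotMapOver (le_iSup c i₀)))
  have s₀ : IsPullback (pullback.fst b _ ≫ pullback.fst q ((yon (Spec A)).map (quotStr (c i₀))))
      (pullback.snd b (((yon (Spec A)).mapCone (quotCone c hc)).π.app (op i₀))) q
      ((yon (Spec A)).map (quotStr (⨆ i, c i))) := by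
    rw [← e₀]
    exact piece (quotMapOver (le_iSup c i₀)) _ _ sqP
  obtain ⟨T, ⟨ρ⟩⟩ : ∃ T : Over (Spec A), Nonempty ((yon (Spec A)).obj T ≅ pullback q ((yon (Spec A)).map (quotStr (⨆ i, c i)))) :=
    isRepresentable_iff_exists_iso.1 h
  obtain ⟨l₀, hl₀⟩ := exists_scheme_of_scheme_limit (isAlgSpace_bcDiagram hG hB) (isAffineMor_bcDiagram_map hGa) hlim
    (isQuasiCompactSp_bcDiagram hG hGa hB hBc) (isQuasiSeparatedSp_bcDiagram hGa hBs) (T := T)
    (ρ ≪≫ s₀.isoPullback.symm)
  obtain ⟨W, ⟨μ⟩⟩ := hl₀ l₀ (𝟙 _)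
  refine ⟨l₀.left.unop, isRepresentable_iff_exists_iso.2 ⟨W, ⟨μ ≪≫ ?_⟩⟩⟩
  have e₁ : quotMapOver (hc l₀.hom.unop.le) ≫ quotStr (c i₀) = quotStr (c l₀.left.unop) :=
    Over.OverMorphism.ext (Over.w (quotMapOver (hc l₀.hom.unop.le)))
  have s₁ := piece (quotMapOver (hc l₀.hom.unop.le)) _ _ (isPullback_bcDiagram_fst G b l₀)
  rw [e₁] at s₁
  exact s₁.isoPullback

/-- A maximal ideal over which the space is not a scheme. -/
theorem exists_maximal_not_repOn (hqc : IsQuasiCompactMor q) (hqs : IsQuasiSeparatedMor q)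
    (hX : ¬ X.obj.obj.IsRepresentable) : ∃ I : Ideal A, ¬ RepOn X q I ∧ ∀ I', I < I' → RepOn X q I' := by
  have hbot : ¬ RepOn X q ⊥ := fun h => hX (by
    obtain ⟨T, ⟨ρ⟩⟩ := isRepresentable_iff_exists_iso.1 h
    have : IsIso (quotStr (⊥ : Ideal A)).left := by
      change IsIso (Spec.map (CommRingCat.ofHom (Ideal.Quotient.mk (⊥ : Ideal A))))
      have : IsIso (CommRingCat.ofHom (Ideal.Quotient.mk (⊥ : Ideal A))) :=
        (RingEquiv.quotientBot A).toCommRingCatIso.isIso_inv
      infer_instance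
    have : IsIso ((Over.forget _).map (quotStr (⊥ : Ideal A))) := this
    have : IsIso (quotStr (⊥ : Ideal A)) := isIso_of_reflects_iso _ (Over.forget _)
    exact isRepresentable_iff_exists_iso.2 ⟨T, ⟨ρ ≪≫ asIso (pullback.fst q _)⟩⟩)
  obtain ⟨I, -, hI⟩ := zorn_le_nonempty₀ {I | ¬ RepOn X q I} (fun C hC hCc y hy => by
    refine ⟨⨆ i : C, i.1, fun hr => ?_, fun z hz => le_iSup (fun i : C => i.1) ⟨z, hz⟩⟩
    haveI : Nonempty C := ⟨⟨y, hy⟩⟩
    haveI : IsDirected C (· ≤ ·) := ⟨fun a b => (hCc.total a.2 b.2).elim (fun h => ⟨b, h, le_rfl⟩) fun h => ⟨a, le_rfl, h⟩⟩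
    obtain ⟨i, hi⟩ := exists_repOn_of_iSup (fun i : C => i.1) (fun _ _ h => h) hqc hqs hr
    exact hC i.2 hi) ⊥ hbot
  exact ⟨I, hI.prop, fun I' hlt => by
    by_contra hn
    exact hlt.not_ge (hI.le_of_ge hn hlt.le)⟩

end Groth.Agent.H12AlgSp
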