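import Groth.Agent.H12AlgSp.QCPoint
import Groth.Agent.H12AlgSp.Sep

/-!
Separation axioms of algebraic spaces via fibre products of affine schemes.
-/

set_option backward.isDefEq.respectTransparency false

universe u

open CategoryTheory CategoryTheory.Limits AlgebraicGeometry Opposite Topology
open AlgSp Groth.Agent.H13AlgSp

namespace Groth.Agent.H12AlgSp

variable {S : Scheme.{u}}

/-- The absolute product of the underlying schemes. -/
noncomputable abbrev absProd (U V : Scheme.{u}) : Scheme.{u} := pullback (terminal.from U) (terminal.from V)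

/-- The map to the absolute product. -/
noncomputable abbrev toAbsProd {U V P : Scheme.{u}} (p : P ⟶ U) (q : P ⟶ V) : P ⟶ absProd U V :=
  pullback.lift p q (Subsingleton.elim _ _)

theorem isPullback_of_comp_mono {C : Type*} [Category C] {P X Y Z W : C} {fst : P ⟶ X} {snd : P ⟶ Y}
    {f : X ⟶ Z} {g : Y ⟶ Z} (sq : IsPullback fst snd f g) (i : Z ⟶ W) [Mono i] :
    IsPullback fst snd (f ≫ i) (g ≫ i) :=
  ⟨⟨by rw [sq.w_assoc]⟩, ⟨PullbackCone.isLimitOfCompMono f g i _ sq.isLimit⟩⟩

/-- A product of quasi-compact schemes over an affine open of the base is quasi-compact. -/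
theorem compactSpace_pullback_of_small {U V : Over S} [IsAffine U.left] [IsAffine V.left]
    (W : S.Opens) (hW : IsAffineOpen W) (hU : Set.range U.hom ⊆ W) (hV : Set.range V.hom ⊆ W) :
    CompactSpace ↥(pullback U.hom V.hom) := by
  have : IsAffine W.toScheme := hW
  let f := IsOpenImmersion.lift W.ι U.hom (by rwa [Scheme.Opens.range_ι])
  let g := IsOpenImmersion.lift W.ι V.hom (by rwa [Scheme.Opens.range_ι])
  have sq := isPullback_of_comp_mono (IsPullback.of_hasPullback f g) W.ι
  rw [IsOpenImmersion.lift_fac, IsOpenImmersion.lift_fac] at sq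
  exact (Scheme.homeoOfIso sq.isoPullback).compactSpace

/-- Fibre products over a quasi-separated space are quasi-compact over products. -/
theorem compactSpace_of_isPullback {X : Sp S} (hX : IsQuasiSeparatedSp X) {U V P : Over S}
    {a : (yon S).obj U ⟶ X} {b : (yon S).obj V ⟶ X} {p : P ⟶ U} {q : P ⟶ V}
    (sq : IsPullback ((yon S).map p) ((yon S).map q) a b) [CompactSpace ↥(pullback U.hom V.hom)] :
    CompactSpace P.left := by
  have hqc : QuasiCompact (prod.lift p q).left :=
    (repWith_yon_map_iff @QuasiCompact _).1 (repWith_of_isPullback (isPullback_diag_prodHom sq) hX)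
  have : CompactSpace (U ⨯ V).left :=
    (Scheme.homeoOfIso (Over.prodLeftIsoPullback U V)).symm.compactSpace
  exact QuasiCompact.compactSpace_of_compactSpace (prod.lift p q).left

theorem exists_base_change_absProd {P T : Over S} (p q : P ⟶ T) (W : Over S) (w : W ⟶ P) (k : W ⟶ T)
    (sq : IsPullback w k (prod.lift p q) (Limits.diag T)) :
    IsPullback w.left k.left (toAbsProd p.left q.left) (pullback.diagonal (terminal.from T.left)) := by
  have h1 : w ≫ p = k := by
    have h := sq.w =≫ prod.fst
    rwa [Category.assoc, Category.assoc, prod.lift_fst, prod.lift_fst, Category.comp_id] at h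
  have h2 : w ≫ q = k := by
    have h := sq.w =≫ prod.snd
    rwa [Category.assoc, Category.assoc, prod.lift_snd, prod.lift_snd, Category.comp_id] at h
  have hw : w.left ≫ toAbsProd p.left q.left = k.left ≫ pullback.diagonal (terminal.from T.left) := by
    apply pullback.hom_ext
    · rw [Category.assoc, Category.assoc, pullback.lift_fst, pullback.diagonal_fst, Category.comp_id,
        ← Over.comp_left, h1]
    · rw [Category.assoc, Category.assoc, pullback.lift_snd, pullback.diagonal_snd, Category.comp_id,
        ← Over.comp_left, h2]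
  refine ⟨⟨hw⟩, ⟨PullbackCone.IsLimit.mk _
    (fun c => (sq.lift (Over.homMk c.fst : Over.mk (c.fst ≫ P.hom) ⟶ P)
      (Over.homMk c.snd (?_) : Over.mk (c.fst ≫ P.hom) ⟶ T) ?_).left) (fun c => ?_) (fun c => ?_)
    fun c m hm₁ hm₂ => ?_⟩⟩
  · change c.snd ≫ T.hom = c.fst ≫ P.hom
    have e1 := c.condition =≫ pullback.fst _ _
    rw [Category.assoc, Category.assoc, pullback.lift_fst, pullback.diagonal_fst, Category.comp_id] at e1
    rw [← e1, Category.assoc, Over.w p]
  · have e1 := c.condition =≫ pullback.fst _ _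
    have e2 := c.condition =≫ pullback.snd _ _
    rw [Category.assoc, Category.assoc, pullback.lift_fst, pullback.diagonal_fst, Category.comp_id] at e1
    rw [Category.assoc, Category.assoc, pullback.lift_snd, pullback.diagonal_snd, Category.comp_id] at e2
    apply Limits.prod.hom_ext
    · simp only [Category.assoc, prod.lift_fst, Category.comp_id]
      exact Over.OverMorphism.ext e1
    · simp only [Category.assoc, prod.lift_snd, Category.comp_id]
      exact Over.OverMorphism.ext e2
  · exact congrArg CommaMorphism.left (sq.lift_fst _ _ _)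
  · exact congrArg CommaMorphism.left (sq.lift_snd _ _ _)
  · have hm : m ≫ W.hom = c.fst ≫ P.hom := by rw [← hm₁, Category.assoc, Over.w w]
    exact congrArg CommaMorphism.left (sq.hom_ext
      (show (Over.homMk m hm : Over.mk (c.fst ≫ P.hom) ⟶ W) ≫ w = _ from
        (Over.OverMorphism.ext hm₁).trans (sq.lift_fst _ _ _).symm)
      ((Over.OverMorphism.ext hm₂).trans (sq.lift_snd _ _ _).symm))

/-- Properties of the diagonal can be tested on fibre products of affine schemes inside absolute products. -/
theorem repWith_diag_of_affine_absProd {P : MorphismProperty Scheme.{u}} [P.IsStableUnderBaseChange]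
    [IsZariskiLocalAtTarget P] {X : Sp S} (hX : IsAlgSpace X)
    (h : ∀ (T W : Over S) (a b : (yon S).obj T ⟶ X) (p q : W ⟶ T), IsAffine T.left →
      IsPullback ((yon S).map p) ((yon S).map q) a b → P (toAbsProd p.left q.left)) :
    RepWith P (Limits.diag X) := by
  have : P.RespectsIso := MorphismProperty.IsStableUnderBaseChange.respectsIso
  refine repWith_of_affine hX.diag fun T hT g => ?_
  obtain ⟨W, q, p', sq⟩ := hX.representable_from_yon (g ≫ prod.fst) (g ≫ prod.snd)
  obtain ⟨p, rfl⟩ := (yon S).map_surjective p'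
  have sqW := isPullback_diag_prodHom sq
  let δ : T ⟶ T ⨯ T := Limits.diag T
  have hg : (yon S).map δ ≫ prodHom (g ≫ prod.fst) (g ≫ prod.snd) = g := by
    apply Limits.prod.hom_ext <;> simp [δ, prodHom, prodComparison, ← Functor.map_comp_assoc]
  have sqO := IsPullback.of_hasPullback (prod.lift p q) δ
  have big := (sqO.map (yon S)).paste_horiz sqW
  rw [hg] at big
  have hP : P (pullback.snd (prod.lift p q) δ).left :=
    MorphismProperty.of_isPullback (exists_base_change_absProd p q _ _ _ sqO) (h _ _ _ _ p q hT sq)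
  obtain ⟨m, hm⟩ := (yon S).map_surjective ((hX.diag.isPullback g).isoIsPullback _ _ big).hom
  have hm' : IsIso m := by
    have : IsIso ((yon S).map m) := by rw [hm]; infer_instance
    exact isIso_of_reflects_iso m (yon S)
  have he : m ≫ pullback.snd (prod.lift p q) δ = hX.diag.snd g := (yon S).map_injective (by
    rw [Functor.map_comp, hm, IsPullback.isoIsPullback_hom_snd])
  rw [← he, Over.comp_left]
  have : IsIso m.left := inferInstanceAs (IsIso ((Over.forget S).map m))
  exact (P.cancel_left_of_respectsIso _ _).2 hP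

theorem isQuasiSeparatedSp_of_compact {X : Sp S} (hX : IsAlgSpace X)
    (h : ∀ (U V P : Over S) (a : (yon S).obj U ⟶ X) (b : (yon S).obj V ⟶ X) (fst : P ⟶ U) (snd : P ⟶ V),
      IsAffine U.left → IsAffine V.left →
      IsPullback ((yon S).map fst) ((yon S).map snd) a b → CompactSpace ↥P.left) :
    IsQuasiSeparatedSp X :=
  repWith_diag_of_affine_absProd hX fun T W a b p q hT sq => by
    have := h T T W a b p q hT hT sq
    exact (quasiCompact_iff_compactSpace _).2 inferInstance

/-- Points of charts with quasi-compact projections have finite fibres. -/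
theorem finite_fibres_of_qc_proj {X : Sp S} {R U : Over S} {a : (yon S).obj U ⟶ X} (ha : RepWith @Etale a)
    {s t : R ⟶ U} (sq : IsPullback ((yon S).map t) ((yon S).map s) a a) (hs : QuasiCompact s.left)
    (ht : QuasiCompact t.left) (x : Points X) :
    (Points.ofPt a ⁻¹' {x}).Finite ∧ (Points.ofPt ((yon S).map t ≫ a) ⁻¹' {x}).Finite := by
  have : Etale s.left := ha.2 a _ s sq
  have : Etale t.left := ha.2 a _ t sq.flip
  have := lqf_of_etale s.left
  have := lqf_of_etale t.left
  have hfib : (Points.ofPt a ⁻¹' {x}).Finite := by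
    rcases (Points.ofPt a ⁻¹' {x}).eq_empty_or_nonempty with h | ⟨u₀, hu₀⟩
    · rw [h]; exact Set.finite_empty
    refine ((t.left.finite_preimage_singleton u₀).image fun r => s.left r).subset fun u hu => ?_
    obtain ⟨r, hr1, hr2⟩ := exists_point_of_isPullback sq (Points.ofScheme U u₀) (Points.ofScheme U u)
      (by rw [← Points.ofPt_eq_map_ofScheme, ← Points.ofPt_eq_map_ofScheme]; exact hu₀.trans hu.symm)
    obtain ⟨r, rfl⟩ := (Points.schemeEquiv R).surjective r
    have key : ∀ (k : R ⟶ U) (w : U.left),
        Points.map ((yon S).map k) (Points.schemeEquiv R r) = Points.ofScheme U w → k.left r = w := by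
      intro k w h
      apply (Points.schemeEquiv U).injective
      refine Eq.trans ?_ h
      change Points.ofScheme _ _ = Points.map _ (Points.ofScheme _ _)
      rw [← Points.ofPt_eq_map_ofScheme, ← Category.comp_id ((yon S).map k), ofPt_map]
    exact ⟨r, key t u₀ hr1, key s u hr2⟩
  refine ⟨hfib, (hfib.biUnion (t := fun u => t.left ⁻¹' {u})
    fun u _ => t.left.finite_preimage_singleton u).subset fun r hr => ?_⟩
  exact Set.mem_iUnion₂.2 ⟨t.left r, (ofPt_map t a r).symm.trans hr, rfl⟩

/-- Small affine charts of quasi-separated spaces have finite fibres. -/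
theorem finite_fibres_of_small {X : Sp S} (hX : IsQuasiSeparatedSp X)
    {U : Over S} (hU : IsAffine U.left) (hV : ∃ V : S.Opens, IsAffineOpen V ∧ Set.range U.hom ⊆ V)
    {a : (yon S).obj U ⟶ X} (ha : RepWith @Etale a) {R : Over S} {s t : R ⟶ U}
    (sq : IsPullback ((yon S).map t) ((yon S).map s) a a) (x : Points X) :
    (Points.ofPt a ⁻¹' {x}).Finite ∧ (Points.ofPt ((yon S).map t ≫ a) ⁻¹' {x}).Finite := by
  obtain ⟨W, hW, hle⟩ := hV
  have := compactSpace_pullback_of_small W hW hle hle
  have : CompactSpace R.left := compactSpace_of_isPullback hX sq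
  exact finite_fibres_of_qc_proj ha sq ((quasiCompact_iff_compactSpace _).2 inferInstance)
    ((quasiCompact_iff_compactSpace _).2 inferInstance) x

theorem isDecent_of_isQuasiSeparatedSp {X : Sp S} (hX : IsAlgSpace X) (hq : IsQuasiSeparatedSp X) :
    IsDecent X := fun x => by
  obtain ⟨U₀, a₀, ha₀, has₀⟩ := hX.atlas
  let κ := {A : U₀.left.Opens // IsAffineOpen A ∧
    ∃ V : S.Opens, IsAffineOpen V ∧ Set.range (openOver U₀ A).hom ⊆ V}
  have hfin : ∀ i : κ, (Points.ofPt ((yon S).map (openIncl U₀ i.1) ≫ a₀) ⁻¹' {x}).Finite := fun ⟨A, hA, hV⟩ => by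
    have ha := repWith_etale_openIncl ha₀ A
    obtain ⟨R, s, t', sq⟩ := ha.1 ((yon S).map (openIncl U₀ A) ≫ a₀)
    obtain ⟨t, rfl⟩ := (yon S).map_surjective t'
    exact (finite_fibres_of_small hq (U := openOver U₀ A) hA hV ha sq x).1
  refine exists_mono_qc_of_finite hX (fun V b hV hb => @finite_fibre_of_cover _ _ x κ
    (fun i => openOver U₀ i.1) (fun i => (yon S).map (openIncl U₀ i.1) ≫ a₀)
    (fun i => repWith_etale_openIncl ha₀ i.1) (fun y => ?_) hfin V hV b hb)
    fun U a hU hV ha R s t sq => (finite_fibres_of_small hq hU hV ha sq x).2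
  obtain ⟨u, hu⟩ := surjective_ofPt_of_repWith le_rfl has₀ y
  obtain ⟨V, hV, huV, -⟩ := TopologicalSpace.Opens.isBasis_iff_nbhd.mp S.isBasis_affineOpens
    (TopologicalSpace.Opens.mem_top (U₀.hom u))
  obtain ⟨A, hA, huA, hAV⟩ := TopologicalSpace.Opens.isBasis_iff_nbhd.mp U₀.left.isBasis_affineOpens
    (show u ∈ U₀.hom ⁻¹ᵁ V from huV)
  refine ⟨⟨A, hA, V, hV, ?_⟩, (⟨u, huA⟩ : A), (ofPt_map (openIncl U₀ A) a₀ _).trans hu⟩
  rintro _ ⟨z, rfl⟩
  exact hAV z.2

end Groth.Agent.H12AlgSp
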