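import Groth.Agent.H12AlgSp.OpenSub
import Groth.Agent.H12AlgSp.GlueSheaf
import Groth.Agent.H12AlgSp.Presentation
import Groth.Prelude.Def_AlgSpSub
import Mathlib.AlgebraicGeometry.Morphisms.ClosedImmersion

/-!
The largest open subscheme; factorization through closed subspaces.
-/

universe u

open CategoryTheory CategoryTheory.Limits AlgebraicGeometry Topology Opposite
open AlgSp

namespace Groth.Agent.H12AlgSp

variable {S : Scheme.{u}}

/-- A morphism from a reduced space with image in a closed subspace factors through it. -/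
theorem exists_factor_closed {X Y Z : Sp S} {i : Z ⟶ X} (hi : RepWith @IsClosedImmersion i)
    (hY : IsReducedSp Y) (f : Y ⟶ X) (h : Set.range (Points.map f) ⊆ Set.range (Points.map i)) :
    ∃ g : Y ⟶ Z, g ≫ i = f := by
  have : Mono i := mono_of_repWith (fun _ _ k (_ : IsClosedImmersion k) => (inferInstance : Mono k)) hi
  obtain ⟨T, t, hte, hts, hT⟩ := hY
  have := epi_of_etale_surjective hte hts
  obtain ⟨W, w, k, sq⟩ := hi.rep (t ≫ f)
  have : IsClosedImmersion w.left := hi.property _ k w sq
  have hs : Surjective w.left := ⟨fun z => (preimage_ofPt_range sq).le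
    (h ⟨Points.ofPt t z, Points.map_ofPt _ _ _⟩)⟩
  have : IsReduced T.left := hT
  have hiso : IsIso w.left := isIso_of_isClosedImmersion_of_surjective w.left
  have : IsIso ((Over.forget S).map w) := hiso
  have : IsIso w := isIso_of_reflects_iso w (Over.forget S)
  let P := pullback f i
  have e : ((yon S).map (inv w) ≫ k) ≫ i = t ≫ f := by
    rw [Category.assoc, sq.w, ← Category.assoc, ← Functor.map_comp, IsIso.inv_hom_id,
      CategoryTheory.Functor.map_id, Category.id_comp]
  have hl : pullback.lift t ((yon S).map (inv w) ≫ k) e.symm ≫ pullback.fst f i = t :=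
    pullback.lift_fst _ _ _
  have : Epi (pullback.lift t ((yon S).map (inv w) ≫ k) e.symm ≫ pullback.fst f i) := by rwa [hl]
  have : Epi (pullback.fst f i) := epi_of_epi (pullback.lift t ((yon S).map (inv w) ≫ k) e.symm) _
  have : IsIso (pullback.fst f i) := isIso_of_mono_of_epi _
  exact ⟨inv (pullback.fst f i) ≫ pullback.snd f i, by
    rw [Category.assoc, ← pullback.condition, IsIso.inv_hom_id_assoc]⟩

/-- An algebraic space has a largest open subspace which is a scheme. -/
theorem exists_largest_open_subscheme (X : Space S) :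
    ∃ (X' : Space S) (j : X' ⟶ X), RepWith @IsOpenImmersion j.hom ∧ X'.obj.obj.IsRepresentable ∧
      ∀ (X'' : Space S) (j'' : X'' ⟶ X), RepWith @IsOpenImmersion j''.hom →
        X''.obj.obj.IsRepresentable → ∃ k : X'' ⟶ X', k ≫ j = j'' := by
  obtain ⟨U, p, hp, hps⟩ := X.property.atlas
  let Good : Set (Points X.obj) → Prop := fun R => ∃ (Z : Over S) (j : (yon S).obj Z ⟶ X.obj),
    RepWith @IsOpenImmersion j ∧ Set.range (Points.map j) = R
  let W : Set (Points X.obj) := ⋃₀ {R | Good R}
  have hW : IsOpen W := isOpen_sUnion fun R ⟨Z, j, hj, hR⟩ => hR ▸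
    (isOpenMap_map_of_repWith (fun _ _ k (_ : IsOpenImmersion k) => inferInstance) hj).isOpen_range
  let I := {u : U.left // Points.ofPt p u ∈ W}
  have hch : ∀ i : I, ∃ (Z : Over S) (j : (yon S).obj Z ⟶ openSub W), RepWith @IsOpenImmersion j ∧
      Points.ofPt p i.1 ∈ Set.range (Points.map (j ≫ openSubι W)) := by
    rintro ⟨u, R, ⟨Z, j, hj, hR⟩, hu⟩
    obtain ⟨l, hl⟩ := exists_openSub_lift (W := W) j fun z =>
      ⟨R, ⟨Z, j, hj, hR⟩, hR ▸ ofPt_mem_range j z⟩
    subst hR
    refine ⟨Z, l, ?_, by rw [hl]; exact hu⟩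
    refine repWith_of_comp l (openSubι W) ?_ (hl.symm ▸ hj)
    have := mono_openSubι (X := X.obj) W
    have : IsIso (pullback.diagonal (openSubι W)) := inferInstance
    exact repWith_of_isIso _
  choose Z j hj hjmem using hch
  have hcov : ∀ (T : Over S) (y : (yon S).obj T ⟶ openSub W) (t : T.left),
      ∃ i, Points.ofPt y t ∈ Set.range (Points.map (j i)) := by
    intro T y t
    obtain ⟨u, hu⟩ := surjective_ofPt_of_repWith le_rfl hps (Points.ofPt (y ≫ openSubι W) t)
    have hmem : Points.ofPt p u ∈ W := hu ▸ ofPt_openSubι_mem y t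
    obtain ⟨z, hz⟩ := hjmem ⟨u, hmem⟩
    refine ⟨⟨u, hmem⟩, z, injective_map_of_mono (openSubι W) ?_⟩
    rw [← Points.map_comp, hz, hu, Points.map_ofPt]
  obtain ⟨GT, μ, hμ⟩ := exists_iso_of_openCover Z j hj hcov
  have hrep : (openSub W).obj.IsRepresentable := (representableByOfIso (asIso μ)).isRepresentable
  refine ⟨⟨openSub W, isAlgSpace_of_representable _ (repWith_openSubι hW).1 X.property⟩,
    ObjectProperty.homMk (openSubι W), repWith_openSubι hW, hrep, fun X'' j'' hj'' hX'' => ?_⟩
  obtain ⟨g, hg⟩ := exists_factor_open (repWith_openSubι hW) j''.hom (by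
    rw [range_openSubι X.property]
    obtain ⟨Y, ⟨e⟩⟩ := hX''.has_representation
    intro x hx
    refine ⟨_, ⟨Y, (isoOfRepresentableBy e).hom ≫ j''.hom,
      repWith_comp (repWith_of_isIso _) hj'', rfl⟩, ?_⟩
    obtain ⟨y, rfl⟩ := hx
    exact ⟨Points.map (isoOfRepresentableBy e).inv y, by
      rw [← Points.map_comp, Iso.inv_hom_id_assoc]⟩)
  exact ⟨ObjectProperty.homMk g, ObjectProperty.hom_ext _ hg⟩

end Groth.Agent.H12AlgSp
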