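import Groth.Agent.H12AlgSp.OnePointQuotient
import Groth.Agent.H13AlgSp.Topology

/-!
Points with quasi-compact representatives: monomorphic representatives.
-/

universe u

open CategoryTheory CategoryTheory.Limits AlgebraicGeometry Opposite Topology
open AlgSp Groth.Agent.H13AlgSp

namespace Groth.Agent.H12AlgSp

variable {S : Scheme.{u}}

theorem quasiCompact_of_surjective_comp {X Y Z : Scheme.{u}} (f : X ⟶ Y) (g : Y ⟶ Z) [Surjective f]
    [QuasiCompact (f ≫ g)] : QuasiCompact g := by
  refine ⟨fun U hU hUc => ?_⟩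
  have h := (QuasiCompact.isCompact_preimage (f := f ≫ g) U hU hUc).image f.continuous
  rwa [show ((f ≫ g : X ⟶ Z) ⁻¹' U) = f ⁻¹' (g ⁻¹' U) from Set.ext fun _ => by simp,
    Set.image_preimage_eq _ f.surjective] at h

/-- Quasi-compactness of a representable morphism can be checked after base change to an atlas. -/
theorem repWith_quasiCompact_of_atlas {F X : Sp S} {f : F ⟶ X} (hf : Representable f) {U : Over S}
    {a : (yon S).obj U ⟶ X} (ha : RepWith @Etale a) (has : RepWith @Surjective a) {P : Over S} {g : P ⟶ U}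
    {fst : (yon S).obj P ⟶ F} (sq : IsPullback fst ((yon S).map g) f a) (hg : QuasiCompact g.left) :
    RepWith @QuasiCompact f := by
  refine repWith_of_fpqc_rep hf fun Z hZ x => ?_
  obtain ⟨m, W, c, haff, hflat, hsurj, hlift⟩ := (isFpqcCover_of_etale_surjective ha has).2 Z hZ x
  refine ⟨m, W, c, haff, hflat, hsurj, fun j => ?_⟩
  obtain ⟨_, l, hl⟩ := hlift j
  obtain ⟨l₀, rfl⟩ := (yon S).map_surjective l
  refine ⟨pullback g l₀, pullback.snd g l₀, (yon S).map (pullback.fst g l₀) ≫ fst, ?_, ?_⟩
  · rw [← hl]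
    exact ((IsPullback.of_hasPullback g l₀).map (yon S)).paste_horiz sq
  · exact MorphismProperty.of_isPullback ((IsPullback.of_hasPullback g l₀).map (Over.forget S)) hg

/-- If a point has a quasi-compact representative, all of its representatives are quasi-compact. -/
theorem repWith_qc_of_qc {X : Sp S} (hX : IsAlgSpace X) (p q : FieldPt X) (hq : RepWith @QuasiCompact q.toHom)
    (h : Points.mk p = Points.mk q) : RepWith @QuasiCompact p.toHom := by
  obtain ⟨U, a, ha, has⟩ := hX.atlas
  obtain ⟨A, g, fa, sqA⟩ := hX.representable_from_yon p.toHom a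
  obtain ⟨B, gb, fb, sqB⟩ := hq.1 a
  have hgb : QuasiCompact gb.left := hq.2 _ _ gb sqB
  obtain ⟨P, v, fst, sqP⟩ := hq.1 p.toHom
  obtain ⟨f, rfl⟩ := (yon S).map_surjective fst
  obtain ⟨b, rfl⟩ := (yon S).map_surjective fb
  obtain ⟨al, rfl⟩ := (yon S).map_surjective fa
  have hv : QuasiCompact v.left := hq.2 _ _ v sqP
  have : CompactSpace p.pt.left := inferInstanceAs (CompactSpace (Spec (CommRingCat.of p.K)))
  have : CompactSpace P.left := QuasiCompact.compactSpace_of_compactSpace v.left
  have : IsAffine q.pt.left := inferInstanceAs (IsAffine (Spec (CommRingCat.of q.K)))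
  have : QuasiCompact f.left := (quasiCompact_iff_compactSpace f.left).2 inferInstance
  have : Surjective v.left := ⟨fun y => by
    obtain ⟨z, -, hz⟩ := exists_point_of_isPullback sqP
      (Points.ofScheme q.pt (IsLocalRing.closedPoint q.K)) (Points.ofScheme p.pt y)
      (by rw [← Points.ofPt_eq_map_ofScheme, ← Points.ofPt_eq_map_ofScheme, Points.ofPt_toHom,
        Points.ofPt_toHom, h])
    obtain ⟨z, rfl⟩ := (Points.schemeEquiv P).surjective z
    have : Subsingleton p.pt.left := inferInstanceAs (Subsingleton (Spec (CommRingCat.of p.K)))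
    exact ⟨z, Subsingleton.elim _ _⟩⟩
  have sqC : IsPullback (pullback.fst f b) (pullback.snd f b) f b := IsPullback.of_hasPullback f b
  obtain ⟨m, hm⟩ := (yon S).map_surjective (sqA.lift ((yon S).map (pullback.fst f b ≫ v))
    ((yon S).map (pullback.snd f b ≫ gb)) (by
      rw [Functor.map_comp, Functor.map_comp, Category.assoc, Category.assoc, ← sqP.w, ← sqB.w,
        ← Functor.map_comp_assoc, ← Functor.map_comp_assoc, sqC.w]))
  have hm1 : m ≫ al = pullback.fst f b ≫ v :=
    (yon S).map_injective (by rw [Functor.map_comp, hm, sqA.lift_fst])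
  have hm2 : m ≫ g = pullback.snd f b ≫ gb :=
    (yon S).map_injective (by rw [Functor.map_comp, hm, sqA.lift_snd])
  have big : IsPullback ((yon S).map (pullback.fst f b)) ((yon S).map m ≫ (yon S).map g)
      ((yon S).map v ≫ p.toHom) a := by
    rw [← sqP.w, ← Functor.map_comp, hm2, Functor.map_comp]
    exact (sqC.map (yon S)).flip.paste_horiz sqB.flip |>.flip
  have left : IsPullback (pullback.fst f b) m v al :=
    (IsPullback.of_map (yon S) hm1.symm
      (IsPullback.of_bot big (by rw [← Functor.map_comp, ← hm1, Functor.map_comp]) sqA))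
  have : Surjective m.left := MorphismProperty.of_isPullback (left.map (Over.forget S)) ‹Surjective v.left›
  have : QuasiCompact (pullback.snd f b).left :=
    MorphismProperty.of_isPullback (sqC.map (Over.forget S)) ‹QuasiCompact f.left›
  have hcomp : QuasiCompact (m.left ≫ g.left) := by
    rw [← Over.comp_left, hm2, Over.comp_left]; infer_instance
  exact repWith_quasiCompact_of_atlas (hX.representable_from_yon _) ha has sqA
    (quasiCompact_of_surjective_comp m.left g.left)

/-- Fibres of the relation of an affine chart over a point with a quasi-compact representative are finite. -/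
theorem finite_fibre_rel {X : Sp S} (hX : IsAlgSpace X) (q : FieldPt X) (hq : RepWith @QuasiCompact q.toHom)
    {U : Over S} [IsAffine U.left] {a : (yon S).obj U ⟶ X} (ha : RepWith @Etale a) {R : Over S} {s t : R ⟶ U}
    (sq : IsPullback ((yon S).map t) ((yon S).map s) a a) :
    (Points.ofPt ((yon S).map t ≫ a) ⁻¹' {Points.mk q}).Finite := by
  have hfib := finite_fibre_affine q hq ha
  refine (hfib.biUnion (t := fun u => t.left ⁻¹' {u}) fun u hu => ?_).subset fun r hr => ?_
  · let p := FieldPt.ofPt a u
    have hp : RepWith @QuasiCompact p.toHom := repWith_qc_of_qc hX p q hq hu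
    obtain ⟨P, v, fst, sqP⟩ := hp.1 a
    have : CompactSpace U.left := inferInstance
    have : QuasiCompact v.left := hp.2 _ _ v sqP
    have : CompactSpace P.left := QuasiCompact.compactSpace_of_compactSpace v.left
    obtain ⟨f, rfl⟩ := (yon S).map_surjective fst
    let f' : P.left ⟶ Spec (CommRingCat.of p.K) := f.left
    have : Etale f' := ha.2 p.toHom _ f sqP.flip
    have := lqf_of_etale f'
    have : QuasiCompact f' := (quasiCompact_iff_compactSpace f').2 inferInstance
    have hP : (Set.univ : Set P.left).Finite := by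
      rw [show (Set.univ : Set P.left) = f' ⁻¹' {IsLocalRing.closedPoint p.K} from
        (Set.eq_univ_of_forall fun y => Subsingleton.elim (α := ↥(Spec (CommRingCat.of p.K))) _ _).symm]
      exact f'.finite_preimage_singleton _
    let j : p.pt ⟶ U := Over.homMk (U.left.fromSpecResidueField u) rfl
    have hpj : p.toHom = (yon S).map j ≫ a := FieldPt.toHom_ofPt a u
    obtain ⟨m, hm⟩ := (yon S).map_surjective (sq.lift ((yon S).map (f ≫ j)) ((yon S).map v)
      (by rw [Functor.map_comp, Category.assoc, ← hpj, sqP.w]))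
    have hm1 : m ≫ t = f ≫ j := (yon S).map_injective (by rw [Functor.map_comp, hm, sq.lift_fst])
    have left : IsPullback ((yon S).map m) ((yon S).map f) ((yon S).map t) ((yon S).map j) :=
      IsPullback.of_right (by
        rw [hm, sq.lift_snd, ← hpj]; exact sqP.flip) (by rw [← Functor.map_comp, hm1, Functor.map_comp]) sq.flip
    refine (hP.image fun z => m.left z).subset fun r hr => ?_
    obtain ⟨z, hz, -⟩ := exists_point_of_isPullback left (Points.ofScheme R r)
      (Points.ofScheme p.pt (IsLocalRing.closedPoint p.K)) (by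
        change Points.map _ (Points.ofPt (𝟙 _) _) = Points.map _ (Points.ofPt (𝟙 _) _)
        rw [Points.map_ofPt, Points.map_ofPt, Category.id_comp, Category.id_comp,
          ← Category.comp_id ((yon S).map t), ← Category.comp_id ((yon S).map j), ofPt_map, ofPt_map,
          show t.left r = u from hr]
        exact congrArg _ (Scheme.fromSpecResidueField_apply _ _).symm)
    obtain ⟨z, rfl⟩ := (Points.schemeEquiv P).surjective z
    refine ⟨z, trivial, (Points.schemeEquiv R).injective (Eq.trans ?_ hz)⟩
    change Points.ofScheme _ _ = Points.map _ (Points.ofScheme _ _)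
    rw [← Points.ofPt_eq_map_ofScheme, ← Category.comp_id ((yon S).map m), ofPt_map]
  · exact Set.mem_iUnion₂.2 ⟨t.left r, (ofPt_map t a r).symm.trans hr, rfl⟩

/-- A point over which affine charts and their relations have finite fibres has a quasi-compact monomorphic
representative. -/
theorem exists_mono_qc_of_finite {X : Sp S} (hX : IsAlgSpace X) {x : Points X}
    (hx : ∀ (V : Over S) (b : (yon S).obj V ⟶ X), IsAffine V.left → RepWith @Etale b →
      (Points.ofPt b ⁻¹' {x}).Finite)
    (hfin : ∀ (U : Over S) (a : (yon S).obj U ⟶ X), IsAffine U.left →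
      (∃ V : S.Opens, IsAffineOpen V ∧ Set.range U.hom ⊆ V) → RepWith @Etale a →
      ∀ (R : Over S) (s t : R ⟶ U), IsPullback ((yon S).map t) ((yon S).map s) a a →
        (Points.ofPt ((yon S).map t ≫ a) ⁻¹' {x}).Finite) :
    ∃ p : FieldPt X, Points.mk p = x ∧ Mono p.toHom ∧ RepWith @QuasiCompact p.toHom := by
  obtain ⟨U₀, a₀, ha₀, has₀⟩ := hX.atlas
  obtain ⟨u₀, hu₀⟩ := surjective_ofPt_of_repWith le_rfl has₀ x
  obtain ⟨V₀, hV₀, huV, -⟩ := TopologicalSpace.Opens.isBasis_iff_nbhd.mp S.isBasis_affineOpens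
    (TopologicalSpace.Opens.mem_top (U₀.hom u₀))
  obtain ⟨A, hA, huA, hAV⟩ := TopologicalSpace.Opens.isBasis_iff_nbhd.mp U₀.left.isBasis_affineOpens
    (show u₀ ∈ U₀.hom ⁻¹ᵁ V₀ from huV)
  have hA' : IsAffine (openOver U₀ A).left := hA
  have hfA : ((A : Set U₀.left) ∩ Points.ofPt a₀ ⁻¹' {x}).Finite := by
    refine ((hx (openOver U₀ A) _ hA' (repWith_etale_openIncl ha₀ A)).image
      fun z => (openIncl U₀ A).left z).subset ?_
    rintro w ⟨hwA, hw⟩
    exact ⟨⟨w, hwA⟩, (ofPt_map (openIncl U₀ A) a₀ _).trans hw, rfl⟩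
  obtain ⟨N, hN, huN, hNu⟩ := exists_open_inter_eq hfA
    (fun a₁ h₁ a₂ h₂ h => (eq_of_specializes_of_finite hx ha₀ h₂.2 h₁.2 h).symm)
    (⟨huA, hu₀⟩ : u₀ ∈ (A : Set U₀.left) ∩ Points.ofPt a₀ ⁻¹' {x})
  obtain ⟨B, hB, huB, hBle⟩ := TopologicalSpace.Opens.isBasis_iff_nbhd.mp U₀.left.isBasis_affineOpens
    (show u₀ ∈ (⟨(A : Set U₀.left) ∩ N, A.isOpen.inter hN⟩ : U₀.left.Opens) from ⟨huA, huN⟩)
  let U := openOver U₀ B
  have hU : IsAffine U.left := hB
  let a : (yon S).obj U ⟶ X := (yon S).map (openIncl U₀ B) ≫ a₀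
  have ha : RepWith @Etale a := repWith_etale_openIncl ha₀ B
  let u : U.left := ⟨u₀, huB⟩
  have hu : Points.ofPt a u = x := (ofPt_map (openIncl U₀ B) a₀ u).trans hu₀
  have huniq : ∀ v : U.left, Points.ofPt a v = x → v = u := fun v hv => Subtype.ext
    (hNu v.1 ⟨(hBle v.2).1, (ofPt_map (openIncl U₀ B) a₀ v).symm.trans hv⟩ (hBle v.2).2)
  obtain ⟨R, s, t', sqR⟩ := ha.1 a
  obtain ⟨t, rfl⟩ := (yon S).map_surjective t'
  have hsmall : ∃ V : S.Opens, IsAffineOpen V ∧ Set.range U.hom ⊆ V :=
    ⟨V₀, hV₀, by rintro _ ⟨z, rfl⟩; exact hAV (hBle z.2).1⟩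
  have hR := hfin U a hU hsmall ha R s t sqR
  let K := (FieldPt.ofPt a u).pt
  let j : K ⟶ U := Over.homMk (U.left.fromSpecResidueField u) rfl
  let q : (yon S).obj K ⟶ X := (yon S).map j ≫ a
  have hjm : Mono j := (Over.forget S).mono_of_mono_map (show Mono (U.left.fromSpecResidueField u) from inferInstance)
  obtain ⟨W, w, fst', sqW⟩ := ha.1 q
  obtain ⟨g, rfl⟩ := (yon S).map_surjective fst'
  let w' : W.left ⟶ Spec (U.left.residueField u) := w.left
  have : Etale w' := ha.2 q _ w sqW
  have hgu : ∀ z, g.left z = u := fun z => huniq _ (by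
    rw [← ofPt_map, sqW.w, ofPt_map, ofPt_map,
      show j.left (w.left z) = u from Scheme.fromSpecResidueField_apply _ _, hu])
  obtain ⟨m, hm⟩ := (yon S).map_surjective (sqR.lift ((yon S).map g) ((yon S).map (w ≫ j))
    (by rw [Functor.map_comp, Category.assoc]; exact sqW.w))
  have hm1 : m ≫ t = g := (yon S).map_injective (by rw [Functor.map_comp, hm, sqR.lift_fst])
  have hm2 : m ≫ s = w ≫ j := (yon S).map_injective (by rw [Functor.map_comp, hm, sqR.lift_snd])
  have leftR : IsPullback ((yon S).map m) ((yon S).map w) ((yon S).map s) ((yon S).map j) :=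
    IsPullback.of_right (by rw [hm, sqR.lift_fst]; exact sqW)
      (by rw [← Functor.map_comp, hm2, Functor.map_comp]) sqR
  have : IsPreimmersion m.left := MorphismProperty.of_isPullback
    ((IsPullback.of_map (yon S) hm2 leftR).map (Over.forget S)).flip
    (inferInstanceAs (IsPreimmersion (U.left.fromSpecResidueField u)))
  have : Finite W.left := by
    refine Finite.of_finite_univ (Set.Finite.of_finite_image (f := fun z => m.left z) (hR.subset ?_)
      (m.left.isEmbedding.injective.injOn))
    rintro _ ⟨z, -, rfl⟩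
    change Points.ofPt _ _ = x
    rw [ofPt_map, ← Scheme.Hom.comp_apply, ← Over.comp_left, hm1, hgu, hu]
  have : IsReduced W.left := Groth.Agent.H13AlgSp.isReduced_of_smooth_mor w'
  obtain ⟨k₀, hk₀⟩ := exists_factor_fromSpecResidueField g.left u hgu
  let k : W ⟶ K := Over.homMk k₀ (by
    change k₀ ≫ U.left.fromSpecResidueField u ≫ U.hom = W.hom
    rw [← Category.assoc, hk₀]; exact Over.w g)
  have hk : k ≫ j = g := Over.OverMorphism.ext hk₀
  have := (yon S).map_mono j
  have sqK : IsPullback ((yon S).map k) ((yon S).map w) q q := by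
    have top : IsPullback ((yon S).map k) (𝟙 _) ((yon S).map j) ((yon S).map g) :=
      ⟨⟨by rw [← Functor.map_comp, hk, Category.id_comp]⟩, ⟨PullbackCone.IsLimit.mk _ (fun c => c.snd)
        (fun c => by rw [← cancel_mono ((yon S).map j), Category.assoc, ← Functor.map_comp, hk, c.condition])
        (fun c => Category.comp_id _) fun c m' _ h2 => by simpa using h2⟩⟩
    have := top.paste_vert sqW
    simpa [q] using this
  have := lqf_of_etale w'
  have : QuasiCompact w' := quasiCompact_of_finite_source w'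
  have : IsFinite w' := IsFinite.of_locallyQuasiFinite w'
  obtain ⟨F, str', c, i, hci, hmono, -, -, -, -, -, hfield⟩ := exists_quotient_mono
    (B := U.left.residueField u) K.hom q w k sqK.flip ‹IsFinite w'› inferInstance inferInstance
  let : Field F := (hfield (Field.toIsField _)).toField
  let p : FieldPt X := { K := F, str := str', val := (J S).uliftYonedaEquiv i }
  have hpi : p.toHom = i := Equiv.symm_apply_apply _ _
  have hpx : Points.mk p = x := by
    rw [← Points.ofPt_toHom p (c.left (IsLocalRing.closedPoint (U.left.residueField u))), hpi, ← ofPt_map, hci,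
      show q = (yon S).map j ≫ a from rfl]
    exact (ofPt_map j a _).trans ((congrArg _ (Scheme.fromSpecResidueField_apply _ _)).trans hu)
  refine ⟨p, hpx, by rw [hpi]; exact hmono, ?_⟩
  obtain ⟨P, g', fstP, sqP⟩ := hX.representable_from_yon p.toHom a₀
  have : Mono p.toHom := by rw [hpi]; exact hmono
  have : Mono ((yon S).map g') := mono_of_sq sqP.flip
  have : Mono g' := (yon S).mono_of_mono_map this
  have : Mono g'.left := inferInstance
  refine repWith_quasiCompact_of_atlas (hX.representable_from_yon _) ha₀ has₀ sqP ?_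
  rw [quasiCompact_iff_forall_isAffineOpen]
  intro V hV
  have hV' : IsAffine (openOver U₀ V).left := hV
  have hfV : ((V : Set U₀.left) ∩ Points.ofPt a₀ ⁻¹' {x}).Finite := by
    refine ((hx (openOver U₀ V) _ hV' (repWith_etale_openIncl ha₀ V)).image
      fun z => (openIncl U₀ V).left z).subset ?_
    rintro v ⟨hvV, hv⟩
    exact ⟨⟨v, hvV⟩, (ofPt_map (openIncl U₀ V) a₀ _).trans hv, rfl⟩
  refine (Set.Finite.of_finite_image (f := fun z => g'.left z) (hfV.subset ?_)
    (g'.left.injective.injOn)).isCompact
  rintro _ ⟨z, hz, rfl⟩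
  refine ⟨hz, ?_⟩
  change Points.ofPt a₀ _ = x
  rw [← ofPt_map, ← sqP.w, ← Points.map_ofPt, ← hpx]
  obtain ⟨y, hy⟩ := (Points.schemeEquiv p.pt).surjective (Points.ofPt fstP z)
  rw [← hy]
  change Points.map p.toHom (Points.ofScheme p.pt y) = _
  rw [← Points.ofPt_eq_map_ofScheme, Points.ofPt_toHom]

/-- A point with a quasi-compact representative has a quasi-compact monomorphic one. -/
theorem exists_mono_qc_of_qc {X : Sp S} (hX : IsAlgSpace X) (q : FieldPt X) (hq : RepWith @QuasiCompact q.toHom) :
    ∃ p : FieldPt X, Points.mk p = Points.mk q ∧ Mono p.toHom ∧ RepWith @QuasiCompact p.toHom :=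
  exists_mono_qc_of_finite hX (fun _ _ hV hb => @finite_fibre_affine _ _ q hq _ hV _ hb)
    fun _ _ hU _ ha _ _ _ sq => @finite_fibre_rel _ _ hX q hq _ hU _ ha _ _ _ sq

end Groth.Agent.H12AlgSp
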