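import Groth.Agent.H12AlgSp.GroupoidFormal
import Groth.Agent.H13AlgSp.Refinement
import Groth.Agent.H12AlgSp.Presentation
import Mathlib.CategoryTheory.Sites.LocallySurjective

/-!
Quotient sheaves of pre-relations.
-/

universe u

open CategoryTheory CategoryTheory.Limits AlgebraicGeometry Opposite
open AlgSp Groth.Agent.H13AlgSp

namespace Groth.Agent.H12AlgSp

variable {S : Scheme.{u}} {R U : Sp S} {s t : R ⟶ U}

/-- The relation on `T`-valued points. -/
def relSp (s t : R ⟶ U) (T : Over S) (a b : (yon S).obj T ⟶ U) : Prop :=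
  ∃ r : (yon S).obj T ⟶ R, r ≫ t = a ∧ r ≫ s = b

/-- The presheaf quotient. -/
noncomputable def quotSpPsh (s t : R ⟶ U) : (Over S)ᵒᵖ ⥤ Type (u + 1) where
  obj T := Quot (relSp s t T.unop)
  map f := ↾(Quot.map ((yon S).map f.unop ≫ ·)
    (fun _ _ ⟨r, h₁, h₂⟩ => ⟨(yon S).map f.unop ≫ r, (Category.assoc _ _ _).trans (congrArg _ h₁),
      (Category.assoc _ _ _).trans (congrArg _ h₂)⟩))
  map_id T := by
    ext x
    induction x using Quot.ind
    refine congrArg (Quot.mk _) ?_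
    simp
  map_comp f g := by
    ext x
    induction x using Quot.ind
    refine congrArg (Quot.mk _) ?_
    simp [Category.assoc]

/-- Two points with the same image in the quotient sheaf are locally related. -/
theorem exists_local_rel (h : IsPreEqvRelSp s t) {T : Over S} (a b : (yon S).obj T ⟶ U)
    (e : a ≫ quotSpπ s t = b ≫ quotSpπ s t) :
    ∃ (κ : Type u) (C : κ → Over S) (c : ∀ i, C i ⟶ T), Sieve.ofArrows C c ∈ J S T ∧
      ∀ i, ∃ r : (yon S).obj (C i) ⟶ R, r ≫ t = (yon S).map (c i) ≫ a ∧ r ≫ s = (yon S).map (c i) ≫ b := by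
  let Q₀ := quotSpPsh s t
  let Q : Sp S := (presheafToSheaf (J S) (Type (u + 1))).obj Q₀
  let η : Q₀ ⟶ Q.obj := CategoryTheory.toSheafify (J S) Q₀
  let π₀ : U.obj ⟶ Q₀ :=
    { app := fun A => ↾(fun x => Quot.mk _
        (((J S).uliftYonedaEquiv : ((yon S).obj A.unop ⟶ U) ≃ U.obj.obj A).symm x))
      naturality := fun A A' f => by
        ext x
        refine congrArg (Quot.mk _)
          (((J S).uliftYonedaEquiv : ((yon S).obj A'.unop ⟶ U) ≃ U.obj.obj A').injective ?_)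
        obtain ⟨y, rfl⟩ := ((J S).uliftYonedaEquiv : ((yon S).obj A.unop ⟶ U) ≃ U.obj.obj A).surjective x
        exact ((Equiv.apply_symm_apply _ _).trans
          (GrothendieckTopology.uliftYonedaEquiv_naturality _ _ _)).trans (by rw [Equiv.symm_apply_apply]; rfl) }
  let p : U ⟶ Q := ObjectProperty.homMk (π₀ ≫ η)
  have hp : ∀ {A : Over S} (x : (yon S).obj A ⟶ U),
      (J S).uliftYonedaEquiv (x ≫ p) = η.app (op A) (Quot.mk _ x) := fun x => by
    rw [GrothendieckTopology.uliftYonedaEquiv_comp]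
    exact congrArg (η.app _) (congrArg (Quot.mk _) (Equiv.symm_apply_apply _ _))
  have w : s ≫ p = t ≫ p := hom_ext_yon fun A r => by
    apply (J S).uliftYonedaEquiv.injective
    rw [← Category.assoc, ← Category.assoc, hp, hp]
    exact congrArg (η.app _) (Quot.sound ⟨r, rfl, rfl⟩).symm
  have e' := e =≫ quotSpDesc p w
  rw [Category.assoc, Category.assoc, quotSpπ_desc] at e'
  have e'' := congrArg (J S).uliftYonedaEquiv e'
  rw [hp, hp] at e''
  have hi : Presheaf.IsLocallyInjective (J S) η := inferInstance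
  obtain ⟨κ, C, c, hfl, hfp, hsur, hc⟩ := exists_cover_of_mem_J (hi.equalizerSieve_mem _ _ e'')
  exact ⟨κ, C, c, ofArrows_mem_J c hfl hfp hsur, fun i => ((h (C i)).quot_mk_eq_iff _ _).1 (hc i)⟩

theorem epi_quotSpπ : Epi (quotSpπ s t) := coequalizer.π_epi

theorem exists_local_lift_quot {T : Over S} (x : (yon S).obj T ⟶ quotSp s t) :
    ∃ (κ : Type u) (C : κ → Over S) (c : ∀ i, C i ⟶ T), Sieve.ofArrows C c ∈ J S T ∧
      ∀ i, ∃ a : (yon S).obj (C i) ⟶ U, a ≫ quotSpπ s t = (yon S).map (c i) ≫ x := by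
  obtain ⟨κ, C, c, h1, h2, h3, h4⟩ :=
    exists_local_lifts ((Sheaf.isLocallySurjective_iff_epi (quotSpπ s t)).2 epi_quotSpπ) x
  exact ⟨κ, C, c, ofArrows_mem_J c h1 h2 h3, h4⟩

/-- The map of quotients induced by the restriction of a pre-equivalence relation is a monomorphism. -/
theorem mono_quot_restrict {R' U' : Sp S} {s' t' : R' ⟶ U'} (h : IsPreEqvRelSp s t) (g : U' ⟶ U)
    (hlift : ∀ {T : Over S} (a b : (yon S).obj T ⟶ U') (r : (yon S).obj T ⟶ R), r ≫ t = a ≫ g → r ≫ s = b ≫ g →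
      ∃ r' : (yon S).obj T ⟶ R', r' ≫ t' = a ∧ r' ≫ s' = b)
    (ψ : quotSp s' t' ⟶ quotSp s t) (hψ : quotSpπ s' t' ≫ ψ = g ≫ quotSpπ s t) : Mono ψ := by
  refine mono_of_yon fun T x y e => ?_
  obtain ⟨κ, C, c, hc, hx⟩ := exists_local_lift_quot x
  refine hom_ext_of_cover c hc fun i => ?_
  obtain ⟨a, ha⟩ := hx i
  obtain ⟨κ', D, d, hd, hy⟩ := exists_local_lift_quot ((yon S).map (c i) ≫ y)
  refine hom_ext_of_cover d hd fun j => ?_
  obtain ⟨b, hb⟩ := hy j
  have ha' : ((yon S).map (d j) ≫ a) ≫ quotSpπ s' t' = (yon S).map (d j) ≫ (yon S).map (c i) ≫ x := by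
    rw [Category.assoc, ha]
  rw [← ha', ← hb]
  obtain ⟨κ'', E, k, hk, hr⟩ := exists_local_rel h (((yon S).map (d j) ≫ a) ≫ g) (b ≫ g) (by
    simp only [Category.assoc, ← hψ]
    rw [← Category.assoc b, hb, ← Category.assoc a, ha]
    simp only [Category.assoc, e])
  refine hom_ext_of_cover k hk fun l => ?_
  obtain ⟨r, h₁, h₂⟩ := hr l
  obtain ⟨r', k₁, k₂⟩ := hlift ((yon S).map (k l) ≫ (yon S).map (d j) ≫ a) ((yon S).map (k l) ≫ b) r
    (by rw [h₁]; simp only [Category.assoc]) (by rw [h₂]; simp only [Category.assoc])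
  rw [← Category.assoc, ← Category.assoc _ b, ← k₁, ← k₂, Category.assoc, Category.assoc, quotSp_condition]

theorem isIso_of_epi_fac {U' M : Sp S} {P Q : Sp S} {π : U' ⟶ P} {ψ : P ⟶ Q} [Mono ψ] {f : M ⟶ Q} [Epi f]
    {k : M ⟶ U'} (w : k ≫ π ≫ ψ = f) : IsIso ψ := by
  have : Epi ψ := epi_of_epi_fac (h := f) (f := k ≫ π) (by rw [Category.assoc, w])
  exact isIso_of_mono_of_epi ψ

theorem isIso_quotSpDesc {M : Sp S} (q : U ⟶ M) (w : s ≫ q = t ≫ q) [Epi q]
    [Epi (pullback.lift t s w.symm : R ⟶ pullback q q)] : IsIso (quotSpDesc q w) := by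
  have : IsRegularEpi q := IsRegularEpiCategory.regularEpiOfEpi q
  let hcol := IsKernelPair.toCoequalizer' (IsPullback.of_hasPullback q q)
  have w' : pullback.fst q q ≫ quotSpπ s t = pullback.snd q q ≫ quotSpπ s t := by
    rw [← cancel_epi (pullback.lift t s w.symm), pullback.lift_fst_assoc, pullback.lift_snd_assoc,
      quotSp_condition]
  let φ : M ⟶ quotSp s t := Cofork.IsColimit.desc hcol (quotSpπ s t) w'
  have hφ : q ≫ φ = quotSpπ s t := Cofork.IsColimit.π_desc' hcol _ _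
  refine ⟨φ, ?_, ?_⟩
  · have := epi_quotSpπ (s := s) (t := t)
    rw [← cancel_epi (quotSpπ s t), quotSpπ_desc_assoc, hφ, Category.comp_id]
  · rw [← cancel_epi q, reassoc_of% hφ, quotSpπ_desc, Category.comp_id]

end Groth.Agent.H12AlgSp
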