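import Groth.Agent.H12AlgSp.SliceGlobal
import Groth.Agent.H12AlgSp.RepBySp2
import Groth.Agent.H12AlgSp.QuotSpFormal
import Groth.Agent.H12AlgSp.CoprodSpace

/-!
Consequences of the fppf bootstrap: quotients by flat equivalence relations and descent.
-/

set_option linter.unusedVariables false
set_option backward.isDefEq.respectTransparency false

universe u

open CategoryTheory CategoryTheory.Limits AlgebraicGeometry Opposite
open AlgSp Groth.Agent.H13AlgSp

namespace Groth.Agent.H12AlgSp

variable {S : Scheme.{u}}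

/-- Morphisms out of the scheme coproduct of a family are given by families of morphisms. -/
theorem exists_sigma_lift {X : Sp S} {κ : Type u} (C : κ → Over S) (a : ∀ i, (yon S).obj (C i) ⟶ X) :
    ∃ (T : Over S) (inc : ∀ i, C i ⟶ T) (l : (yon S).obj T ⟶ X),
      (∀ i, IsOpenImmersion (inc i).left) ∧ (∀ t : T.left, ∃ i, t ∈ Set.range (inc i).left) ∧
      (∀ i, (yon S).map (inc i) ≫ l = a i) ∧
      ∀ (A : Over S) (f : ∀ i, C i ⟶ A), ∃ g : T ⟶ A, ∀ i, inc i ≫ g = f i := by
  let Z : κ → Scheme.{u} := fun i => (C i).left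
  let T : Over S := Over.mk (Sigma.desc fun i => (C i).hom)
  let inc : ∀ i, C i ⟶ T := fun i => Over.homMk (Sigma.ι Z i) (Sigma.ι_desc _ _)
  have ho : ∀ i, IsOpenImmersion (inc i).left := fun i => inferInstanceAs (IsOpenImmersion (Sigma.ι Z i))
  have hsur : ∀ t : T.left, ∃ i, t ∈ Set.range (inc i).left := fun t => by
    obtain ⟨i, y, hy⟩ := (sigmaOpenCover Z).exists_eq t
    exact ⟨i, y, hy⟩
  have hJ : Sieve.ofArrows C inc ∈ J S T := ofArrows_mem_J _
    (fun i => have := ho i; inferInstance) (fun i => have := ho i; inferInstance) hsur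
  have hcompat : ∀ (i j : κ) (W : Over S) (x : W ⟶ C i) (y : W ⟶ C j), x ≫ inc i = y ≫ inc j →
      (yon S).map x ≫ a i = (yon S).map y ≫ a j := by
    intro i j W x y e
    by_cases hij : i = j
    · subst hij
      have : Mono (inc i).left := have := ho i; inferInstance
      have : x = y := Over.OverMorphism.ext ((cancel_mono (inc i).left).1
        (congrArg (fun f : W ⟶ T => f.left) e))
      rw [this]
    · have hW : IsEmpty W.left := ⟨fun w => (disjoint_opensRange_sigmaι Z i j hij).le_bot
        (show (inc i).left (x.left w) ∈ (Sigma.ι Z i).opensRange ⊓ (Sigma.ι Z j).opensRange from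
          ⟨⟨x.left w, rfl⟩, ⟨y.left w, (congrArg (fun f : W ⟶ T => f.left w) e).symm⟩⟩)⟩
      refine hom_ext_of_cover (κ := PEmpty.{u + 1}) (fun k => k.elim) ?_ (fun k => k.elim) (C := fun k => k.elim)
      exact ofArrows_mem_J _ (fun k => k.elim) (fun k => k.elim) fun w => hW.elim w
  obtain ⟨l, hl, -⟩ := (Presieve.isSheafFor_arrows_iff _ _).1
    ((Presieve.isSheafFor_iff_generate _).2 (((isSheaf_iff_isSheaf_of_type _ _).1 X.property) _ hJ))
    (fun i => (J S).uliftYonedaEquiv (a i)) (fun i j W x y e => by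
      have := congrArg (J S).uliftYonedaEquiv (hcompat i j W x y e)
      rw [← GrothendieckTopology.uliftYonedaEquiv_naturality, ← GrothendieckTopology.uliftYonedaEquiv_naturality] at this
      exact this)
  refine ⟨T, inc, (J S).uliftYonedaEquiv.symm l, ho, hsur, fun i => (J S).uliftYonedaEquiv.injective ?_,
    fun A f => ?_⟩
  · rw [← GrothendieckTopology.uliftYonedaEquiv_naturality, Equiv.apply_symm_apply]
    exact hl i
  · exact ⟨Over.homMk (Sigma.desc fun i => (f i).left) (Sigma.hom_ext _ _ fun i => by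
      rw [← Category.assoc, Sigma.ι_desc]
      exact (Over.w (f i)).trans (Sigma.ι_desc (fun i => (C i).hom) i).symm),
      fun i => Over.OverMorphism.ext (Sigma.ι_desc _ _)⟩

/-- An epimorphism of sheaves has sections over a single fppf cover of any test scheme. -/
theorem exists_fppf_lift {X F : Sp S} (f : X ⟶ F) [Epi f] {A : Over S} (y : (yon S).obj A ⟶ F) :
    ∃ (T : Over S) (c : T ⟶ A) (l : (yon S).obj T ⟶ X), fppfMor c.left ∧ l ≫ f = (yon S).map c ≫ y := by
  obtain ⟨κ, C, c, h1, h2, h3, h4⟩ := exists_local_lifts' f y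
  choose a ha using h4
  obtain ⟨T, inc, l, ho, hs, hl, hu⟩ := exists_sigma_lift C a
  obtain ⟨g, hg⟩ := hu A c
  let cov : T.left.OpenCover := Scheme.Cover.mkOfCovers κ (fun i => (C i).left) (fun i => (inc i).left)
    (fun t => by obtain ⟨i, hi⟩ := hs t; exact ⟨i, hi⟩) ho
  have hge : ∀ i, (inc i).left ≫ g.left = (c i).left := fun i => by rw [← Over.comp_left, hg]
  refine ⟨T, g, l, ⟨⟨⟨fun x => ?_⟩, ?_⟩, ?_⟩, ?_⟩
  · obtain ⟨i, z, hz⟩ := h3 x
    exact ⟨(inc i).left z, by rw [← Scheme.Hom.comp_apply, hge, hz]⟩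
  · exact IsZariskiLocalAtSource.of_openCover (P := @Flat) cov fun i => by
      change Flat ((inc i).left ≫ g.left)
      rw [hge]; exact h1 i
  · exact IsZariskiLocalAtSource.of_openCover (P := @LocallyOfFinitePresentation) cov fun i => by
      change LocallyOfFinitePresentation ((inc i).left ≫ g.left)
      rw [hge]; exact h2 i
  · refine hom_ext_of_cover inc (ofArrows_mem_J _ (fun i => have := ho i; inferInstance)
      (fun i => have := ho i; inferInstance) hs) fun i => ?_
    rw [← Category.assoc, hl, ha, ← Category.assoc, ← Functor.map_comp, hg]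

/-- A sheaf receiving a representable flat, lfp, surjective map from an algebraic space is an algebraic space. -/
theorem isAlgSpace_of_repWith_fppf {X F : Sp S} (hX : IsAlgSpace X) (f : X ⟶ F) (hf : RepWith fppfMor f) :
    IsAlgSpace F := by
  obtain ⟨U, d, hd, hds⟩ := hX.atlas
  exact Slice.isAlgSpace_of_fppf_chart (repWith_comp (repWith_fppf_of_etale hd hds) hf)

/-- A sheaf with a map, representable by algebraic spaces, flat, lfp and surjective, from an algebraic space is an
algebraic space. -/
theorem isAlgSpace_of_repBySp_fppf {X F : Sp S} (hX : IsAlgSpace X) (p : X ⟶ F)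
    (hp : ∀ ⦃U : Over S⦄ (ξ : (yon S).obj U ⟶ F) ⦃F' : Sp S⦄ (fst : F' ⟶ X) (snd : F' ⟶ (yon S).obj U),
      IsPullback fst snd p ξ → IsAlgSpace F' ∧
        (IsSurjectiveMor snd ∧ LocP @Flat snd ∧ LocP @LocallyOfFinitePresentation snd)) :
    IsAlgSpace F := by
  obtain ⟨U, d, hd, hds⟩ := hX.atlas
  have hΔ := representable_diag_of_repBySp_fppf hX p hp
  refine Slice.isAlgSpace_of_fppf_chart (p := d ≫ p) ⟨Functor.relativelyRepresentable.of_diag hΔ _,
    fun T V g fst snd sq => ?_⟩
  obtain ⟨hQ, hs, hfl, hfp⟩ := hp g _ _ (IsPullback.of_hasPullback p g)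
  let m : (yon S).obj V ⟶ pullback p g := pullback.lift (fst ≫ d) ((yon S).map snd) (by rw [Category.assoc, sq.w])
  have sqm : IsPullback fst m d (pullback.fst p g) :=
    IsPullback.of_bot (by rw [pullback.lift_snd]; exact sq) (pullback.lift_fst _ _ _).symm
      (IsPullback.of_hasPullback p g)
  have hm := repWith_of_isPullback sqm hd
  have hms := repWith_of_isPullback sqm hds
  have hw : m ≫ pullback.snd p g = (yon S).map snd ≫ 𝟙 _ := by rw [pullback.lift_snd, Category.comp_id]
  refine ⟨⟨surjective_left_of_map snd ?_, hfl m (𝟙 _) snd hm (repWith_id _ T) hw⟩,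
    hfp m (𝟙 _) snd hm (repWith_id _ T) hw⟩
  rw [show Points.map ((yon S).map snd) = Points.map (pullback.snd p g) ∘ Points.map m from funext fun x => by
    rw [Function.comp_apply, ← Points.map_comp, pullback.lift_snd]]
  exact hs.comp (surjective_map_of_repWith le_rfl hms)

/-- An etale local property descending along fppf maps of schemes descends to maps from spaces to a scheme. -/
theorem locP_of_fppf_base {P : MorphismProperty Scheme.{u}} (hP : EtLocal P) [P.DescendsAlong fppfMor.{u}]
    {X Q : Sp S} {T T' : Over S} {b : X ⟶ (yon S).obj T} (hX : IsAlgSpace X) {c : T' ⟶ T}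
    (hc : fppfMor c.left) {fst : Q ⟶ X} {b' : Q ⟶ (yon S).obj T'} (sq : IsPullback fst b' b ((yon S).map c))
    (h : LocP P b') : LocP P b := by
  obtain ⟨V, a, ha, has⟩ := hX.atlas
  obtain ⟨g, hg⟩ := (yon S).map_surjective (a ≫ b)
  refine locP_of_one_chart hP g ha has (repWith_id _ T) (by rw [Category.comp_id, hg]) ?_
  have sqV := IsPullback.of_hasPullback g c
  obtain ⟨m, hm₁, hm₂⟩ := sq.exists_lift ((yon S).map (pullback.fst g c) ≫ a) ((yon S).map (pullback.snd g c))
    (by rw [Category.assoc, ← hg, ← Functor.map_comp, ← Functor.map_comp, sqV.w])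
  have sqm : IsPullback ((yon S).map (pullback.fst g c)) m a fst := by
    refine IsPullback.of_bot ?_ hm₁.symm sq
    rw [hm₂, ← hg]
    exact sqV.map (yon S)
  exact MorphismProperty.of_isPullback_of_descendsAlong (P := P) (Q := fppfMor)
    (sqV.map (Over.forget S)).flip hc
    (h m (𝟙 _) (pullback.snd g c) (repWith_of_isPullback sqm ha) (repWith_id _ T')
      (by rw [Category.comp_id, hm₂]))

/-- An epimorphism from an algebraic space whose kernel pair is an algebraic space, flat and lfp over the source, is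
representable by algebraic spaces, surjective, flat and lfp. -/
theorem repBySp_fppf_of_epi {X R F : Sp S} (hX : IsAlgSpace X) (hR : IsAlgSpace R) {q : X ⟶ F} [Epi q]
    {s t : R ⟶ X} (sq : IsPullback t s q q) (hsf : LocP @Flat s) (hsp : LocP @LocallyOfFinitePresentation s)
    ⦃T : Over S⦄ (ξ : (yon S).obj T ⟶ F) ⦃P : Sp S⦄ (fst : P ⟶ X) (snd : P ⟶ (yon S).obj T)
    (sqP : IsPullback fst snd q ξ) :
    IsAlgSpace P ∧ (IsSurjectiveMor snd ∧ LocP @Flat snd ∧ LocP @LocallyOfFinitePresentation snd) := by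
  obtain ⟨T', c, a, hc, ha⟩ := exists_fppf_lift q ξ
  have sqQ := IsPullback.of_hasPullback s a
  have hQ : IsAlgSpace (pullback s a) := isAlgSpace_pullback hX.diag hR (IsAlgSpace.yon_obj T') s a
  have big := sqQ.paste_horiz sq
  rw [ha] at big
  let k : pullback s a ⟶ P := sqP.lift (pullback.fst s a ≫ t) (pullback.snd s a ≫ (yon S).map c)
    (by rw [big.w, Category.assoc])
  have sqk : IsPullback k (pullback.snd s a) snd ((yon S).map c) :=
    IsPullback.of_right (by rw [sqP.lift_fst]; exact big) (sqP.lift_snd _ _ _) sqP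
  have hk : RepWith fppfMor k := repWith_of_isPullback sqk.flip ((repWith_yon_map_iff _ c).2 hc)
  have hP := isAlgSpace_of_repWith_fppf hQ k hk
  have hT' := IsAlgSpace.yon_obj (S := S) T'
  refine ⟨hP, ?_, ?_, ?_⟩
  · have hs : Function.Surjective (Points.map s) := fun x => by
      obtain ⟨e, -, he⟩ := sq.exists_lift (𝟙 X) (𝟙 X) rfl
      exact ⟨Points.map e x, by rw [← Points.map_comp, he, Points.map_id]⟩
    intro y
    obtain ⟨y', rfl⟩ := surjective_map_of_repWith le_rfl
      (repWith_le (fun _ _ _ h => h.1.1) ((repWith_yon_map_iff fppfMor c).2 hc)) y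
    obtain ⟨r, hr⟩ := hs (Points.map a y')
    obtain ⟨w, -, hw⟩ := exists_point_of_isPullback sqQ r y' hr
    exact ⟨Points.map k w, by rw [← Points.map_comp, sqk.w, Points.map_comp, hw]⟩
  · exact locP_of_fppf_base etLocal_flat hP hc sqk (locP_of_isPullback etLocal_flat sqQ hR hX hT' hsf)
  · exact locP_of_fppf_base etLocal_lfp hP hc sqk (locP_of_isPullback etLocal_lfp sqQ hR hX hT' hsp)

/-- The fppf quotient of an algebraic space by a flat, lfp equivalence relation is effective. -/
theorem isPullback_quotSpπ {R U : Sp S} {s t : R ⟶ U} (h : IsEqvRelSp s t) :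
    IsPullback t s (quotSpπ s t) (quotSpπ s t) := by
  have hm : Mono (pullback.lift t s (quotSp_condition s t).symm : R ⟶ pullback (quotSpπ s t) (quotSpπ s t)) :=
    mono_of_yon fun T r r' e => by
      refine h.injective T r r' ?_ ?_
      · simpa using e =≫ pullback.fst (quotSpπ s t) (quotSpπ s t)
      · simpa using e =≫ pullback.snd (quotSpπ s t) (quotSpπ s t)
  have : IsIso (pullback.lift t s (quotSp_condition s t).symm : R ⟶ pullback (quotSpπ s t) (quotSpπ s t)) :=
    isIso_of_mono_of_local_lifts _ fun T y => by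
      obtain ⟨κ, C, c, hc, hr⟩ := exists_local_rel ((isEqvRelSp_iff s t).1 h).2 (y ≫ pullback.fst _ _)
        (y ≫ pullback.snd _ _) (by rw [Category.assoc, Category.assoc, pullback.condition])
      refine ⟨κ, C, c, hc, fun i => ?_⟩
      obtain ⟨r, h₁, h₂⟩ := hr i
      refine ⟨r, pullback.hom_ext ?_ ?_⟩
      · rw [Category.assoc, pullback.lift_fst, h₁, Category.assoc]
      · rw [Category.assoc, pullback.lift_snd, h₂, Category.assoc]
  exact IsPullback.of_iso_pullback ⟨(quotSp_condition s t).symm⟩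
    (asIso (pullback.lift t s (quotSp_condition s t).symm)) (pullback.lift_fst _ _ _) (pullback.lift_snd _ _ _)

theorem quot_repBySp {R U : Sp S} (hR : IsAlgSpace R) (hU : IsAlgSpace U) {s t : R ⟶ U} (h : IsEqvRelSp s t)
    (hsf : LocP @Flat s) (hsp : LocP @LocallyOfFinitePresentation s) ⦃T : Over S⦄
    (ξ : (yon S).obj T ⟶ quotSp s t) ⦃P : Sp S⦄ (fst : P ⟶ U) (snd : P ⟶ (yon S).obj T)
    (sqP : IsPullback fst snd (quotSpπ s t) ξ) :
    IsAlgSpace P ∧ (IsSurjectiveMor snd ∧ LocP @Flat snd ∧ LocP @LocallyOfFinitePresentation snd) :=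
  have : Epi (quotSpπ s t) := epi_quotSpπ
  repBySp_fppf_of_epi hU hR (isPullback_quotSpπ h) hsf hsp ξ fst snd sqP

theorem isAlgSpace_quotSp {R U : Sp S} (hR : IsAlgSpace R) (hU : IsAlgSpace U) {s t : R ⟶ U} (h : IsEqvRelSp s t)
    (hsf : LocP @Flat s) (hsp : LocP @LocallyOfFinitePresentation s) : IsAlgSpace (quotSp s t) :=
  isAlgSpace_of_repBySp_fppf hU (quotSpπ s t) (quot_repBySp hR hU h hsf hsp)

end Groth.Agent.H12AlgSp
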