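import Groth.Agent.H13AlgSp.AffineLocal
import Groth.Agent.H12AlgSp.Basic
import Mathlib.AlgebraicGeometry.AffineTransitionLimit

/-!
Limits of systems of algebraic spaces with affine transition maps.
-/

universe u

open CategoryTheory CategoryTheory.Limits AlgebraicGeometry Opposite
open AlgSp Groth.Agent.H13AlgSp

set_option backward.isDefEq.respectTransparency false

attribute [local instance] CategoryTheory.isConnected_of_hasTerminal

namespace Groth.Agent.H12AlgSp

variable {S : Scheme.{u}}

/-- A connected diagram of affine schemes over `S` has an affine limit. -/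
theorem exists_affine_limit {J : Type u} [SmallCategory J] [IsConnected J] (K : J ⥤ Over S)
    (hK : ∀ j, IsAffine (K.obj j).left) :
    ∃ c : Cone K, Nonempty (IsLimit c) ∧ IsAffine c.pt.left := by
  let K' : J ⥤ AffineScheme.{u} :=
    { obj := fun j => @AffineScheme.of (K.obj j).left (hK j)
      map := fun {i j} φ => @AffineScheme.ofHom _ _ (hK i) (hK j) (K.map φ).left
      map_id := fun j => AffineScheme.forgetToScheme.map_injective (by
        change (K.map (𝟙 j)).left = 𝟙 _
        rw [K.map_id]; rfl)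
      map_comp := fun φ ψ => AffineScheme.forgetToScheme.map_injective (by
        change (K.map (φ ≫ ψ)).left = (K.map φ).left ≫ (K.map ψ).left
        rw [K.map_comp]; rfl) }
  have h : HasLimit (K' ⋙ AffineScheme.forgetToScheme) := inferInstance
  have hK' : HasLimit (K ⋙ Over.forget S) := h
  have : HasLimit K := hasLimit_of_created K (Over.forget S)
  have hlim : IsLimit ((Over.forget S).mapCone (limit.cone K)) := isLimitOfPreserves _ (limit.isLimit K)
  refine ⟨limit.cone K, ⟨limit.isLimit K⟩, ?_⟩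
  have : ∀ j, IsAffine ((K ⋙ Over.forget S).obj j) := hK
  exact Scheme.isAffine_of_isLimit _ hlim

variable {I : Type u} [SmallCategory I] [IsCofiltered I] {D : I ⥤ Sp S}
  (hDa : ∀ (i j : I) (φ : i ⟶ j), IsAffineMor (D.map φ)) {c : Cone D} (hc : IsLimit c)

include hDa hc in
/-- Base changes of the projections, with the naturality of the systems of affine schemes. -/
theorem exists_pullback_proj_system (i : I) {Z : Over S} (hZ : IsAffine Z.left) (g : (yon S).obj Z ⟶ D.obj i) :
    ∃ (K : Over i ⥤ Over S) (cK : Cone K) (_ : IsLimit cK) (w : cK.pt ⟶ Z)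
      (fst : (yon S).obj cK.pt ⟶ c.pt) (f : ∀ j, (yon S).obj (K.obj j) ⟶ D.obj j.left) (p : ∀ j, K.obj j ⟶ Z),
      IsPullback fst ((yon S).map w) (c.π.app i) g ∧ IsAffine cK.pt.left ∧
      (∀ j, fst ≫ c.π.app j.left = (yon S).map (cK.π.app j) ≫ f j) ∧ (∀ j, cK.π.app j ≫ p j = w) ∧
      (∀ j, IsAffine (K.obj j).left ∧
        IsPullback (f j) ((yon S).map (p j)) (D.map j.hom) g) ∧
      (∀ j k (φ : j ⟶ k), (yon S).map (K.map φ) ≫ f k = f j ≫ D.map φ.left) ∧
      ∀ j k (φ : j ⟶ k), K.map φ ≫ p k = p j := by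
  choose W p f sq hW using fun j : Over i => hDa j.left i j.hom hZ g
  have hl : ∀ {j k : Over i} (φ : j ⟶ k), ∃ l : W j ⟶ W k,
      (yon S).map l ≫ f k = f j ≫ D.map φ.left ∧ l ≫ p k = p j := fun {j k} φ => by
    obtain ⟨l, hl⟩ := (yon S).map_surjective ((sq k).lift (f j ≫ D.map φ.left) ((yon S).map (p j)) (by
      rw [Category.assoc, ← D.map_comp, Over.w φ]; exact (sq j).w))
    exact ⟨l, by rw [hl]; exact (sq k).lift_fst _ _ _,
      (yon S).map_injective (by rw [Functor.map_comp, hl]; exact (sq k).lift_snd _ _ _)⟩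
  choose l hlf hlp using @hl
  have huniq : ∀ {A : Over S} {k : Over i} (a b : A ⟶ W k),
      (yon S).map a ≫ f k = (yon S).map b ≫ f k → a ≫ p k = b ≫ p k → a = b := fun a b h₁ h₂ =>
    (yon S).map_injective ((sq _).hom_ext h₁ (by rw [← Functor.map_comp, ← Functor.map_comp, h₂]))
  let K : Over i ⥤ Over S :=
    { obj := W
      map := fun φ => l φ
      map_id := fun j => huniq _ _
        (by rw [hlf, Over.id_left, D.map_id, Category.comp_id, CategoryTheory.Functor.map_id, Category.id_comp])
        (by rw [hlp, Category.id_comp])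
      map_comp := fun φ ψ => huniq _ _
        (by rw [hlf, Over.comp_left, D.map_comp, Functor.map_comp, Category.assoc, hlf, ← Category.assoc,
          ← Category.assoc, hlf])
        (by rw [hlp, Category.assoc, hlp, hlp]) }
  obtain ⟨cK, ⟨hcK⟩, haff⟩ := exists_affine_limit K hW
  let i₀ : Over i := Over.mk (𝟙 i)
  let w : cK.pt ⟶ Z := cK.π.app i₀ ≫ p i₀
  have hw : ∀ j, cK.π.app j ≫ p j = w := fun j => by
    let φ : j ⟶ i₀ := Over.homMk j.hom (Category.comp_id _)
    rw [← hlp φ, ← Category.assoc]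
    exact congrArg (· ≫ p i₀) (cK.w φ)
  have hc' : IsLimit (c.whisker (Over.forget i)) := (Functor.Initial.isLimitWhiskerEquiv (Over.forget i) c).symm hc
  have hnat : ∀ (j k : Over i) (φ : j ⟶ k),
      ((yon S).map (cK.π.app j) ≫ f j) ≫ D.map φ.left = (yon S).map (cK.π.app k) ≫ f k := fun j k φ => by
    rw [Category.assoc, ← hlf φ, ← Category.assoc, ← Functor.map_comp]
    exact congrArg (fun a => (yon S).map a ≫ f k) (cK.w φ)
  let cX : Cone (Over.forget i ⋙ D) :=
    ⟨(yon S).obj cK.pt, { app := fun j => (yon S).map (cK.π.app j) ≫ f j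
                          naturality := fun j k φ => (Category.id_comp _).trans (hnat j k φ).symm }⟩
  have hfst : ∀ j, hc'.lift cX ≫ c.π.app j.left = (yon S).map (cK.π.app j) ≫ f j := fun j => hc'.fac cX j
  refine ⟨K, cK, hcK, w, hc'.lift cX, f, p, ?_, haff, hfst, hw, fun j => ⟨hW j, sq j⟩,
    fun j k φ => hlf φ, fun j k φ => hlp φ⟩
  have hyK : IsLimit ((yon S).mapCone cK) := isLimitOfPreserves _ hcK
  have comm : hc'.lift cX ≫ c.π.app i = (yon S).map w ≫ g := by
    refine (hfst i₀).trans ?_
    rw [Functor.map_comp, Category.assoc, ← (sq i₀).w]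
    simp [i₀]
  refine IsPullback.of_isLimit' ⟨comm⟩ ?_
  have hcond : ∀ (s : PullbackCone (c.π.app i) g) (j : Over i),
      (s.fst ≫ c.π.app j.left) ≫ D.map j.hom = s.snd ≫ g := fun s j => by
    rw [Category.assoc, c.w]; exact s.condition
  have hlift : ∀ (s : PullbackCone (c.π.app i) g) (j k : Over i) (φ : j ⟶ k),
      (sq j).lift (s.fst ≫ c.π.app j.left) s.snd (hcond s j) ≫ (yon S).map (l φ) =
        (sq k).lift (s.fst ≫ c.π.app k.left) s.snd (hcond s k) := fun s j k φ => by
    apply (sq k).hom_ext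
    · rw [Category.assoc, hlf, ← Category.assoc, (sq j).lift_fst, (sq k).lift_fst, Category.assoc, c.w]
    · rw [Category.assoc, ← Functor.map_comp, hlp, (sq j).lift_snd, (sq k).lift_snd]
  let cs : PullbackCone (c.π.app i) g → Cone (K ⋙ yon S) := fun s =>
    ⟨s.pt, { app := fun j => (sq j).lift (s.fst ≫ c.π.app j.left) s.snd (hcond s j)
             naturality := fun j k φ => (Category.id_comp _).trans (hlift s j k φ).symm }⟩
  refine PullbackCone.IsLimit.mk _ (fun s => hyK.lift (cs s)) (fun s => hc'.hom_ext fun j => ?_) (fun s => ?_)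
    fun s m h₁ h₂ => ?_
  · change (_ ≫ _) ≫ c.π.app j.left = _ ≫ c.π.app j.left
    rw [Category.assoc, hfst, ← Category.assoc]
    exact (congrArg (· ≫ f j) (hyK.fac (cs s) j)).trans ((sq j).lift_fst _ _ _)
  · rw [← hw i₀, Functor.map_comp, ← Category.assoc]
    exact (congrArg (· ≫ (yon S).map (p i₀)) (hyK.fac (cs s) i₀)).trans ((sq i₀).lift_snd _ _ _)
  · refine hyK.hom_ext fun j => (sq j).hom_ext ?_ ?_
    · rw [hyK.fac (cs s) j, (sq j).lift_fst, Category.assoc, ← h₁, Category.assoc, hfst]
      rfl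
    · rw [hyK.fac (cs s) j, (sq j).lift_snd, Category.assoc, ← h₂, ← hw j, Functor.map_comp]
      rfl

include hDa hc in
/-- Base changes of the projections from a limit with affine transition maps, as limits of affine schemes. -/
theorem exists_pullback_proj_data (i : I) {Z : Over S} (hZ : IsAffine Z.left) (g : (yon S).obj Z ⟶ D.obj i) :
    ∃ (K : Over i ⥤ Over S) (cK : Cone K) (_ : IsLimit cK) (w : cK.pt ⟶ Z)
      (fst : (yon S).obj cK.pt ⟶ c.pt) (f : ∀ j, (yon S).obj (K.obj j) ⟶ D.obj j.left) (p : ∀ j, K.obj j ⟶ Z),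
      IsPullback fst ((yon S).map w) (c.π.app i) g ∧ IsAffine cK.pt.left ∧
      (∀ j, fst ≫ c.π.app j.left = (yon S).map (cK.π.app j) ≫ f j) ∧ (∀ j, cK.π.app j ≫ p j = w) ∧
      ∀ j, IsAffine (K.obj j).left ∧
        IsPullback (f j) ((yon S).map (p j)) (D.map j.hom) g := by
  obtain ⟨K, cK, hcK, w, fst, f, p, sq, haff, hfst, hw, hK, -, -⟩ := exists_pullback_proj_system hDa hc i hZ g
  exact ⟨K, cK, hcK, w, fst, f, p, sq, haff, hfst, hw, hK⟩

include hDa hc in
/-- The projections from a limit with affine transition maps are affine. -/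
theorem exists_pullback_proj (i : I) {Z : Over S} (hZ : IsAffine Z.left) (g : (yon S).obj Z ⟶ D.obj i) :
    ∃ (W : Over S) (w : W ⟶ Z) (fst : (yon S).obj W ⟶ c.pt),
      IsPullback fst ((yon S).map w) (c.π.app i) g ∧ IsAffine W.left := by
  obtain ⟨K, cK, -, w, fst, -, -, sq, haff, -⟩ := exists_pullback_proj_data hDa hc i hZ g
  exact ⟨cK.pt, w, fst, sq, haff⟩

include hDa hc in
/-- A limit with affine transition maps of algebraic spaces is an algebraic space. -/
theorem isAlgSpace_limit_and_affine (hD : ∀ i, IsAlgSpace (D.obj i)) :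
    IsAlgSpace c.pt ∧ ∀ i, IsAffineMor (c.π.app i) := by
  have ha : ∀ i, IsAffineMor (c.π.app i) := fun i Z hZ g => exists_pullback_proj hDa hc i hZ g
  refine ⟨?_, ha⟩
  let i : I := IsCofiltered.nonempty.some
  exact isAlgSpace_of_representable (c.π.app i) (isAffineMor_iff.1 (ha i)).1 (hD i)

end Groth.Agent.H12AlgSp
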