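import Groth.Agent.H12AlgSp.QSPullback
import Mathlib.AlgebraicGeometry.Morphisms.ClosedImmersion

/-!
Separatedness of algebraic spaces through absolute products of affine schemes.
-/

universe u

open CategoryTheory CategoryTheory.Limits AlgebraicGeometry Opposite Topology
open AlgSp Groth.Agent.H13AlgSp

namespace Groth.Agent.H12AlgSp

variable {S : Scheme.{u}}

theorem isQuasiSeparatedSp_of_qc_proj {X : Sp S} (hX : IsAlgSpace X) {R U : Over S} {p : (yon S).obj U ⟶ X}
    (hp : RepWith @Etale p) (hs : RepWith @Surjective p) [QuasiSeparatedSpace U.left] {s t : R ⟶ U}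
    (sq : IsPullback ((yon S).map t) ((yon S).map s) p p) (ht : QuasiCompact t.left) :
    IsQuasiSeparatedSp X := by
  refine repWith_quasiCompact_of_atlas hX.diag
    (MorphismProperty.RespectsIso.precomp _ _ _ (repWith_prodMap hp hp))
    (MorphismProperty.RespectsIso.precomp _ _ _ (repWith_prodMap hs hs)) (isPullback_diag_prodHom sq) ?_
  have : QuasiSeparated U.hom := QuasiSeparated.of_comp U.hom (terminal.from S)
  have : QuasiSeparated (prod.fst : U ⨯ U ⟶ U).left := by
    rw [← Over.prodLeftIsoPullback_hom_fst]
    infer_instance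
  have : QuasiCompact ((prod.lift t s).left ≫ (prod.fst : U ⨯ U ⟶ U).left) := by
    rwa [← Over.comp_left, prod.lift_fst]
  exact QuasiCompact.of_comp _ (prod.fst : U ⨯ U ⟶ U).left

theorem isClosedImmersion_toAbsProd {U V P : Scheme.{u}} [IsAffine U] [IsAffine V] [IsAffine P] (p : P ⟶ U)
    (q : P ⟶ V)
    (h : Function.Surjective (Algebra.TensorProduct.productMap p.appTop.hom.toIntAlgHom q.appTop.hom.toIntAlgHom)) :
    IsClosedImmersion (toAbsProd p q) := by
  refine IsClosedImmersion.of_surjective_of_isAffine _ fun x => ?_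
  obtain ⟨z, rfl⟩ := h x
  change Algebra.TensorProduct.productMap _ _ z ∈ Set.range (toAbsProd p q).appTop.hom
  induction z using TensorProduct.induction_on with
  | zero => exact ⟨0, by rw [map_zero, map_zero]⟩
  | add a b ha hb =>
    obtain ⟨a', ha'⟩ := ha
    obtain ⟨b', hb'⟩ := hb
    exact ⟨a' + b', by rw [map_add, map_add, ha', hb']⟩
  | tmul a b =>
    refine ⟨(pullback.fst (terminal.from U) (terminal.from V)).appTop.hom a *
      (pullback.snd (terminal.from U) (terminal.from V)).appTop.hom b, ?_⟩
    rw [map_mul, Algebra.TensorProduct.productMap_apply_tmul]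
    have e1 : (pullback.fst (terminal.from U) (terminal.from V)).appTop ≫ (toAbsProd p q).appTop = p.appTop := by
      rw [← Scheme.Hom.comp_appTop, pullback.lift_fst]
    have e2 : (pullback.snd (terminal.from U) (terminal.from V)).appTop ≫ (toAbsProd p q).appTop = q.appTop := by
      rw [← Scheme.Hom.comp_appTop, pullback.lift_snd]
    exact congrArg₂ (· * ·) congr($e1 a) congr($e2 b)

theorem isSeparatedSp_of_closed {X : Sp S} (hX : IsAlgSpace X)
    (h : ∀ (U V P : Over S) (a : (yon S).obj U ⟶ X) (b : (yon S).obj V ⟶ X) (fst : P ⟶ U) (snd : P ⟶ V),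
      IsAffine U.left → IsAffine V.left →
      IsPullback ((yon S).map fst) ((yon S).map snd) a b →
        IsAffine P.left ∧ Function.Surjective
          (Algebra.TensorProduct.productMap fst.left.appTop.hom.toIntAlgHom snd.left.appTop.hom.toIntAlgHom)) :
    IsSeparatedSp X :=
  repWith_diag_of_affine_absProd hX fun T W a b p q hT sq => by
    obtain ⟨hW, hs⟩ := h T T W a b p q hT hT sq
    exact isClosedImmersion_toAbsProd _ _ hs

theorem isAffine_and_surjective_of_isSeparatedSp [S.IsSeparated] {X : Sp S} (hX : IsSeparatedSp X)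
    {U V P : Over S} [IsAffine U.left] [IsAffine V.left] {a : (yon S).obj U ⟶ X} {b : (yon S).obj V ⟶ X}
    {p : P ⟶ U} {q : P ⟶ V} (sq : IsPullback ((yon S).map p) ((yon S).map q) a b) :
    IsAffine P.left ∧ Function.Surjective
      (Algebra.TensorProduct.productMap p.left.appTop.hom.toIntAlgHom q.left.appTop.hom.toIntAlgHom) := by
  have h1 : IsClosedImmersion (prod.lift p q).left :=
    (repWith_yon_map_iff @IsClosedImmersion _).1 (repWith_of_isPullback (isPullback_diag_prodHom sq) hX)
  have h2 : IsClosedImmersion (pullback.mapDesc U.hom V.hom (terminal.from S)) := inferInstance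
  let e : absProd U.left V.left ≅ pullback (U.hom ≫ terminal.from S) (V.hom ≫ terminal.from S) :=
    pullback.congrHom (Subsingleton.elim _ _) (Subsingleton.elim _ _)
  have hj : toAbsProd p.left q.left = (prod.lift p q).left ≫ (Over.prodLeftIsoPullback U V).hom ≫
      pullback.mapDesc U.hom V.hom (terminal.from S) ≫ e.inv := by
    apply pullback.hom_ext
    · rw [pullback.lift_fst]
      simp only [e, pullback.congrHom_inv, pullback.mapDesc, pullback.map, Category.assoc, pullback.lift_fst,
        pullback.lift_fst_assoc, Category.comp_id, Over.prodLeftIsoPullback_hom_fst]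
      rw [← Over.comp_left, prod.lift_fst]
    · rw [pullback.lift_snd]
      simp only [e, pullback.congrHom_inv, pullback.mapDesc, pullback.map, Category.assoc, pullback.lift_snd,
        pullback.lift_snd_assoc, Category.comp_id, Over.prodLeftIsoPullback_hom_snd]
      rw [← Over.comp_left, prod.lift_snd]
  have : IsClosedImmersion (toAbsProd p.left q.left) := by rw [hj]; infer_instance
  obtain ⟨hP, hs⟩ := IsClosedImmersion.isAffine_surjective_of_isAffine (toAbsProd p.left q.left)
  refine ⟨hP, fun x => ?_⟩
  obtain ⟨w, rfl⟩ := hs x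
  let f := Algebra.TensorProduct.productMap p.left.appTop.hom.toIntAlgHom q.left.appTop.hom.toIntAlgHom
  suffices ⊤ ≤ f.toRingHom.range.comap (toAbsProd p.left q.left).appTop.hom from this (Subring.mem_top w)
  rw [← CommRingCat.closure_range_union_range_eq_top_of_isPushout (isPushout_appTop_of_isPullback
    (IsPullback.of_hasPullback (terminal.from U.left) (terminal.from V.left))), Subring.closure_le]
  rintro _ (⟨r, rfl⟩ | ⟨r, rfl⟩)
  · refine ⟨r ⊗ₜ 1, ?_⟩
    have e1 : (pullback.fst (terminal.from U.left) (terminal.from V.left)).appTop ≫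
        (toAbsProd p.left q.left).appTop = p.left.appTop := by
      rw [← Scheme.Hom.comp_appTop, pullback.lift_fst]
    refine Eq.trans ?_ congr($e1 r).symm
    simp [f]
  · refine ⟨1 ⊗ₜ r, ?_⟩
    have e1 : (pullback.snd (terminal.from U.left) (terminal.from V.left)).appTop ≫
        (toAbsProd p.left q.left).appTop = q.left.appTop := by
      rw [← Scheme.Hom.comp_appTop, pullback.lift_snd]
    refine Eq.trans ?_ congr($e1 r).symm
    simp [f]

end Groth.Agent.H12AlgSp
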