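import Groth.Agent.H12AlgSp.Valuative
import Mathlib.AlgebraicGeometry.ValuativeCriterion

/-!
The valuative criterion for universal closedness of morphisms of algebraic spaces.
-/

set_option linter.unusedVariables false

universe u

open CategoryTheory CategoryTheory.Limits AlgebraicGeometry Opposite Topology IsLocalRing
open AlgSp

namespace Groth.Agent.H12AlgSp

/-- The image of a closed set under a morphism of affine schemes is closed when stable under specialization. -/
theorem isClosed_image_of_affine {U T : Scheme.{u}} [IsAffine U] [IsAffine T] (h : U ⟶ T) {W : Set ↥U}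
    (hW : IsClosed W) (hs : StableUnderSpecialization (h '' W)) : IsClosed (h '' W) := by
  let eT := T.isoSpec.hom.homeomorph
  let eU := U.isoSpec.hom.homeomorph
  have key : eT '' (h '' W) = Spec.map h.appTop '' (eU '' W) := by
    rw [Set.image_image, Set.image_image]
    refine Set.image_congr' fun x => ?_
    change T.isoSpec.hom (h x) = Spec.map h.appTop (U.isoSpec.hom x)
    rw [← Scheme.Hom.comp_apply, ← Scheme.Hom.comp_apply, Scheme.isoSpec_hom_naturality]
  rw [← eT.isClosed_image, key]
  refine PrimeSpectrum.isClosed_image_of_stableUnderSpecialization h.appTop.hom _ (eU.isClosedMap _ hW) ?_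
  change StableUnderSpecialization (Spec.map h.appTop '' (eU '' W))
  rw [← key]
  intro a b hab ha
  obtain ⟨a, ha, rfl⟩ := ha
  exact ⟨eT.symm b, hs (by simpa using hab.map eT.symm.continuous) ha, eT.apply_symm_apply b⟩

/-- A specialization in the target of a morphism is witnessed by a valuation ring. -/
theorem exists_valuation_of_specializes {U T : Scheme.{u}} (h : U ⟶ T) (u : ↥U) {z : ↥T} (hs : h u ⤳ z) :
    ∃ (A : ValuationSubring (U.residueField u)) (b : Spec (CommRingCat.of A) ⟶ T),
      b (closedPoint A) = z ∧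
      Spec.map (CommRingCat.ofHom (algebraMap A (U.residueField u))) ≫ b =
        U.fromSpecResidueField u ≫ h := by
  let σ : T.presheaf.stalk z ⟶ U.residueField u :=
    T.presheaf.stalkSpecializes hs ≫ h.stalkMap u ≫ U.residue u
  obtain ⟨A, hA, hA'⟩ := exists_factor_valuationRing σ.hom
  refine ⟨A, Spec.map (CommRingCat.ofHom (σ.hom.codRestrict _ hA) : T.presheaf.stalk z ⟶ .of A) ≫
    T.fromSpecStalk z, ?_, ?_⟩
  · rw [Scheme.Hom.comp_apply]
    have : Spec.map (CommRingCat.ofHom (σ.hom.codRestrict _ hA) : T.presheaf.stalk z ⟶ .of A) (closedPoint A) =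
        closedPoint (T.presheaf.stalk z) :=
      comap_closedPoint (S := A) (σ.hom.codRestrict A.toSubring hA)
    rw [this]; exact T.fromSpecStalk_closedPoint
  · rw [Scheme.fromSpecResidueField, Category.assoc, ← Scheme.SpecMap_stalkMap_fromSpecStalk,
      ← Scheme.SpecMap_stalkSpecializes_fromSpecStalk hs]
    simp_rw [← Spec.map_comp_assoc]
    rfl

variable {S : Scheme.{u}} {X Y : Sp S}

/-- Specializations lift along a morphism to a scheme satisfying existence for squares through a chart. -/
theorem exists_specialization_lift {T U : Over S} {f : X ⟶ (yon S).obj T} {a : (yon S).obj U ⟶ X}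
    {h : U ⟶ T} (w : a ≫ f = (yon S).map h) (u : ↥U.left) {z : ↥T.left} (hs : h.left u ⤳ z)
    (he : ∀ v : ValSq f, (∃ t, t ≫ a = v.top) → v.HasLiftExt) :
    ∃ x, Points.ofPt a u ⤳ x ∧ Points.map f x = Points.ofScheme T z := by
  obtain ⟨A, b, hb, hbw⟩ := exists_valuation_of_specializes h.left u hs
  have hA : Spec.map (CommRingCat.ofHom (algebraMap A (U.left.residueField u))) ≫ b ≫ T.hom =
      U.left.fromSpecResidueField u ≫ U.hom := by
    rw [← Category.assoc, hbw, Category.assoc, Over.w]
  let k : Over.mk (Spec.map (CommRingCat.ofHom (algebraMap A (U.left.residueField u))) ≫ b ≫ T.hom) ⟶ U :=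
    Over.homMk (U.left.fromSpecResidueField u) hA.symm
  let b' : Over.mk (b ≫ T.hom) ⟶ T := Over.homMk b
  have hc : ((yon S).map k ≫ a) ≫ f = (yon S).map
      (Over.homMk (Spec.map (CommRingCat.ofHom (algebraMap A (U.left.residueField u)))) rfl :
        Over.mk (Spec.map (CommRingCat.ofHom (algebraMap A (U.left.residueField u))) ≫ b ≫ T.hom) ⟶
          Over.mk (b ≫ T.hom)) ≫ (yon S).map b' := by
    rw [Category.assoc, w, ← Functor.map_comp, ← Functor.map_comp]
    exact congrArg _ (Over.OverMorphism.ext hbw.symm)
  let v : ValSq f :=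
    { A := A, K := U.left.residueField u, str := b ≫ T.hom, top := (yon S).map k ≫ a
      bot := (yon S).map b', comm := hc }
  obtain ⟨e, hl⟩ := he v ⟨_, rfl⟩
  obtain ⟨l, hl₁, hl₂⟩ := (hasLift_iff e).1 hl
  let c : ↥e.ptA'.left := closedPoint e.A'
  refine ⟨Points.ofPt l c, ?_, ?_⟩
  · let η : ↥e.ptK'.left := (default : ↥(Spec (CommRingCat.of e.K')))
    have h1 : (jHom e).left η ⤳ c := specializes_closedPoint _
    have h2 : Points.ofPt a u = Points.ofPt l ((jHom e).left η) := by
      rw [← ofPt_map, hl₁]
      change _ = Points.ofPt ((yon S).map (psiHom e) ≫ (yon S).map k ≫ a) η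
      rw [ofPt_map, ofPt_map]
      exact congrArg _ (Scheme.fromSpecResidueField_apply u _).symm
    rw [h2]
    exact h1.map (Points.continuous_ofPt l)
  · rw [Points.map_ofPt, hl₂, ofPt_map]
    change Points.ofPt ((yon S).map b') _ = _
    rw [← Category.comp_id ((yon S).map b'), ofPt_map]
    have := e.isLocalHom
    have hc' : (phiHom e).left c = closedPoint v.A := comap_closedPoint (S := e.A') e.φ
    rw [hc']
    change Points.ofPt _ (b (closedPoint A)) = _
    rw [hb]

/-- Quasi-compact with the existence part of the valuative criterion implies universally closed. -/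
theorem isUnivClosedMor_of_existVC (hX : IsAlgSpace X) (hY : IsAlgSpace Y) {f : X ⟶ Y}
    (hq : IsQuasiCompactMor f) (he : ExistVC f) : IsUnivClosedMor f := by
  refine (isUnivClosedMor_iff_affine f).2 fun T hT g P fst snd sq => ?_
  have hT' := IsAlgSpace.yon_obj (S := S) T
  have hP := isAlgSpace_of_isPullback hY.diag hX hT' sq
  have := compactSpace_points_of_isQuasiCompactSp
    (hq hT' (isQuasiCompactSp_yon_iff.2 inferInstance) g fst snd sq)
  obtain ⟨U, a, hU, ha, has⟩ := exists_affine_atlas hP
  obtain ⟨h, hh⟩ := (yon S).map_surjective (a ≫ snd)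
  intro W hW
  have e : Points.map snd '' W = Points.schemeHomeo T '' (h.left '' (Points.ofPt a ⁻¹' W)) := by
    conv_lhs => rw [← Set.image_preimage_eq W (surjective_ofPt_of_repWith le_rfl has)]
    rw [Set.image_image, Set.image_image]
    refine Set.image_congr' fun u => ?_
    rw [Points.map_ofPt, ← hh, ← Category.comp_id ((yon S).map h), ofPt_map]
    rfl
  rw [e]
  refine (Points.schemeHomeo T).isClosedMap _
    (isClosed_image_of_affine h.left (hW.preimage (Points.continuous_ofPt a)) ?_)
  rintro _ z hs ⟨u, hu, rfl⟩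
  obtain ⟨x, hx, hxz⟩ := exists_specialization_lift hh.symm u hs
    (fun v _ => existVC_of_isPullback sq he v)
  have hxW : x ∈ W := hx.mem_closed hW hu
  obtain ⟨u', rfl⟩ := surjective_ofPt_of_repWith le_rfl has x
  refine ⟨u', hxW, (Points.schemeHomeo T).injective ?_⟩
  rw [Points.map_ofPt, ← hh, ← Category.comp_id ((yon S).map h), ofPt_map] at hxz
  exact hxz

end Groth.Agent.H12AlgSp
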