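import Groth.Agent.H12AlgSp.SchImage
import Groth.Agent.H12AlgSp.ValuativeClosed
import Groth.Agent.H13AlgSp.EtaleLocally
import Groth.Agent.H13AlgSp.GeomRedBC
import Groth.Agent.H17.QcImage

/-!
Scheme theoretic images: reduced sources, valuation rings reaching the image.
-/

set_option linter.unusedVariables false
set_option backward.isDefEq.respectTransparency false

universe u

open CategoryTheory CategoryTheory.Limits AlgebraicGeometry Opposite Topology
open AlgSp Groth.Agent.H13Cartier IsLocalRing

namespace Groth.Agent.H12AlgSp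

variable {S : Scheme.{u}} {X Y Z Z' F G : Sp S}

theorem isReduced_of_chart (hF : IsAlgSpace F) (h : IsReducedSp F) {V : Over S}
    {b : (yon S).obj V ⟶ F} (hb : RepWith @Etale b) : IsReduced V.left :=
  H13AlgSp.etaleLocally_chart (Q := fun U => IsReduced U)
    (fun g hg hB => by have := hg; have := hB; exact H13AlgSp.isReduced_of_smooth_mor g)
    (fun {A B} g hg hs hA => by
      have := hg; have := hs; have := hA
      have : ∀ y : B, _root_.IsReduced (B.presheaf.stalk y) := fun y => by
        obtain ⟨x, rfl⟩ := g.surjective y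
        exact isReduced_stalk_of_flat g x
      exact isReduced_of_isReduced_stalk _)
    hF h hb

/-- A morphism from a reduced space factors through a closed subspace containing its image. -/
theorem exists_factor_of_reduced (hX : IsAlgSpace X) (hY : IsAlgSpace Y) (hred : IsReducedSp X)
    {i : Z ⟶ Y} (hi : RepWith @IsClosedImmersion i) (f : X ⟶ Y)
    (h : Set.range (Points.map f) ⊆ Set.range (Points.map i)) : ∃ f' : X ⟶ Z, f' ≫ i = f := by
  obtain ⟨U, p, hp, hps⟩ := hY.atlas
  obtain ⟨W, a, w, hW⟩ := exists_bcAtlas hX hY f p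
  obtain ⟨J, hJ⟩ := exists_cutsOut hi p
  rw [hW.factors_iff hp hps hi hJ, le_ker_iff]
  have hb : RepWith @Etale (a ≫ pullback.fst f p) :=
    repWith_comp hW.etale (repWith_of_isPullback (IsPullback.of_hasPullback f p).flip hp)
  have := isReduced_of_chart hX hred hb
  rw [← le_bot_iff]
  refine le_trans (Scheme.IdealSheafData.comap_mono w.left
    (Scheme.IdealSheafData.le_support_iff_le_vanishingIdeal.1 (le_refl J.support)))
    (Groth.Agent.H14AlgSt.comap_vanishingIdeal_eq_bot w.left J.support fun v => ?_).le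
  obtain ⟨q, sq⟩ := hJ
  have hv : Points.ofPt p (w.left v) ∈ Set.range (Points.map i) := by
    refine h ⟨Points.ofPt (a ≫ pullback.fst f p) v, ?_⟩
    rw [Points.map_ofPt, Category.assoc, pullback.condition, ← Category.assoc, hW.fac, ofPt_map]
  have := (preimage_ofPt_range sq).le hv
  rwa [show Set.range (subIncl U J).left = (J.support : Set U.left) from J.range_subschemeι] at this

/-- The scheme theoretic image of a reduced space is reduced with support the closure of the image. -/
theorem isRedInduced_schImage (hX : IsAlgSpace X) (hY : IsAlgSpace Y) (hred : IsReducedSp X)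
    {f : X ⟶ Y} (hZ : IsAlgSpace Z) {i : Z ⟶ Y} (hi : IsSchImage f i) :
    IsRedInduced (closure (Set.range (Points.map f))) i := by
  obtain ⟨Z₀, i₀, hZ₀, hi₀⟩ := H13AlgSp.exists_isRedInduced hY (T := closure (Set.range (Points.map f)))
    isClosed_closure
  obtain ⟨k, hk⟩ := hi.2.2 i₀ hZ₀ hi₀.1
    (exists_factor_of_reduced hX hY hred hi₀.1 f (hi₀.2.1.symm ▸ subset_closure))
  have hle : Set.range (Points.map i₀) ⊆ Set.range (Points.map i) := by
    rw [hi₀.2.1]
    refine closure_minimal ?_ (isEmbedding_closed hY hi.1)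
    obtain ⟨f', hf'⟩ := hi.2.1
    rintro _ ⟨x, rfl⟩
    exact ⟨Points.map f' x, by rw [← Points.map_comp, hf']⟩
  obtain ⟨k', hk'⟩ := exists_factor_of_reduced hZ₀ hY hi₀.2.2 hi.1 i₀ hle
  have := mono_of_closedImmersion hi.1
  have := mono_of_closedImmersion hi₀.1
  have : IsIso k' := ⟨k, (cancel_mono i₀).1 (by rw [Category.assoc, hk, hk', Category.id_comp]),
    (cancel_mono i).1 (by rw [Category.assoc, hk', hk, Category.id_comp])⟩
  refine ⟨hi.1, le_antisymm ?_ (hi₀.2.1.ge.trans hle), ?_⟩
  · rw [← hi₀.2.1, ← hk]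
    exact range_map_subset_of_factor rfl
  · obtain ⟨V, q, hq, hqs, hV⟩ := hi₀.2.2
    exact ⟨V, q ≫ k', repWith_comp hq (repWith_of_isIso k'), repWith_comp hqs (repWith_of_isIso k'), hV⟩
where
  isEmbedding_closed {Y Z : Sp S} (hY : IsAlgSpace Y) {i : Z ⟶ Y} (hi : RepWith @IsClosedImmersion i) :
      IsClosed (Set.range (Points.map i)) := by
    obtain ⟨U, p, hp, hps⟩ := hY.atlas
    obtain ⟨J, q, sq⟩ := exists_cutsOut hi p
    refine ((isQuotientMap_ofPt hp hps).isClosed_preimage).1 ?_
    rw [preimage_ofPt_range sq]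
    exact show IsClosed (Set.range J.subschemeι) from J.range_subschemeι ▸ J.support.isClosed

/-- Points of the scheme theoretic image of a quasi-compact morphism are reached by valuation rings
whose generic point lifts to the source. -/
theorem exists_valuationRing_to_schImage (hX : IsAlgSpace X) (hY : IsAlgSpace Y)
    {f : X ⟶ Y} (hf : IsQuasiCompactMor f) (hZ : IsAlgSpace Z) {i : Z ⟶ Y} (hi : IsSchImage f i)
    (z : Points Z) :
    ∃ (A : Type u) (_ : CommRing A) (_ : IsDomain A) (_ : ValuationRing A)
      (str : Spec (CommRingCat.of A) ⟶ S) (c : (yon S).obj (Over.mk str) ⟶ Z)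
      (x : (yon S).obj (Over.mk (Spec.map (CommRingCat.ofHom (algebraMap A (FractionRing A))) ≫ str)) ⟶ X),
      Points.ofPt c (closedPoint A) = z ∧
      x ≫ f = (yon S).map (Over.homMk (Spec.map (CommRingCat.ofHom (algebraMap A (FractionRing A)))) rfl) ≫
        c ≫ i := by
  obtain ⟨U, W, p, a, w, hp, hps, hW, hwq⟩ := exists_qc_bcAtlas hX hY hf
  obtain ⟨q, sq⟩ := hW.cutsOut hY hp hps hZ hi
  obtain ⟨x', rfl⟩ := surjective_ofPt_of_repWith le_rfl (repWith_of_isPullback sq.flip hps) z
  have hu : w.left.ker.subschemeι x' ∈ closure (Set.range w.left) := by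
    rw [← Scheme.Hom.support_ker, ← Scheme.IdealSheafData.range_subschemeι]
    exact ⟨x', rfl⟩
  obtain ⟨v, hv⟩ := H17.exists_specializes_of_mem_closure_range w.left hu
  obtain ⟨A, b, hb, hbw⟩ := exists_valuation_of_specializes w.left v hv
  let K := W.left.residueField v
  let e : FractionRing A ≃ₐ[A] K := FractionRing.algEquiv A K
  have hζ : (algebraMap A (FractionRing A)) = (e.symm.toAlgHom.toRingHom).comp (algebraMap A K) :=
    (e.symm.toAlgHom.comp_algebraMap).symm
  let j : Spec (CommRingCat.of (FractionRing A)) ⟶ W.left :=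
    Spec.map (CommRingCat.ofHom e.symm.toAlgHom.toRingHom) ≫ W.left.fromSpecResidueField v
  have hj : j ≫ w.left = Spec.map (CommRingCat.ofHom (algebraMap A (FractionRing A))) ≫ b := by
    rw [Category.assoc, ← hbw, ← Category.assoc, ← Spec.map_comp]
    congr 2
    exact CommRingCat.hom_ext hζ.symm
  have hJ : w.left.ker.comap b = ⊥ := by
    rw [← le_bot_iff]
    have hbot : (Spec.map (CommRingCat.ofHom (algebraMap A K))).ker = ⊥ := by
      refine H06Desc.ker_eq_bot_of_app_injective _ fun O => ?_
      exact app_injective_of_dominant O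
    rw [← hbot, le_ker_iff, ← Scheme.IdealSheafData.comap_comp, hbw, Scheme.IdealSheafData.comap_comp,
      (le_ker_iff _ _).1 le_rfl, Scheme.IdealSheafData.comap_bot]
  let T : Over S := Over.mk (b ≫ U.hom)
  let bb : T ⟶ U := Over.homMk b rfl
  obtain ⟨g, hg⟩ := (Groth.Agent.H14AlgSt.comap_eq_bot_iff_factors _ b).1 hJ
  let gg : T ⟶ subOver U w.left.ker := Over.homMk g (by
    change g ≫ w.left.ker.subschemeι ≫ U.hom = b ≫ U.hom
    rw [← Category.assoc, hg])
  let jj : Over.mk (Spec.map (CommRingCat.ofHom (algebraMap A (FractionRing A))) ≫ b ≫ U.hom) ⟶ W :=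
    Over.homMk j (by
      change j ≫ W.hom = _
      rw [← Over.w w, ← Category.assoc, hj, Category.assoc]
      rfl)
  have hgg : gg ≫ subIncl U w.left.ker = bb := Over.OverMorphism.ext hg
  refine ⟨A, inferInstance, inferInstance, inferInstance, b ≫ U.hom, (yon S).map gg ≫ q,
    (yon S).map jj ≫ a ≫ pullback.fst f p, ?_, ?_⟩
  · refine (ofPt_map gg q _).trans (congrArg (Points.ofPt q) (w.left.ker.subschemeι.isClosedEmbedding.injective ?_))
    exact ((congrArg (fun m : Spec (CommRingCat.of A) ⟶ U.left => m (closedPoint A)) hg).trans hb)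
  · have e1 : jj ≫ w = (Over.homMk (Spec.map (CommRingCat.ofHom (algebraMap A (FractionRing A)))) rfl :
        _ ⟶ T) ≫ gg ≫ subIncl U w.left.ker := by
      rw [hgg]; exact Over.OverMorphism.ext hj
    simp only [Category.assoc]
    rw [pullback.condition, reassoc_of% hW.fac, sq.w]
    have e2 := congrArg ((yon S).map · ≫ p) e1
    simp only [Functor.map_comp, Category.assoc] at e2
    exact e2
where
  app_injective_of_dominant {A : Type u} [CommRing A] [IsDomain A] {K : Type u} [Field K] [Algebra A K]
      [IsFractionRing A K] (O : (Spec (CommRingCat.of A)).Opens) :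
      Function.Injective ((Spec.map (CommRingCat.ofHom (algebraMap A K))).app O) := by
    refine (injective_iff_map_eq_zero _).mpr fun s hs => ?_
    refine H06Desc.injOn_sections_of_dense (fun _ : PUnit.{1} => Spec (CommRingCat.of K))
      (fun _ => Spec.map (CommRingCat.ofHom (algebraMap A K))) ?_ O s fun _ => hs
    rw [Set.iUnion_const]
    exact (PrimeSpectrum.denseRange_comap_iff_ker_le_nilRadical _).2 (by
      simp [(RingHom.injective_iff_ker_eq_bot _).1 (IsFractionRing.injective A K)])

end Groth.Agent.H12AlgSp
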