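import Groth.Prelude.Def_AlgSpOX3
import Mathlib.AlgebraicGeometry.Sites.EtalePoint

/-!
Etale neighbourhoods of a geometric point of an algebraic space form a cofiltered category, and the lifts
of the point define a point of the small etale site.
-/

set_option backward.isDefEq.respectTransparency false

universe u

open CategoryTheory CategoryTheory.Limits AlgebraicGeometry Opposite
open AlgSp

namespace Groth.Agent.H12AlgSp

variable {S : Scheme.{u}} {X : Sp S} {p : FieldPt X}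

/-- Lifting a geometric point along an etale morphism of schemes over `S`. -/
theorem exists_lift_over (hp : p.IsGeometric) {V W : Over S} (g : V ⟶ W) [Etale g.left]
    (l : p.pt ⟶ W) (x : ↥V.left) (hx : g.left x = l.left (default : Spec (CommRingCat.of p.K))) :
    ∃ l' : p.pt ⟶ V, l' ≫ g = l ∧ l'.left (default : Spec (CommRingCat.of p.K)) = x := by
  have : IsAlgClosed p.K := hp
  obtain ⟨m, hm, hmx⟩ :=
    Scheme.exists_fac_of_etale_of_isSepClosed (Ω := p.K) g.left l.left x hx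
  refine ⟨Over.homMk m ?_, Over.OverMorphism.ext hm, hmx⟩
  rw [← Over.w g, ← Category.assoc, hm]
  exact Over.w l

/-- Lifting a geometric point along a morphism of the small etale site. -/
theorem exists_lift_etOver (hp : p.IsGeometric) {E E' : EtOver X} (g : E' ⟶ E)
    (l : (FieldPt.liftsTo p).obj E) (x : ↥E'.obj.left.left)
    (hx : g.hom.left.left x = l.1.left (default : Spec (CommRingCat.of p.K))) :
    ∃ l' : (FieldPt.liftsTo p).obj E', (FieldPt.liftsTo p).map g l' = l := by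
  have := EtOver.etale_left g
  obtain ⟨m, hm, -⟩ := exists_lift_over hp g.hom.left l.1 x hx
  refine ⟨⟨m, ?_⟩, Subtype.ext hm⟩
  rw [← EtOver.w g, ← Category.assoc, ← Functor.map_comp, hm]
  exact l.2

theorem jointly_surjective_of_mem_etTop {E : EtOver X} {R : Sieve E} (hR : R ∈ etTop X E)
    (x : ↥E.obj.left.left) :
    ∃ (E' : EtOver X) (g : E' ⟶ E) (_ : R g) (y : ↥E'.obj.left.left), g.hom.left.left y = x := by
  obtain ⟨R', hR', hle⟩ := (Precoverage.mem_toGrothendieck_iff_of_isStableUnderComposition (J := etPre X)).1 hR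
  obtain ⟨ι, Y, g, rfl⟩ := R'.exists_eq_ofArrows
  obtain ⟨i, y, hy⟩ := (ofArrows_mem_etPre_iff Y g).1 hR' x
  exact ⟨Y i, g i, hle _ _ ⟨i⟩, y, hy⟩

theorem exists_lift_of_mem_etTop (hp : p.IsGeometric) {E : EtOver X} (R : Sieve E)
    (hR : R ∈ etTop X E) (l : (FieldPt.liftsTo p).obj E) :
    ∃ (E' : EtOver X) (g : E' ⟶ E) (_ : R g) (l' : (FieldPt.liftsTo p).obj E'),
      (FieldPt.liftsTo p).map g l' = l := by
  obtain ⟨E', g, hg, y, hy⟩ :=
    jointly_surjective_of_mem_etTop hR (l.1.left (default : Spec (CommRingCat.of p.K)))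
  exact ⟨E', g, hg, exists_lift_etOver hp g l y hy⟩

variable (p) in
theorem exists_atlas_nbhd (hX : IsAlgSpace X) (hp : p.IsGeometric) :
    ∃ (U : Over S) (a : (yon S).obj U ⟶ X) (_ : RepWith @Etale a) (l : p.pt ⟶ U),
      (yon S).map l ≫ a = p.toHom := by
  obtain ⟨U, a, ha, has⟩ := hX.atlas
  obtain ⟨P, h, g', sq⟩ := ha.1 p.toHom
  obtain ⟨g, rfl⟩ := (yon S).map_surjective g'
  have he : Etale h.left := ha.2 _ _ h sq
  have hs : Surjective h.left := has.2 _ _ h sq
  obtain ⟨x, hx⟩ := hs.surj (default : Spec (CommRingCat.of p.K))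
  obtain ⟨m, hm, -⟩ := exists_lift_over hp h (𝟙 p.pt) x hx
  refine ⟨U, a, ha, m ≫ g, ?_⟩
  rw [Functor.map_comp, Category.assoc, sq.w, ← Category.assoc, ← Functor.map_comp, hm,
    CategoryTheory.Functor.map_id, Category.id_comp]

theorem etNbhd_cone_objs (N N' : EtNbhd p) :
    ∃ (W : EtNbhd p) (_ : W ⟶ N) (_ : W ⟶ N'), True := by
  obtain ⟨E, l⟩ := N
  obtain ⟨E', l'⟩ := N'
  let t : p.pt ⟶ (EtOver.prodObj E E').obj.left :=
    E'.property.1.lift' l'.1 l.1 (l'.2.trans l.2.symm)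
  have ht : (yon S).map t ≫ (EtOver.prodObj E E').obj.hom = p.toHom := by
    change (yon S).map t ≫ (yon S).map _ ≫ E.obj.hom = _
    rw [← Category.assoc, ← Functor.map_comp, Functor.relativelyRepresentable.lift'_snd]
    exact l.2
  exact ⟨⟨EtOver.prodObj E E', ⟨t, ht⟩⟩,
    CategoryOfElements.homMk _ _ (EtOver.prodFst E E')
      (Subtype.ext (Functor.relativelyRepresentable.lift'_snd _ _ _ _)),
    CategoryOfElements.homMk _ _ (EtOver.prodSnd E E')
      (Subtype.ext (Functor.relativelyRepresentable.lift'_fst _ _ _ _)), trivial⟩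

theorem etNbhd_cone_maps {N N' : EtNbhd p} (f g : N ⟶ N') :
    ∃ (W : EtNbhd p) (h : W ⟶ N), h ≫ f = h ≫ g := by
  obtain ⟨E, l⟩ := N
  obtain ⟨E', l'⟩ := N'
  let fg : E ⟶ EtOver.prodObj E' E' :=
    (EtOver.prodIsLimit E' E').lift (BinaryFan.mk f.val g.val)
  let Δ : E' ⟶ EtOver.prodObj E' E' :=
    (EtOver.prodIsLimit E' E').lift (BinaryFan.mk (𝟙 E') (𝟙 E'))
  have hfg₁ : fg ≫ EtOver.prodFst E' E' = f.val :=
    (EtOver.prodIsLimit E' E').fac (BinaryFan.mk f.val g.val) ⟨WalkingPair.left⟩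
  have hfg₂ : fg ≫ EtOver.prodSnd E' E' = g.val :=
    (EtOver.prodIsLimit E' E').fac (BinaryFan.mk f.val g.val) ⟨WalkingPair.right⟩
  have hΔ₁ : Δ ≫ EtOver.prodFst E' E' = 𝟙 E' :=
    (EtOver.prodIsLimit E' E').fac (BinaryFan.mk (𝟙 E') (𝟙 E')) ⟨WalkingPair.left⟩
  have hΔ₂ : Δ ≫ EtOver.prodSnd E' E' = 𝟙 E' :=
    (EtOver.prodIsLimit E' E').fac (BinaryFan.mk (𝟙 E') (𝟙 E')) ⟨WalkingPair.right⟩
  have hf : l.1 ≫ f.val.hom.left = l'.1 := congrArg Subtype.val f.property
  have hg : l.1 ≫ g.val.hom.left = l'.1 := congrArg Subtype.val g.property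
  have hc : l.1 ≫ fg.hom.left = l'.1 ≫ Δ.hom.left := by
    apply Functor.relativelyRepresentable.hom_ext'
    · change (l.1 ≫ fg.hom.left) ≫ (EtOver.prodSnd E' E').hom.left =
        (l'.1 ≫ Δ.hom.left) ≫ (EtOver.prodSnd E' E').hom.left
      rw [Category.assoc, Category.assoc]
      refine ((congrArg (fun k => l.1 ≫ k.hom.left) hfg₂).trans hg).trans ?_
      exact ((congrArg (fun k => l'.1 ≫ k.hom.left) hΔ₂).trans (Category.comp_id _)).symm
    · change (l.1 ≫ fg.hom.left) ≫ (EtOver.prodFst E' E').hom.left =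
        (l'.1 ≫ Δ.hom.left) ≫ (EtOver.prodFst E' E').hom.left
      rw [Category.assoc, Category.assoc]
      refine ((congrArg (fun k => l.1 ≫ k.hom.left) hfg₁).trans hf).trans ?_
      exact ((congrArg (fun k => l'.1 ≫ k.hom.left) hΔ₁).trans (Category.comp_id _)).symm
  let t : p.pt ⟶ (EtOver.pullbackObj fg Δ).obj.left := pullback.lift l.1 l'.1 hc
  have ht : (yon S).map t ≫ (EtOver.pullbackObj fg Δ).obj.hom = p.toHom := by
    change (yon S).map t ≫ (yon S).map _ ≫ E.obj.hom = _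
    rw [← Category.assoc, ← Functor.map_comp, pullback.lift_fst]
    exact l.2
  refine ⟨⟨EtOver.pullbackObj fg Δ, ⟨t, ht⟩⟩,
    CategoryOfElements.homMk _ _ (EtOver.pullbackFst fg Δ) (Subtype.ext (pullback.lift_fst _ _ _)), ?_⟩
  apply CategoryOfElements.ext
  change EtOver.pullbackFst fg Δ ≫ f.val = EtOver.pullbackFst fg Δ ≫ g.val
  rw [← hfg₁, ← hfg₂, ← Category.assoc, ← Category.assoc, EtOver.pullback_condition, Category.assoc,
    Category.assoc, hΔ₁, hΔ₂]

theorem isCofiltered_etNbhd (hX : IsAlgSpace X) (hp : p.IsGeometric) : IsCofiltered (EtNbhd p) := by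
  have : IsCofilteredOrEmpty (EtNbhd p) := ⟨etNbhd_cone_objs, fun _ _ f g => etNbhd_cone_maps f g⟩
  obtain ⟨U, a, ha, l, hl⟩ := exists_atlas_nbhd p hX hp
  exact { nonempty := ⟨⟨EtOver.mk a ha, ⟨l, hl⟩⟩⟩ }

theorem initiallySmall_etNbhd (hX : IsAlgSpace X) (hp : p.IsGeometric) :
    InitiallySmall.{u} (EtNbhd p) := by
  have := isCofiltered_etNbhd hX hp
  obtain ⟨U, a, ha, l₀, hl₀⟩ := exists_atlas_nbhd p hX hp
  refine initiallySmall_of_essentiallySmall_weakly_initial_objectProperty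
    (Functor.Elements.precomp (Scheme.AffineEtale.Spec U.left ⋙ EtOver.ofChart a ha)
      (FieldPt.liftsTo p)).essImage ?_
  rintro ⟨E, l⟩
  let W : EtOver X := EtOver.prodObj (EtOver.mk a ha) E
  let t : p.pt ⟶ W.obj.left := E.property.1.lift' l.1 l₀ (l.2.trans hl₀.symm)
  obtain ⟨R, j, hjo, hj, -⟩ := Scheme.exists_affine_mem_range_and_range_subset
    (x := t.left (default : Spec (CommRingCat.of p.K))) (U := (⊤ : W.obj.left.left.Opens)) trivial
  have := hjo
  have := EtOver.etale_left (EtOver.prodFst (EtOver.mk a ha) E)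
  have : Etale (j ≫ (EtOver.prodFst (EtOver.mk a ha) E).hom.left.left) := inferInstance
  let V : U.left.AffineEtale :=
    Scheme.AffineEtale.mk (j ≫ (EtOver.prodFst (EtOver.mk a ha) E).hom.left.left)
  let V' : EtOver X := (Scheme.AffineEtale.Spec U.left ⋙ EtOver.ofChart a ha).obj V
  let jO : V'.obj.left ⟶ W.obj.left := Over.homMk j (by
    change j ≫ W.obj.left.hom = (j ≫ (EtOver.prodFst (EtOver.mk a ha) E).hom.left.left) ≫ U.hom
    rw [Category.assoc]
    exact congrArg (j ≫ ·) (Over.w (EtOver.prodFst (EtOver.mk a ha) E).hom.left).symm)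
  let q : V' ⟶ W := EtOver.homMk jO (by
    change (yon S).map jO ≫ (yon S).map _ ≫ a = (yon S).map _ ≫ a
    rw [← Category.assoc, ← Functor.map_comp]
    rfl)
  have hrange : Set.range t.left ⊆ Set.range j := by
    rintro _ ⟨z, rfl⟩
    rwa [Subsingleton.elim (α := ↥(Spec (CommRingCat.of p.K))) z default]
  have : IsOpenImmersion jO.left := hjo
  let s : p.pt ⟶ V'.obj.left := Over.homMk (IsOpenImmersion.lift j t.left hrange) (by
    rw [← Over.w jO]
    change IsOpenImmersion.lift j t.left hrange ≫ j ≫ W.obj.left.hom = p.str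
    rw [IsOpenImmersion.lift_fac_assoc]
    exact Over.w t)
  have hs : s ≫ jO = t := Over.OverMorphism.ext (IsOpenImmersion.lift_fac _ _ _)
  have hs' : (yon S).map s ≫ V'.obj.hom = p.toHom := by
    rw [← EtOver.w q, ← Category.assoc, ← Functor.map_comp]
    change (yon S).map (s ≫ jO) ≫ _ = _
    rw [hs]
    change (yon S).map t ≫ (yon S).map _ ≫ a = _
    rw [← Category.assoc, ← Functor.map_comp, Functor.relativelyRepresentable.lift'_snd]
    exact hl₀
  refine ⟨⟨V', ⟨s, hs'⟩⟩, ⟨⟨V, ⟨s, hs'⟩⟩, ⟨Iso.refl _⟩⟩,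
    ⟨CategoryOfElements.homMk _ _ (q ≫ EtOver.prodSnd (EtOver.mk a ha) E) (Subtype.ext ?_)⟩⟩
  change s ≫ jO ≫ _ = l.1
  rw [← Category.assoc, hs]
  exact Functor.relativelyRepresentable.lift'_fst _ _ _ _

variable (p) in
/-- The point of the small etale site defined by a geometric point. -/
noncomputable def etPoint (hX : IsAlgSpace X) (hp : p.IsGeometric) :
    GrothendieckTopology.Point.{u} (etTop X) where
  fiber := FieldPt.liftsTo p
  isCofiltered := isCofiltered_etNbhd hX hp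
  initiallySmall := initiallySmall_etNbhd hX hp
  jointly_surjective := exists_lift_of_mem_etTop hp

end Groth.Agent.H12AlgSp
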