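import Groth.Agent.H12AlgSp.EtStalk
import Groth.Prelude.Def_AlgSpOX
import Groth.Prelude.Def_ModSite

/-!
Open subschemes as objects of the small etale site; the site is locally ringed.
-/

set_option backward.isDefEq.respectTransparency false

universe u

open CategoryTheory CategoryTheory.Limits AlgebraicGeometry Opposite
open AlgSp

namespace Groth.Agent.H12AlgSp

variable {S : Scheme.{u}} {X : Sp S}

/-- An open subscheme of an object of the small etale site. -/
noncomputable def etOpen (E : EtOver X) (V : E.obj.left.left.Opens) : EtOver X :=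
  EtOver.mk ((yon S).map (Over.homMk V.ι rfl : Over.mk (V.ι ≫ E.obj.left.hom) ⟶ E.obj.left) ≫ E.obj.hom)
    ((repWith_isMultiplicative (S := S) @Etale).comp_mem _ _
      ((repWith_yon_map_iff _ _).2 (show Etale V.ι from inferInstance)) E.property)

/-- The inclusion of an open subscheme. -/
noncomputable def etOpenι (E : EtOver X) (V : E.obj.left.left.Opens) : etOpen E V ⟶ E :=
  EtOver.homMk (Over.homMk V.ι rfl) rfl

theorem isUnit_OEt_map_open (E : EtOver X) (f : (OEt X).obj.obj (op E)) :
    IsUnit (((OEt X).obj.map (etOpenι E (E.obj.left.left.basicOpen f.down)).op).hom f) := by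
  let V := E.obj.left.left.basicOpen f.down
  have hb : V.toScheme.basicOpen (V.ι.appTop f.down) = ⊤ := by
    rw [← Scheme.preimage_basicOpen_top]
    exact top_le_iff.1 fun x _ => x.2
  have h : IsUnit ((V.ι).appTop f.down) :=
    RingedSpace.isUnit_of_isUnit_germ V.toScheme.toRingedSpace ⊤ _ fun x hx =>
      (Scheme.mem_basicOpen_top _ _ x).1 (hb.ge hx)
  change IsUnit (ULift.up ((V.ι).appTop f.down) : ULift.{u + 1} _)
  exact h.map ULift.ringEquiv.symm

theorem isLocallyRinged_OEt : ModSite.IsLocallyRinged (etTop X) (OEt X) := by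
  refine ⟨fun E f => ?_, fun E h => mem_etTop_of_forall_point _ fun x => ?_⟩
  · let R : Sieve E :=
      { arrows := fun V g => IsUnit (((OEt X).obj.map g.op).hom f) ∨ IsUnit (((OEt X).obj.map g.op).hom (1 - f))
        downward_closed := fun {V W g} hg k => by
          rw [op_comp, Functor.map_comp]
          exact hg.imp (fun h => h.map ((OEt X).obj.map k.op).hom) (fun h => h.map ((OEt X).obj.map k.op).hom) }
    refine ⟨R, mem_etTop_of_forall_point _ fun x => ?_, fun V g hg => hg⟩
    by_cases hx : x ∈ E.obj.left.left.basicOpen f.down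
    · exact ⟨_, etOpenι E _, (⟨x, hx⟩ : E.obj.left.left.basicOpen f.down), Or.inl (isUnit_OEt_map_open E f), rfl⟩
    · have hx' : x ∈ E.obj.left.left.basicOpen (1 - f).down := by
        change x ∈ E.obj.left.left.basicOpen (1 - f.down)
        rw [Scheme.mem_basicOpen_top] at hx ⊢
        have := IsLocalRing.isUnit_or_isUnit_one_sub_self
          (E.obj.left.left.presheaf.germ ⊤ x trivial f.down)
        rw [map_sub, map_one]
        exact this.resolve_left hx
      exact ⟨_, etOpenι E _, (⟨x, hx'⟩ : E.obj.left.left.basicOpen (1 - f).down),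
        Or.inr (isUnit_OEt_map_open E (1 - f)), rfl⟩
  · exfalso
    have h' : (0 : Γ(E.obj.left.left, ⊤)) = 1 := congrArg ULift.down h
    exact zero_ne_one (((map_zero (E.obj.left.left.presheaf.germ ⊤ x trivial).hom).symm.trans
      (congrArg _ h')).trans (map_one (E.obj.left.left.presheaf.germ ⊤ x trivial).hom))

end Groth.Agent.H12AlgSp
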