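import Groth.Agent.H12AlgSp.LimitBaseChange
import Groth.Agent.H12AlgSp.UnivInj
import Groth.Agent.H7Lim.Descend

/-!
Descent of properties of morphisms along limits of algebraic spaces with affine transition maps:
reduction to a base change of the first stage, and properties which are etale local on the source.
-/

universe u

open CategoryTheory CategoryTheory.Limits AlgebraicGeometry Opposite
open AlgSp Groth.Agent.H13AlgSp

set_option backward.isDefEq.respectTransparency false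

attribute [local instance] CategoryTheory.isConnected_of_hasTerminal

namespace Groth.Agent.H12AlgSp

variable {S : Scheme.{u}}

/-- The data of a system of quasi-compact quasi-separated spaces with affine transition maps. -/
structure QcqsSystem {J : Type u} [SmallCategory J] (E : J ⥤ Sp S) (d : Cone E) : Prop where
  alg : ∀ j, IsAlgSpace (E.obj j)
  affine : ∀ (j k : J) (φ : j ⟶ k), IsAffineMor (E.map φ)
  isLimit : Nonempty (IsLimit d)
  qc : ∀ j, IsQuasiCompactSp (E.obj j)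
  qs : ∀ j, IsQuasiSeparatedSp (E.obj j)

/-- `P` descends for morphisms satisfying `Q` to the stage of the base: the shape of the reduced statements. -/
def DescendsToBase (P Q : MorphismProperty (Sp S)) : Prop :=
  ∀ {J : Type u} [SmallCategory J] [IsCofiltered J] (E : J ⥤ Sp S) (d : Cone E), QcqsSystem E d → ∀ (e : J)
    (X₀ : Sp S) (f₀ : X₀ ⟶ E.obj e), IsAlgSpace X₀ → IsQuasiCompactSp X₀ → IsQuasiSeparatedSp X₀ → Q f₀ →
    ∀ (X : Sp S) (f : X ⟶ d.pt) (pX : X ⟶ X₀), IsPullback pX f f₀ (d.π.app e) → P f →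
    ∃ (j : J) (φ : j ⟶ e), ∀ (Z : Sp S) (g : Z ⟶ E.obj j), IsIso g → ∀ (Xj : Sp S) (fj : Xj ⟶ Z) (p : Xj ⟶ X₀),
      IsPullback p fj f₀ (g ≫ E.map φ) → P fj

variable {I : Type u} [SmallCategory I] [IsCofiltered I]

/-- Descent along `b₀ : Y₀ ⟶ D i₀` from descent to the base. -/
theorem descend_of_base {P Q Q' : MorphismProperty (Sp S)} (H : DescendsToBase P Q)
    (hQ : ∀ {X Y Y' : Sp S} (f : X ⟶ Y) (e : Y ⟶ Y'), IsIso e → IsAlgSpace X → IsAlgSpace Y → IsAlgSpace Y' →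
      Q' (f ≫ e) → Q f)
    {D : I ⥤ Sp S} (hD : ∀ i, IsAlgSpace (D.obj i)) (hDa : ∀ (i j : I) (φ : i ⟶ j), IsAffineMor (D.map φ))
    {c : Cone D} (hc : IsLimit c) {i₀ : I} {X₀ Y₀ : Sp S} (f₀ : X₀ ⟶ Y₀) (b₀ : Y₀ ⟶ D.obj i₀)
    (hX₀ : IsAlgSpace X₀) (hY₀ : IsAlgSpace Y₀)
    (hXqc : IsQuasiCompactSp X₀) (hXqs : IsQuasiSeparatedSp X₀)
    (hYqc : IsQuasiCompactSp Y₀) (hYqs : IsQuasiSeparatedSp Y₀) (hf₀ : Q' f₀)
    {X Y : Sp S} {f : X ⟶ Y} {pY : Y ⟶ Y₀} {qY : Y ⟶ c.pt}
    (hY : IsPullback pY qY b₀ (c.π.app i₀)) {pX : X ⟶ X₀} (hX : IsPullback pX f f₀ pY) (hf : P f) :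
    ∃ (i : I) (φ : i ⟶ i₀), ∀ (Xi Yi : Sp S) (fi : Xi ⟶ Yi) (pYi : Yi ⟶ Y₀) (qYi : Yi ⟶ D.obj i)
      (_ : IsPullback pYi qYi b₀ (D.map φ)) (pXi : Xi ⟶ X₀) (_ : IsPullback pXi fi f₀ pYi), P fi := by
  let e₀ : Over i₀ := Over.mk (𝟙 i₀)
  let b : (bcDiagram D b₀).obj e₀ ⟶ Y₀ := pullback.fst b₀ (D.map (𝟙 i₀))
  have : IsIso (D.map (𝟙 i₀)) := by rw [CategoryTheory.Functor.map_id]; infer_instance
  have : IsIso b := inferInstanceAs (IsIso (pullback.fst b₀ (D.map (𝟙 i₀))))
  have hE : QcqsSystem (bcDiagram D b₀) (bcCone D b₀ hY) :=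
    ⟨isAlgSpace_bcDiagram hD hY₀, isAffineMor_bcDiagram_map hDa, nonempty_isLimit_bcCone D b₀ hY hc,
      isQuasiCompactSp_bcDiagram hD hDa hY₀ hYqc, isQuasiSeparatedSp_bcDiagram hDa hYqs⟩
  have hπb : (bcCone D b₀ hY).π.app e₀ ≫ b = pY := pullback.lift_fst _ _ _
  obtain ⟨e, ψ, he⟩ := H (bcDiagram D b₀) (bcCone D b₀ hY) hE e₀ X₀ (f₀ ≫ inv b) hX₀ hXqc hXqs
    (hQ (f₀ ≫ inv b) b ‹_› hX₀ (hE.alg _) hY₀ (by simpa using hf₀)) X f pX
    (isPullback_cancel_mono b (by rw [Category.assoc, IsIso.inv_hom_id, Category.comp_id, hπb]; exact hX)) hf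
  refine ⟨e.left, e.hom, fun Xi Yi fi pYi qYi hYi pXi hXi => ?_⟩
  refine he Yi hYi.isoPullback.hom inferInstance Xi fi pXi (isPullback_cancel_mono b ?_)
  rw [Category.assoc, IsIso.inv_hom_id, Category.comp_id, Category.assoc]
  change IsPullback pXi fi f₀ (hYi.isoPullback.hom ≫ (bcDiagram D b₀).map ψ ≫ pullback.fst b₀ (D.map e₀.hom))
  rw [bcDiagram_map_fst, IsPullback.isoPullback_hom_fst]
  exact hXi

theorem locP_of_comp_iso {P : MorphismProperty Scheme.{u}} (hP : EtLocal P) {X Y Y' : Sp S} (f : X ⟶ Y)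
    (e : Y ⟶ Y') (he : IsIso e) (hX : IsAlgSpace X) (hY : IsAlgSpace Y) (hY' : IsAlgSpace Y')
    (h : LocP P (f ≫ e)) : LocP P f :=
  locP_of_isPullback hP (IsPullback.of_horiz_isIso ⟨by rw [Category.id_comp]⟩ : IsPullback (𝟙 X) f (f ≫ e) e)
    hX hY' hY h

/-- An affine atlas of the source over the atlases of the base, and its base changes. -/
theorem exists_source_chart [QuasiSeparatedSpace S] {J : Type u} [SmallCategory J] [IsCofiltered J]
    {E : J ⥤ Sp S} {d : Cone E} (h : QcqsSystem E d) {e : J} {X₀ : Sp S} (f₀ : X₀ ⟶ E.obj e)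
    (hX₀ : IsAlgSpace X₀) (hXqc : IsQuasiCompactSp X₀) (A : AtlasSystem E d e) :
    ∃ (W : Over S) (a : (yon S).obj W ⟶ X₀) (k : W ⟶ A.U.obj (Over.mk (𝟙 e))), IsAffine W.left ∧
      RepWith @Etale a ∧ RepWith @Surjective a ∧ a ≫ f₀ = (yon S).map k ≫ A.a (Over.mk (𝟙 e)) ∧
      ∀ x₀ u, Points.map f₀ x₀ = Points.ofPt (A.a (Over.mk (𝟙 e))) u → ∃ v, Points.ofPt a v = x₀ ∧ k.left v = u := by
  let a₀ := A.a (Over.mk (𝟙 e))
  have hq := isQuasiCompactMor_of_qc_qs hX₀ (h.alg e) f₀ hXqc (h.qs e)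
  have := A.affine (Over.mk (𝟙 e))
  have hP : IsAlgSpace (pullback f₀ a₀) := isAlgSpace_pullback (h.alg e).diag hX₀ (IsAlgSpace.yon_obj _) f₀ a₀
  have := compactSpace_points_of_isQuasiCompactSp (isQuasiCompactMor_pullback hq _ a₀)
  obtain ⟨W, w, hW, hw, hws⟩ := exists_affine_atlas hP
  obtain ⟨k, hk⟩ := (yon S).map_surjective (w ≫ pullback.snd f₀ a₀)
  refine ⟨W, w ≫ pullback.fst f₀ a₀, k, hW,
    repWith_comp hw (repWith_of_isPullback (IsPullback.of_hasPullback f₀ a₀).flip (A.etale _)),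
    repWith_comp hws (repWith_of_isPullback (IsPullback.of_hasPullback f₀ a₀).flip (A.surjective _)),
    by rw [hk, Category.assoc, Category.assoc, pullback.condition], fun x₀ u hu => ?_⟩
  obtain ⟨z, hz₁, hz₂⟩ := exists_point_of_isPullback (IsPullback.of_hasPullback f₀ a₀) x₀
    (Points.ofScheme _ u) (hu.trans (Points.ofPt_eq_map_ofScheme _ _))
  obtain ⟨v, rfl⟩ := surjective_ofPt_of_repWith le_rfl hws z
  refine ⟨v, by rw [← hz₁, Points.map_ofPt], (Points.schemeEquiv _).injective ?_⟩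
  rw [Points.map_ofPt, ← hk, ← Category.comp_id ((yon S).map k), ofPt_map] at hz₂
  exact ((Points.ofPt_eq_map_ofScheme _ _).trans (Points.map_id _)).symm.trans hz₂

/-- Properties which are etale local on source and target descend. -/
theorem descendsToBase_locP [QuasiSeparatedSpace S] {P Q : MorphismProperty Scheme.{u}}
    [P.IsStableUnderBaseChange] [Q.IsStableUnderBaseChange] (hP : EtLocal P)
    (hdesc : Groth.Agent.H7Lim.DescendsAffine P Q) :
    DescendsToBase (S := S) (LocP P) (LocP Q) := by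
  intro J _ _ E d h e X₀ f₀ hX₀ hXqc hXqs hQ X f pX hX hf
  obtain ⟨hd⟩ := h.isLimit
  obtain ⟨A⟩ := exists_atlasSystem_of_qc h.affine hd h.alg e (h.qc e)
  let j₀ : Over e := Over.mk (𝟙 e)
  obtain ⟨W, a, k, hW, ha, has, hak, -⟩ := exists_source_chart h f₀ hX₀ hXqc A
  -- the chart of the limit
  let kl := pullback.snd k (A.cU.π.app j₀)
  have sqk : IsPullback ((yon S).map (pullback.fst k (A.cU.π.app j₀))) ((yon S).map kl ≫ A.aLim) (a ≫ f₀)
      (d.π.app e) := by
    rw [hak]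
    exact ((IsPullback.of_hasPullback k (A.cU.π.app j₀)).map (yon S)).paste_vert (A.sqLim j₀)
  let aX := hX.lift ((yon S).map (pullback.fst k (A.cU.π.app j₀)) ≫ a) ((yon S).map kl ≫ A.aLim)
    (by rw [Category.assoc]; exact sqk.w)
  have haXf : aX ≫ f = (yon S).map kl ≫ A.aLim := hX.lift_snd _ _ _
  have sqa : IsPullback ((yon S).map (pullback.fst k (A.cU.π.app j₀))) aX a pX :=
    IsPullback.of_bot (by rw [haXf]; exact sqk) (hX.lift_fst _ _ _).symm hX
  have hPl : P kl.left := hf aX A.aLim kl (repWith_of_isPullback sqa ha) A.etaleLim haXf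
  have hQk : Q k.left := hQ a _ k ha (A.etale _) hak
  have hlim : IsLimit ((Over.forget S).mapCone A.cU) := isLimitOfPreserves _ A.isLimit
  have : ∀ j, IsAffine ((A.U ⋙ Over.forget S).obj j) := fun j => A.affine j
  have : IsAffine W.left := hW
  have : QuasiSeparatedSpace W.left := inferInstance
  obtain ⟨l, ψ, hl⟩ := hdesc (Over e) (A.U ⋙ Over.forget S) _ hlim j₀
    (show W.left ⟶ (A.U ⋙ Over.forget S).obj j₀ from k.left) hQk
    ((Groth.Agent.H7Lim.prop_iff_of_isPullback ((IsPullback.of_hasPullback k (A.cU.π.app j₀)).map (Over.forget S))).1 hPl)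
  have hψ : ψ.left = l.hom := by simpa [j₀] using Over.w ψ
  refine ⟨l.left, l.hom, fun Z g hg Xj fj p hXj => ?_⟩
  have sqA : IsPullback ((yon S).map (A.U.map ψ)) (A.a l ≫ inv g) (A.a j₀) (g ≫ E.map l.hom) := by
    have := (A.sq ψ).paste_vert (IsPullback.of_vert_isIso ⟨by
      rw [IsIso.inv_hom_id_assoc, Category.comp_id]⟩ : IsPullback (E.map ψ.left) (inv g) (𝟙 _) (g ≫ E.map ψ.left))
    rwa [Category.comp_id, hψ] at this
  let ks := pullback.snd k (A.U.map ψ)
  have sqs : IsPullback ((yon S).map (pullback.fst k (A.U.map ψ))) ((yon S).map ks ≫ A.a l ≫ inv g) (a ≫ f₀)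
      (g ≫ E.map l.hom) := by
    rw [hak]
    exact ((IsPullback.of_hasPullback k (A.U.map ψ)).map (yon S)).paste_vert sqA
  let aj := hXj.lift ((yon S).map (pullback.fst k (A.U.map ψ)) ≫ a) ((yon S).map ks ≫ A.a l ≫ inv g)
    (by rw [Category.assoc]; exact sqs.w)
  have hajf : aj ≫ fj = (yon S).map ks ≫ A.a l ≫ inv g := hXj.lift_snd _ _ _
  have sqj : IsPullback ((yon S).map (pullback.fst k (A.U.map ψ))) aj a p :=
    IsPullback.of_bot (by rw [hajf]; exact sqs) (hXj.lift_fst _ _ _).symm hXj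
  exact locP_of_one_chart hP ks (repWith_of_isPullback sqj ha) (repWith_of_isPullback sqj has)
    (MorphismProperty.RespectsIso.postcomp _ _ _ (A.etale l)) hajf
    ((Groth.Agent.H7Lim.prop_iff_of_isPullback ((IsPullback.of_hasPullback k (A.U.map ψ)).map (Over.forget S))).2 hl)

/-- Surjectivity descends. -/
theorem descendsToBase_surjective [QuasiSeparatedSpace S]
    (hdesc : Groth.Agent.H7Lim.DescendsAffine.{u} @Surjective @LocallyOfFinitePresentation) :
    DescendsToBase (S := S) IsSurjectiveMor (LocP @LocallyOfFinitePresentation) := by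
  intro J _ _ E d h e X₀ f₀ hX₀ hXqc hXqs hQ X f pX hX hf
  obtain ⟨hd⟩ := h.isLimit
  obtain ⟨A⟩ := exists_atlasSystem_of_qc h.affine hd h.alg e (h.qc e)
  let j₀ : Over e := Over.mk (𝟙 e)
  obtain ⟨W, a, k, hW, ha, has, hak, hpt⟩ := exists_source_chart h f₀ hX₀ hXqc A
  have hQk : LocallyOfFinitePresentation k.left := hQ a _ k ha (A.etale _) hak
  have hlim : IsLimit ((Over.forget S).mapCone A.cU) := isLimitOfPreserves _ A.isLimit
  have : ∀ j, IsAffine ((A.U ⋙ Over.forget S).obj j) := fun j => A.affine j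
  have : IsAffine W.left := hW
  have : QuasiSeparatedSpace W.left := inferInstance
  have hPl : Surjective (pullback.snd k (A.cU.π.app j₀)).left := ⟨fun u => by
    obtain ⟨x, hx⟩ := hf (Points.ofPt A.aLim u)
    obtain ⟨v, -, hv⟩ := hpt (Points.map pX x) ((A.cU.π.app j₀).left u) (by
      rw [← Points.map_comp, hX.w, Points.map_comp, hx, Points.map_ofPt, show A.aLim ≫ d.π.app e = A.aLim ≫ d.π.app j₀.left from rfl, ← (A.sqLim j₀).w, ofPt_map]
      rfl)
    obtain ⟨z, -, hz⟩ := Scheme.Pullback.exists_preimage_pullback (f := k.left) (g := (A.cU.π.app j₀).left) v u hv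
    exact ⟨((IsPullback.of_hasPullback k (A.cU.π.app j₀)).map (Over.forget S)).isoPullback.inv z, by
      change (((IsPullback.of_hasPullback k (A.cU.π.app j₀)).map (Over.forget S)).isoPullback.inv ≫
        (Over.forget S).map (pullback.snd k (A.cU.π.app j₀))) z = u
      rw [IsPullback.isoPullback_inv_snd]
      exact hz⟩⟩
  obtain ⟨l, ψ, hl⟩ := hdesc (Over e) (A.U ⋙ Over.forget S) _ hlim j₀
    (show W.left ⟶ (A.U ⋙ Over.forget S).obj j₀ from k.left) hQk
    ((Groth.Agent.H7Lim.prop_iff_of_isPullback (P := @Surjective)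
      ((IsPullback.of_hasPullback k (A.cU.π.app j₀)).map (Over.forget S))).1 hPl)
  have hψ : ψ.left = l.hom := by simpa [j₀] using Over.w ψ
  refine ⟨l.left, l.hom, fun Z g hg Xj fj p hXj z => ?_⟩
  obtain ⟨u, hu⟩ := surjective_ofPt_of_repWith le_rfl (A.surjective l) (Points.map g z)
  have hl' : Surjective (pullback.snd k (A.U.map ψ)).left :=
    (Groth.Agent.H7Lim.prop_iff_of_isPullback (P := @Surjective)
      ((IsPullback.of_hasPullback k (A.U.map ψ)).map (Over.forget S))).2 hl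
  obtain ⟨w, hw⟩ := hl'.surj u
  have key : Points.map f₀ (Points.ofPt a ((pullback.fst k (A.U.map ψ)).left w)) =
      Points.map (g ≫ E.map l.hom) z := by
    rw [Points.map_ofPt, hak, ← ofPt_map, ← Category.assoc, ← Functor.map_comp, pullback.condition,
      Functor.map_comp, Category.assoc, (A.sq ψ).w, hψ, ofPt_map, hw, Points.map_comp, ← hu, Points.map_ofPt]
  obtain ⟨q, -, hq⟩ := exists_point_of_isPullback hXj _ z key
  exact ⟨q, hq⟩

end Groth.Agent.H12AlgSp
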