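import Groth.Agent.H12AlgSp.LimitDescendAffine
import Groth.Agent.H7Lim.DescendIso
import Groth.Agent.H7Lim.DescendAffine

/-!
Descent along limits of isomorphisms, monomorphisms, universally injective and separated morphisms.
-/

universe u

open CategoryTheory CategoryTheory.Limits AlgebraicGeometry Opposite
open AlgSp Groth.Agent.H13AlgSp

set_option backward.isDefEq.respectTransparency false

namespace Groth.Agent.H12AlgSp

variable {S : Scheme.{u}}

theorem isIso_of_repWith_isomorphisms {X Y : Sp S} {f : X ⟶ Y}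
    (h : RepWith (MorphismProperty.isomorphisms Scheme.{u}) f) : IsIso f := by
  have : Mono f := mono_of_repWith (fun _ _ k (_ : IsIso k) => (inferInstance : Mono k)) h
  refine isIso_of_mono_of_local_lifts _ fun T y => ⟨PUnit.{u + 1}, fun _ => T, fun _ => 𝟙 T, identity_cover T,
    fun _ => ?_⟩
  obtain ⟨W, w, k, sq⟩ := h.rep y
  have : IsIso ((Over.forget S).map w) := h.property y k w sq
  have : IsIso w := isIso_of_reflects_iso w (Over.forget S)
  refine ⟨(yon S).map (inv w) ≫ k, ?_⟩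
  rw [Category.assoc, sq.w, ← Category.assoc, ← Functor.map_comp, IsIso.inv_hom_id]

theorem descendsAffine_isomorphisms : Groth.Agent.H7Lim.DescendsAffine.{u}
    (MorphismProperty.isomorphisms Scheme.{u}) @LocallyOfFinitePresentation := by
  intro J _ _ D c hc _ _ i T a _ _ hQ hP
  exact Groth.Agent.H7Lim.descends_isIso J D c hc i a hQ hP

variable {I : Type u} [SmallCategory I] [IsCofiltered I] {D : I ⥤ Sp S} {c : Cone D} {i₀ : I}

/-- Descent of a property of diagonals. -/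
theorem descend_diagonal [QuasiSeparatedSpace S] {P Q Q' : MorphismProperty (Sp S)} (H : DescendsToBase P Q)
    (hQ : ∀ {X Y Y' : Sp S} (f : X ⟶ Y) (e : Y ⟶ Y'), IsIso e → IsAlgSpace X → IsAlgSpace Y → IsAlgSpace Y' →
      Q' (f ≫ e) → Q f)
    (hD : ∀ i, IsAlgSpace (D.obj i)) (hDa : ∀ (i j : I) (φ : i ⟶ j), IsAffineMor (D.map φ)) (hc : IsLimit c)
    {X₀ Y₀ : Sp S} (f₀ : X₀ ⟶ Y₀) (b₀ : Y₀ ⟶ D.obj i₀) (hX₀ : IsAlgSpace X₀) (hY₀ : IsAlgSpace Y₀)
    (hXqc : IsQuasiCompactSp X₀) (hXqs : IsQuasiSeparatedSp X₀)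
    (hYqs : IsQuasiSeparatedSp Y₀) (hf₀ : Q' (pullback.diagonal f₀))
    {X Y : Sp S} {f : X ⟶ Y} {pY : Y ⟶ Y₀} {qY : Y ⟶ c.pt}
    (hY : IsPullback pY qY b₀ (c.π.app i₀)) {pX : X ⟶ X₀} (hX : IsPullback pX f f₀ pY)
    (hf : P (pullback.diagonal f)) :
    ∃ (i : I) (φ : i ⟶ i₀), ∀ (Xi Yi : Sp S) (fi : Xi ⟶ Yi) (pYi : Yi ⟶ Y₀) (qYi : Yi ⟶ D.obj i)
      (_ : IsPullback pYi qYi b₀ (D.map φ)) (pXi : Xi ⟶ X₀) (_ : IsPullback pXi fi f₀ pYi),
      P (pullback.diagonal fi) := by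
  have hP₁ : IsAlgSpace (pullback f₀ f₀) := isAlgSpace_pullback hY₀.diag hX₀ hX₀ f₀ f₀
  have hP₁s : IsQuasiSeparatedSp (pullback f₀ f₀) := isQuasiSeparatedSp_pullback hXqs hXqs f₀ f₀
  have hq := isQuasiCompactMor_of_qc_qs hX₀ hY₀ f₀ hXqc hYqs
  have hP₁c : IsQuasiCompactSp (pullback f₀ f₀) := hq hX₀ hXqc f₀ _ _ (IsPullback.of_hasPullback f₀ f₀)
  have key : ∀ {B X' Y' : Sp S} {f' : X' ⟶ Y'} {p : Y' ⟶ Y₀} {q : Y' ⟶ B} {s : B ⟶ D.obj i₀}
      (_ : IsPullback p q b₀ s) {p' : X' ⟶ X₀} (hX' : IsPullback p' f' f₀ p),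
      IsPullback (pullback.map f' f' f₀ f₀ p' p' p hX'.w.symm hX'.w.symm) (pullback.fst f' f' ≫ f' ≫ q)
        (pullback.fst f₀ f₀ ≫ f₀ ≫ b₀) s := fun {B X' Y' f' p q s} hp {p'} hX' => by
    have h₁ : IsPullback (pullback.map f' f' f₀ f₀ p' p' p hX'.w.symm hX'.w.symm) (pullback.fst f' f' ≫ f')
        (pullback.fst f₀ f₀ ≫ f₀) p := by
      have h₀ : IsPullback (pullback.map f' f' f₀ f₀ p' p' p hX'.w.symm hX'.w.symm) (pullback.fst f' f')
          (pullback.fst f₀ f₀) p' := by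
        refine IsPullback.of_right (h₁₂ := pullback.snd f₀ f₀) (v₁₃ := f₀) (h₂₂ := f₀) ?_
          (pullback.lift_fst _ _ _) (IsPullback.of_hasPullback f₀ f₀).flip
        rw [pullback.lift_snd, hX'.w]
        exact ((IsPullback.of_hasPullback f' f').flip.paste_horiz hX')
      exact h₀.paste_vert hX'
    have := h₁.paste_vert hp
    simpa only [Category.assoc] using this
  obtain ⟨i, φ, hi⟩ := descend_of_base H hQ hD hDa hc (pullback.diagonal f₀)
    (pullback.fst f₀ f₀ ≫ f₀ ≫ b₀) hX₀ hP₁ hXqc hXqs hP₁c hP₁s hf₀ (key hY hX) (isPullback_diagonal hX) hf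
  exact ⟨i, φ, fun Xi Yi fi pYi qYi hYi pXi hXi =>
    hi _ _ _ _ _ (key hYi hXi) pXi (isPullback_diagonal hXi)⟩

end Groth.Agent.H12AlgSp
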