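import Groth.Agent.H12AlgSp.LimitPres
import Groth.Agent.H12AlgSp.LocP
import Groth.Agent.H12AlgSp.Diagonal
import Groth.Agent.H7Lim.LFPCriterion
import Mathlib.AlgebraicGeometry.AffineTransitionLimit

/-!
A morphism of algebraic spaces through which points of affine limits descend is locally of finite presentation.
-/

universe u

open CategoryTheory CategoryTheory.Limits AlgebraicGeometry Opposite
open AlgSp

set_option backward.isDefEq.respectTransparency false

namespace Groth.Agent.H12AlgSp

attribute [local instance] IsCofiltered.isConnected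

variable {S : Scheme.{u}}

theorem etale_le_diagonal :
    (@Etale : MorphismProperty Scheme.{u}) ≤ MorphismProperty.diagonal @Etale :=
  fun _ _ f (hf : Etale f) => inferInstanceAs (Etale (pullback.diagonal f))

/-- The points of `X` over a finite stage of an affine limit descend, relatively to `f`. -/
def RelSurjLP {X Y : Sp S} (f : X ⟶ Y) : Prop :=
  ∀ ⦃I : Type u⦄ [SmallCategory I] [IsCofiltered I] (D : I ⥤ Over S) (c : Cone D),
    IsLimit ((Over.forget S).mapCone c) → (∀ i, IsAffine (D.obj i).left) → IsAffine c.pt.left →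
    ∀ (x : (yon S).obj c.pt ⟶ X) (i : I) (y : (yon S).obj (D.obj i) ⟶ Y),
      x ≫ f = (yon S).map (c.π.app i) ≫ y →
      ∃ (i' : I) (φ : i' ⟶ i) (x' : (yon S).obj (D.obj i') ⟶ X),
        (yon S).map (c.π.app i') ≫ x' = x ∧ x' ≫ f = (yon S).map (D.map φ) ≫ y

/-- A section of an etale morphism over an affine limit descends to a stage. -/
theorem exists_section_stage {I : Type u} [SmallCategory I] [IsCofiltered I] (D : I ⥤ Over S) (c : Cone D)
    (hc : IsLimit ((Over.forget S).mapCone c)) (hD : ∀ i, IsAffine (D.obj i).left) {j : I} {E : Over S}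
    (z : E ⟶ D.obj j) [LocallyOfFinitePresentation z.left] (σ : c.pt ⟶ E) (hσ : σ ≫ z = c.π.app j) :
    ∃ (k : I) (φ : k ⟶ j) (τ : D.obj k ⟶ E), τ ≫ z = D.map φ ∧ c.π.app k ≫ τ = σ := by
  let E' : Over j ⥤ Scheme.{u} := Over.forget j ⋙ D ⋙ Over.forget S
  let t : E' ⟶ (Functor.const (Over j)).obj (D.obj j).left :=
    { app := fun k => (D.map k.hom).left
      naturality := fun k l m => by
        change (D.map m.left).left ≫ (D.map l.hom).left = (D.map k.hom).left ≫ 𝟙 _
        rw [Category.comp_id, ← Over.comp_left, ← Functor.map_comp, Over.w] }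
  let d : Cone E' := ((Over.forget S).mapCone c).whisker (Over.forget j)
  have hd : IsLimit d := (Functor.Initial.isLimitWhiskerEquiv (Over.forget j) ((Over.forget S).mapCone c)).symm hc
  have : ∀ k, IsAffine (E'.obj k) := fun k => hD k.left
  have : ∀ {k l : Over j} (m : k ⟶ l), IsAffineHom (E'.map m) := fun m => isAffineHom_of_isAffine _
  have : ∀ k, CompactSpace (E'.obj k) := fun k => inferInstance
  have : ∀ k, QuasiSeparatedSpace (E'.obj k) := fun k => inferInstance
  obtain ⟨k, τ, hτ₁, hτ₂⟩ := Scheme.exists_π_app_comp_eq_of_locallyOfFinitePresentation E' t z.left d hd σ.left (by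
    ext k
    change (c.π.app k.left).left ≫ (D.map k.hom).left = σ.left ≫ z.left
    rw [← Over.comp_left, c.w, ← Over.comp_left, hσ])
  refine ⟨k.left, k.hom, Over.homMk τ ?_, Over.OverMorphism.ext hτ₂, Over.OverMorphism.ext hτ₁⟩
  rw [← Over.w z, ← Category.assoc, hτ₂]
  exact Over.w (D.map k.hom)

/-- A morphism through which points of affine limits descend is locally of finite presentation. -/
theorem locP_lfp_of_relSurjLP {X Y : Sp S} {f : X ⟶ Y} (h : RelSurjLP f) :
    LocP @LocallyOfFinitePresentation f := by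
  intro U V a b hh ha hb comm
  refine H7Lim.locallyOfFinitePresentation_of_surjOn fun W hW => ?_
  intro J _ _ _ D t c hc hD j₀ g hg
  have hw : ∀ j, g ≫ hh.left = c.π.app j ≫ t.app j ≫ W.ι := fun j => by
    rw [hg]
    obtain ⟨k, a₁, a₂, -⟩ := IsCofilteredOrEmpty.cone_objs j₀ j
    have e : ∀ {i : Jᵒᵖ} (m : k ⟶ i), c.π.app i ≫ t.app i = c.π.app k ≫ t.app k := fun m => by
      rw [← c.w m, Category.assoc, t.naturality m]
      exact congrArg (c.π.app k ≫ ·) (Category.comp_id _)
    rw [← Category.assoc, ← Category.assoc, e a₁, e a₂]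
  let D' : Jᵒᵖ ⥤ Over S :=
    { obj := fun j => Over.mk (t.app j ≫ W.ι ≫ V.hom)
      map := fun {i j} m => Over.homMk (D.map m) (by
        change D.map m ≫ t.app j ≫ W.ι ≫ V.hom = t.app i ≫ W.ι ≫ V.hom
        rw [← Category.assoc, t.naturality m]
        exact congrArg (· ≫ W.ι ≫ V.hom) (Category.comp_id _))
      map_id := fun _ => Over.OverMorphism.ext (D.map_id _)
      map_comp := fun _ _ => Over.OverMorphism.ext (D.map_comp _ _) }
  let c' : Cone D' :=
    { pt := Over.mk (g ≫ U.hom)
      π :=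
      { app := fun j => Over.homMk (c.π.app j) (by
          change c.π.app j ≫ t.app j ≫ W.ι ≫ V.hom = g ≫ U.hom
          rw [← Over.w hh, ← Category.assoc g, hw j, Category.assoc, Category.assoc])
        naturality := fun i j m => Over.OverMorphism.ext (c.π.naturality m) } }
  have hc' : IsLimit ((Over.forget S).mapCone c') := hc
  have : ∀ j, IsAffine (D.obj j) := hD
  have hT : IsAffine c'.pt.left := Scheme.isAffine_of_isLimit c hc
  let g' : c'.pt ⟶ U := Over.homMk g
  let v : ∀ j, D'.obj j ⟶ V := fun j => Over.homMk (t.app j ≫ W.ι) (Category.assoc _ _ _)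
  have hgv : ∀ j, g' ≫ hh = c'.π.app j ≫ v j := fun j => Over.OverMorphism.ext (hw j)
  have hv : ∀ {i j : Jᵒᵖ} (m : i ⟶ j), D'.map m ≫ v j = v i := fun {i j} m => Over.OverMorphism.ext (by
    change D.map m ≫ t.app j ≫ W.ι = t.app i ≫ W.ι
    rw [← Category.assoc, t.naturality m]
    exact congrArg (· ≫ W.ι) (Category.comp_id _))
  obtain ⟨j, φ, x', hx₁, hx₂⟩ := h D' c' hc' hD hT ((yon S).map g' ≫ a) j₀ ((yon S).map (v j₀) ≫ b) (by
    rw [Category.assoc, comm, ← Category.assoc, ← Category.assoc, ← Functor.map_comp, ← Functor.map_comp, hgv])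
  let q : (yon S).obj (D'.obj j) ⟶ pullback f b :=
    pullback.lift x' ((yon S).map (v j)) (by rw [hx₂, ← Category.assoc, ← Functor.map_comp, hv])
  let e : (yon S).obj U ⟶ pullback f b := pullback.lift a ((yon S).map hh) comm
  have hpr : RepWith @Etale (pullback.fst f b) := repWith_of_isPullback (IsPullback.of_hasPullback f b).flip hb
  have he : RepWith @Etale e :=
    repWith_of_comp_rep e (pullback.fst f b) (repWith_le (P := @Etale) (Q := MorphismProperty.diagonal @Etale)
      etale_le_diagonal hpr) (by rwa [pullback.lift_fst])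
  obtain ⟨E, z, k₀, sq⟩ := he.rep q
  obtain ⟨k₁, rfl⟩ := (yon S).map_surjective k₀
  have hz : Etale z.left := he.property q _ z sq
  have hkv : k₁ ≫ hh = z ≫ v j := (yon S).map_injective (by
    rw [Functor.map_comp, Functor.map_comp, ← pullback.lift_snd a ((yon S).map hh) comm, ← Category.assoc,
      sq.w, Category.assoc, pullback.lift_snd])
  obtain ⟨σ₀, hσ₁, hσ₂⟩ := sq.exists_lift ((yon S).map g') ((yon S).map (c'.π.app j)) (by
    apply pullback.hom_ext
    · rw [Category.assoc, Category.assoc, pullback.lift_fst, pullback.lift_fst, hx₁]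
    · rw [Category.assoc, Category.assoc, pullback.lift_snd, pullback.lift_snd, ← Functor.map_comp,
        ← Functor.map_comp, hgv])
  obtain ⟨σ, rfl⟩ := (yon S).map_surjective σ₀
  have hσz : σ ≫ z = c'.π.app j := (yon S).map_injective (by rw [Functor.map_comp, hσ₂])
  have hσk : σ ≫ k₁ = g' := (yon S).map_injective (by rw [Functor.map_comp, hσ₁])
  obtain ⟨k, ψ, τ, hτ₁, hτ₂⟩ := exists_section_stage D' c' hc' hD z σ hσz
  refine ⟨k, (τ ≫ k₁).left, ?_, ?_⟩
  · change (τ ≫ k₁ ≫ hh).left = (v k).left
    rw [hkv, ← Category.assoc, hτ₁, hv]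
  · change (c'.π.app k ≫ τ ≫ k₁).left = g'.left
    rw [← Category.assoc, hτ₂, hσk]

theorem relSurjLP_of_relLP {X Y : Sp S} {f : X ⟶ Y} (h : RelLP f.hom) : RelSurjLP f := by
  intro I _ _ D c hc hD hT x i y hxy
  obtain ⟨j, φ, w, hw₁, hw₂⟩ := (h D c hc hD hT).1 i ((J S).uliftYonedaEquiv x) ((J S).uliftYonedaEquiv y) (by
    rw [← GrothendieckTopology.uliftYonedaEquiv_comp, hxy, GrothendieckTopology.uliftYonedaEquiv_naturality]
    rfl)
  refine ⟨j, φ, (J S).uliftYonedaEquiv.symm w, (J S).uliftYonedaEquiv.injective ?_,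
    (J S).uliftYonedaEquiv.injective ?_⟩
  · erw [← GrothendieckTopology.uliftYonedaEquiv_naturality]
    rw [Equiv.apply_symm_apply]
    exact hw₂
  · rw [GrothendieckTopology.uliftYonedaEquiv_comp, Equiv.apply_symm_apply, hw₁,
      GrothendieckTopology.uliftYonedaEquiv_naturality]

end Groth.Agent.H12AlgSp
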