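import Groth.Agent.H12AlgSp.LimitPresSheafify
import Groth.Agent.H12AlgSp.LimitPresLfp
import Groth.Agent.H12AlgSp.FinPres
import Groth.Agent.H12AlgSp.RepMisc

/-!
Morphisms of algebraic spaces locally of finite presentation are limit preserving.
-/

universe u

open CategoryTheory CategoryTheory.Limits AlgebraicGeometry Opposite
open AlgSp Groth.Agent.H13AlgSp

set_option backward.isDefEq.respectTransparency false

namespace Groth.Agent.H12AlgSp

variable {S : Scheme.{u}}

theorem equiv_map_comp {F : Sp S} {U V : Over S} (g : V ⟶ U) (m : (yon S).obj U ⟶ F) :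
    (J S).uliftYonedaEquiv ((yon S).map g ≫ m) = F.obj.map g.op ((J S).uliftYonedaEquiv m) :=
  (GrothendieckTopology.uliftYonedaEquiv_naturality.{u + 1} (J := J S) m g).symm

theorem symm_map_op {F : Sp S} {U V : Over S} (g : V ⟶ U) (w : F.obj.obj (op U)) :
    (J S).uliftYonedaEquiv.symm (F.obj.map g.op w) = (yon S).map g ≫ (J S).uliftYonedaEquiv.symm w := by
  apply (J S).uliftYonedaEquiv.injective
  rw [equiv_map_comp, Equiv.apply_symm_apply, Equiv.apply_symm_apply]

/-- A representable morphism locally of finite presentation descends sections. -/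
theorem relSurj_of_repWith {A B : Sp S} {g : A ⟶ B} (hg : RepWith @LocallyOfFinitePresentation g) :
    RelSurj g.hom := by
  intro I _ _ D c hc hD hT i x y hxy
  obtain ⟨E, z, k₀, sq⟩ := hg.rep ((J S).uliftYonedaEquiv.symm y)
  obtain ⟨σ₀, hσ₁, hσ₂⟩ := sq.exists_lift ((J S).uliftYonedaEquiv.symm x) ((yon S).map (c.π.app i)) (by
    apply (J S).uliftYonedaEquiv.injective
    rw [GrothendieckTopology.uliftYonedaEquiv_comp, Equiv.apply_symm_apply]
    rw [equiv_map_comp, Equiv.apply_symm_apply]
    exact hxy)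
  obtain ⟨σ, rfl⟩ := (yon S).map_surjective σ₀
  have hσz : σ ≫ z = c.π.app i := (yon S).map_injective (by rw [Functor.map_comp, hσ₂])
  have hz : LocallyOfFinitePresentation z.left := hg.property _ _ z sq
  obtain ⟨j, φ, τ, hτ₁, hτ₂⟩ := exists_section_stage D c hc hD z σ hσz
  refine ⟨j, φ, (J S).uliftYonedaEquiv ((yon S).map τ ≫ k₀), ?_, ?_⟩
  · rw [← GrothendieckTopology.uliftYonedaEquiv_comp, Category.assoc, sq.w, ← Category.assoc, ← Functor.map_comp,
      hτ₁, equiv_map_comp, Equiv.apply_symm_apply]
  · rw [← equiv_map_comp, ← Category.assoc, ← Functor.map_comp, hτ₂, hσ₁]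
    exact Equiv.apply_symm_apply _ _

theorem RelSurj.comp {F G H : PSp S} {a : F ⟶ G} {b : G ⟶ H} (ha : RelSurj a) (hb : RelSurj b) :
    RelSurj (a ≫ b) := by
  intro I _ _ D c hc hD hT i x g hx
  obtain ⟨j, f, g', hg₁, hg₂⟩ := hb D c hc hD hT i (a.app _ x) g (by simpa using hx)
  obtain ⟨k, e, z, hz₁, hz₂⟩ := ha D c hc hD hT j x g' hg₂.symm
  refine ⟨k, e ≫ f, z, ?_, hz₂⟩
  rw [NatTrans.comp_app_apply, hz₁, NatTrans.naturality_apply, hg₁, ← Functor.map_comp_apply, ← op_comp,
    ← Functor.map_comp]

/-- A morphism with diagonal locally of finite presentation descends equalities. -/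
theorem relInj_of_diagonal {X Y : Sp S} {f : X ⟶ Y}
    (hf : RepWith @LocallyOfFinitePresentation (pullback.diagonal f)) : RelInj f.hom := by
  intro I _ _ D c hc hD hT i y y' hy h
  let Δ := pullback.diagonal f
  let q : (yon S).obj (D.obj i) ⟶ pullback f f :=
    pullback.lift ((J S).uliftYonedaEquiv.symm y) ((J S).uliftYonedaEquiv.symm y') (by
      apply (J S).uliftYonedaEquiv.injective
      simp only [GrothendieckTopology.uliftYonedaEquiv_comp, Equiv.apply_symm_apply, hy])
  have hpt : ∀ w : X.obj.obj (op (D.obj i)), (J S).uliftYonedaEquiv.symm (X.obj.map (c.π.app i).op w) =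
      (yon S).map (c.π.app i) ≫ (J S).uliftYonedaEquiv.symm w := fun w => symm_map_op _ w
  obtain ⟨E, z, k₀, sq⟩ := hf.rep q
  obtain ⟨σ₀, -, hσ₂⟩ := sq.exists_lift ((J S).uliftYonedaEquiv.symm (X.obj.map (c.π.app i).op y))
      ((yon S).map (c.π.app i)) (by
    apply pullback.hom_ext
    · simp only [Category.assoc, pullback.diagonal_fst, q, pullback.lift_fst, Category.comp_id, hpt]
    · simp only [Category.assoc, pullback.diagonal_snd, q, pullback.lift_snd, Category.comp_id]
      rw [h, hpt])
  obtain ⟨σ, rfl⟩ := (yon S).map_surjective σ₀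
  have hσz : σ ≫ z = c.π.app i := (yon S).map_injective (by rw [Functor.map_comp, hσ₂])
  have hz : LocallyOfFinitePresentation z.left := hf.property _ _ z sq
  obtain ⟨j, φ, τ, hτ₁, -⟩ := exists_section_stage D c hc hD z σ hσz
  refine ⟨j, φ, ?_⟩
  have e : (yon S).map τ ≫ k₀ ≫ Δ = (yon S).map (D.map φ) ≫ q := by
    rw [sq.w, ← Category.assoc, ← Functor.map_comp, hτ₁]
  have e₁ := congrArg (· ≫ pullback.fst f f) e
  have e₂ := congrArg (· ≫ pullback.snd f f) e
  simp only [Category.assoc, Δ, pullback.diagonal_fst, pullback.diagonal_snd, q, pullback.lift_fst,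
    pullback.lift_snd, Category.comp_id] at e₁ e₂
  have e₃ := congrArg (J S).uliftYonedaEquiv (e₁.symm.trans e₂)
  rw [equiv_map_comp, equiv_map_comp, Equiv.apply_symm_apply, Equiv.apply_symm_apply] at e₃
  exact e₃

/-- A morphism of algebraic spaces locally of finite presentation is relatively limit preserving. -/
theorem relLP_of_locP_lfp {X Y : Sp S} (hX : IsAlgSpace X) (hY : IsAlgSpace Y) {f : X ⟶ Y}
    (hf : LocP @LocallyOfFinitePresentation f) : RelLP f.hom := by
  have hΔ : RepWith @LocallyOfFinitePresentation (pullback.diagonal f) :=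
    repWith_of_locP etLocal_lfp (isAlgSpace_pullback hY.diag hX hX f f) (representable_diagonal f hX.diag)
      (locP_lfp_diagonal hX hY (f := f) fun U V a b h ha hb w =>
        have : LocallyOfFinitePresentation h.left := hf a b h ha hb w
        inferInstance)
  have hi := relInj_of_diagonal hΔ
  obtain ⟨U, V, p, b, h, hp, hps, hb, -, hw⟩ := exists_chart hX hY f
  have hh : LocallyOfFinitePresentation h.left := hf p b h hp hb hw
  have : RepWith @LocallyOfFinitePresentation p := repWith_le (P := @Etale) (Q := @LocallyOfFinitePresentation)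
    (fun _ _ g (_ : Etale g) => inferInstance) hp
  have hpsurj : Presheaf.IsLocallySurjective (J S) p.hom :=
    isLocallySurjective_of_fppf (repWith_le (P := @Etale) (Q := @Flat) (fun _ _ g (_ : Etale g) => inferInstance) hp)
      this hps
  have ha : RelSurj (p ≫ f).hom := by
    rw [hw]
    exact (relSurj_of_repWith ((repWith_yon_map_iff _ _).2 hh)).comp (relSurj_of_repWith
      (repWith_le (P := @Etale) (Q := @LocallyOfFinitePresentation) (fun _ _ g (_ : Etale g) => inferInstance) hb))
  exact relLP_iff.2 ⟨relSurj_of_locallyBijective (φ := p.hom) (ψ := 𝟙 Y.obj) (a := (p ≫ f).hom)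
    (Category.comp_id _) X.property Y.property ha hi, hi⟩

end Groth.Agent.H12AlgSp
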