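import Groth.Agent.H12AlgSp.AffineLimit
import Groth.Agent.H12AlgSp.QC
import Groth.Agent.H12AlgSp.QSApps

/-!
Systems of affine atlases of a system of algebraic spaces with affine transition maps, and their relations.
-/

universe u

open CategoryTheory CategoryTheory.Limits AlgebraicGeometry Opposite
open AlgSp Groth.Agent.H13AlgSp

set_option backward.isDefEq.respectTransparency false

attribute [local instance] CategoryTheory.isConnected_of_hasTerminal

namespace Groth.Agent.H12AlgSp

variable {S : Scheme.{u}} {I : Type u} [SmallCategory I] [IsCofiltered I]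

/-- Compatible affine etale atlases of the stages over `i₀` and of the limit. -/
structure AtlasSystem (D : I ⥤ Sp S) (c : Cone D) (i₀ : I) where
  /-- the system of atlases -/
  U : Over i₀ ⥤ Over S
  /-- the atlas of the limit -/
  cU : Cone U
  isLimit : IsLimit cU
  /-- the charts -/
  a : ∀ j, (yon S).obj (U.obj j) ⟶ D.obj j.left
  /-- the chart of the limit -/
  aLim : (yon S).obj cU.pt ⟶ c.pt
  affine : ∀ j, IsAffine (U.obj j).left
  affineLim : IsAffine cU.pt.left
  etale : ∀ j, RepWith @Etale (a j)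
  surjective : ∀ j, RepWith @Surjective (a j)
  etaleLim : RepWith @Etale aLim
  surjectiveLim : RepWith @Surjective aLim
  sq : ∀ {j k : Over i₀} (φ : j ⟶ k), IsPullback ((yon S).map (U.map φ)) (a j) (a k) (D.map φ.left)
  sqLim : ∀ j, IsPullback ((yon S).map (cU.π.app j)) aLim (a j) (c.π.app j.left)

variable {D : I ⥤ Sp S} (hDa : ∀ (i j : I) (φ : i ⟶ j), IsAffineMor (D.map φ)) {c : Cone D} (hc : IsLimit c)

include hDa hc in
theorem exists_atlasSystem (i₀ : I) {U₀ : Over S} (hU : IsAffine U₀.left) (a₀ : (yon S).obj U₀ ⟶ D.obj i₀)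
    (ha : RepWith @Etale a₀) (has : RepWith @Surjective a₀) : Nonempty (AtlasSystem D c i₀) := by
  obtain ⟨K, cK, hcK, w, fst, f, p, sq, haff, hfst, hw, hK, hf, hp⟩ :=
    exists_pullback_proj_system hDa hc i₀ hU a₀
  have sqlim : ∀ j : Over i₀, IsPullback fst ((yon S).map (cK.π.app j)) (c.π.app j.left) (f j) := fun j =>
    IsPullback.of_bot (by rw [c.w, ← Functor.map_comp, hw]; exact sq) (hfst j) (hK j).2
  refine ⟨{ U := K, cU := cK, isLimit := hcK, a := f, aLim := fst, affine := fun j => (hK j).1,
            affineLim := haff, etale := fun j => repWith_of_isPullback (hK j).2.flip ha,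
            surjective := fun j => repWith_of_isPullback (hK j).2.flip has,
            etaleLim := repWith_of_isPullback sq.flip ha,
            surjectiveLim := repWith_of_isPullback sq.flip has,
            sq := fun {j k} φ => ?_, sqLim := fun j => (sqlim j).flip }⟩
  refine (IsPullback.of_bot ?_ (hf j k φ).symm (hK k).2).flip
  rw [← D.map_comp, Over.w φ, ← Functor.map_comp, hp]
  exact (hK j).2

include hDa hc in
theorem exists_atlasSystem_of_qc (hD : ∀ i, IsAlgSpace (D.obj i)) (i₀ : I)
    (hqc : IsQuasiCompactSp (D.obj i₀)) : Nonempty (AtlasSystem D c i₀) := by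
  have := compactSpace_points_of_isQuasiCompactSp hqc
  obtain ⟨U, a, hU, ha, has⟩ := exists_affine_atlas (hD i₀)
  exact exists_atlasSystem hDa hc i₀ hU a ha has

namespace AtlasSystem

variable {i₀ : I} (A : AtlasSystem D c i₀)

instance (j : Over i₀) : IsAffine (A.U.obj j).left := A.affine j

instance : IsAffine A.cU.pt.left := A.affineLim

/-- The relations of the atlases. -/
structure Rel where
  /-- the system of relations -/
  R : Over i₀ ⥤ Over S
  /-- first projection -/
  t : R ⟶ A.U
  /-- second projection -/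
  s : R ⟶ A.U
  /-- the relation of the limit -/
  cR : Cone R
  isLimit : IsLimit cR
  /-- first projection of the limit -/
  tLim : cR.pt ⟶ A.cU.pt
  /-- second projection of the limit -/
  sLim : cR.pt ⟶ A.cU.pt
  t_comp : ∀ j, cR.π.app j ≫ t.app j = tLim ≫ A.cU.π.app j
  s_comp : ∀ j, cR.π.app j ≫ s.app j = sLim ≫ A.cU.π.app j
  sqR : ∀ j, IsPullback ((yon S).map (t.app j)) ((yon S).map (s.app j)) (A.a j) (A.a j)
  sqLim : IsPullback ((yon S).map tLim) ((yon S).map sLim) A.aLim A.aLim
  sqs : ∀ {j k : Over i₀} (φ : j ⟶ k), IsPullback (R.map φ) (s.app j) (s.app k) (A.U.map φ)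

include hDa hc in
theorem exists_rel (hD : ∀ i, IsAlgSpace (D.obj i)) : Nonempty A.Rel := by
  have hX := (isAlgSpace_limit_and_affine hDa hc hD).1
  have hR : ∀ j : Over i₀, ∃ (R : Over S) (t s : R ⟶ A.U.obj j),
      IsPullback ((yon S).map t) ((yon S).map s) (A.a j) (A.a j) := fun j => by
    obtain ⟨R, s, t', sq⟩ := (hD j.left).representable_from_yon (A.a j) (A.a j)
    obtain ⟨t, rfl⟩ := (yon S).map_surjective t'
    exact ⟨R, t, s, sq⟩
  choose R t s sqR using hR
  have hext : ∀ {W : Over S} {j : Over i₀} {x y : W ⟶ R j}, x ≫ t j = y ≫ t j → x ≫ s j = y ≫ s j → x = y :=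
    fun {W j x y} h₁ h₂ => (yon S).map_injective ((sqR j).hom_ext
      (by rw [← Functor.map_comp, ← Functor.map_comp, h₁]) (by rw [← Functor.map_comp, ← Functor.map_comp, h₂]))
  have hl : ∀ {j k : Over i₀} (φ : j ⟶ k), ∃ r : R j ⟶ R k,
      r ≫ t k = t j ≫ A.U.map φ ∧ r ≫ s k = s j ≫ A.U.map φ := fun {j k} φ => by
    have w : (yon S).map (t j ≫ A.U.map φ) ≫ A.a k = (yon S).map (s j ≫ A.U.map φ) ≫ A.a k := by
      rw [Functor.map_comp, Functor.map_comp, Category.assoc, Category.assoc, (A.sq φ).w, (sqR j).w_assoc]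
    obtain ⟨r, hr⟩ := (yon S).map_surjective ((sqR k).lift _ _ w)
    exact ⟨r, (yon S).map_injective (by rw [Functor.map_comp, hr, IsPullback.lift_fst]),
      (yon S).map_injective (by rw [Functor.map_comp, hr, IsPullback.lift_snd])⟩
  choose r hrt hrs using @hl
  let RF : Over i₀ ⥤ Over S :=
    { obj := R
      map := fun φ => r φ
      map_id := fun j => hext (by rw [hrt]; simp) (by rw [hrs]; simp)
      map_comp := fun φ ψ => hext (by rw [hrt, Category.assoc, hrt, ← Category.assoc, hrt, Category.assoc,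
          Functor.map_comp])
        (by rw [hrs, Category.assoc, hrs, ← Category.assoc, hrs, Category.assoc, Functor.map_comp]) }
  obtain ⟨R', t', s', sq'⟩ : ∃ (R' : Over S) (t' s' : R' ⟶ A.cU.pt),
      IsPullback ((yon S).map t') ((yon S).map s') A.aLim A.aLim := by
    obtain ⟨R, s, t', sq⟩ := hX.representable_from_yon A.aLim A.aLim
    obtain ⟨t, rfl⟩ := (yon S).map_surjective t'
    exact ⟨R, t, s, sq⟩
  have hπ : ∀ j : Over i₀, ∃ π : R' ⟶ R j, π ≫ t j = t' ≫ A.cU.π.app j ∧ π ≫ s j = s' ≫ A.cU.π.app j :=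
    fun j => by
    have w : (yon S).map (t' ≫ A.cU.π.app j) ≫ A.a j = (yon S).map (s' ≫ A.cU.π.app j) ≫ A.a j := by
      rw [Functor.map_comp, Functor.map_comp, Category.assoc, Category.assoc, (A.sqLim j).w, sq'.w_assoc]
    obtain ⟨r, hr⟩ := (yon S).map_surjective ((sqR j).lift _ _ w)
    exact ⟨r, (yon S).map_injective (by rw [Functor.map_comp, hr, IsPullback.lift_fst]),
      (yon S).map_injective (by rw [Functor.map_comp, hr, IsPullback.lift_snd])⟩
  choose π hπt hπs using hπ
  have hnat : ∀ {j k : Over i₀} (φ : j ⟶ k), π j ≫ r φ = π k := fun {j k} φ => hext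
    (by rw [Category.assoc, hrt, ← Category.assoc, hπt, hπt, Category.assoc, A.cU.w])
    (by rw [Category.assoc, hrs, ← Category.assoc, hπs, hπs, Category.assoc, A.cU.w])
  let tF : RF ⟶ A.U := { app := t, naturality := fun j k φ => hrt φ }
  let sF : RF ⟶ A.U := { app := s, naturality := fun j k φ => hrs φ }
  let cR : Cone RF := ⟨R', { app := π, naturality := fun j k φ => (Category.id_comp _).trans (hnat φ).symm }⟩
  have sqs : ∀ {j k : Over i₀} (φ : j ⟶ k), IsPullback (r φ) (s j) (s k) (A.U.map φ) := fun {j k} φ => by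
    refine IsPullback.of_map (yon S) (hrs φ) (IsPullback.of_bot ?_ ?_ (sqR k).flip).flip
    · have := ((sqR j).flip.paste_vert (A.sq φ).flip)
      rw [← Functor.map_comp, ← hrt φ, Functor.map_comp, ← (A.sq φ).w] at this
      exact this
    · rw [← Functor.map_comp, ← Functor.map_comp, hrs φ]
  have sqπ : ∀ j : Over i₀, IsPullback (π j) s' (s j) (A.cU.π.app j) := fun j => by
    refine IsPullback.of_map (yon S) (hπs j) (IsPullback.of_bot ?_ ?_ (sqR j).flip).flip
    · have := (sq'.flip.paste_vert (A.sqLim j).flip)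
      rw [← Functor.map_comp, ← hπt j, Functor.map_comp, ← (A.sqLim j).w] at this
      exact this
    · rw [← Functor.map_comp, ← Functor.map_comp, hπs j]
  exact ⟨{ R := RF, t := tF, s := sF, cR := cR
           isLimit := isLimitOfIsPullbackOfIsConnected sF cR A.cU
             { hom := s', w := fun j => (hπs j).symm } sqπ A.isLimit
           tLim := t', sLim := s', t_comp := hπt, s_comp := hπs, sqR := sqR, sqLim := sq',
           sqs := fun φ => sqs φ }⟩

end AtlasSystem

end Groth.Agent.H12AlgSp
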