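import Groth.Agent.H12AlgSp.LimitPresSpace
import Groth.Agent.H12AlgSp.LimitAtlas
import Groth.Agent.H12AlgSp.Presentation

/-!
Limit preservation along systems of quasi-compact quasi-separated algebraic spaces with affine transition maps.
-/

universe u

open CategoryTheory CategoryTheory.Limits AlgebraicGeometry Opposite
open AlgSp Groth.Agent.H13AlgSp

set_option backward.isDefEq.respectTransparency false

attribute [local instance] IsCofiltered.isConnected CategoryTheory.isConnected_of_hasTerminal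

namespace Groth.Agent.H12AlgSp

section Square

variable {C : Type*} [Category C] {F G : Cᵒᵖ ⥤ Type (u + 1)} (a : F ⟶ G) {I : Type u} [SmallCategory I]
  [IsCofiltered I] (D : I ⥤ C) (c : Cone D)

/-- The colimit square of a transformation along a cone is cartesian iff sections and their equalities
descend. -/
theorem isPullback_colimit_iff :
    IsPullback (colimMap (Functor.whiskerLeft D.op a)) (colimit.desc (D.op ⋙ F) (F.mapCocone c.op))
        (colimit.desc (D.op ⋙ G) (G.mapCocone c.op)) (a.app (Opposite.op c.pt)) ↔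
      (∀ (i : I) (x : F.obj (op c.pt)) (g : G.obj (op (D.obj i))), a.app _ x = G.map (c.π.app i).op g →
        ∃ (j : I) (f : j ⟶ i) (y : F.obj (op (D.obj j))),
          a.app _ y = G.map (D.map f).op g ∧ F.map (c.π.app j).op y = x) ∧
      ∀ (i : I) (y y' : F.obj (op (D.obj i))), a.app _ y = a.app _ y' →
        F.map (c.π.app i).op y = F.map (c.π.app i).op y' →
        ∃ (j : I) (f : j ⟶ i), F.map (D.map f).op y = F.map (D.map f).op y' := by
  let ιF := fun i : I => colimit.ι (D.op ⋙ F) (op i)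
  let ιG := fun i : I => colimit.ι (D.op ⋙ G) (op i)
  have dF : ∀ (i : I) (y : F.obj (op (D.obj i))), colimit.desc (D.op ⋙ F) (F.mapCocone c.op) (ιF i y) = F.map (c.π.app i).op y :=
    fun i y => congr($(colimit.ι_desc (F.mapCocone c.op) (op i)) y)
  have dG : ∀ (i : I) (y : G.obj (op (D.obj i))), colimit.desc (D.op ⋙ G) (G.mapCocone c.op) (ιG i y) = G.map (c.π.app i).op y :=
    fun i y => congr($(colimit.ι_desc (G.mapCocone c.op) (op i)) y)
  have m : ∀ (i : I) (y : F.obj (op (D.obj i))),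
      colimMap (Functor.whiskerLeft D.op a) (ιF i y) = ιG i (a.app (op (D.obj i)) y) :=
    fun i y => congr($(ι_colimMap (Functor.whiskerLeft D.op a) (op i)) y)
  have hG : ∀ i j (g : G.obj (op (D.obj i))) (g' : G.obj (op (D.obj j))), ιG i g = ιG j g' ↔
      ∃ (k : I) (f : k ⟶ i) (f' : k ⟶ j), G.map (D.map f).op g = G.map (D.map f').op g' := fun i j g g' => by
    refine (Types.FilteredColimit.isColimit_eq_iff (D.op ⋙ G) (colimit.isColimit _) (i := op i) (j := op j)).trans ?_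
    exact ⟨fun ⟨k, f, f', h⟩ => ⟨k.unop, f.unop, f'.unop, h⟩, fun ⟨k, f, f', h⟩ => ⟨op k, f.op, f'.op, h⟩⟩
  have hF : ∀ i j (g : F.obj (op (D.obj i))) (g' : F.obj (op (D.obj j))), ιF i g = ιF j g' ↔
      ∃ (k : I) (f : k ⟶ i) (f' : k ⟶ j), F.map (D.map f).op g = F.map (D.map f').op g' := fun i j g g' => by
    refine (Types.FilteredColimit.isColimit_eq_iff (D.op ⋙ F) (colimit.isColimit _) (i := op i) (j := op j)).trans ?_
    exact ⟨fun ⟨k, f, f', h⟩ => ⟨k.unop, f.unop, f'.unop, h⟩, fun ⟨k, f, f', h⟩ => ⟨op k, f.op, f'.op, h⟩⟩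
  have wF : ∀ {i j : I} (f : j ⟶ i) (y : F.obj (op (D.obj i))), ιF j (F.map (D.map f).op y) = ιF i y :=
    fun f y => congr($(colimit.w (D.op ⋙ F) f.op) y)
  rw [Types.isPullback_iff]
  constructor
  · rintro ⟨-, hinj, hsurj⟩
    refine ⟨fun i x g hx => ?_, fun i y y' hy h => ?_⟩
    · obtain ⟨z, hz₁, hz₂⟩ := hsurj (ιG i g) x ((dG i g).trans hx.symm)
      obtain ⟨⟨j⟩, y, rfl⟩ := Types.jointly_surjective_of_isColimit (colimit.isColimit (D.op ⋙ F)) z
      obtain ⟨k, f, f', h⟩ := (hG j i (a.app _ y) g).1 ((m j y).symm.trans hz₁)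
      refine ⟨k, f', F.map (D.map f).op y, by rw [NatTrans.naturality_apply, h], ?_⟩
      rw [← Functor.map_comp_apply, ← op_comp, c.w]
      exact (dF j y).symm.trans hz₂
    · obtain ⟨k, f, f', hk⟩ := (hF i i y y').1 (hinj (ιF i y) (ιF i y')
        ⟨by rw [m, m, hy], by rw [dF, dF, h]⟩)
      refine ⟨_, IsCofiltered.eqHom f f' ≫ f, ?_⟩
      conv_rhs => rw [IsCofiltered.eq_condition f f']
      simp only [Functor.map_comp, op_comp, ConcreteCategory.comp_apply, hk]
  · rintro ⟨hs, hi⟩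
    refine ⟨colimit.hom_ext fun ⟨i⟩ => ?_, fun z z' hz => ?_, fun g x hgx => ?_⟩
    · rw [ι_colimMap_assoc, colimit.ι_desc, colimit.ι_desc_assoc]
      exact (a.naturality (c.π.app i).op).symm
    · obtain ⟨⟨i₀⟩, y₀, rfl⟩ := Types.jointly_surjective_of_isColimit (colimit.isColimit (D.op ⋙ F)) z
      obtain ⟨⟨j₀⟩, y₀', rfl⟩ := Types.jointly_surjective_of_isColimit (colimit.isColimit (D.op ⋙ F)) z'
      obtain ⟨hz₁, hz₂⟩ := hz
      obtain ⟨k, f, f', hk⟩ := (hG i₀ j₀ _ _).1 ((m i₀ y₀).symm.trans (hz₁.trans (m j₀ y₀')))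
      obtain ⟨l, e, he⟩ := hi k (F.map (D.map f).op y₀) (F.map (D.map f').op y₀')
        (by rw [NatTrans.naturality_apply, NatTrans.naturality_apply, hk]) (by
          rw [← Functor.map_comp_apply, ← Functor.map_comp_apply, ← op_comp, ← op_comp, c.w, c.w]
          exact (dF i₀ y₀).symm.trans (hz₂.trans (dF j₀ y₀')))
      change ιF i₀ y₀ = ιF j₀ y₀'
      rw [← wF f y₀, ← wF f' y₀', ← wF e (F.map (D.map f).op y₀), he, wF]
    · obtain ⟨⟨i⟩, g₀, rfl⟩ := Types.jointly_surjective_of_isColimit (colimit.isColimit (D.op ⋙ G)) g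
      obtain ⟨j, f, y, hy₁, hy₂⟩ := hs i x g₀ (hgx.symm.trans (dG i g₀))
      refine ⟨ιF j y, ?_, (dF j y).trans hy₂⟩
      rw [m, hy₁]
      exact congr($(colimit.w (D.op ⋙ G) f.op) g₀)

end Square

variable {S : Scheme.{u}}

theorem equiv_eq_iff {F : Sp S} {U : Over S} (m m' : (yon S).obj U ⟶ F) :
    (J S).uliftYonedaEquiv m = (J S).uliftYonedaEquiv m' ↔ m = m' :=
  Equiv.apply_eq_iff_eq (GrothendieckTopology.uliftYonedaEquiv.{u + 1} (J := J S))

theorem exists_equiv_eq {F : Sp S} {U : Over S} (w : F.obj.obj (op U)) :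
    ∃ m : (yon S).obj U ⟶ F, (J S).uliftYonedaEquiv m = w :=
  ⟨(GrothendieckTopology.uliftYonedaEquiv.{u + 1} (J := J S)).symm w, Equiv.apply_symm_apply _ _⟩

variable {X Y : Sp S} {f : X ⟶ Y} (hf : RelLP f.hom)
  {I : Type u} [SmallCategory I] [IsCofiltered I] {D : I ⥤ Sp S} (hD : ∀ i, IsAlgSpace (D.obj i))
  (hDa : ∀ (i j : I) (φ : i ⟶ j), IsAffineMor (D.map φ)) {c : Cone D} (hc : IsLimit c)

include hf hD hDa hc

/-- Equalities descend along systems of algebraic spaces. -/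
theorem exists_eq_stage_of_relLP (i : I) (hqc : IsQuasiCompactSp (D.obj i)) (y y' : D.obj i ⟶ X)
    (hy : y ≫ f = y' ≫ f) (h : c.π.app i ≫ y = c.π.app i ≫ y') :
    ∃ (j : I) (φ : j ⟶ i), D.map φ ≫ y = D.map φ ≫ y' := by
  obtain ⟨A⟩ := exists_atlasSystem_of_qc hDa hc hD i hqc
  let i₁ : Over i := Over.mk (𝟙 i)
  let y₁ : D.obj i₁.left ⟶ X := y
  let y₁' : D.obj i₁.left ⟶ X := y'
  obtain ⟨j, φ, hφ⟩ := (hf A.U A.cU (isLimitOfPreserves (Over.forget S) A.isLimit) A.affine A.affineLim).2 i₁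
    ((J S).uliftYonedaEquiv (A.a i₁ ≫ y₁)) ((J S).uliftYonedaEquiv (A.a i₁ ≫ y₁')) (by
      rw [← GrothendieckTopology.uliftYonedaEquiv_comp, ← GrothendieckTopology.uliftYonedaEquiv_comp,
        Category.assoc, Category.assoc]
      exact congrArg (fun m => (J S).uliftYonedaEquiv (A.a i₁ ≫ m)) hy) (by
      rw [← equiv_map_comp, ← equiv_map_comp, (A.sqLim i₁).w_assoc, (A.sqLim i₁).w_assoc]
      exact congrArg (fun m => (J S).uliftYonedaEquiv (A.aLim ≫ m)) h)
  rw [← equiv_map_comp, ← equiv_map_comp, equiv_eq_iff, (A.sq φ).w_assoc, (A.sq φ).w_assoc] at hφ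
  have := epi_of_etale_surjective (A.etale j) (A.surjective j)
  exact ⟨j.left, φ.left, (cancel_epi (A.a j)).1 hφ⟩

/-- Morphisms descend along systems of quasi-compact quasi-separated algebraic spaces. -/
theorem exists_lift_stage_of_relLP [QuasiSeparatedSpace S] (hqc : ∀ i, IsQuasiCompactSp (D.obj i))
    (hqs : ∀ i, IsQuasiSeparatedSp (D.obj i)) (i : I) (x : c.pt ⟶ X) (y : D.obj i ⟶ Y)
    (hxy : x ≫ f = c.π.app i ≫ y) :
    ∃ (j : I) (φ : j ⟶ i) (z : D.obj j ⟶ X), z ≫ f = D.map φ ≫ y ∧ c.π.app j ≫ z = x := by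
  obtain ⟨A⟩ := exists_atlasSystem_of_qc hDa hc hD i (hqc i)
  obtain ⟨R⟩ := A.exists_rel hDa hc hD
  let i₁ : Over i := Over.mk (𝟙 i)
  let y₁ : D.obj i₁.left ⟶ Y := y
  obtain ⟨j, φ, u₀, hu₁, hu₂⟩ := (hf A.U A.cU (isLimitOfPreserves (Over.forget S) A.isLimit) A.affine A.affineLim).1 i₁
    ((J S).uliftYonedaEquiv (A.aLim ≫ x)) ((J S).uliftYonedaEquiv (A.a i₁ ≫ y₁)) (by
      rw [← GrothendieckTopology.uliftYonedaEquiv_comp, ← equiv_map_comp, (A.sqLim i₁).w_assoc, Category.assoc]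
      exact congrArg (fun m => (J S).uliftYonedaEquiv (A.aLim ≫ m)) hxy)
  obtain ⟨u, rfl⟩ := exists_equiv_eq u₀
  rw [← GrothendieckTopology.uliftYonedaEquiv_comp, ← equiv_map_comp, equiv_eq_iff,
    (A.sq φ).w_assoc] at hu₁
  rw [← equiv_map_comp] at hu₂
  replace hu₂ := (equiv_eq_iff _ _).1 hu₂
  -- the system of relations
  let E : Over i ⥤ Sp S := R.R ⋙ yon S
  have hEa : ∀ k l (ψ : k ⟶ l), IsAffineMor (E.map ψ) := fun k l ψ => by
    refine isAffineMor_iff.2 ((repWith_yon_map_iff @IsAffineHom _).2 ?_)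
    have : IsAffineHom (A.U.map ψ).left := isAffineHom_of_isAffine _
    exact MorphismProperty.of_isPullback ((R.sqs ψ).map (Over.forget S)).flip this
  have hEc : ∀ k, IsQuasiCompactSp (E.obj k) := fun k => by
    have := compactSpace_of_isPullback' (hqs k.left) (R.sqR k)
    exact isQuasiCompactSp_yon_iff.2 this
  obtain ⟨k, ψ, hψ⟩ := exists_eq_stage_of_relLP hf (fun k => IsAlgSpace.yon_obj _) hEa
    (isLimitOfPreserves (yon S) R.isLimit) j (hEc j)
    ((yon S).map (R.t.app j) ≫ u) ((yon S).map (R.s.app j) ≫ u) (by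
      rw [Category.assoc, Category.assoc, hu₁, (R.sqR j).w_assoc]) (by
      change (yon S).map (R.cR.π.app j) ≫ _ = (yon S).map (R.cR.π.app j) ≫ _
      rw [← Category.assoc, ← Category.assoc, ← Functor.map_comp, ← Functor.map_comp, R.t_comp, R.s_comp,
        Functor.map_comp, Functor.map_comp, Category.assoc, Category.assoc, hu₂, R.sqLim.w_assoc])
  have hts : (yon S).map (R.t.app k) ≫ (yon S).map (A.U.map ψ) ≫ u =
      (yon S).map (R.s.app k) ≫ (yon S).map (A.U.map ψ) ≫ u := by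
    change (yon S).map (R.R.map ψ) ≫ (yon S).map (R.t.app j) ≫ u =
      (yon S).map (R.R.map ψ) ≫ (yon S).map (R.s.app j) ≫ u at hψ
    rw [← Category.assoc, ← Category.assoc, ← Functor.map_comp, ← Functor.map_comp, R.t.naturality,
      R.s.naturality, Functor.map_comp, Functor.map_comp, Category.assoc, Category.assoc] at hψ
    exact hψ
  obtain ⟨hcol⟩ := nonempty_isColimit_of_atlas (A.etale k) (A.surjective k) (R.sqR k)
  obtain ⟨z, hz⟩ := Cofork.IsColimit.desc' hcol ((yon S).map (A.U.map ψ) ≫ u) hts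
  have hz' : A.a k ≫ z = (yon S).map (A.U.map ψ) ≫ u := hz
  refine ⟨k.left, ψ.left ≫ φ.left, z, ?_, ?_⟩
  · have := epi_of_etale_surjective (A.etale k) (A.surjective k)
    rw [← cancel_epi (A.a k), reassoc_of% hz', hu₁, (A.sq ψ).w_assoc, D.map_comp, Category.assoc]
  · have := epi_of_etale_surjective A.etaleLim A.surjectiveLim
    rw [← cancel_epi A.aLim, ← (A.sqLim k).w_assoc, hz', ← Category.assoc, ← Functor.map_comp, A.cU.w, hu₂]

/-- The colimit square of a limit preserving morphism is cartesian. -/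
theorem isPullback_colimit_of_relLP [QuasiSeparatedSpace S] (hqc : ∀ i, IsQuasiCompactSp (D.obj i))
    (hqs : ∀ i, IsQuasiSeparatedSp (D.obj i)) :
    IsPullback (colimMap (Functor.whiskerLeft D.op (yoneda.map f)))
      (colimit.desc (D.op ⋙ yoneda.obj X) ((yoneda.obj X).mapCocone c.op))
      (colimit.desc (D.op ⋙ yoneda.obj Y) ((yoneda.obj Y).mapCocone c.op))
      ((yoneda.map f).app (Opposite.op c.pt)) :=
  (isPullback_colimit_iff (yoneda.map f) D c).2
    ⟨fun i x y h => exists_lift_stage_of_relLP hf hD hDa hc hqc hqs i x y h,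
      fun i y y' hy h => exists_eq_stage_of_relLP hf hD hDa hc i (hqc i) y y' hy h⟩

omit hf hD hDa hc in
/-- The cartesian colimit squares of systems of schemes give descending points. -/
theorem relSurjLP_of_isPullback {X Y : Sp S} {f : X ⟶ Y}
    (h : ∀ ⦃I : Type u⦄ [SmallCategory I] [IsCofiltered I] (D : I ⥤ Over S) (c : Cone D), IsLimit c →
      (∀ i, IsAffine (D.obj i).left) →
        IsPullback (colimMap (Functor.whiskerLeft (D ⋙ yon S).op (yoneda.map f)))
          (colimit.desc ((D ⋙ yon S).op ⋙ yoneda.obj X) ((yoneda.obj X).mapCocone ((yon S).mapCone c).op))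
          (colimit.desc ((D ⋙ yon S).op ⋙ yoneda.obj Y) ((yoneda.obj Y).mapCocone ((yon S).mapCone c).op))
          ((yoneda.map f).app (Opposite.op ((yon S).mapCone c).pt))) :
    RelSurjLP f := by
  intro I _ _ D c hc hD _ x i y hxy
  obtain ⟨j, φ, z, hz₁, hz₂⟩ := ((isPullback_colimit_iff (yoneda.map f) (D ⋙ yon S) ((yon S).mapCone c)).1
    (h D c (isLimitOfReflects (Over.forget S) hc) hD)).1 i x y hxy
  exact ⟨j, φ, z, hz₂, hz₁⟩

end Groth.Agent.H12AlgSp
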