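import Groth.Agent.H12AlgSp.LimitDescendIso

/-!
Limits with closed transition maps which are of finite presentation are reached at a finite stage.
-/

universe u

open CategoryTheory CategoryTheory.Limits AlgebraicGeometry Opposite Topology
open AlgSp Groth.Agent.H13AlgSp

set_option backward.isDefEq.respectTransparency false

attribute [local instance] CategoryTheory.isConnected_of_hasTerminal

namespace Groth.Agent.H12AlgSp

variable {S : Scheme.{u}}

variable {I : Type u} [SmallCategory I] [IsCofiltered I] {D : I ⥤ Sp S}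

/-- A finitely presented limit with closed transition maps is reached at a finite stage. -/
theorem eventually_isIso_π (hD : ∀ i, IsAlgSpace (D.obj i))
    (hDc : ∀ (i j : I) (φ : i ⟶ j), RepWith @IsClosedImmersion (D.map φ)) {c : Cone D} (hc : IsLimit c)
    {i₁ : I} (hqc : IsQuasiCompactSp (D.obj i₁)) {B : Sp S} (hB : IsAlgSpace B) (t : D.obj i₁ ⟶ B)
    (hft : LocP @LocallyOfFiniteType t) (hX : LocP @LocallyOfFinitePresentation (c.π.app i₁ ≫ t)) :
    ∃ i₀ : I, ∀ (i : I) (_ : i ⟶ i₀), IsIso (c.π.app i) := by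
  have hDa : ∀ (i j : I) (φ : i ⟶ j), IsAffineMor (D.map φ) := fun i j φ => isAffineMor_iff.2
    (repWith_le (P := @IsClosedImmersion) (Q := @IsAffineHom)
      (fun _ _ k (_ : IsClosedImmersion k) => inferInstance) (hDc i j φ))
  obtain ⟨A⟩ := exists_atlasSystem_of_qc hDa hc hD i₁ hqc
  let j₀ : Over i₁ := Over.mk (𝟙 i₁)
  have hlim : IsLimit ((Over.forget S).mapCone A.cU) := isLimitOfPreserves _ A.isLimit
  let UF := A.U ⋙ Over.forget S
  have : ∀ j, IsAffine (UF.obj j) := fun j => A.affine j
  have haff : IsAffine ((Over.forget S).mapCone A.cU).pt := A.affineLim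
  have hclm : ∀ j k (φ : j ⟶ k), IsClosedImmersion (UF.map φ) := fun j k φ =>
    (repWith_yon_map_iff @IsClosedImmersion _).1 (repWith_of_isPullback (A.sq φ).flip (hDc _ _ φ.left))
  have hπc : IsClosedImmersion (A.cU.π.app j₀).left := by
    have : IsAffine (A.U.obj j₀).left := A.affine j₀
    have : IsAffine A.cU.pt.left := A.affineLim
    refine IsClosedImmersion.of_surjective_of_isAffine (show A.cU.pt.left ⟶ (A.U.obj j₀).left from (A.cU.π.app j₀).left) fun y => ?_
    obtain ⟨j, s, hs⟩ := exists_appTop_π_eq_of_isAffine_of_isLimit UF _ hlim y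
    let φ : j ⟶ j₀ := Over.homMk j.hom (Category.comp_id _)
    have := hclm _ _ φ
    obtain ⟨s', hs'⟩ := (IsClosedImmersion.isAffine_surjective_of_isAffine (UF.map φ)).2 s
    refine ⟨s', ?_⟩
    have e : (A.cU.π.app j₀).left = (A.cU.π.app j).left ≫ UF.map φ := by
      change _ = (A.cU.π.app j).left ≫ (A.U.map φ).left
      rw [← Over.comp_left, A.cU.w]
    rw [e, Scheme.Hom.comp_appTop]
    exact (congrArg (A.cU.π.app j).left.appTop hs').trans hs
  have hXa := (isAlgSpace_limit_and_affine hDa hc hD).1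
  have hπ : LocP @LocallyOfFinitePresentation (c.π.app i₁) :=
    locP_of_postcomp etLocal_lfp (fun _ _ _ g h hgh hh =>
      have : LocallyOfFinitePresentation (g ≫ h) := hgh
      have : LocallyOfFiniteType h := hh
      lfp_of_comp g h) hB hX hft
  have hfp : LocallyOfFinitePresentation (A.cU.π.app j₀).left :=
    locP_of_isPullback etLocal_lfp (A.sqLim j₀).flip hXa (hD _) (IsAlgSpace.yon_obj _) hπ
      (𝟙 _) (𝟙 _) (A.cU.π.app j₀) (repWith_id _ _) (repWith_id _ _) (by rw [Category.id_comp, Category.comp_id])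
  have : IsAffine A.cU.pt.left := haff
  obtain ⟨j, ψ, hj⟩ := Groth.Agent.H7Lim.descends_isIso (Over i₁) UF _ hlim j₀
    (show A.cU.pt.left ⟶ UF.obj j₀ from (A.cU.π.app j₀).left) hfp (by
      have : Mono (A.cU.π.app j₀).left := inferInstance
      exact inferInstanceAs (IsIso (pullback.snd (A.cU.π.app j₀).left (A.cU.π.app j₀).left)))
  refine ⟨j.left, fun i φ => ?_⟩
  let l : Over i₁ := Over.mk (φ ≫ j.hom)
  let χ : l ⟶ j := Over.homMk φ rfl
  have := hclm _ _ ψ
  have : IsIso (pullback.snd (A.cU.π.app j₀).left (UF.map ψ)) := hj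
  have hπj : IsIso (A.cU.π.app j).left := by
    have w : (A.cU.π.app j).left ≫ UF.map ψ = 𝟙 _ ≫ (A.cU.π.app j₀).left := by
      change (A.cU.π.app j).left ≫ (A.U.map ψ).left = _
      rw [← Over.comp_left, A.cU.w, Category.id_comp]
    have sq : IsPullback (𝟙 _) (A.cU.π.app j).left (A.cU.π.app j₀).left (UF.map ψ) := by
      refine IsPullback.of_isLimit' ⟨w.symm⟩ (PullbackCone.IsLimit.mk _ (fun s => s.fst) (fun s => by simp)
        (fun s => ?_) fun s m h₁ _ => by simpa using h₁)
      rw [← cancel_mono (UF.map ψ), Category.assoc, w, Category.id_comp]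
      exact s.condition
    rw [← sq.isoPullback_hom_snd]
    infer_instance
  have hπl : IsIso (A.cU.π.app l).left := by
    have := hclm _ _ χ
    have e : (A.cU.π.app l).left ≫ UF.map χ = (A.cU.π.app j).left := by
      change (A.cU.π.app l).left ≫ (A.U.map χ).left = _
      rw [← Over.comp_left, A.cU.w]
    refine ⟨UF.map χ ≫ inv (A.cU.π.app j).left, by rw [← Category.assoc, e, IsIso.hom_inv_id], ?_⟩
    rw [← cancel_mono (UF.map χ), Category.assoc, Category.assoc, e, IsIso.inv_hom_id, Category.comp_id,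
      Category.id_comp]
  exact isIso_of_repWith_isomorphisms (repWith_of_etale_cover (P := MorphismProperty.isomorphisms Scheme.{u})
    (fun _ _ k (_ : IsIso k) => inferInstanceAs (IsAffineHom k))
    (isAlgSpace_limit_and_affine hDa hc hD).1 (hD i) (A.etale l) (A.surjective l) (A.sqLim l).flip
    ((repWith_yon_map_iff (MorphismProperty.isomorphisms Scheme.{u}) _).2 hπl))

end Groth.Agent.H12AlgSp
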