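import Groth.Agent.H13AlgSp.RedInduced
import Groth.Agent.H12AlgSp.Presentation
import Groth.Agent.H12AlgSp.OpenCover

/-!
Scheme theoretic images of morphisms of algebraic spaces: existence, computation on etale charts
for quasi-compact morphisms, flat base change.
-/

set_option linter.unusedVariables false
set_option backward.isDefEq.respectTransparency false

universe u

open CategoryTheory CategoryTheory.Limits AlgebraicGeometry Opposite Topology
open AlgSp Groth.Agent.H13Cartier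

namespace Groth.Agent.H12AlgSp

section scheme

theorem le_ker_iff {X Y : Scheme.{u}} (w : X ⟶ Y) (I : Y.IdealSheafData) :
    I ≤ w.ker ↔ I.comap w = ⊥ := by
  rw [← Scheme.IdealSheafData.map_bot, Scheme.IdealSheafData.le_map_iff_comap_le, le_bot_iff]

/-- The kernel ideal of a quasi-compact morphism commutes with flat base change. -/
theorem comap_ker_of_flat {X X' Z P : Scheme.{u}} {π : X ⟶ X'} {h : Z ⟶ X'} [Flat π] [QuasiCompact h]
    {a : P ⟶ X} {b : P ⟶ Z} (sq : IsPullback a b π h) : h.ker.comap π = a.ker := by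
  let q := pullback.snd π h.imageι
  have hbot : h.toImage.ker = ⊥ := by
    refine Scheme.IdealSheafData.ext_of_iSup_eq_top
      (fun U : X'.affineOpens => ⟨h.imageι ⁻¹ᵁ U.1, U.2.preimage h.imageι⟩) ?_ fun U => ?_
    · rw [← Scheme.Hom.preimage_iSup, iSup_affineOpens_eq_top, Scheme.Hom.preimage_top]
    · rw [Scheme.Hom.ker_apply, Scheme.IdealSheafData.ideal_bot, Pi.bot_apply,
        ← RingHom.injective_iff_ker_eq_bot]
      exact h.toImage_app_injective U
  have : IsSchemeTheoreticallyDominant h.toImage := ⟨hbot⟩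
  have hpb := (IsPullback.of_hasPullback q h.toImage).flip.paste_vert
    (IsPullback.of_hasPullback π h.imageι).flip
  rw [Scheme.Hom.toImage_imageι] at hpb
  rw [← sq.isoIsPullback_hom_fst _ _ hpb.flip, Scheme.Hom.ker_comp_of_isIso, Scheme.Hom.ker_comp,
    Scheme.Hom.ker_eq_bot (pullback.fst q h.toImage), Scheme.IdealSheafData.map_bot,
    Scheme.IdealSheafData.ker_fst_of_isClosedImmersion, Scheme.IdealSheafData.ker_subschemeι]

theorem isPullback_left {S : Scheme.{u}} {P A B C : Over S} {a : P ⟶ A} {b : P ⟶ B} {f : A ⟶ C} {g : B ⟶ C}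
    (sq : IsPullback a b f g) : IsPullback a.left b.left f.left g.left :=
  sq.map (Over.forget S)

end scheme

variable {S : Scheme.{u}} {X Y Z Z' F G : Sp S}

theorem mono_of_closedImmersion {i : Z ⟶ G} (hi : RepWith @IsClosedImmersion i) : Mono i :=
  mono_of_repWith (fun _ _ f (_ : IsClosedImmersion f) => (inferInstance : Mono f)) hi

/-- A morphism from an algebraic space factors through a monomorphism if it does so on a chart. -/
theorem exists_factor_of_chart {i : Z ⟶ G} [Mono i] {W : Over S} {b : (yon S).obj W ⟶ X}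
    (hb : RepWith @Etale b) (hbs : RepWith @Surjective b) (f : X ⟶ G)
    (h : ∃ l : (yon S).obj W ⟶ Z, l ≫ i = b ≫ f) : ∃ k : X ⟶ Z, k ≫ i = f := by
  have := epi_of_etale_surjective hb hbs
  have : IsRegularEpi b := IsRegularEpiCategory.regularEpiOfEpi b
  obtain ⟨l, hl⟩ := h
  exact ⟨(CommSq.mk hl : CommSq l b i f).lift, CommSq.fac_right _⟩

theorem factors_iff {i : Z ⟶ G} {U : Over S} {ψ : (yon S).obj U ⟶ G} {I : U.left.IdealSheafData}
    (h : CutsOut i ψ I) {A : Over S} (a : A ⟶ U) :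
    (∃ l : (yon S).obj A ⟶ Z, l ≫ i = (yon S).map a ≫ ψ) ↔ I.comap a.left = ⊥ := by
  obtain ⟨q, sq⟩ := h
  constructor
  · rintro ⟨l, hl⟩
    obtain ⟨m, hm⟩ := (yon S).map_surjective (sq.lift l ((yon S).map a) hl)
    have : m ≫ subIncl U I = a := (yon S).map_injective (by rw [Functor.map_comp, hm, sq.lift_snd])
    exact (Groth.Agent.H14AlgSt.comap_eq_bot_iff_factors I a.left).2 ⟨m.left, congrArg Over.Hom.left this⟩
  · intro h
    obtain ⟨g, hg⟩ := (Groth.Agent.H14AlgSt.comap_eq_bot_iff_factors I a.left).1 h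
    let m : A ⟶ subOver U I := Over.homMk g (by
      change g ≫ I.subschemeι ≫ U.hom = A.hom
      rw [← Category.assoc, hg, Over.w])
    have : m ≫ subIncl U I = a := Over.OverMorphism.ext hg
    exact ⟨(yon S).map m ≫ q, by rw [Category.assoc, sq.w, ← Category.assoc, ← Functor.map_comp, this]⟩

theorem invariant_of_kernelPair {U R : Over S} {p : (yon S).obj U ⟶ X} {s t : R ⟶ U}
    (sq : IsPullback ((yon S).map t) ((yon S).map s) p p) {I : U.left.IdealSheafData}
    (key : I.comap t.left = I.comap s.left) (A : Over S) (d d' : A ⟶ U)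
    (e : (yon S).map d ≫ p = (yon S).map d' ≫ p) : I.comap d.left = I.comap d'.left := by
  obtain ⟨l, hl⟩ := (yon S).map_surjective (sq.lift ((yon S).map d) ((yon S).map d') e)
  have h1 : l ≫ t = d := (yon S).map_injective (by rw [Functor.map_comp, hl, sq.lift_fst])
  have h2 : l ≫ s = d' := (yon S).map_injective (by rw [Functor.map_comp, hl, sq.lift_snd])
  rw [← h1, ← h2, Over.comp_left, Over.comp_left, Scheme.IdealSheafData.comap_comp,
    Scheme.IdealSheafData.comap_comp, key]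

theorem exists_kernelPair {U : Over S} {p : (yon S).obj U ⟶ X} (hp : RepWith @Etale p) :
    ∃ (R : Over S) (s t : R ⟶ U), Etale s.left ∧ Etale t.left ∧
      IsPullback ((yon S).map t) ((yon S).map s) p p := by
  obtain ⟨R, s, t, sq⟩ := hp.rep p
  obtain ⟨t, rfl⟩ := (yon S).map_surjective t
  exact ⟨R, s, t, hp.property p _ s sq, hp.property p _ t sq.flip, sq⟩

/-- An invariant ideal on an atlas cuts out a closed subspace. -/
theorem exists_closedSub (hX : IsAlgSpace X) {U : Over S} {p : (yon S).obj U ⟶ X}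
    (hp : RepWith @Etale p) (hps : RepWith @Surjective p) {I : U.left.IdealSheafData}
    (hI : ∀ (A : Over S) (d d' : A ⟶ U),
      (yon S).map d ≫ p = (yon S).map d' ≫ p → I.comap d.left = I.comap d'.left) :
    ∃ (Z : Sp S) (i : Z ⟶ X), IsAlgSpace Z ∧ RepWith @IsClosedImmersion i ∧ CutsOut i p I := by
  obtain ⟨q, sqq⟩ := H13AlgSp.exists_isPullback_idealSub hI
  have hq : RepWith @Etale q := repWith_of_isPullback sqq.flip hp
  have hqs : RepWith @Surjective q := repWith_of_isPullback sqq.flip hps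
  have hm := H13AlgSp.mono_idealSubι p I
  have sqm : IsPullback (H13AlgSp.idealSubι p I) (Limits.diag (H13AlgSp.idealSub p I)) (Limits.diag X)
      (prod.map (H13AlgSp.idealSubι p I) (H13AlgSp.idealSubι p I)) := by
    refine ⟨⟨by ext <;> simp⟩, ⟨PullbackCone.IsLimit.mk _ (fun c => c.snd ≫ prod.fst) (fun c => ?_) (fun c => ?_)
      fun c m h1 h2 => ?_⟩⟩
    · have h₁ := c.condition =≫ prod.fst
      simp [Limits.prod.lift_fst] at h₁
      simp [h₁]
    · have h₁ := c.condition =≫ prod.fst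
      have h₂ := c.condition =≫ prod.snd
      simp [Limits.prod.lift_fst, Limits.prod.lift_snd] at h₁ h₂
      apply Limits.prod.hom_ext
      · simp [Limits.prod.lift_fst]
      · rw [← cancel_mono (H13AlgSp.idealSubι p I)]
        simp [Limits.prod.lift_snd, ← h₂, ← h₁]
    · have h₁ := h2 =≫ prod.fst
      simpa [Limits.prod.lift_fst] using h₁
  have hZ : IsAlgSpace (H13AlgSp.idealSub p I) :=
    ⟨representable_of_isPullback sqm hX.diag, _, q, hq, hqs⟩
  exact ⟨_, _, hZ, repWith_of_etale_cover (fun _ _ k (_ : IsClosedImmersion k) => inferInstanceAs (IsAffineHom k))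
    hZ hX hp hps sqq ((repWith_yon_map_iff _ _).2 (inferInstanceAs (IsClosedImmersion I.subschemeι))), q, sqq⟩

/-- Containment of closed subspaces is read on a chart. -/
theorem factor_iff_le (hZ' : IsAlgSpace Z') {U : Over S} {p : (yon S).obj U ⟶ X}
    (hp : RepWith @Etale p) (hps : RepWith @Surjective p) {i : Z ⟶ X} (hi : RepWith @IsClosedImmersion i)
    {i' : Z' ⟶ X} {I I' : U.left.IdealSheafData} (h : CutsOut i p I) (h' : CutsOut i' p I') :
    (∃ k : Z' ⟶ Z, k ≫ i = i') ↔ I ≤ I' := by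
  obtain ⟨q, sq⟩ := h'
  have key : (∃ l : (yon S).obj (subOver U I') ⟶ Z, l ≫ i = (yon S).map (subIncl U I') ≫ p) ↔ I ≤ I' := by
    rw [factors_iff h, ← le_ker_iff]
    exact iff_of_eq (congrArg (I ≤ ·) I'.ker_subschemeι)
  constructor
  · rintro ⟨k, hk⟩
    exact key.1 ⟨q ≫ k, by rw [Category.assoc, hk, sq.w]⟩
  · intro hle
    obtain ⟨l, hl⟩ := key.2 hle
    have := mono_of_closedImmersion hi
    exact exists_factor_of_chart (repWith_of_isPullback sq.flip hp) (repWith_of_isPullback sq.flip hps) i'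
      ⟨l, by rw [hl, sq.w]⟩

/-- An atlas `a` of the base change of `f` to a chart `p`, with structure map `w`. -/
structure IsBcAtlas (f : X ⟶ Y) {U W : Over S} (p : (yon S).obj U ⟶ Y)
    (a : (yon S).obj W ⟶ pullback f p) (w : W ⟶ U) : Prop where
  etale : RepWith @Etale a
  surj : RepWith @Surjective a
  fac : a ≫ pullback.snd f p = (yon S).map w

theorem IsBcAtlas.factors_iff {f : X ⟶ Y} {U W : Over S} {p : (yon S).obj U ⟶ Y}
    {a : (yon S).obj W ⟶ pullback f p} {w : W ⟶ U} (h : IsBcAtlas f p a w)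
    (hp : RepWith @Etale p) (hps : RepWith @Surjective p) {i : Z ⟶ Y} (hi : RepWith @IsClosedImmersion i)
    {J : U.left.IdealSheafData} (hJ : CutsOut i p J) :
    (∃ f' : X ⟶ Z, f' ≫ i = f) ↔ J ≤ w.left.ker := by
  have e : (a ≫ pullback.fst f p) ≫ f = (yon S).map w ≫ p := by
    rw [Category.assoc, pullback.condition, ← Category.assoc, h.fac]
  rw [le_ker_iff, ← H12AlgSp.factors_iff hJ]
  constructor
  · rintro ⟨f', hf'⟩
    exact ⟨(a ≫ pullback.fst f p) ≫ f', by rw [Category.assoc, hf', e]⟩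
  · rintro ⟨l, hl⟩
    have := mono_of_closedImmersion hi
    exact exists_factor_of_chart
      (repWith_comp h.etale (repWith_of_isPullback (IsPullback.of_hasPullback f p).flip hp))
      (repWith_comp h.surj (repWith_of_isPullback (IsPullback.of_hasPullback f p).flip hps)) f
      ⟨l, by rw [hl, e]⟩

theorem exists_bcAtlas (hX : IsAlgSpace X) (hY : IsAlgSpace Y) (f : X ⟶ Y) {U : Over S}
    (p : (yon S).obj U ⟶ Y) :
    ∃ (W : Over S) (a : (yon S).obj W ⟶ pullback f p) (w : W ⟶ U), IsBcAtlas f p a w := by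
  obtain ⟨W, a, ha, has⟩ := (isAlgSpace_pullback hY.diag hX (IsAlgSpace.yon_obj U) f p).atlas
  obtain ⟨w, hw⟩ := (yon S).map_surjective (a ≫ pullback.snd f p)
  exact ⟨W, a, w, ha, has, hw.symm⟩

/-- Every morphism of algebraic spaces has a scheme theoretic image. -/
theorem exists_isSchImage (hX : IsAlgSpace X) (hY : IsAlgSpace Y) (f : X ⟶ Y) :
    ∃ (Z : Sp S) (i : Z ⟶ Y), IsAlgSpace Z ∧ IsSchImage f i := by
  obtain ⟨U, p, hp, hps⟩ := hY.atlas
  obtain ⟨W, a, w, hW⟩ := exists_bcAtlas hX hY f p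
  let 𝒥 : Set U.left.IdealSheafData := {J | J ≤ w.left.ker ∧ ∀ (A : Over S) (d d' : A ⟶ U),
    (yon S).map d ≫ p = (yon S).map d' ≫ p → J.comap d.left = J.comap d'.left}
  obtain ⟨Z, i, hZ, hi, hc⟩ := exists_closedSub hY hp hps (I := sSup 𝒥) fun A d d' e => by
    rw [(Scheme.IdealSheafData.map_gc d.left).l_sSup, (Scheme.IdealSheafData.map_gc d'.left).l_sSup]
    exact iSup_congr fun J => iSup_congr fun hJ => hJ.2 A d d' e
  refine ⟨Z, i, hZ, hi, (hW.factors_iff hp hps hi hc).2 (sSup_le fun J hJ => hJ.1), fun Z' i' hZ' hi' hfac => ?_⟩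
  obtain ⟨J, hJ⟩ := exists_cutsOut hi' p
  exact (factor_iff_le hZ hp hps hi' hJ hc).2
    (le_sSup ⟨(hW.factors_iff hp hps hi' hJ).1 hfac, fun A d d' e => hJ.comap_eq hJ e⟩)

/-- Two atlases of the same space have the same kernel ideal in the base. -/
theorem ker_le_ker_of_cover {P : Sp S} {T W₁ W₂ : Over S} {q : P ⟶ (yon S).obj T}
    {a₁ : (yon S).obj W₁ ⟶ P} (h₁ : RepWith @Etale a₁) (h₁s : RepWith @Surjective a₁)
    {a₂ : (yon S).obj W₂ ⟶ P} {w₁ : W₁ ⟶ T} {w₂ : W₂ ⟶ T}
    (e₁ : a₁ ≫ q = (yon S).map w₁) (e₂ : a₂ ≫ q = (yon S).map w₂) : w₁.left.ker ≤ w₂.left.ker := by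
  rw [le_ker_iff]
  obtain ⟨V, v, k', sq⟩ := h₁.rep a₂
  obtain ⟨k, rfl⟩ := (yon S).map_surjective k'
  have : Etale v.left := h₁.property a₂ _ v sq
  have hs : Surjective v.left := h₁s.property a₂ _ v sq
  have hkv : k ≫ w₁ = v ≫ w₂ := (yon S).map_injective (by
    rw [Functor.map_comp, Functor.map_comp, ← e₁, ← e₂, ← Category.assoc, sq.w, Category.assoc])
  refine Groth.Agent.H14AlgSt.eq_bot_of_comap_eq_bot _ (fun _ : PUnit.{1} => V.left) (fun _ => v.left)
    (fun x => ⟨⟨⟩, v.left.surjective x⟩) fun _ => ?_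
  rw [← Scheme.IdealSheafData.comap_comp, ← Over.comp_left, ← hkv, Over.comp_left,
    Scheme.IdealSheafData.comap_comp, (le_ker_iff _ _).1 le_rfl, Scheme.IdealSheafData.comap_bot]

/-- Base change of an atlas of a base change. -/
theorem IsBcAtlas.exists_baseChange {X' Y' : Sp S} {f : X ⟶ Y} {g : Y' ⟶ Y} {f₁ : X' ⟶ X} {f' : X' ⟶ Y'}
    (sqX : IsPullback f₁ f' f g) {U U' W : Over S} {p : (yon S).obj U ⟶ Y} {p' : (yon S).obj U' ⟶ Y'}
    {u : U' ⟶ U} (hu : p' ≫ g = (yon S).map u ≫ p)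
    {a : (yon S).obj W ⟶ pullback f p} {w : W ⟶ U} (h : IsBcAtlas f p a w) :
    ∃ (W' : Over S) (a' : (yon S).obj W' ⟶ pullback f' p') (w' : W' ⟶ U') (k : W' ⟶ W),
      IsBcAtlas f' p' a' w' ∧ IsPullback k w' w u := by
  let k := pullback.fst w u
  let w' := pullback.snd w u
  have sqW : IsPullback k w' w u := IsPullback.of_hasPullback w u
  have sqP := (IsPullback.of_hasPullback f' p').paste_horiz sqX
  rw [hu] at sqP
  let m := pullback.lift (f := f) (g := p) (pullback.fst f' p' ≫ f₁)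
    (pullback.snd f' p' ≫ (yon S).map u) (sqP.w.trans (Category.assoc _ _ _).symm)
  have sqm : IsPullback m (pullback.snd f' p') (pullback.snd f p) ((yon S).map u) := by
    refine IsPullback.of_right ?_ (pullback.lift_snd _ _ _) (IsPullback.of_hasPullback f p)
    rw [pullback.lift_fst]
    exact sqP
  have e : ((yon S).map k ≫ a) ≫ pullback.snd f p = (yon S).map w' ≫ (yon S).map u := by
    rw [Category.assoc, h.fac, ← Functor.map_comp, ← Functor.map_comp, sqW.w]
  let a' := sqm.lift ((yon S).map k ≫ a) ((yon S).map w') e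
  have sqa : IsPullback ((yon S).map k) a' a m := by
    refine IsPullback.of_bot ?_ (sqm.lift_fst _ _ _).symm sqm
    rw [sqm.lift_snd, h.fac]
    exact sqW.map (yon S)
  exact ⟨_, a', w', k, ⟨repWith_of_isPullback sqa h.etale, repWith_of_isPullback sqa h.surj,
    sqm.lift_snd _ _ _⟩, sqW⟩

/-- For a quasi-compact atlas the kernel ideal is invariant. -/
theorem IsBcAtlas.ker_invariant {f : X ⟶ Y} {U W : Over S} {p : (yon S).obj U ⟶ Y} (hp : RepWith @Etale p)
    {a : (yon S).obj W ⟶ pullback f p} {w : W ⟶ U} (h : IsBcAtlas f p a w) [QuasiCompact w.left]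
    (A : Over S) (d d' : A ⟶ U) (e : (yon S).map d ≫ p = (yon S).map d' ≫ p) :
    w.left.ker.comap d.left = w.left.ker.comap d'.left := by
  obtain ⟨R, s, t, hs, ht, sq⟩ := exists_kernelPair hp
  refine invariant_of_kernelPair sq ?_ A d d' e
  have sqX := IsPullback.of_hasPullback f ((yon S).map t ≫ p)
  obtain ⟨W₁, a₁, w₁, k₁, h₁, sq₁⟩ := IsBcAtlas.exists_baseChange sqX (p' := 𝟙 _) (Category.id_comp _) h
  obtain ⟨W₂, a₂, w₂, k₂, h₂, sq₂⟩ := IsBcAtlas.exists_baseChange sqX (p' := 𝟙 _)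
    ((Category.id_comp _).trans sq.w) h
  rw [comap_ker_of_flat (isPullback_left sq₁).flip, comap_ker_of_flat (isPullback_left sq₂).flip]
  exact le_antisymm (ker_le_ker_of_cover h₁.etale h₁.surj h₁.fac h₂.fac)
    (ker_le_ker_of_cover h₂.etale h₂.surj h₂.fac h₁.fac)

/-- A closed subspace cut out by the kernel of a quasi-compact atlas is the scheme theoretic image. -/
theorem IsBcAtlas.isSchImage {f : X ⟶ Y} {U W : Over S} {p : (yon S).obj U ⟶ Y} (hp : RepWith @Etale p)
    (hps : RepWith @Surjective p) {a : (yon S).obj W ⟶ pullback f p} {w : W ⟶ U} (h : IsBcAtlas f p a w)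
    {i : Z ⟶ Y} (hZ : IsAlgSpace Z) (hi : RepWith @IsClosedImmersion i) (hc : CutsOut i p w.left.ker) :
    IsSchImage f i := by
  refine ⟨hi, (h.factors_iff hp hps hi hc).2 le_rfl, fun Z' i' hZ' hi' hfac => ?_⟩
  obtain ⟨J, hJ⟩ := exists_cutsOut hi' p
  exact (factor_iff_le hZ hp hps hi' hJ hc).2 ((h.factors_iff hp hps hi' hJ).1 hfac)

/-- On a chart with a quasi-compact atlas the scheme theoretic image is cut out by the kernel. -/
theorem IsBcAtlas.cutsOut (hY : IsAlgSpace Y) {f : X ⟶ Y} {U W : Over S} {p : (yon S).obj U ⟶ Y}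
    (hp : RepWith @Etale p) (hps : RepWith @Surjective p) {a : (yon S).obj W ⟶ pullback f p} {w : W ⟶ U}
    (h : IsBcAtlas f p a w) [QuasiCompact w.left] {i : Z ⟶ Y} (hZ : IsAlgSpace Z) (hi : IsSchImage f i) :
    CutsOut i p w.left.ker := by
  obtain ⟨J, hJ⟩ := exists_cutsOut hi.1 p
  obtain ⟨Z', i', hZ', hi', hc'⟩ := exists_closedSub hY hp hps (h.ker_invariant hp)
  have : J = w.left.ker := le_antisymm ((h.factors_iff hp hps hi.1 hJ).1 hi.2.1)
    ((factor_iff_le hZ hp hps hi' hc' hJ).1 (hi.2.2 i' hZ' hi' ((h.factors_iff hp hps hi' hc').2 le_rfl)))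
  exact this ▸ hJ

/-- Quasi-compact morphisms have quasi-compact atlases over suitable charts. -/
theorem exists_qc_bcAtlas (hX : IsAlgSpace X) (hY : IsAlgSpace Y) {f : X ⟶ Y} (hf : IsQuasiCompactMor f) :
    ∃ (U W : Over S) (p : (yon S).obj U ⟶ Y) (a : (yon S).obj W ⟶ pullback f p) (w : W ⟶ U),
      RepWith @Etale p ∧ RepWith @Surjective p ∧ IsBcAtlas f p a w ∧ QuasiCompact w.left := by
  classical
  obtain ⟨U₀, p₀, hp₀, hp₀s⟩ := hY.atlas
  let D : U₀.left.affineOpens → Scheme.{u} := fun k => k.1.toScheme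
  let π : (∐ D) ⟶ U₀.left := Sigma.desc fun k => k.1.ι
  let U : Over S := Over.mk (π ≫ U₀.hom)
  let uu : U ⟶ U₀ := Over.homMk π rfl
  have hue : Etale uu.left :=
    IsZariskiLocalAtSource.sigmaDesc (P := @Etale) fun k => inferInstanceAs (Etale k.1.ι)
  have hus : Surjective uu.left := ⟨fun x => by
    obtain ⟨O, hO, hx, -⟩ := TopologicalSpace.Opens.isBasis_iff_nbhd.mp U₀.left.isBasis_affineOpens
      (TopologicalSpace.Opens.mem_top x)
    refine ⟨Sigma.ι D ⟨O, hO⟩ ⟨x, hx⟩, ?_⟩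
    change π _ = _
    rw [← Scheme.Hom.comp_apply, Sigma.ι_desc]
    rfl⟩
  let p : (yon S).obj U ⟶ Y := (yon S).map uu ≫ p₀
  have hp : RepWith @Etale p := repWith_comp ((repWith_yon_map_iff _ _).2 hue) hp₀
  have hps : RepWith @Surjective p := repWith_comp ((repWith_yon_map_iff _ _).2 hus) hp₀s
  let Vk : U₀.left.affineOpens → U.left.Opens := fun k => (Sigma.ι D k).opensRange
  have hVd : ∀ k l (x : U.left), x ∈ Vk k → x ∈ Vk l → k = l := by
    rintro k l _ ⟨a, rfl⟩ ⟨b, hb⟩
    exact congrArg Sigma.fst ((sigmaι_eq_iff D k l a b).1 hb.symm)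
  have hVc : ∀ x : U.left, ∃ k, x ∈ Vk k := fun x => by
    obtain ⟨k, v, hv⟩ := (sigmaOpenCover D).exists_eq x
    exact ⟨k, v, hv⟩
  obtain ⟨W₀, a₀, w₀, h₀⟩ := exists_bcAtlas hX hY f p
  have ho := isOpenMap_ofPt_of_repWith etale_le_universallyOpen h₀.etale
  have hsnd : ∀ v, Points.map (pullback.snd f p) (Points.ofPt a₀ v) = Points.schemeHomeo U (w₀.left v) :=
    fun v => by
      rw [Points.map_ofPt, h₀.fac]
      exact (Points.ofPt_eq_map_ofScheme _ _).trans (Points.map_yon_map_apply w₀ v)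
  have hcomp : ∀ k, IsCompact (Points.map (pullback.snd f p) ⁻¹' (Points.schemeHomeo U '' (Vk k : Set U.left))) := by
    intro k
    let T : Over S := Over.mk (Sigma.ι D k ≫ U.hom)
    let j : T ⟶ U := Over.homMk (Sigma.ι D k) rfl
    have sq := IsPullback.of_hasPullback (pullback.snd f p) ((yon S).map j)
    have : CompactSpace ↥T.left :=
      have : IsAffine T.left := k.2
      inferInstance
    have := compactSpace_points_of_isQuasiCompactSp (hf (IsAlgSpace.yon_obj T)
      (isQuasiCompactSp_yon_iff.2 this) _ _ _ (sq.paste_horiz (IsPullback.of_hasPullback f p)))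
    have hr : Set.range (Points.map ((yon S).map j)) = Points.schemeHomeo U '' (Vk k : Set U.left) := by
      ext y
      constructor
      · rintro ⟨z, rfl⟩
        obtain ⟨z, rfl⟩ := (Points.schemeHomeo T).surjective z
        exact ⟨_, ⟨z, rfl⟩, (Points.map_yon_map_apply j z).symm⟩
      · rintro ⟨_, ⟨z, rfl⟩, rfl⟩
        exact ⟨Points.schemeHomeo T z, Points.map_yon_map_apply j z⟩
    rw [← hr, ← range_snd_of_isPullback sq.flip]
    exact isCompact_range (Points.continuous_map _)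
  have hfin : ∀ k, ∃ t : Finset { O : W₀.left.affineOpens // (O.1 : Set W₀.left) ⊆ w₀.left ⁻¹' (Vk k : Set U.left) },
      Points.map (pullback.snd f p) ⁻¹' (Points.schemeHomeo U '' (Vk k : Set U.left)) ⊆
        ⋃ O ∈ t, Points.ofPt a₀ '' (O.1.1 : Set W₀.left) := by
    intro k
    refine (hcomp k).elim_finite_subcover _ (fun O => ho _ O.1.1.2) ?_
    rintro x ⟨v', hv', hx⟩
    obtain ⟨v, rfl⟩ := surjective_ofPt_of_repWith le_rfl h₀.surj x
    rw [hsnd] at hx
    obtain ⟨O, hO, hvO, hle⟩ := TopologicalSpace.Opens.isBasis_iff_nbhd.mp W₀.left.isBasis_affineOpens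
      (show v ∈ w₀.left ⁻¹ᵁ Vk k by
        rw [(Points.schemeHomeo U).injective hx] at hv'; exact hv')
    exact Set.mem_iUnion.2 ⟨⟨⟨O, hO⟩, hle⟩, v, hvO, rfl⟩
  choose t ht using hfin
  let I := Σ k, { O // O ∈ t k }
  let E : I → Scheme.{u} := fun i => i.2.1.1.1.toScheme
  let d : (∐ E) ⟶ W₀.left := Sigma.desc fun i => i.2.1.1.1.ι
  let W : Over S := Over.mk (d ≫ W₀.hom)
  let dd : W ⟶ W₀ := Over.homMk d rfl
  have hde : Etale dd.left :=
    IsZariskiLocalAtSource.sigmaDesc (P := @Etale) fun i => inferInstanceAs (Etale i.2.1.1.1.ι)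
  have hmem : ∀ (i : I) (z : E i), w₀.left (d (Sigma.ι E i z)) ∈ Vk i.1 := fun i z => by
    rw [← Scheme.Hom.comp_apply (Sigma.ι E i) d, Sigma.ι_desc]
    exact i.2.1.2 z.2
  have ha : RepWith @Etale ((yon S).map dd ≫ a₀) :=
    repWith_comp ((repWith_yon_map_iff _ _).2 hde) h₀.etale
  refine ⟨U, W, p, (yon S).map dd ≫ a₀, dd ≫ w₀, hp, hps,
    ⟨ha, repWith_surjective_of_map ha.1 fun x => ?_, by rw [Category.assoc, h₀.fac, Functor.map_comp]⟩, ?_⟩
  · obtain ⟨v, rfl⟩ := surjective_ofPt_of_repWith le_rfl h₀.surj x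
    obtain ⟨k, hk⟩ := hVc (w₀.left v)
    obtain ⟨O, hO, o, ho', hov⟩ := Set.mem_iUnion₂.1 (ht k ⟨_, hk, (hsnd v).symm⟩)
    refine ⟨Points.ofScheme W (Sigma.ι E ⟨k, O, hO⟩ ⟨o, ho'⟩), ?_⟩
    rw [← hov, ← Points.ofPt_eq_map_ofScheme, ofPt_map]
    congr 1
    change d _ = o
    rw [← Scheme.Hom.comp_apply, Sigma.ι_desc]
    rfl
  · refine IsZariskiLocalAtTarget.of_iSup_eq_top (P := @QuasiCompact) Vk
      (top_unique fun x _ => TopologicalSpace.Opens.mem_iSup.2 (hVc x)) fun k => ?_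
    have : IsAffine (Vk k) := by
      have : IsAffine (D k) := k.2
      exact isAffineOpen_opensRange (Sigma.ι D k)
    rw [HasAffineProperty.iff_of_isAffine (P := @QuasiCompact)]
    refine isCompact_iff_compactSpace.mp ?_
    have : ((dd ≫ w₀).left ⁻¹ᵁ Vk k : Set W.left) =
        ⋃ O : { O // O ∈ t k }, Set.range (Sigma.ι E ⟨k, O⟩) := by
      ext x
      constructor
      · intro hx
        obtain ⟨i, z, rfl⟩ := (sigmaOpenCover E).exists_eq x
        obtain rfl := hVd i.1 k _ (hmem i z) hx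
        exact Set.mem_iUnion.2 ⟨i.2, z, rfl⟩
      · intro hx
        obtain ⟨O, z, rfl⟩ := Set.mem_iUnion.1 hx
        exact hmem ⟨k, O⟩ z
    rw [this]
    refine isCompact_iUnion fun O => ?_
    have : IsAffine (E ⟨k, O⟩) := O.1.1.2
    exact isCompact_range (Sigma.ι E ⟨k, O⟩).continuous

/-- Flat base change of the scheme theoretic image of a quasi-compact morphism. -/
theorem isSchImage_flat_baseChange {X' Y' Z₁ : Sp S} (hX : IsAlgSpace X) (hY : IsAlgSpace Y)
    (hY' : IsAlgSpace Y') {f : X ⟶ Y} (hf : IsQuasiCompactMor f) (hZ : IsAlgSpace Z) {i : Z ⟶ Y}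
    (hi : IsSchImage f i) {g : Y' ⟶ Y} (hg : LocP @Flat g) {f₁ : X' ⟶ X} {f' : X' ⟶ Y'}
    (sqX : IsPullback f₁ f' f g) {i₁ : Z₁ ⟶ Z} {i' : Z₁ ⟶ Y'} (sqZ : IsPullback i₁ i' i g) :
    IsSchImage f' i' := by
  obtain ⟨U, W, p, a, w, hp, hps, hW, hwq⟩ := exists_qc_bcAtlas hX hY hf
  obtain ⟨U', p', hp', hp's⟩ := hY'.atlas
  obtain ⟨R, r, u', sqR⟩ := hp.rep (p' ≫ g)
  obtain ⟨u, rfl⟩ := (yon S).map_surjective u'
  have hr : Etale r.left := hp.property (p' ≫ g) _ r sqR
  have hrs : Surjective r.left := hps.property (p' ≫ g) _ r sqR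
  let p'' := (yon S).map r ≫ p'
  have hp'' : RepWith @Etale p'' := repWith_comp ((repWith_yon_map_iff _ _).2 hr) hp'
  have hp''s : RepWith @Surjective p'' := repWith_comp ((repWith_yon_map_iff _ _).2 hrs) hp's
  have hu : p'' ≫ g = (yon S).map u ≫ p := by rw [Category.assoc, ← sqR.w]
  have : Flat u.left := hg p'' p u hp'' hp hu
  obtain ⟨W', a', w', k, hW', sqW⟩ := hW.exists_baseChange sqX hu
  refine hW'.isSchImage hp'' hp''s (isAlgSpace_of_isPullback hY.diag hZ hY' sqZ)
    (repWith_of_isPullback sqZ hi.1) ?_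
  rw [← comap_ker_of_flat (isPullback_left sqW).flip]
  exact cutsOut_of_isPullback sqZ (hu.symm ▸ (hW.cutsOut hY hp hps hZ hi).comap u)

/-- The scheme theoretic image of a quasi-compact morphism lies in the closure of the image. -/
theorem range_schImage_subset (hX : IsAlgSpace X) (hY : IsAlgSpace Y)
    {f : X ⟶ Y} (hf : IsQuasiCompactMor f) (hZ : IsAlgSpace Z) {i : Z ⟶ Y} (hi : IsSchImage f i) :
    Set.range (Points.map i) ⊆ closure (Set.range (Points.map f)) := by
  obtain ⟨U, W, p, a, w, hp, hps, hW, hwq⟩ := exists_qc_bcAtlas hX hY hf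
  obtain ⟨q, sq⟩ := hW.cutsOut hY hp hps hZ hi
  intro y hy
  obtain ⟨x, rfl⟩ := surjective_ofPt_of_repWith le_rfl hps y
  have hx : x ∈ closure (Set.range w.left) := by
    rw [← Scheme.Hom.support_ker, ← Scheme.IdealSheafData.range_subschemeι]
    exact (preimage_ofPt_range sq).le hy
  refine map_mem_closure (Points.continuous_ofPt p) hx ?_
  rintro _ ⟨v, rfl⟩
  refine ⟨Points.ofPt (a ≫ pullback.fst f p) v, ?_⟩
  rw [Points.map_ofPt, Category.assoc, pullback.condition, ← Category.assoc, hW.fac, ofPt_map]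

end Groth.Agent.H12AlgSp
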