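import Groth.Agent.H12AlgSp.Presentation
import Groth.Prelude.Def_AlgSpOX
import Mathlib.AlgebraicGeometry.AffineScheme

/-!
Morphisms from an algebraic space to an affine scheme are ring maps to the global functions.
-/

set_option backward.isDefEq.respectTransparency false

universe u

open CategoryTheory CategoryTheory.Limits AlgebraicGeometry Opposite
open AlgSp

namespace Groth.Agent.H12AlgSp

/-- The morphism into an affine scheme with given map on global functions. -/
theorem exists_appTop_eq {Y T : Scheme.{u}} [IsAffine T] (ψ : Γ(T, ⊤) ⟶ Γ(Y, ⊤)) :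
    ∃ g : Y ⟶ T, g.appTop = ψ := by
  refine ⟨Y.toSpecΓ ≫ Spec.map ψ ≫ T.isoSpec.inv, ?_⟩
  have h : T.isoSpec.inv.appTop = (Scheme.ΓSpecIso Γ(T, ⊤)).inv := by
    rw [← cancel_mono T.isoSpec.hom.appTop, ← Scheme.Hom.comp_appTop, Iso.hom_inv_id]
    rw [Scheme.Hom.id_appTop, Scheme.isoSpec_hom, Scheme.toSpecΓ_appTop, Iso.inv_hom_id]
  rw [Scheme.Hom.comp_appTop, Scheme.Hom.comp_appTop, h, ← Scheme.ΓSpecIso_inv_naturality, Category.assoc,
    Scheme.toSpecΓ_appTop, Iso.inv_hom_id, Category.comp_id]

variable {S : Scheme.{u}} {X : Sp S}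

/-- The component at a chart of a ring map to the global functions. -/
noncomputable def compMap {A : Type u} [CommRing A] (φ : A →+* ↥(gsectEt (OEt X))) (E : EtOver X) :
    A →+* Γ(E.obj.left.left, ⊤) :=
  ((ULift.ringEquiv (R := Γ(E.obj.left.left, ⊤))).toRingHom.comp
    (limit.π (OEt X).obj (op E)).hom).comp φ

theorem compMap_natural {A : Type u} [CommRing A] (φ : A →+* ↥(gsectEt (OEt X))) {E E' : EtOver X}
    (g : E ⟶ E') (r : A) : g.hom.left.left.appTop (compMap φ E' r) = compMap φ E r :=
  congrArg ULift.down (ConcreteCategory.congr_hom (limit.w (OEt X).obj g.op) (φ r))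

theorem existsUnique_hom_to_affine (hS : IsTerminal S) (hX : IsAlgSpace X) (T : Over S) [IsAffine T.left]
    (φ : Γ(T.left, ⊤) →+* ↥(gsectEt (OEt X))) :
    ∃! f : X ⟶ (yon S).obj T,
      ∀ (E : EtOver X) (r : Γ(T.left, ⊤)),
        ((limit.π (OEt X).obj (op E)) (φ r)).down =
          ((yon S).preimage (E.obj.hom ≫ f)).left.appTop r := by
  have hex : ∀ E : EtOver X, ∃ g : E.obj.left ⟶ T, ∀ r, g.left.appTop r = compMap φ E r := by
    intro E
    obtain ⟨g, hg⟩ := exists_appTop_eq (CommRingCat.ofHom (compMap φ E))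
    exact ⟨Over.homMk g (hS.hom_ext _ _), fun r => ConcreteCategory.congr_hom hg r⟩
  choose h hh using hex
  have hnat : ∀ {E E' : EtOver X} (g : E ⟶ E'), g.hom.left ≫ h E' = h E := by
    intro E E' g
    refine Over.OverMorphism.ext (ext_of_isAffine ?_)
    ext r
    rw [Over.comp_left, Scheme.Hom.comp_appTop]
    exact (congrArg g.hom.left.left.appTop (hh E' r)).trans ((compMap_natural φ g r).trans (hh E r).symm)
  obtain ⟨U, p, hp, hs⟩ := hX.atlas
  let E₀ : EtOver X := EtOver.mk p hp
  have : Epi p := epi_of_etale_surjective hp hs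
  let P : EtOver X := EtOver.prodObj E₀ E₀
  have hsq : IsPullback ((yon S).map (EtOver.prodSnd E₀ E₀).hom.left)
      ((yon S).map (EtOver.prodFst E₀ E₀).hom.left) p p := by
    have := E₀.property.1.isPullback E₀.obj.hom
    rw [← Functor.relativelyRepresentable.map_fst'] at this
    exact this
  obtain ⟨hcoeq⟩ := nonempty_isColimit_of_atlas hp hs hsq
  have hw : (yon S).map (EtOver.prodSnd E₀ E₀).hom.left ≫ (yon S).map (h E₀) =
      (yon S).map (EtOver.prodFst E₀ E₀).hom.left ≫ (yon S).map (h E₀) := by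
    rw [← Functor.map_comp, ← Functor.map_comp, hnat, hnat]
  obtain ⟨f, hf⟩ := Cofork.IsColimit.desc' hcoeq _ hw
  replace hf : p ≫ f = (yon S).map (h E₀) := hf
  have key : ∀ E : EtOver X, E.obj.hom ≫ f = (yon S).map (h E) := by
    intro E
    let Q := EtOver.prodObj E₀ E
    let d := (EtOver.prodSnd E₀ E).hom.left
    have hpb : IsPullback ((yon S).map d) ((yon S).map (EtOver.prodFst E₀ E).hom.left) E.obj.hom p := by
      have := E.property.1.isPullback p
      rw [← Functor.relativelyRepresentable.map_fst'] at this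
      exact this
    have : Epi ((yon S).map d) :=
      epi_of_etale_surjective (repWith_of_isPullback hpb.flip hp) (repWith_of_isPullback hpb.flip hs)
    rw [← cancel_epi ((yon S).map d), ← Category.assoc, hpb.w, Category.assoc, hf, ← Functor.map_comp,
      ← Functor.map_comp, hnat, hnat]
  refine ⟨f, fun E r => ?_, fun f' hf' => ?_⟩
  · rw [key, Functor.preimage_map]
    exact (hh E r).symm
  · have h' : (yon S).preimage (p ≫ f') = h E₀ := Over.OverMorphism.ext (ext_of_isAffine (by
      ext r
      exact (hf' E₀ r).symm.trans (hh E₀ r).symm))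
    rw [← cancel_epi p, hf, ← h', Functor.map_preimage]

end Groth.Agent.H12AlgSp
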