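import Groth.Agent.H12AlgSp.SchImageImmersion
import Groth.Agent.H13Cartier.Sum

/-!
Quasi-coherent ideal sheaves on the small etale site and closed subspaces.
-/

set_option linter.unusedVariables false
set_option backward.isDefEq.respectTransparency false

universe u

open CategoryTheory CategoryTheory.Limits AlgebraicGeometry Opposite Topology
open AlgSp Groth.Agent.H13Cartier Groth.Agent.H13AlgSp

namespace Groth.Agent.H12AlgSp

variable {S : Scheme.{u}} {X Y Z Z' F G : Sp S}

/-- An affine open of a chart as an object of the small etale site. -/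
noncomputable def openEt {U : Over S} {p : (yon S).obj U ⟶ X} (hp : RepWith @Etale p) (O : U.left.affineOpens) :
    EtOver X :=
  EtOver.mk ((yon S).map (openIncl U O.1) ≫ p)
    (repWith_comp ((repWith_yon_map_iff _ _).2 (inferInstanceAs (Etale O.1.ι))) hp)

theorem affine_openEt {U : Over S} {p : (yon S).obj U ⟶ X} (hp : RepWith @Etale p) (O : U.left.affineOpens) :
    IsAffine (openEt hp O).obj.left.left := O.2

/-- The ideal at an affine object and the ideal sheaf of the inverse image determine each other. -/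
theorem ideal_eq_of_cutsOut {i : Z ⟶ X} {I : IdealEt X} (h : IsCutOutBy I i) (E : EtOver X)
    (hE : IsAffine E.obj.left.left) {K : E.obj.left.left.IdealSheafData} (hK : CutsOut i E.obj.hom K) :
    K.ideal ⟨⊤, isAffineOpen_top _⟩ = I.ideal E hE := by
  obtain ⟨K', hK', e⟩ := exists_cutsOut_ideal h E hE
  exact hK.unique hK' ▸ e

theorem isQCoh_of_isCutOutBy {i : Z ⟶ X} {I : IdealEt X} (h : IsCutOutBy I i) : I.IsQCoh := by
  intro E E' g hE hE'
  obtain ⟨K, hK, e⟩ := exists_cutsOut_ideal h E hE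
  have hK' : CutsOut i E'.obj.hom (K.comap g.hom.left.left) := (EtOver.w g) ▸ hK.comap g.hom.left
  rw [← ideal_eq_of_cutsOut h E' hE' hK', ← e, H29Blow.ideal_comap_top]

theorem le_of_factor {U : Over S} {p : (yon S).obj U ⟶ X} {i : Z ⟶ X} {i' : Z' ⟶ X}
    {I I' : U.left.IdealSheafData} (h : CutsOut i p I) (h' : CutsOut i' p I')
    (hf : ∃ k : Z' ⟶ Z, k ≫ i = i') : I ≤ I' := by
  obtain ⟨q, sq⟩ := h'
  obtain ⟨k, hk⟩ := hf
  have := (factors_iff h (subIncl U I')).1 ⟨q ≫ k, by rw [Category.assoc, hk, sq.w]⟩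
  rw [← le_ker_iff] at this
  exact this.trans I'.ker_subschemeι.le

theorem le_of_comap_ι_le {T : Scheme.{u}} {K K' : T.IdealSheafData}
    (h : ∀ O : T.affineOpens, K.comap O.1.ι ≤ K'.comap O.1.ι) : K ≤ K' := fun O => by
  have h1 := h O
  have : IsAffine (O.1 : Scheme.{u}) := O.2
  have h2 := h1 ⟨⊤, isAffineOpen_top _⟩
  rw [H29Blow.ideal_comap_ι, H29Blow.ideal_comap_ι] at h2
  have h3 := Ideal.map_mono (f := O.1.topIso.hom.hom) h2
  simpa only [Ideal.map_map, ← CommRingCat.hom_comp, Iso.inv_hom_id, CommRingCat.hom_id, Ideal.map_id] using h3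

/-- Inclusion of the ideals is containment of closed subspaces. -/
theorem le_iff_factors (hX : IsAlgSpace X) (hZ' : IsAlgSpace Z') {i : Z ⟶ X} {i' : Z' ⟶ X} {I I' : IdealEt X}
    (h : IsCutOutBy I i) (h' : IsCutOutBy I' i') : I ≤ I' ↔ ∃ k : Z' ⟶ Z, k ≫ i = i' := by
  constructor
  · intro hle
    obtain ⟨U, p, hp, hps⟩ := hX.atlas
    obtain ⟨K, hK⟩ := exists_cutsOut h.choose p
    obtain ⟨K', hK'⟩ := exists_cutsOut h'.choose p
    refine (factor_iff_le hZ' hp hps h.choose hK hK').2 (le_of_comap_ι_le fun O => ?_)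
    have hO := affine_openEt hp O
    have : IsAffine (O.1 : Scheme.{u}) := O.2
    refine Scheme.IdealSheafData.le_of_isAffine ?_
    exact (ideal_eq_of_cutsOut h (openEt hp O) hO (hK.comap (openIncl U O.1))).le.trans
      ((hle _ hO).trans (ideal_eq_of_cutsOut h' (openEt hp O) hO (hK'.comap (openIncl U O.1))).ge)
  · intro hf E hE
    obtain ⟨K, hK⟩ := exists_cutsOut h.choose E.obj.hom
    obtain ⟨K', hK'⟩ := exists_cutsOut h'.choose E.obj.hom
    rw [← ideal_eq_of_cutsOut h E hE hK, ← ideal_eq_of_cutsOut h' E hE hK']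
    exact le_of_factor hK hK' hf ⟨⊤, isAffineOpen_top _⟩

theorem le_ker_of_top {T E : Scheme.{u}} [IsAffine E] (w : T ⟶ E) {K : E.IdealSheafData}
    (h : K.ideal ⟨⊤, isAffineOpen_top _⟩ ≤ RingHom.ker w.appTop.hom) : K ≤ w.ker := by
  refine Scheme.IdealSheafData.le_ofIdeals_iff.2 fun U => ?_
  rw [← K.map_ideal (show U ≤ ⟨⊤, isAffineOpen_top _⟩ from le_top (a := U.1)), Ideal.map_le_iff_le_comap]
  intro a ha
  rw [Ideal.mem_comap, RingHom.mem_ker]
  have h0 := RingHom.mem_ker.1 (h ha)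
  have := ConcreteCategory.congr_hom (w.naturality (homOfLE (le_top : U.1 ≤ ⊤)).op) a
  rw [ConcreteCategory.comp_apply, ConcreteCategory.comp_apply] at this
  refine this.trans ?_
  erw [h0, map_zero]

/-- A representable scheme point factors through the closed subspace iff the ideal is killed. -/
theorem yon_factors_iff (hX : IsAlgSpace X) {i : Z ⟶ X} {I : IdealEt X} (hZ : IsCutOutBy I i) {T : Over S}
    {h : (yon S).obj T ⟶ X} (hh : Representable h) :
    (∃ k : (yon S).obj T ⟶ Z, k ≫ i = h) ↔ I ≤ idealOfRep hh := by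
  constructor
  · rintro ⟨k, hk⟩ E hE a ha
    obtain ⟨K, hK, e⟩ := exists_cutsOut_ideal hZ E hE
    have h0 := (factors_iff hK (EtOver.bcπ hh E)).1 ⟨(EtOver.bcObj hh E).obj.hom ≫ k, by
      rw [Category.assoc, hk]; exact (EtOver.isPullback_bcObj hh E).w⟩
    rw [← le_ker_iff] at h0
    rw [← e] at ha
    exact RingHom.mem_ker.1 ((EtOver.bcπ hh E).left.ideal_ker_le ⟨⊤, isAffineOpen_top _⟩ (h0 _ ha))
  · intro hle
    obtain ⟨U, p, hp, hps⟩ := hX.atlas
    obtain ⟨K, hK⟩ := exists_cutsOut hZ.choose p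
    obtain ⟨W, w, fst, sq⟩ := hh p
    obtain ⟨t, rfl⟩ := (yon S).map_surjective fst
    have h0 : K.comap w.left = ⊥ := by
      refine Groth.Agent.H14AlgSt.eq_bot_of_comap_eq_bot _
        (fun O : U.left.affineOpens => (w.left ⁻¹ᵁ O.1).toScheme) (fun O => (w.left ⁻¹ᵁ O.1).ι)
        (fun x => ?_) fun O => ?_
      · obtain ⟨O, hO, hx, -⟩ := TopologicalSpace.Opens.isBasis_iff_nbhd.mp U.left.isBasis_affineOpens
          (TopologicalSpace.Opens.mem_top (w.left x))
        exact ⟨⟨O, hO⟩, ⟨x, hx⟩, rfl⟩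
      · let E := openEt hp O
        have hE : IsAffine E.obj.left.left := O.2
        let Wo : Over S := openOver W (w.left ⁻¹ᵁ O.1)
        let m : Wo ⟶ E.obj.left := Over.homMk (w.left ∣_ O.1) (by
          change (w.left ∣_ O.1) ≫ O.1.ι ≫ U.hom = (w.left ⁻¹ᵁ O.1).ι ≫ W.hom
          rw [← Category.assoc, morphismRestrict_ι, Category.assoc, Over.w w])
        have hm : openIncl W (w.left ⁻¹ᵁ O.1) ≫ w = m ≫ openIncl U O.1 :=
          Over.OverMorphism.ext (morphismRestrict_ι _ _).symm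
        have e : (yon S).map (openIncl W (w.left ⁻¹ᵁ O.1) ≫ t) ≫ h = (yon S).map m ≫ E.obj.hom := by
          change _ = (yon S).map m ≫ (yon S).map (openIncl U O.1) ≫ p
          rw [Functor.map_comp, Category.assoc, sq.w, ← Category.assoc, ← Category.assoc,
            ← Functor.map_comp, ← Functor.map_comp, hm]
        obtain ⟨l, hl⟩ := (yon S).map_surjective ((EtOver.isPullback_bcObj hh E).lift _ _ e)
        have hlm : l ≫ EtOver.bcπ hh E = m := (yon S).map_injective (by
          rw [Functor.map_comp, hl, IsPullback.lift_snd])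
        have : IsAffine (openOver U O.1).left := O.2
        have hKO : (K.comap (openIncl U O.1).left).comap (EtOver.bcπ hh E).left = ⊥ := by
          rw [← le_ker_iff]
          refine le_ker_of_top _ ?_
          exact (ideal_eq_of_cutsOut hZ E hE (hK.comap (openIncl U O.1))).le.trans (hle E hE)
        rw [← Scheme.IdealSheafData.comap_comp]
        change K.comap ((openIncl W (w.left ⁻¹ᵁ O.1)).left ≫ w.left) = ⊥
        rw [← Over.comp_left, hm, Over.comp_left, Scheme.IdealSheafData.comap_comp, ← hlm, Over.comp_left,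
          Scheme.IdealSheafData.comap_comp, hKO, Scheme.IdealSheafData.comap_bot]
    obtain ⟨l, hl⟩ := (factors_iff hK w).2 h0
    have := mono_of_closedImmersion hZ.choose
    exact exists_factor_of_chart (repWith_of_isPullback sq.flip hp) (repWith_of_isPullback sq.flip hps) h
      ⟨l, by rw [hl, sq.w]⟩

/-- The kernel ideals of a quasi-compact representable morphism are those of its scheme theoretic image. -/
theorem isCutOutBy_of_isSchImage (hX : IsAlgSpace X) (hY : IsAlgSpace Y) {f : X ⟶ Y} (hf : Representable f)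
    (hqc : IsQuasiCompactMor f) (hZ : IsAlgSpace Z) {i : Z ⟶ Y} (hi : IsSchImage f i) :
    IsCutOutBy (idealOfRep hf) i := by
  refine ⟨hi.1, IdealEt.ext (funext fun E => funext fun hE => ?_)⟩
  obtain ⟨K, hK, e⟩ := exists_cutsOut_ideal (⟨hi.1, rfl⟩ : IsCutOutBy (idealOfRep hi.1.1) i) E hE
  rw [← e]
  have sq := EtOver.isPullback_bcObj hf E
  have : QuasiCompact (EtOver.bcπ hf E).left := quasiCompact_of_isPullback hqc sq
  have hg : LocP @Flat E.obj.hom := locP_of_repWith etLocal_flat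
    (repWith_le (fun _ _ k (_ : Etale k) => inferInstanceAs (Flat k)) E.property)
  have sqZ := IsPullback.of_hasPullback i E.obj.hom
  have hE' := IsAlgSpace.yon_obj (S := S) E.obj.left
  have hi' := isSchImage_flat_baseChange hX hY hE' hqc hZ hi hg sq sqZ
  have sq1 : IsPullback (𝟙 ((yon S).obj (EtOver.bcObj hf E).obj.left)) ((yon S).map (EtOver.bcπ hf E))
      ((yon S).map (EtOver.bcπ hf E)) (𝟙 _) := IsPullback.of_horiz_isIso ⟨by simp⟩
  have hA : IsBcAtlas ((yon S).map (EtOver.bcπ hf E)) (𝟙 ((yon S).obj E.obj.left)) sq1.isoPullback.hom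
      (EtOver.bcπ hf E) := ⟨repWith_of_isIso _, repWith_of_isIso _, sq1.isoPullback_hom_snd⟩
  have hc := hA.cutsOut hE' (repWith_of_isIso _) (repWith_of_isIso _)
    (isAlgSpace_pullback hY.diag hZ hE' i E.obj.hom) hi'
  have hK' : CutsOut (pullback.snd i E.obj.hom) (𝟙 _) K :=
    cutsOut_of_isPullback sqZ ((Category.id_comp E.obj.hom).symm ▸ hK)
  rw [hK'.unique hc]
  exact (EtOver.bcπ hf E).left.ker_apply ⟨⊤, isAffineOpen_top _⟩

theorem isSchImage_iff_isCutOutBy (hX : IsAlgSpace X) (hY : IsAlgSpace Y) {f : X ⟶ Y} (hf : Representable f)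
    (hqc : IsQuasiCompactMor f) (hZ : IsAlgSpace Z) {i : Z ⟶ Y} :
    IsSchImage f i ↔ IsCutOutBy (idealOfRep hf) i := by
  refine ⟨isCutOutBy_of_isSchImage hX hY hf hqc hZ, fun h => ?_⟩
  obtain ⟨Z₀, i₀, hZ₀, hi₀⟩ := exists_isSchImage hX hY f
  have h₀ := isCutOutBy_of_isSchImage hX hY hf hqc hZ₀ hi₀
  obtain ⟨k, hk⟩ := (le_iff_factors hY hZ h₀ h).1 (fun _ _ => le_rfl)
  obtain ⟨l, hl⟩ := (le_iff_factors hY hZ₀ h h₀).1 (fun _ _ => le_rfl)
  obtain ⟨f', hf'⟩ := hi₀.2.1
  refine ⟨h.choose, ⟨f' ≫ l, by rw [Category.assoc, hl, hf']⟩, fun W w hW hw hfac => ?_⟩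
  obtain ⟨k', hk'⟩ := hi₀.2.2 w hW hw hfac
  exact ⟨k ≫ k', by rw [Category.assoc, hk', hk]⟩

/-- The ideal sheaf on a chart given by a quasi-coherent ideal sheaf of the small etale site. -/
noncomputable def chartIdeal {U : Over S} {p : (yon S).obj U ⟶ X} (hp : RepWith @Etale p) (I : IdealEt X)
    (hI : I.IsQCoh) : U.left.IdealSheafData where
  ideal O := (I.ideal (openEt hp O) O.2).map O.1.topIso.hom.hom
  map_ideal_basicOpen O f := by
    let D := U.left.affineBasicOpen f
    let g₀ : openOver U D.1 ⟶ openOver U O.1 := openLE U (U.left.basicOpen_le f)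
    let g : openEt hp D ⟶ openEt hp O := EtOver.homMk g₀ (by
      change (yon S).map g₀ ≫ (yon S).map (openIncl U O.1) ≫ p = (yon S).map (openIncl U D.1) ≫ p
      rw [← Category.assoc, ← Functor.map_comp]
      exact congrArg (fun m => (yon S).map m ≫ p) (Over.OverMorphism.ext (U.left.homOfLE_ι (U.left.basicOpen_le f))))
    have e : O.1.topIso.hom ≫ U.left.presheaf.map (homOfLE (U.left.basicOpen_le f)).op =
        (U.left.homOfLE (U.left.basicOpen_le f)).appTop ≫ D.1.topIso.hom := by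
      simp only [Scheme.Opens.topIso_hom, Scheme.Hom.appTop, Scheme.homOfLE_app]
      rw [← Functor.map_comp, ← Functor.map_comp]
      exact congrArg _ (Subsingleton.elim _ _)
    have hq : I.ideal (openEt hp D) D.2 =
        (I.ideal (openEt hp O) O.2).map (U.left.homOfLE (U.left.basicOpen_le f)).appTop.hom :=
      le_antisymm (hI g O.2 D.2) (I.map_le g O.2 D.2)
    rw [Ideal.map_map, ← CommRingCat.hom_comp, e, CommRingCat.hom_comp, ← Ideal.map_map, ← hq]

theorem comap_chartIdeal_ι {U : Over S} {p : (yon S).obj U ⟶ X} (hp : RepWith @Etale p) (I : IdealEt X)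
    (hI : I.IsQCoh) (O : U.left.affineOpens) :
    haveI : IsAffine (O.1 : Scheme.{u}) := O.2
    ((chartIdeal hp I hI).comap O.1.ι).ideal ⟨⊤, isAffineOpen_top _⟩ = I.ideal (openEt hp O) O.2 := by
  have : IsAffine (O.1 : Scheme.{u}) := O.2
  rw [H29Blow.ideal_comap_ι]
  simp only [chartIdeal, Ideal.map_map, ← CommRingCat.hom_comp, Iso.hom_inv_id, CommRingCat.hom_id]
  exact Ideal.map_id _

theorem chartIdeal_comap {U : Over S} {p : (yon S).obj U ⟶ X} (hp : RepWith @Etale p) (I : IdealEt X)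
    (hI : I.IsQCoh) (E : EtOver X) (hE : IsAffine E.obj.left.left) (a : E.obj.left ⟶ U)
    (ha : (yon S).map a ≫ p = E.obj.hom) :
    ((chartIdeal hp I hI).comap a.left).ideal ⟨⊤, isAffineOpen_top _⟩ = I.ideal E hE := by
  let T := E.obj.left
  refine congrArg (fun K : T.left.IdealSheafData => K.ideal ⟨⊤, isAffineOpen_top _⟩)
    (H29Blow.ext_of_forall_exists (J := Scheme.IdealSheafData.ofIdealTop (I.ideal E hE)) fun x => ?_) |>.trans
    (Scheme.IdealSheafData.equivOfIsAffine.apply_symm_apply (I.ideal E hE))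
  obtain ⟨O, hO, hxO, -⟩ := TopologicalSpace.Opens.isBasis_iff_nbhd.mp U.left.isBasis_affineOpens
    (TopologicalSpace.Opens.mem_top (a.left x))
  obtain ⟨Q, hQ, hxQ, hle⟩ := exists_isAffineOpen_mem_and_subset (X := T.left) (U := a.left ⁻¹ᵁ O) hxO
  refine ⟨⟨Q, hQ⟩, hxQ, ?_⟩
  let O' : U.left.affineOpens := ⟨O, hO⟩
  let Q' : T.left.affineOpens := ⟨Q, hQ⟩
  let EQ : EtOver X := openEt (p := E.obj.hom) E.property Q'
  let g₁ : EQ ⟶ E := EtOver.homMk (openIncl T Q) rfl
  let r : openOver T Q ⟶ openOver U O := Over.homMk (a.left.resLE O Q hle) (by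
    change a.left.resLE O Q hle ≫ Scheme.Opens.ι (X := U.left) O ≫ U.hom = Scheme.Opens.ι (X := T.left) Q ≫ T.hom
    rw [Scheme.Hom.resLE_comp_ι_assoc, Over.w a])
  let g₂ : EQ ⟶ openEt hp O' := EtOver.homMk r (by
    change (yon S).map r ≫ (yon S).map (openIncl U O) ≫ p = (yon S).map (openIncl T Q) ≫ E.obj.hom
    rw [← ha, ← Category.assoc, ← Category.assoc, ← Functor.map_comp, ← Functor.map_comp]
    congr 2
    exact Over.OverMorphism.ext (Scheme.Hom.resLE_comp_ι _ _))
  have : IsAffine (Q : Scheme.{u}) := hQ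
  have : IsAffine (Scheme.Opens.toScheme (X := U.left) O) := hO
  have h1 : I.ideal EQ hQ = (I.ideal E hE).map Q.ι.appTop.hom := le_antisymm (hI g₁ hE hQ) (I.map_le g₁ hE hQ)
  have h2 : I.ideal EQ hQ = (I.ideal (openEt hp O') hO).map (a.left.resLE O Q hle).appTop.hom :=
    le_antisymm (hI g₂ hO hQ) (I.map_le g₂ hO hQ)
  have key : ∀ K : T.left.IdealSheafData, (K.comap Q.ι).ideal ⟨⊤, isAffineOpen_top _⟩ =
      (K.ideal ⟨Q, hQ⟩).map Q.topIso.inv.hom := fun K => H29Blow.ideal_comap_ι K ⟨Q, hQ⟩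
  have hinj : Function.Injective (Ideal.map Q.topIso.inv.hom) := fun J J' e => by
    have := congrArg (Ideal.map Q.topIso.hom.hom) e
    simpa only [Ideal.map_map, ← CommRingCat.hom_comp, Iso.inv_hom_id, CommRingCat.hom_id, Ideal.map_id] using this
  apply hinj
  rw [← key, ← key, ← Scheme.IdealSheafData.comap_comp, ← Scheme.Hom.resLE_comp_ι a.left hle,
    Scheme.IdealSheafData.comap_comp, H29Blow.ideal_comap_top,
    show ((chartIdeal hp I hI).comap (Scheme.Opens.ι (X := U.left) O)).ideal ⟨⊤, isAffineOpen_top _⟩ = _ from comap_chartIdeal_ι hp I hI O',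
    ← h2, h1, H29Blow.ideal_comap_top]
  exact congrArg (Ideal.map Q.ι.appTop.hom)
    (Scheme.IdealSheafData.equivOfIsAffine.apply_symm_apply (I.ideal E hE)).symm

/-- Quasi-coherent ideals cut out closed subspaces. -/
theorem exists_isCutOutBy (hX : IsAlgSpace X) (I : IdealEt X) (hI : I.IsQCoh) :
    ∃ (Z : Sp S) (i : Z ⟶ X), IsAlgSpace Z ∧ IsCutOutBy I i := by
  obtain ⟨U, p, hp, hps⟩ := hX.atlas
  obtain ⟨R, s, t, hs, ht, sqR⟩ := exists_kernelPair hp
  have key : (chartIdeal hp I hI).comap t.left = (chartIdeal hp I hI).comap s.left := by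
    refine H29Blow.ext_of_forall_exists fun x => ?_
    obtain ⟨Q, hQ, hxQ, -⟩ := exists_isAffineOpen_mem_and_subset (TopologicalSpace.Opens.mem_top x)
    refine ⟨⟨Q, hQ⟩, hxQ, ?_⟩
    have : IsAffine (Q : Scheme.{u}) := hQ
    have hsp : RepWith @Etale ((yon S).map s ≫ p) := repWith_comp ((repWith_yon_map_iff _ _).2 hs) hp
    let EQ : EtOver X := openEt hsp ⟨Q, hQ⟩
    have h1 := chartIdeal_comap hp I hI EQ hQ (openIncl R Q ≫ s) (by
      rw [Functor.map_comp, Category.assoc]; rfl)
    have h2 := chartIdeal_comap hp I hI EQ hQ (openIncl R Q ≫ t) (by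
      rw [Functor.map_comp, Category.assoc, sqR.w]; rfl)
    rw [Over.comp_left, Scheme.IdealSheafData.comap_comp,
      show (openIncl R Q).left = Q.ι from rfl] at h1 h2
    have h3 := h2.trans h1.symm
    erw [H29Blow.ideal_comap_ι _ ⟨Q, hQ⟩, H29Blow.ideal_comap_ι _ ⟨Q, hQ⟩] at h3
    have := congrArg (Ideal.map Q.topIso.hom.hom) h3
    simpa only [Ideal.map_map, ← CommRingCat.hom_comp, Iso.inv_hom_id, CommRingCat.hom_id, Ideal.map_id] using this
  obtain ⟨Z, i, hZ, hi, hc⟩ := exists_closedSub hX hp hps (invariant_of_kernelPair sqR key)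
  refine ⟨Z, i, hZ, hi, IdealEt.ext (funext fun E => funext fun hE => ?_)⟩
  obtain ⟨K, hK, e⟩ := exists_cutsOut_ideal (⟨hi, rfl⟩ : IsCutOutBy (idealOfRep hi.1) i) E hE
  rw [← e]
  obtain ⟨T, r, k', sq⟩ := hp.rep E.obj.hom
  obtain ⟨k, rfl⟩ := (yon S).map_surjective k'
  have : Etale r.left := hp.property _ _ r sq
  have : Surjective r.left := hps.property _ _ r sq
  have hrp : RepWith @Etale ((yon S).map r ≫ E.obj.hom) :=
    repWith_comp ((repWith_yon_map_iff _ _).2 ‹Etale r.left›) E.property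
  refine (congrArg (fun K : E.obj.left.left.IdealSheafData => K.ideal ⟨⊤, isAffineOpen_top _⟩)
    (H06Desc.comap_injective_of_flat_surjective r.left (a₂ := Scheme.IdealSheafData.ofIdealTop (I.ideal E hE))
      ?_)).trans (Scheme.IdealSheafData.equivOfIsAffine.apply_symm_apply (I.ideal E hE))
  have hKr : K.comap r.left = (chartIdeal hp I hI).comap k.left :=
    hK.comap_eq hc (W := T) (a := r) (b := k) sq.w.symm
  change K.comap r.left = _
  rw [hKr]
  refine H29Blow.ext_of_forall_exists fun x => ?_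
  obtain ⟨Q, hQ, hxQ, -⟩ := exists_isAffineOpen_mem_and_subset (TopologicalSpace.Opens.mem_top x)
  refine ⟨⟨Q, hQ⟩, hxQ, ?_⟩
  have : IsAffine (Q : Scheme.{u}) := hQ
  let EQ : EtOver X := openEt hrp ⟨Q, hQ⟩
  let g : EQ ⟶ E := EtOver.homMk (openIncl T Q ≫ r) (by
    change _ = (yon S).map (openIncl T Q) ≫ (yon S).map r ≫ E.obj.hom
    rw [Functor.map_comp, Category.assoc])
  have h1 := chartIdeal_comap hp I hI EQ hQ (openIncl T Q ≫ k) (by
    rw [Functor.map_comp, Category.assoc, sq.w]; rfl)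
  have h2 : I.ideal EQ hQ = (I.ideal E hE).map (Q.ι ≫ r.left).appTop.hom :=
    le_antisymm (hI g hE hQ) (I.map_le g hE hQ)
  have h3 : ((Scheme.IdealSheafData.ofIdealTop (I.ideal E hE)).comap (Q.ι ≫ r.left)).ideal
      ⟨⊤, isAffineOpen_top _⟩ = I.ideal EQ hQ := by
    rw [H29Blow.ideal_comap_top, h2]
    exact congrArg (Ideal.map _) (Scheme.IdealSheafData.equivOfIsAffine.apply_symm_apply (I.ideal E hE))
  have h4 := h1.trans h3.symm
  rw [Over.comp_left, Scheme.IdealSheafData.comap_comp, Scheme.IdealSheafData.comap_comp,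
    show (openIncl T Q).left = Q.ι from rfl] at h4
  erw [H29Blow.ideal_comap_ι _ ⟨Q, hQ⟩, H29Blow.ideal_comap_ι _ ⟨Q, hQ⟩] at h4
  have := congrArg (Ideal.map Q.topIso.hom.hom) h4
  simpa only [Ideal.map_map, ← CommRingCat.hom_comp, Iso.inv_hom_id, CommRingCat.hom_id, Ideal.map_id] using this

/-- A closed immersion is locally of finite presentation iff its ideals are finitely generated. -/
theorem locP_lfp_iff_fg (hX : IsAlgSpace X) (hZ : IsAlgSpace Z) {i : Z ⟶ X} (hi : RepWith @IsClosedImmersion i) :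
    LocP @LocallyOfFinitePresentation i ↔
      ∀ (E : EtOver X) (hE : IsAffine E.obj.left.left), ((idealOfRep hi.1).ideal E hE).FG := by
  have key : ∀ {T E : Scheme.{u}} [IsAffine E] (w : T ⟶ E), IsClosedImmersion w →
      (LocallyOfFinitePresentation w ↔ (RingHom.ker w.appTop.hom).FG) := fun {T E} _ w hw => by
    have : IsAffine T := isAffine_of_isAffineHom w
    rw [HasRingHomProperty.iff_of_isAffine (P := @LocallyOfFinitePresentation)]
    have hsurj : Function.Surjective w.appTop.hom := w.app_surjective ⊤ (isAffineOpen_top E)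
    constructor
    · intro hfp
      letI := w.appTop.hom.toAlgebra
      have : Algebra.FinitePresentation Γ(E, ⊤) Γ(T, ⊤) := hfp
      exact Algebra.FinitePresentation.ker_fG_of_surjective (Algebra.ofId Γ(E, ⊤) Γ(T, ⊤)) hsurj
    · exact fun hfg => RingHom.FinitePresentation.of_surjective _ hsurj hfg
  constructor
  · intro h E hE
    have : IsClosedImmersion (EtOver.bcπ hi.1 E).left := hi.2 _ _ _ (EtOver.isPullback_bcObj hi.1 E)
    exact (key _ this).1 ((repWith_of_locP etLocal_lfp hX hi.1 h).2 _ _ _ (EtOver.isPullback_bcObj hi.1 E))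
  · intro h
    obtain ⟨U, p, hp, hps⟩ := hX.atlas
    obtain ⟨W, w, fst, sq⟩ := hi.rep p
    have hwc : IsClosedImmersion w.left := hi.2 p _ w sq
    have hw : LocallyOfFinitePresentation w.left := by
      refine IsZariskiLocalAtTarget.of_iSup_eq_top (P := @LocallyOfFinitePresentation)
        (fun O : U.left.affineOpens => O.1) (iSup_affineOpens_eq_top _) fun O => ?_
      let E := openEt hp O
      have hE : IsAffine E.obj.left.left := O.2
      let Wo : Over S := openOver W (w.left ⁻¹ᵁ O.1)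
      let m : Wo ⟶ E.obj.left := Over.homMk (w.left ∣_ O.1) (by
        change (w.left ∣_ O.1) ≫ O.1.ι ≫ U.hom = (w.left ⁻¹ᵁ O.1).ι ≫ W.hom
        rw [← Category.assoc, morphismRestrict_ι, Category.assoc, Over.w w])
      let wo := openIncl W (w.left ⁻¹ᵁ O.1)
      have sqO : IsPullback wo m w (openIncl U O.1) :=
        IsPullback.of_map (Over.forget S) (Over.OverMorphism.ext (morphismRestrict_ι _ _).symm)
          (isPullback_morphismRestrict w.left O.1).flip
      have sqE := (sqO.map (yon S)).paste_horiz sq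
      obtain ⟨ε, hε⟩ := (yon S).map_surjective (sqE.isoIsPullback _ _ (EtOver.isPullback_bcObj hi.1 E)).hom
      have : IsIso ((yon S).map ε) := by rw [hε]; infer_instance
      have : IsIso ε := isIso_of_reflects_iso ε (yon S)
      have : IsIso ε.left := inferInstanceAs (IsIso ((Over.forget S).map ε))
      have hεm : ε ≫ EtOver.bcπ hi.1 E = m := (yon S).map_injective (by
        rw [Functor.map_comp, hε, IsPullback.isoIsPullback_hom_snd])
      change LocallyOfFinitePresentation m.left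
      rw [← hεm, Over.comp_left, MorphismProperty.cancel_left_of_respectsIso @LocallyOfFinitePresentation]
      have : IsAffine ((Over.forget S).obj E.obj.left) := hE
      exact (key _ (hi.2 _ _ _ (EtOver.isPullback_bcObj hi.1 E))).2 (h E hE)
    exact locP_of_target_cover etLocal_lfp hZ hX hp hps sq
      (locP_of_repWith etLocal_lfp ((repWith_yon_map_iff _ _).2 hw))

end Groth.Agent.H12AlgSp
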