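import Groth.Agent.H12AlgSp.ValuativeClosed
import Mathlib.AlgebraicGeometry.Morphisms.QuasiFinite

/-!
Valuative criteria: uniqueness and separatedness; universally closed quasi-separated implies existence.
-/

set_option linter.unusedVariables false

universe u

open CategoryTheory CategoryTheory.Limits AlgebraicGeometry Opposite Topology IsLocalRing
open AlgSp

namespace Groth.Agent.H12AlgSp

variable {S : Scheme.{u}} {X Y : Sp S}

theorem existVC_diagonal {f : X ⟶ Y} (hu : UniqVC f) : ExistVC (pullback.diagonal f) := by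
  refine existVC_of_strict fun v => ?_
  let w : ValSq f :=
    { A := v.A, K := v.K, str := v.str, top := v.top, bot := v.bot ≫ pullback.fst f f ≫ f
      comm := by
        rw [← Category.assoc ((yon S).map _), ← v.comm]
        simp only [Category.assoc, pullback.diagonal_fst_assoc, Category.id_comp] }
  have h₁ := v.comm =≫ pullback.fst f f
  have h₂ := v.comm =≫ pullback.snd f f
  simp only [Category.assoc, pullback.diagonal_fst, pullback.diagonal_snd, Category.comp_id] at h₁ h₂
  have e : v.bot ≫ pullback.fst f f = v.bot ≫ pullback.snd f f :=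
    hu w _ _ h₁.symm (Category.assoc _ _ _) h₂.symm
      ((Category.assoc _ _ _).trans (by rw [← pullback.condition]))
  refine ⟨v.bot ≫ pullback.fst f f, h₁.symm, ?_⟩
  apply pullback.hom_ext
  · simp only [Category.assoc, pullback.diagonal_fst, Category.comp_id]
  · simp only [Category.assoc, pullback.diagonal_snd, Category.comp_id]
    exact e

/-- Quasi-separated with uniqueness in the valuative criterion implies separated. -/
theorem isSeparatedMor_of_uniqVC (hX : IsAlgSpace X) (hY : IsAlgSpace Y) {f : X ⟶ Y}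
    (hqs : IsQuasiSeparatedMor f) (hu : UniqVC f) : IsSeparatedMor f :=
  (isSeparatedMor_iff hX hY f).1.2 (isUnivClosedMor_of_existVC hX (isAlgSpace_pullback hY.diag hX hX f f)
    (isQuasiCompactMor_of_repWith hX (isAlgSpace_pullback hY.diag hX hX f f) hqs) (existVC_diagonal hu))

theorem isLocalHom_of_closedPoint {A B : Type u} [CommRing A] [IsLocalRing A] [CommRing B] [IsLocalRing B]
    {φ : A →+* B} (h : Spec.map (CommRingCat.ofHom φ) (closedPoint B) = closedPoint A) : IsLocalHom φ := by
  refine ⟨fun a ha => by_contra fun hna => ?_⟩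
  have h' : (maximalIdeal B).comap φ = maximalIdeal A := congrArg PrimeSpectrum.asIdeal h
  have : a ∈ (maximalIdeal B).comap φ := h'.symm ▸ (mem_maximalIdeal a).2 hna
  exact (mem_maximalIdeal (φ a)).1 this ha

/-- A quasi-separated universally closed morphism satisfies the existence part. -/
theorem existVC_of_isUnivClosedMor (hX : IsAlgSpace X) (hY : IsAlgSpace Y) {f : X ⟶ Y}
    (hqs : IsQuasiSeparatedMor f) (hc : IsUnivClosedMor f) : ExistVC f := by
  intro v
  have hA := IsAlgSpace.yon_obj (S := S) v.ptA
  have hP := isAlgSpace_pullback hY.diag hX hA f v.bot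
  let sd := pullback.snd f v.bot
  have hcl : IsClosedMap (Points.map sd) := hc hA v.bot _ sd (IsPullback.of_hasPullback f v.bot)
  obtain ⟨p₀, hp₁, hp₂⟩ := (IsPullback.of_hasPullback f v.bot).exists_lift v.top ((yon S).map v.j) v.comm
  let η : ↥v.ptK.left := (default : ↥(Spec (CommRingCat.of v.K)))
  let x := Points.ofPt p₀ η
  have hgen : Points.map sd x = Points.schemeHomeo v.ptA (v.j.left η) := by
    rw [Points.map_ofPt, hp₂, ← Category.comp_id ((yon S).map v.j), ofPt_map]
    rfl
  obtain ⟨x', hx', hxc⟩ : Points.schemeHomeo v.ptA (closedPoint v.A : ↥(Spec (CommRingCat.of v.A))) ∈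
      Points.map sd '' closure {x} := by
    have hs : Points.schemeHomeo v.ptA (v.j.left η) ⤳
        Points.schemeHomeo v.ptA (closedPoint v.A : ↥(Spec (CommRingCat.of v.A))) :=
      (specializes_closedPoint (R := v.A) (v.j.left η)).map (Points.schemeHomeo v.ptA).continuous
    exact hs.mem_closed (hcl _ isClosed_closure) ⟨x, subset_closure rfl, hgen⟩
  obtain ⟨ι, T, a, hT, hae, hao, hac⟩ := exists_affine_family hP
  obtain ⟨i, hi⟩ := hac x'
  rw [range_map_yon] at hi
  obtain ⟨z, rfl⟩ := hi
  obtain ⟨m, hm⟩ := (yon S).map_surjective (a i ≫ sd)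
  have : IsAffine v.ptA.left := inferInstanceAs (IsAffine (Spec (CommRingCat.of v.A)))
  have := hT i
  have hqa : RepWith @QuasiCompact (a i) := by
    refine repWith_quasiCompact_of_mor (hP.representable_from_yon _)
      (isQuasiCompactMor_of_comp (IsAlgSpace.yon_obj _) hP hA ?_
        (repWith_of_isPullback (isPullback_diagonal (IsPullback.of_hasPullback f v.bot)) hqs))
    rw [← hm]
    exact isQuasiCompactMor_of_repWith (IsAlgSpace.yon_obj _) hA
      ((repWith_yon_map_iff _ m).2 (inferInstanceAs (QuasiCompact m.left)))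
  obtain ⟨W, w₂, w₁, sqW⟩ := (hP.representable_from_yon (a i)) p₀
  obtain ⟨w₁, rfl⟩ := (yon S).map_surjective w₁
  have hwe : Etale w₂.left := (hae i).property _ _ w₂ sqW
  have hwq : QuasiCompact w₂.left := hqa.property _ _ w₂ sqW
  have : LocallyQuasiFinite w₂.left := etLocal_lqf.etale_le _ _ _ hwe
  have hWfin : Finite ↥W.left := by
    have h := w₂.left.finite_preimage_singleton η
    have : w₂.left ⁻¹' {η} = Set.univ := Set.eq_univ_of_forall fun y =>
      @Subsingleton.elim _ (inferInstanceAs (Subsingleton ↥(Spec (CommRingCat.of v.K)))) _ _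
    exact Set.finite_univ_iff.1 (this ▸ h)
  obtain ⟨w, hwz⟩ : ∃ w, w₁.left w ⤳ z := by
    by_contra hne
    simp only [not_exists] at hne
    let O : Set ↥(T i).left := ⋂ w, (closure {w₁.left w})ᶜ
    have hO : IsOpen O := isOpen_iInter_of_finite fun w => isClosed_closure.isOpen_compl
    have hzO : z ∈ O := Set.mem_iInter.2 fun w h => hne w (specializes_iff_mem_closure.2 h)
    obtain ⟨o, ho, hox⟩ : x ∈ Points.ofPt (a i) '' O :=
      (specializes_iff_mem_closure.2 hx').mem_open
        (isOpenMap_ofPt_of_repWith etale_le_universallyOpen (hae i) _ hO) ⟨z, hzO, rfl⟩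
    have : o ∈ Points.ofPt (a i) ⁻¹' Set.range (Points.map p₀) := by
      rw [Set.mem_preimage, hox]
      exact ofPt_mem_range p₀ η
    rw [preimage_ofPt_range sqW.flip] at this
    obtain ⟨w, rfl⟩ := this
    exact Set.mem_iInter.1 ho w (subset_closure rfl)
  obtain ⟨A', b, hb, hbw⟩ := exists_valuation_of_specializes w₁.left w hwz
  obtain ⟨φ, hφ⟩ := Spec.map_surjective (R := CommRingCat.of v.A) (S := CommRingCat.of A') (b ≫ m.left)
  obtain ⟨ψ, hψ⟩ := Spec.map_surjective (R := CommRingCat.of v.K) (S := W.left.residueField w)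
    (W.left.fromSpecResidueField w ≫ w₂.left)
  have hwm : w₁ ≫ m = w₂ ≫ v.j := (yon S).map_injective (by
    rw [Functor.map_comp, Functor.map_comp, hm, ← Category.assoc, sqW.w, Category.assoc, hp₂])
  have hcomm : φ ≫ CommRingCat.ofHom (algebraMap A' (W.left.residueField w)) =
      CommRingCat.ofHom (algebraMap v.A v.K) ≫ ψ := by
    apply Spec.map_injective
    rw [Spec.map_comp, Spec.map_comp, hφ, hψ, ← Category.assoc, hbw, Category.assoc, Category.assoc,
      ← Over.comp_left, hwm, Over.comp_left]
    rfl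
  have hloc : IsLocalHom φ.hom := by
    refine isLocalHom_of_closedPoint ?_
    rw [CommRingCat.ofHom_hom, hφ, Scheme.Hom.comp_apply, hb]
    apply (Points.schemeHomeo v.ptA).injective
    rw [← hxc, Points.map_ofPt, ← hm, ← Category.comp_id ((yon S).map m), ofPt_map]
    rfl
  let e : v.DomExt :=
    { A' := A', K' := W.left.residueField w, φ := φ.hom, ψ := ψ.hom
      comm := congrArg CommRingCat.Hom.hom hcomm, isLocalHom := hloc }
  let b' : e.ptA' ⟶ T i := Over.homMk b (by
    change b ≫ (T i).hom = Spec.map φ ≫ v.str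
    rw [hφ, Category.assoc]
    exact congrArg (b ≫ ·) (Over.w m).symm)
  refine ⟨e, (hasLift_iff e).2 ⟨(yon S).map b' ≫ a i ≫ pullback.fst f v.bot, ?_, ?_⟩⟩
  · let k : e.ptK' ⟶ W := Over.homMk (W.left.fromSpecResidueField w) (by
      change _ = Spec.map _ ≫ Spec.map φ ≫ v.str
      rw [← Over.w w₂, ← Category.assoc, ← hψ, ← Spec.map_comp_assoc, hcomm, Spec.map_comp_assoc]
      rfl)
    have q₁ : jHom e ≫ b' = k ≫ w₁ := Over.OverMorphism.ext hbw
    have q₂ : psiHom e = k ≫ w₂ := Over.OverMorphism.ext hψ
    rw [← hp₁, ← Functor.map_comp_assoc, q₁, q₂, Functor.map_comp, Functor.map_comp]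
    simp only [Category.assoc]
    rw [reassoc_of% sqW.w]
  · simp only [Category.assoc, pullback.condition]
    rw [← Category.assoc (a i), ← hm, ← Functor.map_comp_assoc]
    congr 2
    exact Over.OverMorphism.ext hφ.symm

end Groth.Agent.H12AlgSp
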