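import Groth.Agent.H12AlgSp.SepDescent
import Groth.Agent.H11Val.Dominating
import Groth.Agent.H12AlgSp.ValuativeQS
import Groth.Agent.H13AlgSp.EtaleLocally

/-!
Lifting points over a valuation ring from lifts over smaller valuation rings.
-/

set_option linter.unusedVariables false

universe u

open CategoryTheory CategoryTheory.Limits AlgebraicGeometry Opposite Topology IsLocalRing
open AlgSp
open scoped TensorProduct

namespace Groth.Agent.H12AlgSp

open RPt

variable {S : Scheme.{u}}

/-- A point over the fraction field of a valuation ring which lifts over valuation rings of subfields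
containing any given finite set of elements lifts after an extension. -/
theorem exists_point_of_steps {P : Sp S} (hP : IsAlgSpace P) {T : Over S} [IsAffine T.left]
    {π : P ⟶ (yon S).obj T} (hπ : IsSeparatedMor π) {W : Over S} [IsAffine W.left]
    {w : (yon S).obj W ⟶ P} (hwe : RepWith @Etale w) (hws : RepWith @Surjective w)
    {L : Type u} [Field L] (A : ValuationSubring L) (xL : RPt P L)
    (hstep : ∀ s : Finset A, ∃ (Ls : Type u) (_ : Field Ls) (i : Ls →+* L) (D : ValuationSubring Ls)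
      (lD : RPt P D), res (i.comp D.subtype) lD = xL ∧
        ∀ a ∈ s, ∃ d : D, i d = (a : L) ∧ (a ∈ maximalIdeal A → d ∈ maximalIdeal D)) :
    ∃ (Ω : Type u) (_ : Field Ω) (j : L →+* Ω) (A' : ValuationSubring Ω) (l : RPt P A'),
      (∀ x, j x ∈ A' ↔ x ∈ A) ∧ res A'.subtype l = res j xL := by
  classical
  obtain ⟨G, _, u, r, -, hr, hlift, -, -⟩ := exists_affine_fibre hπ hwe xL
  let Φ : Γ(W.left, ⊤) ⊗[ℤ] A →+* G := (Algebra.TensorProduct.lift (vr r).toIntAlgHom
    (u.comp A.subtype).toIntAlgHom fun _ _ => Commute.all _ _).toRingHom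
  have hΦ : ∀ (b : Γ(W.left, ⊤)) (a : A), Φ (b ⊗ₜ a) = vr r b * u a := fun b a => by simp [Φ]
  let ι : A →+* Γ(W.left, ⊤) ⊗[ℤ] A :=
    (Algebra.TensorProduct.includeRight : A →ₐ[ℤ] Γ(W.left, ⊤) ⊗[ℤ] A).toRingHom
  let J : Ideal (Γ(W.left, ⊤) ⊗[ℤ] A) := RingHom.ker Φ ⊔ (maximalIdeal A).map ι
  have hJ : J ≠ ⊤ := by
    intro htop
    obtain ⟨g, hg, y, hy, hgy⟩ := Submodule.mem_sup.1 ((Ideal.eq_top_iff_one J).1 htop)
    have hy' : y ∈ AddSubmonoid.closure {z | ∃ b m, m ∈ maximalIdeal A ∧ b ⊗ₜ[ℤ] m = z} := by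
      refine Submodule.span_induction ?_ (zero_mem _) (fun a b _ _ ha hb => add_mem ha hb) ?_ hy
      · rintro _ ⟨m, hm, rfl⟩
        exact AddSubmonoid.subset_closure ⟨1, m, hm, rfl⟩
      · intro z x hxs hx
        clear hxs
        rw [smul_eq_mul]
        induction z using TensorProduct.induction_on with
        | zero => simp
        | add z₁ z₂ h₁ h₂ => rw [add_mul]; exact add_mem h₁ h₂
        | tmul b a =>
          induction hx using AddSubmonoid.closure_induction with
          | mem x hx =>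
            obtain ⟨b', m, hm, rfl⟩ := hx
            exact AddSubmonoid.subset_closure
              ⟨b * b', a * m, Ideal.mul_mem_left _ a hm, (Algebra.TensorProduct.tmul_mul_tmul _ _ _ _).symm⟩
          | zero => simp
          | add x₁ x₂ _ _ h₁ h₂ => rw [mul_add]; exact add_mem h₁ h₂
    obtain ⟨lst, hlst, hsum⟩ := AddSubmonoid.exists_list_of_mem_closure hy'
    choose bb mm hmm heq using hlst
    let s : Finset A := (lst.attach.map fun z => mm z.1 z.2).toFinset
    obtain ⟨Ls, _, i, D, lD, hlD, hs⟩ := hstep s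
    let cp : ↥(Over.mk lD.str).left := (closedPoint D : ↥(Spec (CommRingCat.of D)))
    obtain ⟨D', _, _, _, φ, hφinj, hφloc, l₀, hl₀⟩ := exists_lift_valuation_of_flat (IsAlgSpace.yon_obj W) hP
      (locP_of_repWith etLocal_flat (repWith_le (fun _ _ k (_ : Etale k) => inferInstanceAs (Flat k)) hwe))
      D lD.str lD.hom (surjective_map_of_repWith le_rfl hws (Points.ofPt lD.hom cp))
    let q₁ : RPt ((yon S).obj W) D' := ⟨_, l₀⟩
    have hq₁ : post w q₁ = res φ lD := congrArg (RPt.mk _) hl₀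
    let Ω₀ := FractionRing D'
    have hinj : Function.Injective ((algebraMap D' Ω₀).comp φ) := (IsFractionRing.injective D' Ω₀).comp hφinj
    obtain ⟨jD, hjD⟩ : ∃ jD : Ls →+* Ω₀, (algebraMap D' Ω₀).comp φ = jD.comp D.subtype := by
      refine ⟨IsFractionRing.lift (A := D) (K := Ls) hinj, RingHom.ext fun x => ?_⟩
      exact (IsFractionRing.lift_algebraMap (A := D) (K := Ls) hinj x).symm
    obtain ⟨Ω', _, i₁, i₂, hii⟩ := FieldPt.exists_amalgamation jD i
    obtain ⟨h, hh₁, hh₂⟩ := hlift Ω' i₂ (res (i₁.comp (algebraMap D' Ω₀)) q₁) (by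
      rw [post_res, hq₁, res_res, RingHom.comp_assoc, hjD, ← RingHom.comp_assoc, hii, RingHom.comp_assoc,
        ← res_res (i.comp D.subtype) i₂, hlD])
    have hvr : h.comp (vr r) = (i₁.comp (algebraMap D' Ω₀)).comp (vr q₁) := by
      have := congrArg vr hh₂
      rwa [vr_res, vr_res] at this
    have hmem : ∀ z ∈ lst, ∃ e ∈ maximalIdeal D', h (Φ z) = i₁ (algebraMap D' Ω₀ e) := by
      intro z hz
      have hms : mm z hz ∈ s := List.mem_toFinset.2 (List.mem_map.2 ⟨⟨z, hz⟩, List.mem_attach _ _, rfl⟩)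
      obtain ⟨d, hd, hdm⟩ := hs _ hms
      refine ⟨vr q₁ (bb z hz) * φ d, Ideal.mul_mem_left _ _ ?_, ?_⟩
      · exact fun hu => hdm (hmm z hz) (IsUnit.of_map φ d hu)
      · conv_lhs => rw [← heq z hz]
        rw [hΦ, map_mul, map_mul, map_mul]
        refine congrArg₂ (· * ·) (RingHom.congr_fun hvr _) ?_
        refine (RingHom.congr_fun hh₁ _).trans ?_
        rw [← hd]
        exact (RingHom.congr_fun hii _).symm.trans (congrArg i₁ (RingHom.congr_fun hjD d).symm)
    obtain ⟨e, he, hee⟩ : ∃ e ∈ maximalIdeal D', h (Φ lst.sum) = i₁ (algebraMap D' Ω₀ e) := by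
      have key : ∀ l : List (Γ(W.left, ⊤) ⊗[ℤ] A),
          (∀ z ∈ l, ∃ e ∈ maximalIdeal D', h (Φ z) = i₁ (algebraMap D' Ω₀ e)) →
            ∃ e ∈ maximalIdeal D', h (Φ l.sum) = i₁ (algebraMap D' Ω₀ e) := by
        intro l hl
        induction l with
        | nil => exact ⟨0, zero_mem _, by simp⟩
        | cons z t ih =>
          obtain ⟨e₁, he₁, hz⟩ := hl z List.mem_cons_self
          obtain ⟨e₂, he₂, ht⟩ := ih fun x hx => hl x (List.mem_cons_of_mem _ hx)
          exact ⟨e₁ + e₂, add_mem he₁ he₂, by simp [List.sum_cons, hz, ht]⟩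
      exact key lst hmem
    have h1 : h (Φ y) = 1 := by
      have := congrArg (fun t => h (Φ t)) hgy
      simpa [(RingHom.mem_ker).1 hg] using this
    rw [← hsum, hee] at h1
    have : e = 1 := IsFractionRing.injective D' Ω₀ (i₁.injective (by rw [h1, map_one, map_one]))
    exact he (this ▸ isUnit_one)
  obtain ⟨q, hq, hJq⟩ := Ideal.exists_le_maximal J hJ
  obtain ⟨p, hp, hpq⟩ := Ideal.exists_minimalPrimes_le (le_sup_left.trans hJq)
  obtain ⟨𝔮, h𝔮, -, hcomap⟩ := Ideal.exists_comap_eq_of_mem_minimalPrimes (I := ⊥) Φ p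
    (by rwa [← RingHom.ker_eq_comap_bot])
  let Ω := FractionRing (G ⧸ 𝔮)
  let σ : G →+* Ω := (algebraMap (G ⧸ 𝔮) Ω).comp (Ideal.Quotient.mk 𝔮)
  have hσ : ∀ z, σ z = 0 ↔ z ∈ 𝔮 := fun z => by
    simp only [σ, RingHom.comp_apply, map_eq_zero_iff _ (IsFractionRing.injective (G ⧸ 𝔮) Ω),
      Ideal.Quotient.eq_zero_iff_mem]
  let Φ₁ : (Γ(W.left, ⊤) ⊗[ℤ] A) ⧸ p →+* Ω :=
    Ideal.Quotient.lift p (σ.comp Φ) fun z hz => (hσ _).2 (show z ∈ 𝔮.comap Φ from hcomap.symm ▸ hz)
  have hΦ₁ : Function.Injective Φ₁ := by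
    rw [injective_iff_map_eq_zero]
    intro z hz
    obtain ⟨z, rfl⟩ := Ideal.Quotient.mk_surjective z
    rw [Ideal.Quotient.eq_zero_iff_mem, ← hcomap]
    exact (hσ _).1 hz
  have hqq : (q.map (Ideal.Quotient.mk p)).IsPrime :=
    Ideal.map_isPrime_of_surjective Ideal.Quotient.mk_surjective (by rwa [Ideal.mk_ker])
  obtain ⟨V, hV⟩ := Groth.Agent.H11Val.exists_valuationSubring_center Φ₁ hΦ₁ (q.map (Ideal.Quotient.mk p))
  have hmemV : ∀ z, σ (Φ z) ∈ V := fun z => (hV (Ideal.Quotient.mk p z)).1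
  let j : L →+* Ω := σ.comp u
  have hjA : ∀ a : A, j a = σ (Φ (ι a)) := fun a => by
    rw [show ι a = (1 : Γ(W.left, ⊤)) ⊗ₜ[ℤ] a from rfl, hΦ, map_one, one_mul]
    rfl
  have hiff : ∀ x, j x ∈ V ↔ x ∈ A := by
    intro x
    refine ⟨fun hx => by_contra fun hxA => ?_, fun hx => hjA ⟨x, hx⟩ ▸ hmemV _⟩
    have hxi : x⁻¹ ∈ A := (A.mem_or_inv_mem x).resolve_left hxA
    have hx0 : x ≠ 0 := fun h0 => hxA (h0 ▸ zero_mem A)
    have hm : (⟨x⁻¹, hxi⟩ : A) ∈ maximalIdeal A := by
      rw [mem_maximalIdeal]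
      intro hu
      obtain ⟨v, hv⟩ := hu.exists_right_inv
      have := congrArg (fun t : A => (t : L)) hv
      simp only [MulMemClass.coe_mul, OneMemClass.coe_one] at this
      exact hxA ((inv_mul_eq_one₀ hx0).1 this ▸ v.2)
    have hlt : V.valuation (σ (Φ (ι ⟨x⁻¹, hxi⟩))) < 1 :=
      (hV (Ideal.Quotient.mk p _)).2.1 (Ideal.mem_map_of_mem _
        (hJq (Ideal.mem_sup_right (Ideal.mem_map_of_mem ι hm))))
    rw [← hjA] at hlt
    have h1 : V.valuation (j x) ≤ 1 := (V.valuation_le_one_iff _).2 hx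
    have : V.valuation (j x⁻¹) * V.valuation (j x) = 1 := by
      rw [← map_mul, ← map_mul, inv_mul_cancel₀ hx0, map_one, map_one]
    exact (lt_irrefl (1 : V.ValueGroup)) (this ▸ mul_lt_one_of_lt_of_le hlt h1)
  have hγ : ∀ b, σ (vr r b) ∈ V := fun b => by
    have := hmemV (b ⊗ₜ 1)
    rwa [hΦ, OneMemClass.coe_one, map_one, mul_one] at this
  let qV : RPt ((yon S).obj W) V := ofSch (ofRmap ((σ.comp (vr r)).codRestrict V.toSubring hγ))
  have hqV : res V.subtype qV = res σ r := by
    refine vr_ext ?_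
    rw [vr_res, vr_res]
    simp only [qV, vr, toSch_ofSch, rmap_ofRmap]
    rfl
  exact ⟨Ω, inferInstance, j, V, post w qV, hiff, by rw [← post_res, hqV, post_res, hr, res_res]⟩

theorem rmap_comp_hom {T T' : Scheme.{u}} [IsAffine T] [IsAffine T'] {R : Type u} [CommRing R]
    (x : Spec (CommRingCat.of R) ⟶ T) (m : T ⟶ T') : rmap (x ≫ m) = (rmap x).comp m.appTop.hom := by
  have : CommRingCat.ofHom (rmap (x ≫ m)) = m.appTop ≫ CommRingCat.ofHom (rmap x) := by
    refine Spec.map_injective ?_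
    rw [specMap_rmap, Spec.map_comp, specMap_rmap, Category.assoc, Category.assoc,
      ← Scheme.isoSpec_hom_naturality]
  exact congrArg CommRingCat.Hom.hom this

theorem vr_post_yon {T T' : Over S} [IsAffine T.left] [IsAffine T'.left] {R : Type u} [CommRing R] (m : T ⟶ T')
    (p : RPt ((yon S).obj T) R) : vr (post ((yon S).map m) p) = (vr p).comp m.left.appTop.hom := by
  obtain ⟨x, rfl⟩ := exists_eq_ofSch p
  simp only [vr, post_ofSch, toSch_ofSch, rmap_comp_hom]

theorem vr_ofRmap {T : Over S} [IsAffine T.left] {R : Type u} [CommRing R] (ρ : Γ(T.left, ⊤) →+* R) :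
    vr (ofSch (O := T) (ofRmap ρ)) = ρ := by
  simp only [vr, toSch_ofSch, rmap_ofRmap]

/-- Over a locally Noetherian target, lifts for discrete valuation rings through `h` give lifts after
extension for all squares through `h`. -/
theorem hasLiftExt_of_dvr {U X Y : Sp S} (hU : IsAlgSpace U) (hX : IsAlgSpace X) (hY : IsAlgSpace Y)
    (hYn : IsLocNoethSp Y) {f : X ⟶ Y} (hfs : IsSeparatedMor f) (hfq : IsQuasiCompactMor f) {h : U ⟶ X}
    (hft : LocP @LocallyOfFiniteType (h ≫ f))
    (hdvr : ∀ sq : ValSq (h ≫ f), IsDiscreteValuationRing sq.A →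
      ∃ l : (yon S).obj sq.ptA ⟶ X, (yon S).map sq.j ≫ l = sq.top ≫ h ∧ l ≫ f = sq.bot)
    (v : ValSq f) (hv : ∃ t, t ≫ h = v.top) : v.HasLiftExt := by
  classical
  obtain ⟨t, ht⟩ := hv
  let tK : RPt U v.K := ⟨_, t⟩
  have htK : post h tK = ⟨_, v.top⟩ := congrArg (RPt.mk _) ht
  -- an affine chart of the target
  obtain ⟨ι₀, T₀, b₀, hT₀, hbe₀, -, hbc⟩ := exists_affine_family hY
  obtain ⟨i₀, hi₀⟩ := hbc (Points.ofPt v.bot (closedPoint v.A : ↥(Spec (CommRingCat.of v.A))))
  have := hT₀ i₀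
  let T := T₀ i₀
  let b : (yon S).obj T ⟶ Y := b₀ i₀
  have hTs := IsAlgSpace.yon_obj (S := S) T
  have hTn : IsLocallyNoetherian T.left := Groth.Agent.H13AlgSp.etaleLocally_chart
    (fun g hg hB => @Groth.Agent.H13AlgSp.isLocallyNoetherian_of_etale _ _ g hg hB)
    (fun g hg hs hA => @Groth.Agent.H13AlgSp.isLocallyNoetherian_of_flat_lfp_surjective _ _ g inferInstance
      inferInstance hs hA) hY hYn (hbe₀ i₀)
  have hnoeth : IsNoetherianRing Γ(T.left, ⊤) :=
    IsLocallyNoetherian.component_noetherian ⟨⊤, isAffineOpen_top _⟩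
  obtain ⟨A', _, _, _, φ', hφinj, hφloc, l', hl'⟩ := exists_lift_valuation_of_flat hTs hY
    (locP_of_repWith etLocal_flat (repWith_le (fun _ _ k (_ : Etale k) => inferInstanceAs (Flat k)) (hbe₀ i₀)))
    v.A v.str v.bot hi₀
  let qT : RPt ((yon S).obj T) A' := ⟨_, l'⟩
  have hqT : post b qT = res φ' ⟨v.str, v.bot⟩ := congrArg (RPt.mk _) hl'
  let K' := FractionRing A'
  have hinj' : Function.Injective ((algebraMap A' K').comp φ') := (IsFractionRing.injective A' K').comp hφinj
  obtain ⟨ψ, hψ⟩ : ∃ ψ : v.K →+* K', (algebraMap A' K').comp φ' = ψ.comp (algebraMap v.A v.K) := by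
    refine ⟨IsFractionRing.lift (A := v.A) (K := v.K) hinj', RingHom.ext fun x => ?_⟩
    exact (IsFractionRing.lift_algebraMap (A := v.A) (K := v.K) hinj' x).symm
  have := hφloc
  -- the point of the base change of the source
  obtain ⟨pU, hpU₁, hpU₂⟩ := exists_lift_of_pullback (IsPullback.of_hasPullback (h ≫ f) b) (res ψ tK)
    (res (algebraMap A' K') qT) (by
      rw [← post_post, post_res, htK, post_res, valSq_comm, post_res, hqT, res_res, res_res, hψ])
  have hQ : IsAlgSpace (pullback (h ≫ f) b) := isAlgSpace_pullback hY.diag hU hTs (h ≫ f) b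
  obtain ⟨ι₁, O₁, a₁, hO₁, hae₁, -, hac⟩ := exists_affine_family hQ
  obtain ⟨i₁, hi₁⟩ := hac (Points.ofPt pU.hom (closedPoint K' : ↥(Spec (CommRingCat.of K'))))
  have := hO₁ i₁
  obtain ⟨W', k₁, k₂, sqW⟩ := (hQ.representable_from_yon (a₁ i₁)) pU.hom
  obtain ⟨k₂, rfl⟩ := (yon S).map_surjective k₂
  obtain ⟨w, -⟩ := (preimage_ofPt_range sqW).le hi₁
  obtain ⟨ψ₂, hψ₂⟩ := Spec.map_surjective (R := CommRingCat.of K') (S := W'.left.residueField w)
    (W'.left.fromSpecResidueField w ≫ k₁.left)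
  let qO : RPt ((yon S).obj (O₁ i₁)) (W'.left.residueField w) :=
    post ((yon S).map k₂) (ofSch (W'.left.fromSpecResidueField w))
  have hqO : post (a₁ i₁) qO = res ψ₂.hom pU := by
    simp only [qO]
    rw [res_ofSch_id, CommRingCat.ofHom_hom, hψ₂, post_post, sqW.w, ← post_post, post_ofSch]
  obtain ⟨A, hA⟩ := exists_comap_eq ψ₂.hom (rangeValuationSubring A' K')
  let φA : A' →+* A := (ψ₂.hom.comp (algebraMap A' K')).codRestrict A.toSubring fun x => (hA _).2 ⟨x, rfl⟩
  -- the chart of the source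
  let au : (yon S).obj (O₁ i₁) ⟶ U := a₁ i₁ ≫ pullback.fst (h ≫ f) b
  obtain ⟨c, hc⟩ := (yon S).map_surjective (a₁ i₁ ≫ pullback.snd (h ≫ f) b)
  have hau : au ≫ h ≫ f = (yon S).map c ≫ b := by
    simp only [au, Category.assoc, pullback.condition]
    rw [← Category.assoc, ← hc]
  have hcft : LocallyOfFiniteType c.left :=
    locP_of_isPullback etLocal_lft (IsPullback.of_hasPullback (h ≫ f) b) hU hY hTs hft (a₁ i₁) (𝟙 _) c (hae₁ i₁)
      (repWith_id _ T) (by rw [hc, Category.comp_id])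
  have hcfin : c.left.appTop.hom.FiniteType :=
    (HasRingHomProperty.iff_of_isAffine (P := @LocallyOfFiniteType)).1 hcft
  let γ : Γ((O₁ i₁).left, ⊤) →+* W'.left.residueField w := vr qO
  let ρ : Γ(T.left, ⊤) →+* A := φA.comp (vr qT)
  have hρ : γ.comp c.left.appTop.hom = A.subtype.comp ρ := by
    have h1 : post ((yon S).map c) qO = res ψ₂.hom (res (algebraMap A' K') qT) := by
      rw [hc, ← post_post, hqO, post_res, hpU₂]
    have h2 := congrArg vr h1
    rw [vr_post_yon, vr_res, vr_res] at h2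
    exact h2.trans (RingHom.comp_assoc _ _ _).symm
  -- the separated base change and its affine atlas
  let P := pullback f b
  have hP : IsAlgSpace P := isAlgSpace_pullback hY.diag hX hTs f b
  have hπ : IsSeparatedMor (pullback.snd f b) :=
    MorphismProperty.pullback_snd (P := (RepWith (S := S) @IsClosedImmersion).diagonal) f b hfs
  have := compactSpace_points_of_isQuasiCompactSp (isQuasiCompactMor_pullback hfq T b)
  obtain ⟨W, w₀, hW, hwe, hws⟩ := exists_affine_atlas hP
  let qA : RPt ((yon S).obj T) A := ofSch (ofRmap ρ)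
  have hqA : qA = res φA qT := vr_ext (by rw [vr_res, vr_ofRmap])
  obtain ⟨xL, hxL₁, hxL₂⟩ := exists_lift_of_pullback (IsPullback.of_hasPullback f b) (post h (post au qO))
    (res A.subtype qA) (by
      rw [post_post, post_post, hau, ← post_post]
      exact congrArg (post b) (vr_ext (by rw [vr_res, vr_ofRmap, vr_post_yon, hρ])))
  obtain ⟨Ω, _, j, A₃, l, hj, hl⟩ := exists_point_of_steps hP hπ hwe hws A xL (by
    intro s
    letI := c.left.appTop.hom.toAlgebra
    letI := ρ.toAlgebra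
    have : Algebra.FiniteType Γ(T.left, ⊤) Γ((O₁ i₁).left, ⊤) := hcfin
    obtain ⟨gens, hgens⟩ := this.out
    have hfrac : ∀ g, ∃ x y : A, (γ g : W'.left.residueField w) = (x : W'.left.residueField w) / y := fun g => by
      obtain ⟨x, y, -, hxy⟩ := IsFractionRing.div_surjective A (γ g)
      exact ⟨x, y, hxy.symm⟩
    choose nu de hnd using hfrac
    let Rs : Subalgebra Γ(T.left, ⊤) A :=
      Algebra.adjoin _ ((s ∪ gens.image nu ∪ gens.image de : Finset A) : Set A)
    have hRs : ∀ a ∈ (s ∪ gens.image nu ∪ gens.image de : Finset A), a ∈ Rs :=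
      fun a ha => Algebra.subset_adjoin ha
    have : IsNoetherianRing Rs := isNoetherianRing_of_fg ⟨_, rfl⟩
    let Ls := FractionRing Rs
    have hinjR : Function.Injective (A.subtype.comp Rs.val.toRingHom) :=
      Subtype.val_injective.comp Subtype.val_injective
    let i : Ls →+* W'.left.residueField w := IsFractionRing.lift hinjR
    have hi : ∀ r : Rs, i (algebraMap Rs Ls r) = ((r : A) : W'.left.residueField w) := fun r =>
      IsFractionRing.lift_algebraMap hinjR r
    have hγmem : ∀ g, γ g ∈ i.range := fun g => by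
      have hg : g ∈ Algebra.adjoin Γ(T.left, ⊤) (gens : Set Γ((O₁ i₁).left, ⊤)) := hgens ▸ Algebra.mem_top
      induction hg using Algebra.adjoin_induction with
      | mem x hx =>
        refine ⟨algebraMap Rs Ls ⟨nu x, hRs _ ?_⟩ / algebraMap Rs Ls ⟨de x, hRs _ ?_⟩, ?_⟩
        · exact Finset.mem_union_left _ (Finset.mem_union_right _ (Finset.mem_image_of_mem _ hx))
        · exact Finset.mem_union_right _ (Finset.mem_image_of_mem _ hx)
        · rw [map_div₀, hi, hi, hnd]
      | algebraMap r => exact ⟨algebraMap Rs Ls (algebraMap _ Rs r), (hi _).trans (RingHom.congr_fun hρ r).symm⟩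
      | add x y _ _ hx hy => rw [map_add]; exact add_mem hx hy
      | mul x y _ _ hx hy => rw [map_mul]; exact mul_mem hx hy
    let eI : Ls ≃+* i.range :=
      RingEquiv.ofBijective i.rangeRestrict ⟨fun a b hab => i.injective (congrArg Subtype.val hab),
        i.rangeRestrict_surjective⟩
    let γs : Γ((O₁ i₁).left, ⊤) →+* Ls := eI.symm.toRingHom.comp (γ.codRestrict i.range hγmem)
    have hγs : i.comp γs = γ := RingHom.ext fun g => congrArg Subtype.val (eI.apply_symm_apply _)
    let 𝔭 : Ideal Rs := (maximalIdeal A).comap Rs.val.toRingHom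
    -- a valuation ring of the subfield with a lift
    obtain ⟨D, hD, hD𝔭, hDl⟩ : ∃ (D : ValuationSubring Ls) (hD : ∀ r, algebraMap Rs Ls r ∈ D),
        (∀ r ∈ 𝔭, (⟨_, hD r⟩ : D) ∈ maximalIdeal D) ∧
        ∃ l : RPt X D, res D.subtype l = post h (post au (ofSch (ofRmap γs))) ∧
          post f l = post b (ofSch (ofRmap (((algebraMap Rs Ls).comp (algebraMap Γ(T.left, ⊤) Rs)).codRestrict
            D.toSubring fun r => hD _))) := by
      have hbase : ∀ (D : ValuationSubring Ls) (hD : ∀ r, algebraMap Rs Ls r ∈ D),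
          post (h ≫ f) (post au (ofSch (ofRmap γs))) = res D.subtype
            (post b (ofSch (ofRmap (((algebraMap Rs Ls).comp (algebraMap Γ(T.left, ⊤) Rs)).codRestrict
              D.toSubring fun r => hD _)))) := fun D hD => by
        rw [← post_res, post_post, hau, ← post_post]
        refine congrArg (post b) (vr_ext ?_)
        rw [vr_res, vr_ofRmap, vr_post_yon, vr_ofRmap]
        refine RingHom.ext fun r => i.injective ?_
        refine (RingHom.congr_fun hγs _).trans ((RingHom.congr_fun hρ r).trans ?_)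
        exact (hi (algebraMap _ Rs r)).symm
      by_cases hbot : 𝔭 = ⊥
      · let D : ValuationSubring Ls := ⊤
        have hD : ∀ r, algebraMap Rs Ls r ∈ D := fun r => ValuationSubring.mem_top _
        refine ⟨D, hD, fun r hr => ?_,
          res ((RingHom.id Ls).codRestrict D.toSubring fun x => ValuationSubring.mem_top x)
            (post h (post au (ofSch (ofRmap γs)))), ?_, ?_⟩
        · rw [hbot, Ideal.mem_bot] at hr
          subst hr
          rw [show (⟨algebraMap Rs Ls 0, hD 0⟩ : D) = 0 from Subtype.ext (map_zero _)]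
          exact zero_mem _
        · rw [res_res]
          exact res_id _
        · rw [post_res, post_post, hbase D hD, res_res]
          exact res_id _
      · have hgen : Subfield.closure (Set.range (algebraMap Rs Ls) ∪ ((∅ : Finset Ls) : Set Ls)) = ⊤ := by
          rw [eq_top_iff]
          intro x _
          obtain ⟨a, b', -, rfl⟩ := IsFractionRing.div_surjective Rs x
          exact div_mem (Subfield.subset_closure (Or.inl ⟨a, rfl⟩)) (Subfield.subset_closure (Or.inl ⟨b', rfl⟩))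
        obtain ⟨D, hdisc, hDc⟩ := Groth.Agent.H11Val.exists_dvr_center Ls (IsFractionRing.injective Rs Ls) ∅
          hgen 𝔭 hbot
        have hD : ∀ r, algebraMap Rs Ls r ∈ D := fun r => (hDc r).1
        refine ⟨D, hD, fun r hr => (D.valuation_lt_one_iff ⟨_, hD r⟩).2 ((hDc r).2.1 hr), ?_⟩
        obtain ⟨t₀, ht₀, hsq⟩ := exists_square (A := D) (K := Ls) (U := U) (f := f) (h := h)
          (post b (ofSch (ofRmap (((algebraMap Rs Ls).comp (algebraMap Γ(T.left, ⊤) Rs)).codRestrict
            D.toSubring fun r => hD _)))) (post au (ofSch (ofRmap γs))) (hbase D hD)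
        obtain ⟨l, hl₁, hl₂⟩ := hdvr
          { A := D, K := Ls, str := _, top := t₀, bot := _, comm := (Category.assoc _ _ _).symm.trans hsq } hdisc
        refine ⟨⟨_, l⟩, (congrArg (RPt.mk _) hl₁).trans ?_, congrArg (RPt.mk _) hl₂⟩
        exact (congrArg (post h) ht₀).symm
    obtain ⟨lX, hlX₁, hlX₂⟩ := hDl
    obtain ⟨lD, hlD₁, hlD₂⟩ := exists_lift_of_pullback (IsPullback.of_hasPullback f b) lX _ hlX₂
    refine ⟨Ls, inferInstance, i, D, lD, ?_, fun a ha => ?_⟩
    · refine ext_of_pullback (IsPullback.of_hasPullback f b) ?_ ?_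
      · rw [post_res, hlD₁, ← res_res, hlX₁, hxL₁, ← post_res, ← post_res]
        refine congrArg (fun q => post h (post au q)) (vr_ext ?_)
        rw [vr_res, vr_ofRmap, hγs]
      · rw [post_res, hlD₂, hxL₂]
        refine vr_ext ?_
        rw [vr_res, vr_res, vr_ofRmap, vr_ofRmap]
        exact RingHom.ext fun r => hi _
    · refine ⟨⟨_, hD ⟨a, hRs a (Finset.mem_union_left _ (Finset.mem_union_left _ ha))⟩⟩, hi _,
        fun hm => hD𝔭 _ hm⟩)
  -- the lift after extension
  let ψ₃ : v.K →+* Ω := j.comp (ψ₂.hom.comp ψ)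
  have hA₃ : ∀ x, ψ₃ x ∈ A₃ ↔ x ∈ rangeValuationSubring v.A v.K := fun x =>
    ((hj _).trans (hA _)).trans (mem_rangeValuationSubring_iff_of_isLocalHom φ' ψ hψ x)
  let jA : A →+* A₃ := (j.comp A.subtype).codRestrict A₃.toSubring fun x => (hj _).2 x.2
  let φ₃ : v.A →+* A₃ := (ψ₃.comp (algebraMap v.A v.K)).codRestrict A₃.toSubring fun a => (hA₃ _).2 ⟨a, rfl⟩
  refine hasLiftExt_of_subring v A₃ ψ₃ hA₃ (post (pullback.fst f b) l) φ₃ (fun _ => rfl) ?_ ?_
  · change res A₃.subtype (post (pullback.fst f b) l) = _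
    rw [← post_res, hl, post_res, hxL₁, ← post_res, ← post_res]
    simp only [au]
    rw [← post_post (g := pullback.fst (h ≫ f) b), post_res (a₁ i₁), hqO, post_res, post_res, post_res]
    simp only [post_res, hpU₁, htK, res_res]
    rfl
  · rw [post_post, pullback.condition, ← post_post]
    have hs : post (pullback.snd f b) l = res jA qA := by
      refine eq_of_res_injective (g := A₃.subtype) Subtype.val_injective ?_
      rw [← post_res, hl, post_res, hxL₂, res_res, res_res]
      rfl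
    rw [hs, post_res, hqA, post_res, hqT, res_res, res_res]
    congr 1
    refine RingHom.ext fun a => Subtype.ext ?_
    change j (ψ₂.hom (algebraMap A' K' (φ' a))) = ψ₃ (algebraMap v.A v.K a)
    rw [show algebraMap A' K' (φ' a) = ψ (algebraMap v.A v.K a) from RingHom.congr_fun hψ a]
    rfl

end Groth.Agent.H12AlgSp

namespace Groth.Agent.H12AlgSp

variable {S : Scheme.{u}} {U X Y : Sp S}

/-- A space locally of finite type over a locally Noetherian space is locally Noetherian. -/
theorem isLocNoethSp_of_lft (hX : IsAlgSpace X) (hY : IsAlgSpace Y) (hYn : IsLocNoethSp Y) {g : X ⟶ Y}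
    (hg : LocP @LocallyOfFiniteType g) : IsLocNoethSp X := by
  obtain ⟨A, B, a, b, k, ha, has, hb, -, w⟩ := exists_chart hX hY g
  have hB : IsLocallyNoetherian B.left := Groth.Agent.H13AlgSp.etaleLocally_chart
    (fun g hg hB => @Groth.Agent.H13AlgSp.isLocallyNoetherian_of_etale _ _ g hg hB)
    (fun g hg hs hA => @Groth.Agent.H13AlgSp.isLocallyNoetherian_of_flat_lfp_surjective _ _ g inferInstance
      inferInstance hs hA) hY hYn hb
  have : LocallyOfFiniteType k.left := hg a b k ha hb w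
  exact ⟨A, a, ha, has, LocallyOfFiniteType.isLocallyNoetherian k.left⟩

/-- The discrete valuative criterion for properness of a separated morphism, refined. -/
theorem isProperMor_of_dvr (hU : IsAlgSpace U) (hX : IsAlgSpace X) (hY : IsAlgSpace Y) (hYn : IsLocNoethSp Y)
    {f : X ⟶ Y} (hfs : IsSeparatedMor f) (hft : IsFiniteTypeMor f) {h : U ⟶ X} (hh : IsFiniteTypeMor h)
    (hd : DenseRange (Points.map h))
    (hdvr : ∀ sq : ValSq (h ≫ f), IsDiscreteValuationRing sq.A →
      ∃ l : (yon S).obj sq.ptA ⟶ X, (yon S).map sq.j ≫ l = sq.top ≫ h ∧ l ≫ f = sq.bot) : IsProperMor f :=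
  ⟨hfs, hft, (refined_valuative hX hY hU hft.2 hh.2 hd fun sq hsq => ⟨uniqVC_of_isSeparatedMor hfs sq,
    hasLiftExt_of_dvr hU hX hY hYn hfs hft.2 (locP_comp etLocal_lft hU hX hY hh.1 hft.1) hdvr sq hsq⟩).1⟩

/-- The discrete valuative criterion for separatedness, refined. -/
theorem isSeparatedMor_of_dvr (hU : IsAlgSpace U) (hX : IsAlgSpace X) (hY : IsAlgSpace Y) (hYn : IsLocNoethSp Y)
    {f : X ⟶ Y} (hfl : LocP @LocallyOfFiniteType f) (hfq : IsQuasiSeparatedMor f) {h : U ⟶ X}
    (hh : IsFiniteTypeMor h) (hd : DenseRange (Points.map h))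
    (hdvr : ∀ sq : ValSq (h ≫ f), IsDiscreteValuationRing sq.A →
      ∀ l l' : (yon S).obj sq.ptA ⟶ X, (yon S).map sq.j ≫ l = sq.top ≫ h ∧ l ≫ f = sq.bot →
        (yon S).map sq.j ≫ l' = sq.top ≫ h ∧ l' ≫ f = sq.bot → l = l') : IsSeparatedMor f := by
  have hXX := isAlgSpace_pullback hY.diag hX hX f f
  have hfst : LocP @LocallyOfFiniteType (pullback.fst f f ≫ f) :=
    locP_comp etLocal_lft hXX hX hY (locP_of_isPullback etLocal_lft (IsPullback.of_hasPullback f f).flip hX hY hX hfl) hfl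
  have hn := isLocNoethSp_of_lft hXX hY hYn hfst
  have hds : IsSeparatedMor (pullback.diagonal f) := isSeparatedMor_of_mono _
  have hdq : IsQuasiCompactMor (pullback.diagonal f) := isQuasiCompactMor_of_repWith hX hXX hfq
  have hdl : LocP @LocallyOfFiniteType (h ≫ pullback.diagonal f) :=
    locP_comp etLocal_lft hU hX hXX hh.1 (locP_of_repWith etLocal_lft (repWith_diagonal f (repWith_lft_diag hX)))
  refine (isSeparatedMor_iff hX hY f).1.2
    (refined_valuative hX hXX hU hdq hh.2 hd fun sq hsq => ⟨uniqVC_of_isSeparatedMor hds sq,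
      hasLiftExt_of_dvr hU hX hXX hn hds hdq hdl ?_ sq hsq⟩).1
  intro sq hA
  have h₁ := sq.comm =≫ pullback.fst f f
  have h₂ := sq.comm =≫ pullback.snd f f
  simp only [Category.assoc, pullback.diagonal_fst, pullback.diagonal_snd, Category.comp_id] at h₁ h₂
  have hc : sq.top ≫ h ≫ f = (yon S).map sq.j ≫ sq.bot ≫ pullback.fst f f ≫ f := by
    rw [← Category.assoc, h₁]
    simp only [Category.assoc]
  have e : sq.bot ≫ pullback.fst f f = sq.bot ≫ pullback.snd f f :=
    hdvr { A := sq.A, K := sq.K, str := sq.str, top := sq.top, bot := sq.bot ≫ pullback.fst f f ≫ f, comm := hc }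
      hA _ _ ⟨h₁.symm, Category.assoc _ _ _⟩ ⟨h₂.symm, (Category.assoc _ _ _).trans (by rw [← pullback.condition])⟩
  refine ⟨sq.bot ≫ pullback.fst f f, h₁.symm, ?_⟩
  apply pullback.hom_ext
  · simp only [Category.assoc, pullback.diagonal_fst, Category.comp_id]
  · simp only [Category.assoc, pullback.diagonal_snd, Category.comp_id]
    rw [e]

end Groth.Agent.H12AlgSp

namespace Groth.Agent.H12AlgSp

variable {S : Scheme.{u}} {X Y : Sp S}

theorem isFiniteTypeMor_id (hX : IsAlgSpace X) : IsFiniteTypeMor (𝟙 X) := by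
  exact ⟨locP_of_repWith etLocal_lft (repWith_of_isIso _), isQuasiCompactMor_of_repWith hX hX (repWith_of_isIso _)⟩

/-- The discrete valuative criterion for separatedness. -/
theorem isSeparatedMor_iff_dvr (hX : IsAlgSpace X) (hY : IsAlgSpace Y) (hYn : IsLocNoethSp Y) {f : X ⟶ Y}
    (hfl : LocP @LocallyOfFiniteType f) (hfq : IsQuasiSeparatedMor f) :
    IsSeparatedMor f ↔ ∀ sq : ValSq f, IsDiscreteValuationRing sq.A → sq.HasUniq := by
  refine ⟨fun hf sq _ => uniqVC_of_isSeparatedMor hf sq, fun h => isSeparatedMor_of_dvr hX hX hY hYn hfl hfq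
    (h := 𝟙 X) (isFiniteTypeMor_id hX) (Function.Surjective.denseRange fun x => ⟨x, Points.map_id x⟩) ?_⟩
  intro sq hA l l' h₁ h₂
  let sq' : ValSq f := { A := sq.A, K := sq.K, str := sq.str, top := sq.top, bot := sq.bot,
                         comm := by simpa using sq.comm }
  exact h sq' hA l l' (by simpa using h₁.1) h₁.2 (by simpa using h₂.1) h₂.2

/-- The discrete valuative criterion for properness. -/
theorem isProperMor_iff_dvr (hX : IsAlgSpace X) (hY : IsAlgSpace Y) (hYn : IsLocNoethSp Y) {f : X ⟶ Y}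
    (hft : IsFiniteTypeMor f) (hfq : IsQuasiSeparatedMor f) :
    IsProperMor f ↔ ∀ sq : ValSq f, IsDiscreteValuationRing sq.A → sq.HasLift ∧ sq.HasUniq := by
  refine ⟨fun hf sq _ => ⟨?_, uniqVC_of_isSeparatedMor hf.1 sq⟩, fun h => ?_⟩
  · obtain ⟨e, he⟩ := existVC_of_isUnivClosedMor hX hY hfq hf.2.2 sq
    exact hasLift_of_domExt_of_separated hX hY hf.1 sq e he
  refine isProperMor_of_dvr hX hX hY hYn ((isSeparatedMor_iff_dvr hX hY hYn hft.1 hfq).2 fun sq hA => (h sq hA).2)
    hft (h := 𝟙 X) (isFiniteTypeMor_id hX) (Function.Surjective.denseRange fun x => ⟨x, Points.map_id x⟩) ?_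
  intro sq hA
  obtain ⟨l, hl₁, hl₂⟩ := (h { A := sq.A, K := sq.K, str := sq.str, top := sq.top, bot := sq.bot,
                                     comm := by simpa using sq.comm } hA).1
  exact ⟨l, by simpa using hl₁, hl₂⟩

end Groth.Agent.H12AlgSp
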