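import Groth.Agent.H12AlgSp.RelDim
import Groth.Agent.H12AlgSp.NoethValuative
import Groth.Agent.H8Props.FlatFibreDim
import Groth.Agent.H13AlgSp.DecentJacobson
import Groth.Agent.H17.Fibre

/-!
Applications of chart independence of the relative dimension.
-/

set_option backward.isDefEq.respectTransparency false

universe u

open CategoryTheory CategoryTheory.Limits AlgebraicGeometry Topology TopologicalSpace
open AlgSp

namespace Groth.Agent.H12AlgSp

variable {S : Scheme.{u}}

theorem isLocallyNoetherian_chart {Y : Sp S} (hY : IsAlgSpace Y) (hYn : IsLocNoethSp Y) {B : Over S}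
    {b : (yon S).obj B ⟶ Y} (hb : RepWith @Etale b) : IsLocallyNoetherian B.left :=
  Groth.Agent.H13AlgSp.etaleLocally_chart
    (fun g hg hB => @Groth.Agent.H13AlgSp.isLocallyNoetherian_of_etale _ _ g hg hB)
    (fun g hg hs hA => @Groth.Agent.H13AlgSp.isLocallyNoetherian_of_flat_lfp_surjective _ _ g inferInstance
      inferInstance hs hA) hY hYn hb

/-- Local dimensions of charts at a point and at its image in a chart diagram. -/
theorem localDim_of_hasAt {X Y : Sp S} (hX : IsAlgSpace X) (hY : IsAlgSpace Y) {f : X ⟶ Y}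
    {U V : Over S} {a : (yon S).obj U ⟶ X} {b : (yon S).obj V ⟶ Y} {h : U ⟶ V}
    (ha : RepWith @Etale a) (hb : RepWith @Etale b) (w : a ≫ f = (yon S).map h ≫ b) (u : U.left)
    {dX dY : WithBot ℕ∞} (hx : HasAt (fun U u => FlatMor.localDim ↥U u = dX) X (Points.ofPt a u))
    (hy : HasAt (fun U u => FlatMor.localDim ↥U u = dY) Y (Points.map f (Points.ofPt a u))) :
    dX = FlatMor.localDim U.left u ∧ dY = FlatMor.localDim V.left (h.left u) := by
  obtain ⟨U₁, a₁, u₁, ha₁, e₁, rfl⟩ := hx
  obtain ⟨V₁, b₁, v₁, hb₁, e₂, rfl⟩ := hy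
  rw [Points.map_ofPt, w, ofPt_map] at e₂
  exact ⟨localDim_chart_eq hX ha₁ ha e₁, localDim_chart_eq hY hb₁ hb e₂⟩

theorem localDim_eq_add_of_smooth {X Y : Scheme.{u}} [IsLocallyNoetherian X] [IsLocallyNoetherian Y]
    (f : X ⟶ Y) [Smooth f] (x : X) :
    FlatMor.localDim X x = FlatMor.localDim Y (f x) + FlatMor.fibreDimAt f x := by
  obtain ⟨W, n, hx, hW⟩ := exists_nhd_smooth_fibreDimAt f x
  have hd : ∀ w : W.toScheme, FlatMor.fibreDimAt (W.ι ≫ f) w = n := fun w => by
    rw [H8Props.FieldDim.fibreDimAt_openImmersion_comp]; exact hW _ w.2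
  have := H8Props.FieldDim.localDim_eq_add_of_relDim (W.ι ≫ f) n
    (hasRelDim_of_fibreDimAt _ n hd) ⟨x, hx⟩
  rw [localDim_eq_of_etale W.ι, Scheme.Hom.comp_apply] at this
  rw [hW x hx]
  exact this

theorem resTrdeg_eq_zero_of_isClosed {U V : Scheme.{u}} (h : U ⟶ V) [LocallyOfFiniteType h]
    {u : U} (hu : IsClosed ({u} : Set U)) : Dual3.resTrdeg h u = 0 := by
  have hc : IsClosed ({h.asFiber u} : Set (h.fiber (h u))) := by
    convert hu.preimage (h.fiberι (h u)).continuous using 1
    ext z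
    simp only [Set.mem_preimage, Set.mem_singleton_iff]
    exact ⟨fun e => e ▸ h.fiberι_asFiber u,
      fun e => (h.fiberι (h u)).isEmbedding.injective (e.trans (h.fiberι_asFiber u).symm)⟩
  letI := (h.residueFieldMap u).hom.toAlgebra
  have : Module.Finite (V.residueField (h u)) (U.residueField u) :=
    Groth.Agent.H17.finite_residueFieldMap h u hc
  exact trdeg_eq_zero

end Groth.Agent.H12AlgSp
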