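import Groth.Agent.H12AlgSp.AffineLimit
import Groth.Agent.H12AlgSp.AffineMor
import Groth.Agent.H12AlgSp.LocPCancel
import Groth.Agent.H12AlgSp.QC

/-!
Closed subspaces of limits which are of finite type are closed subspaces at a finite stage.
-/

universe u

open CategoryTheory CategoryTheory.Limits AlgebraicGeometry Opposite Topology
open AlgSp Groth.Agent.H13AlgSp

set_option backward.isDefEq.respectTransparency false

attribute [local instance] CategoryTheory.isConnected_of_hasTerminal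

namespace Groth.Agent.H12AlgSp

variable {S : Scheme.{u}}

/-- A closed subscheme of a limit of affine schemes which is of finite type over a fixed affine scheme is
closed at a finite stage. -/
theorem exists_stage_closedImmersion {J : Type u} [SmallCategory J] [IsCofiltered J] (D : J ⥤ Scheme.{u})
    (c : Cone D) (hc : IsLimit c) [∀ j, IsAffine (D.obj j)] [IsAffine c.pt] {Y U : Scheme.{u}} [IsAffine Y]
    [IsAffine U] (k : Y ⟶ c.pt) [IsClosedImmersion k] (h : Y ⟶ U) [LocallyOfFiniteType h]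
    (p : ∀ j, D.obj j ⟶ U) (hp : ∀ j, k ≫ c.π.app j ≫ p j = h) :
    ∃ j, ∀ l (_ : l ⟶ j), IsClosedImmersion (k ≫ c.π.app l) := by
  classical
  have hft : h.appTop.hom.FiniteType := HasRingHomProperty.appTop @LocallyOfFiniteType h ‹_›
  let _ : Algebra Γ(U, ⊤) Γ(Y, ⊤) := h.appTop.hom.toAlgebra
  have : Algebra.FiniteType Γ(U, ⊤) Γ(Y, ⊤) := hft
  obtain ⟨G, hG⟩ := Algebra.FiniteType.out (R := Γ(U, ⊤)) (A := Γ(Y, ⊤))
  have hsurj : Function.Surjective k.appTop := (IsClosedImmersion.isAffine_surjective_of_isAffine k).2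
  have hrep : ∀ a : Γ(Y, ⊤), ∃ j, a ∈ (k ≫ c.π.app j).appTop.hom.range := fun a => by
    obtain ⟨b, rfl⟩ := hsurj a
    obtain ⟨j, t, rfl⟩ := exists_appTop_π_eq_of_isAffine_of_isLimit D c hc b
    exact ⟨j, t, by rw [Scheme.Hom.comp_appTop, CommRingCat.hom_comp]; rfl⟩
  choose js hjs using hrep
  obtain ⟨j, hj⟩ := IsCofiltered.inf_objs_exists (G.image js)
  refine ⟨j, fun l φ => IsClosedImmersion.of_surjective_of_isAffine _ fun a => ?_⟩
  let A : Subalgebra Γ(U, ⊤) Γ(Y, ⊤) :=
    { (k ≫ c.π.app l).appTop.hom.range.toSubsemiring with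
      algebraMap_mem' := fun r => by
        refine ⟨(p l).appTop r, ?_⟩
        show ((p l).appTop ≫ (k ≫ c.π.app l).appTop) r = h.appTop r
        rw [← Scheme.Hom.comp_appTop, Category.assoc, hp] }
  have hle : (G : Set Γ(Y, ⊤)) ⊆ A := fun a ha => by
    obtain ⟨ψ⟩ := hj (Finset.mem_image_of_mem js ha)
    obtain ⟨t, ht⟩ := hjs a
    refine ⟨(D.map (φ ≫ ψ)).appTop t, ?_⟩
    show ((D.map (φ ≫ ψ)).appTop ≫ (k ≫ c.π.app l).appTop) t = a
    rw [← Scheme.Hom.comp_appTop, Category.assoc, c.w]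
    exact ht
  obtain ⟨t, ht⟩ := (Algebra.adjoin_le hle) (hG.ge (Algebra.mem_top (x := a)))
  exact ⟨t, ht⟩

variable {I : Type u} [SmallCategory I] [IsCofiltered I] {D : I ⥤ Sp S}

theorem eventually_closedImmersion (hD : ∀ i, IsAlgSpace (D.obj i))
    (hDa : ∀ (i j : I) (φ : i ⟶ j), IsAffineMor (D.map φ)) {c : Cone D} (hc : IsLimit c) (i₁ : I)
    (hqc : IsQuasiCompactSp (D.obj i₁)) {Y : Sp S} (hY : IsAlgSpace Y) (y : Y ⟶ c.pt)
    (hy : RepWith @IsClosedImmersion y) {B : Sp S} (hB : IsAlgSpace B) (t : D.obj i₁ ⟶ B)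
    (hYB : LocP @LocallyOfFiniteType (y ≫ c.π.app i₁ ≫ t)) :
    ∃ i₀ : I, ∀ (i : I) (_ : i ⟶ i₀), RepWith @IsClosedImmersion (y ≫ c.π.app i) := by
  have hl : LocP @LocallyOfFiniteType (y ≫ c.π.app i₁) :=
    locP_of_postcomp etLocal_lft (R := (⊤ : MorphismProperty Scheme.{u}))
      (fun _ _ _ f g (hfg : LocallyOfFiniteType (f ≫ g)) _ => locallyOfFiniteType_of_comp f g) hB
      (g := t) (by rwa [Category.assoc]) (locP_top t)
  have := compactSpace_points_of_isQuasiCompactSp hqc
  obtain ⟨U, a, hU, ha, has⟩ := exists_affine_atlas (hD i₁)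
  obtain ⟨K, cK, hcK, w, fst, f, p, sq, haff, hfst, hw, hK⟩ := exists_pullback_proj_data hDa hc i₁ hU a
  obtain ⟨Y', k, q, sqY⟩ := hy.1 fst
  have hk : IsClosedImmersion k.left := hy.2 _ _ _ sqY
  have : IsAffine cK.pt.left := haff
  have : IsAffine Y'.left := isAffine_of_isAffineHom k.left
  have hqe : RepWith @Etale q := repWith_of_isPullback sqY.flip (repWith_of_isPullback sq.flip ha)
  have hlft : LocallyOfFiniteType (k ≫ w).left := hl q a (k ≫ w) hqe ha (by
    rw [← Category.assoc, sqY.w, Category.assoc, sq.w, Functor.map_comp, Category.assoc])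
  have : LocallyOfFiniteType (k.left ≫ w.left) := hlft
  have : ∀ j, IsAffine ((K ⋙ Over.forget S).obj j) := fun j => (hK j).1
  have : IsAffine ((Over.forget S).mapCone cK).pt := haff
  have hlim : IsLimit ((Over.forget S).mapCone cK) := isLimitOfPreserves _ hcK
  have : IsClosedImmersion (show Y'.left ⟶ ((Over.forget S).mapCone cK).pt from k.left) := hk
  obtain ⟨j, hj⟩ := exists_stage_closedImmersion _ _ hlim
    (show Y'.left ⟶ ((Over.forget S).mapCone cK).pt from k.left) (k.left ≫ w.left) (fun j => (p j).left)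
    (fun j => by
      show k.left ≫ (cK.π.app j).left ≫ (p j).left = _
      exact congrArg (k.left ≫ ·) (congrArg (fun m => Over.Hom.left m) (hw j)))
  refine ⟨j.left, fun i φ => ?_⟩
  let l : Over i₁ := Over.mk (φ ≫ j.hom)
  have hcl : IsClosedImmersion (k ≫ cK.π.app l).left := hj l (Over.homMk φ rfl)
  have sql : IsPullback fst ((yon S).map (cK.π.app l)) (c.π.app i) (f l) :=
    IsPullback.of_bot (by rw [c.w, ← Functor.map_comp, hw]; exact sq) (hfst l) (hK l).2
  have big := sqY.paste_vert sql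
  rw [← Functor.map_comp] at big
  exact repWith_of_etale_cover (P := @IsClosedImmersion) (fun _ _ g (_ : IsClosedImmersion g) => inferInstance)
    hY (hD i) (repWith_of_isPullback (hK l).2.flip ha) (repWith_of_isPullback (hK l).2.flip has) big
    ((repWith_yon_map_iff _ _).2 hcl)

end Groth.Agent.H12AlgSp
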