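import Groth.Agent.H12AlgSp.SchImage
import Groth.Agent.H12AlgSp.LimitScheme
import Groth.Agent.H12AlgSp.LimitQuotient
import Groth.Agent.H12AlgSp.RepMisc

/-!
Minimal closed subspaces which are not schemes.
-/

universe u

open CategoryTheory CategoryTheory.Limits AlgebraicGeometry Opposite
open AlgSp Groth.Agent.H13AlgSp Groth.Agent.H13Cartier

set_option backward.isDefEq.respectTransparency false

namespace Groth.Agent.H12AlgSp

variable {S : Scheme.{u}} {X : Sp S} {U : Over S} (p : (yon S).obj U ⟶ X)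

/-- An ideal of a chart which agrees along the kernel pair. -/
def InvIdeal (I : U.left.IdealSheafData) : Prop :=
  ∀ (A : Over S) (d d' : A ⟶ U), (yon S).map d ≫ p = (yon S).map d' ≫ p → I.comap d.left = I.comap d'.left

variable {p}

/-- A map all of whose points lie in a closed subscheme of the chart factors. -/
theorem exists_lift_idealSub {F : Sp S} {I : U.left.IdealSheafData} (m : F ⟶ X)
    (h : ∀ (T : Over S) (x : (yon S).obj T ⟶ F), InIdeal p I (x ≫ m)) :
    ∃ k : F ⟶ idealSub p I, k ≫ idealSubι p I = m := by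
  have hr : Subfunctor.range m.hom ≤ idealSubfunctor p I := fun T => by
    rintro _ ⟨x, rfl⟩
    change InIdeal p I ((J S).uliftYonedaEquiv.{u + 1}.symm (m.hom.app T x))
    have e : (J S).uliftYonedaEquiv.{u + 1}.symm (m.hom.app T x) = (J S).uliftYonedaEquiv.{u + 1}.symm x ≫ m := by
      rw [Equiv.symm_apply_eq, GrothendieckTopology.uliftYonedaEquiv_comp, Equiv.apply_symm_apply]
    rw [e]
    exact h _ _
  exact ⟨⟨Subfunctor.lift m.hom hr⟩, Sheaf.hom_ext (Subfunctor.lift_ι m.hom hr)⟩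

theorem inIdeal_mono {I J : U.left.IdealSheafData} (h : I ≤ J) {T : Over S} {x : (yon S).obj T ⟶ X}
    (hx : InIdeal p J x) : InIdeal p I x := fun A a d e =>
  le_bot_iff.1 (hx A a d e ▸ Scheme.IdealSheafData.comap_mono d.left h)

theorem exists_factor_idealSub_of_le {I J : U.left.IdealSheafData} (h : I ≤ J) :
    ∃ k : idealSub p J ⟶ idealSub p I, k ≫ idealSubι p I = idealSubι p J :=
  exists_lift_idealSub _ fun _ x => inIdeal_mono h (inIdeal_of_factor x)

/-- The inclusion of closed subspaces of nested ideals. -/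
noncomputable def idealSubMap {I J : U.left.IdealSheafData} (h : I ≤ J) : idealSub p J ⟶ idealSub p I :=
  (exists_factor_idealSub_of_le h).choose

theorem idealSubMap_ι {I J : U.left.IdealSheafData} (h : I ≤ J) :
    idealSubMap (p := p) h ≫ idealSubι p I = idealSubι p J :=
  (exists_factor_idealSub_of_le h).choose_spec

variable (hX : IsAlgSpace X) (hp : RepWith @Etale p) (hps : RepWith @Surjective p)
include hX hp hps

theorem idealSub_props {I : U.left.IdealSheafData} (hI : InvIdeal p I) :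
    IsAlgSpace (idealSub p I) ∧ RepWith @IsClosedImmersion (idealSubι p I) ∧ CutsOut (idealSubι p I) p I := by
  obtain ⟨q, sqq⟩ := exists_isPullback_idealSub hI
  have hq : RepWith @Etale q := repWith_of_isPullback sqq.flip hp
  have hqs : RepWith @Surjective q := repWith_of_isPullback sqq.flip hps
  have sqm : IsPullback (idealSubι p I) (Limits.diag (idealSub p I)) (Limits.diag X)
      (prod.map (idealSubι p I) (idealSubι p I)) := by
    refine ⟨⟨by ext <;> simp⟩, ⟨PullbackCone.IsLimit.mk _ (fun c => c.snd ≫ prod.fst) (fun c => ?_) (fun c => ?_)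
      fun c m h1 h2 => ?_⟩⟩
    · have h₁ := c.condition =≫ prod.fst
      simp [Limits.prod.lift_fst] at h₁
      simp [h₁]
    · have h₁ := c.condition =≫ prod.fst
      have h₂ := c.condition =≫ prod.snd
      simp [Limits.prod.lift_fst, Limits.prod.lift_snd] at h₁ h₂
      apply Limits.prod.hom_ext
      · simp [Limits.prod.lift_fst]
      · rw [← cancel_mono (idealSubι p I)]
        simp [Limits.prod.lift_snd, ← h₂, ← h₁]
    · have h₁ := h2 =≫ prod.fst
      simpa [Limits.prod.lift_fst] using h₁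
  have hZ : IsAlgSpace (idealSub p I) := ⟨representable_of_isPullback sqm hX.diag, _, q, hq, hqs⟩
  exact ⟨hZ, repWith_of_etale_cover (fun _ _ k (_ : IsClosedImmersion k) => inferInstanceAs (IsAffineHom k))
    hZ hX hp hps sqq ((repWith_yon_map_iff _ _).2 (inferInstanceAs (IsClosedImmersion I.subschemeι))), q, sqq⟩

theorem qcqs_idealSub (hXc : IsQuasiCompactSp X) (hXs : IsQuasiSeparatedSp X) {I : U.left.IdealSheafData}
    (hI : InvIdeal p I) : IsQuasiCompactSp (idealSub p I) ∧ IsQuasiSeparatedSp (idealSub p I) := by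
  obtain ⟨hZ, hcl, -⟩ := idealSub_props hX hp hps hI
  have := compactSpace_points_of_isQuasiCompactSp hXc
  have hq : IsQuasiCompactMor (idealSubι p I) := isQuasiCompactMor_of_repWith hZ hX
    (repWith_le (P := @IsClosedImmersion) (Q := @QuasiCompact) (fun _ _ k (_ : IsClosedImmersion k) => inferInstance) hcl)
  refine ⟨hq hX hXc (𝟙 X) (𝟙 _) (idealSubι p I) (IsPullback.of_horiz_isIso ⟨by simp⟩),
    isQuasiSeparatedSp_of_mono hXs (idealSubι p I)⟩

theorem isRepresentable_idealSub_iSup [QuasiSeparatedSpace S] (hXc : IsQuasiCompactSp X) (hXs : IsQuasiSeparatedSp X)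
    {ι : Type u} [Preorder ι] [Nonempty ι] [IsDirected ι (· ≤ ·)] (c : ι → U.left.IdealSheafData) (hc : Monotone c)
    (hI : ∀ i, InvIdeal p (c i)) (h : (idealSub p (⨆ i, c i)).obj.IsRepresentable) :
    ∃ i, (idealSub p (c i)).obj.IsRepresentable := by
  let D : ιᵒᵖ ⥤ Sp S :=
    { obj := fun i => idealSub p (c i.unop)
      map := fun f => idealSubMap (hc f.unop.le)
      map_id := fun i => (cancel_mono (idealSubι p _)).1 (by rw [idealSubMap_ι, Category.id_comp])
      map_comp := fun f g => (cancel_mono (idealSubι p _)).1 (by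
        rw [Category.assoc, idealSubMap_ι, idealSubMap_ι, idealSubMap_ι]) }
  have hD : ∀ i, IsAlgSpace (D.obj i) := fun i => (idealSub_props hX hp hps (hI i.unop)).1
  have hDa : ∀ i j (φ : i ⟶ j), IsAffineMor (D.map φ) := fun i j φ => isAffineMor_iff.2
    (repWith_le (P := @IsClosedImmersion) (Q := @IsAffineHom) (fun _ _ k (_ : IsClosedImmersion k) => inferInstance)
      (repWith_of_comp_mono (idealSub_props hX hp hps (hI i.unop)).2.1 (f₂ := idealSubι p (c j.unop))
        (idealSubMap_ι (hc φ.unop.le))))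
  let cn : Cone D :=
    { pt := idealSub p (⨆ i, c i)
      π :=
        { app := fun i => idealSubMap (le_iSup c i.unop)
          naturality := fun i j φ => (cancel_mono (idealSubι p (c j.unop))).1 (by
            change (𝟙 _ ≫ idealSubMap (le_iSup c j.unop)) ≫ idealSubι p (c j.unop) =
              (idealSubMap (le_iSup c i.unop) ≫ idealSubMap (hc φ.unop.le)) ≫ idealSubι p (c j.unop)
            rw [Category.id_comp, Category.assoc, idealSubMap_ι, idealSubMap_ι, idealSubMap_ι]) } }
  obtain ⟨i₀⟩ := ‹Nonempty ι›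
  have hlift : ∀ s : Cone D, ∃ k : s.pt ⟶ idealSub p (⨆ i, c i),
      k ≫ idealSubι p _ = s.π.app (op i₀) ≫ idealSubι p (c i₀) := fun s => by
    have hall : ∀ i, s.π.app (op i) ≫ idealSubι p (c i) = s.π.app (op i₀) ≫ idealSubι p (c i₀) := fun i => by
      obtain ⟨j, hi, hj⟩ := directed_of (α := ι) (· ≤ ·) i i₀
      rw [← s.w (homOfLE hi).op, ← s.w (homOfLE hj).op, Category.assoc, Category.assoc]
      exact congrArg (s.π.app (op j) ≫ ·) ((idealSubMap_ι (hc hi)).trans (idealSubMap_ι (hc hj)).symm)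
    refine exists_lift_idealSub _ fun T x A a d e => le_bot_iff.1 ?_
    refine Scheme.IdealSheafData.le_map_iff_comap_le.1 (iSup_le fun i => ?_)
    refine Scheme.IdealSheafData.le_map_iff_comap_le.2 (le_of_eq ?_)
    refine inIdeal_of_factor (x ≫ s.π.app (op i)) A a d ?_
    rw [Category.assoc, hall i]
    exact e
  have hlim : IsLimit cn :=
    { lift := fun s => (hlift s).choose
      fac := fun s i => (cancel_mono (idealSubι p (c i.unop))).1 (by
        rw [Category.assoc]
        refine (congrArg ((hlift s).choose ≫ ·) (idealSubMap_ι (le_iSup c i.unop))).trans ?_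
        rw [(hlift s).choose_spec]
        obtain ⟨j, hi, hj⟩ := directed_of (α := ι) (· ≤ ·) i.unop i₀
        rw [← s.w (homOfLE hi).op, ← s.w (homOfLE hj).op, Category.assoc, Category.assoc]
        exact congrArg (s.π.app (op j) ≫ ·) ((idealSubMap_ι (hc hj)).trans (idealSubMap_ι (hc hi)).symm))
      uniq := fun s m hm => (cancel_mono (idealSubι p _)).1 (by
        rw [(hlift s).choose_spec, ← hm (op i₀), Category.assoc]
        exact congrArg (m ≫ ·) (idealSubMap_ι (le_iSup c i₀)).symm) }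
  obtain ⟨T, ⟨ρ⟩⟩ := isRepresentable_iff_exists_iso.1 h
  obtain ⟨l, hl⟩ := exists_scheme_of_scheme_limit hD hDa hlim
    (fun i => (qcqs_idealSub hX hp hps hXc hXs (hI i.unop)).1)
    (fun i => (qcqs_idealSub hX hp hps hXc hXs (hI i.unop)).2) ρ
  obtain ⟨W, hW⟩ := hl l (𝟙 _)
  exact ⟨l.unop, isRepresentable_iff_exists_iso.2 ⟨W, hW⟩⟩

omit hX hp hps in
theorem invIdeal_iSup {ι : Type u} (c : ι → U.left.IdealSheafData) (hI : ∀ i, InvIdeal p (c i)) :
    InvIdeal p (⨆ i, c i) := fun A d d' e => by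
  simp only [(Scheme.IdealSheafData.map_gc _).l_iSup]
  exact iSup_congr fun i => hI i A d d' e

theorem exists_minimal_nonscheme [QuasiSeparatedSpace S] (hXc : IsQuasiCompactSp X) (hXs : IsQuasiSeparatedSp X)
    (hns : ¬ X.obj.IsRepresentable) :
    ∃ (Z : Sp S) (i : Z ⟶ X), IsAlgSpace Z ∧ RepWith @IsClosedImmersion i ∧ ¬ Z.obj.IsRepresentable ∧
      ∀ (Z' : Sp S) (i' : Z' ⟶ Z), IsAlgSpace Z' → RepWith @IsClosedImmersion i' → ¬ IsIso i' →
        Z'.obj.IsRepresentable := by
  have hb : InvIdeal p ⊥ := fun A d d' _ => by simp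
  have hbot : ¬ (idealSub p ⊥).obj.IsRepresentable := fun h => hns (by
    have : IsIso (idealSubι p ⊥) := by
      obtain ⟨k, hk⟩ := exists_lift_idealSub (p := p) (I := ⊥) (𝟙 X) fun T x A a d _ =>
        Scheme.IdealSheafData.comap_bot _
      exact ⟨k, (cancel_mono (idealSubι p ⊥)).1 (by rw [Category.assoc, hk, Category.comp_id, Category.id_comp]), hk⟩
    obtain ⟨T, ⟨ρ⟩⟩ := isRepresentable_iff_exists_iso.1 h
    exact isRepresentable_iff_exists_iso.2 ⟨T, ⟨ρ ≪≫ asIso (idealSubι p ⊥)⟩⟩)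
  obtain ⟨I, -, hI⟩ := zorn_le_nonempty₀ {I | InvIdeal p I ∧ ¬ (idealSub p I).obj.IsRepresentable}
    (fun C hC hCc y hy => by
      haveI : Nonempty C := ⟨⟨y, hy⟩⟩
      haveI : IsDirected C (· ≤ ·) :=
        ⟨fun a b => (hCc.total a.2 b.2).elim (fun h => ⟨b, h, le_rfl⟩) fun h => ⟨a, le_rfl, h⟩⟩
      refine ⟨⨆ i : C, i.1, ⟨invIdeal_iSup (fun i : C => i.1) (fun i => (hC i.2).1), fun hr => ?_⟩,
        fun z hz => le_iSup (fun i : C => i.1) ⟨z, hz⟩⟩
      obtain ⟨i, hi⟩ := isRepresentable_idealSub_iSup hX hp hps hXc hXs (fun i : C => i.1) (fun _ _ h => h)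
        (fun i => (hC i.2).1) hr
      exact (hC i.2).2 hi) ⊥ ⟨hb, hbot⟩
  obtain ⟨hZ, hcl, hcut⟩ := idealSub_props hX hp hps hI.prop.1
  refine ⟨_, _, hZ, hcl, hI.prop.2, fun Z' i' hZ' hi' hne => ?_⟩
  let j := i' ≫ idealSubι p I
  have hj : RepWith @IsClosedImmersion j := repWith_comp hi' hcl
  obtain ⟨J, hJ⟩ := exists_cutsOut hj p
  have hJi : InvIdeal p J := fun A d d' e => hJ.comap_eq hJ e
  obtain ⟨hZJ, hclJ, hcutJ⟩ := idealSub_props hX hp hps hJi
  have hle : I ≤ J := (factor_iff_le hZ' hp hps hcl hcut hJ).1 ⟨i', rfl⟩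
  obtain ⟨k, hk⟩ := (factor_iff_le hZ' hp hps hclJ hcutJ hJ).2 le_rfl
  obtain ⟨k', hk'⟩ := (factor_iff_le hZJ hp hps hj hJ hcutJ).2 le_rfl
  have := mono_of_closedImmersion hj
  have hkk : IsIso k := ⟨k', (cancel_mono j).1 (by rw [Category.assoc, hk', hk, Category.id_comp]),
    (cancel_mono (idealSubι p J)).1 (by rw [Category.assoc, hk, hk', Category.id_comp])⟩
  have hlt : I < J := hle.lt_of_ne fun e => hne (by
    subst e
    have : k = i' := (cancel_mono (idealSubι p I)).1 hk
    exact this ▸ hkk)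
  by_contra hn
  refine hlt.not_ge (hI.le_of_ge ⟨hJi, fun hr => hn ?_⟩ hlt.le)
  obtain ⟨T, ⟨ρ⟩⟩ := isRepresentable_iff_exists_iso.1 hr
  exact isRepresentable_iff_exists_iso.2 ⟨T, ⟨ρ ≪≫ (asIso k).symm⟩⟩

end Groth.Agent.H12AlgSp
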