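import Groth.Agent.H12AlgSp.ShriekSpace

/-!
Algebraic spaces over `S` are algebraic spaces over `S'` with a map to `h_S`.
-/

set_option linter.unusedVariables false
set_option backward.isDefEq.respectTransparency false

universe u

open CategoryTheory CategoryTheory.Limits AlgebraicGeometry Opposite
open AlgSp

namespace Groth.Agent.H12AlgSp.Shriek

variable {S S' : Scheme.{u}} (g : S ⟶ S')

/-- Extension along `g`, with its structure map to `h_S`. -/
noncomputable def extend : Space S ⥤ Over ((ofScheme S').obj (Over.mk g)) where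
  obj F := Over.mk (⟨toBase g F.obj⟩ : (⟨(shr g).obj F.obj, isAlgSpace_shr F.property⟩ : Space S') ⟶ _)
  map {F G} f := Over.homMk ⟨(shr g).map f.hom⟩
    (by exact InducedCategory.hom_ext (toBase_naturality g f.hom))
  map_id F := Over.OverMorphism.ext (InducedCategory.hom_ext ((shr g).map_id F.obj))
  map_comp f h := Over.OverMorphism.ext (InducedCategory.hom_ext ((shr g).map_comp f.hom h.hom))

instance : (extend g).Faithful where
  map_injective {F G} f h e := InducedCategory.hom_ext ((shr g).map_injective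
    (congrArg (fun t : (extend g).obj F ⟶ (extend g).obj G => t.left.hom) e))

instance : (extend g).Full where
  map_surjective {F G} q := by
    obtain ⟨r, hr⟩ := exists_map q.left.hom (congrArg (fun t => t.hom) (Over.w q))
    exact ⟨⟨r⟩, Over.OverMorphism.ext (InducedCategory.hom_ext hr)⟩

variable {g}

theorem canS_natural {T₂ T : Over S} (h : T₂ ⟶ T) : (Over.map g).map h ≫ canS g T = canS g T₂ :=
  Over.OverMorphism.ext (Over.w h)

variable {X : Sp S'} (π : X ⟶ (yon S').obj (Over.mk g))

/-- The presheaf of sections of `X` over `S`. -/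
def fibPsh : PSp S where
  obj T := {a : X.obj.obj (op ((Over.map g).obj T.unop)) //
    π.hom.app (op ((Over.map g).obj T.unop)) a = ULift.up (canS g T.unop)}
  map {T T₂} h := TypeCat.ofHom fun a => ⟨X.obj.map ((Over.map g).map h.unop).op a.1,
    (NatTrans.naturality_apply π.hom ((Over.map g).map h.unop).op a.1).trans
      ((congrArg _ a.2).trans (ULift.ext _ _ (canS_natural h.unop)))⟩
  map_id T := ConcreteCategory.hom_ext _ _ fun a => Subtype.ext
    ((congrArg (fun t => X.obj.map t.op a.1) ((Over.map g).map_id T.unop)).trans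
      (FunctorToTypes.map_id_apply X.obj a.1))
  map_comp p q := ConcreteCategory.hom_ext _ _ fun a => Subtype.ext
    ((congrArg (fun t => X.obj.map t.op a.1) ((Over.map g).map_comp q.unop p.unop)).trans
      (FunctorToTypes.map_comp_apply X.obj _ _ a.1))

theorem isSheaf_fibPsh : Presheaf.IsSheaf (J S) (fibPsh π) := by
  rw [isSheaf_iff_isSheaf_of_type]
  intro T R hR x hx
  let X₀ := (Scheme.fppfTopology.overMapPullback (Type (u + 1)) g).obj X
  let Y₀ := (Scheme.fppfTopology.overMapPullback (Type (u + 1)) g).obj ((yon S').obj (Over.mk g))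
  have hX := (isSheaf_iff_isSheaf_of_type _ _).1 X₀.property R hR
  have hY := (isSheaf_iff_isSheaf_of_type _ _).1 Y₀.property R hR
  let y : Presieve.FamilyOfElements X₀.obj R.arrows := fun W f hf => (x f hf).1
  have hy : y.Compatible := fun Y₁ Y₂ Z g₁ g₂ f₁ f₂ h₁ h₂ e => congrArg Subtype.val (hx g₁ g₂ h₁ h₂ e)
  obtain ⟨a, ha, hau⟩ := hX y hy
  refine ⟨⟨a, hY.isSeparatedFor.ext fun W f hf => ?_⟩, fun W f hf => Subtype.ext (ha f hf),
    fun b hb => Subtype.ext (hau b.1 fun W f hf => congrArg Subtype.val (hb f hf))⟩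
  refine ((NatTrans.naturality_apply π.hom ((Over.map g).map f).op a).symm.trans ?_).trans
    (ULift.ext _ _ (canS_natural f).symm : _)
  exact (congrArg (π.hom.app (op ((Over.map g).obj W))) (ha f hf)).trans (x f hf).2

/-- The sheaf of sections of `X` over `S`. -/
def fib : Sp S := ⟨fibPsh π, isSheaf_fibPsh π⟩

/-- Its inclusion in the restriction of `X`. -/
def fibι : fib π ⟶ (Scheme.fppfTopology.overMapPullback (Type (u + 1)) g).obj X :=
  ⟨{ app := fun T => TypeCat.ofHom Subtype.val, naturality := fun _ _ _ => rfl }⟩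

theorem fib_spec :
    IsIso (((adj g).homEquiv (fib π) X).symm (fibι π)) ∧
      ((adj g).homEquiv (fib π) X).symm (fibι π) ≫ π = toBase g (fib π) := by
  let q := ((adj g).homEquiv (fib π) X).symm (fibι π)
  have happ : ∀ (T' : Over S') (σ : El g (fib π).obj T'),
      q.hom.app (op T') σ = X.obj.map (eBase σ.1).hom.op σ.2.1 := fun T' σ =>
    congrArg (fun k : (shr g).obj (fib π) ⟶ X => k.hom.app (op T') σ)
      (show q = _ from by simp only [q, adj, Adjunction.mkOfHomEquiv_homEquiv]; rfl)
  have hbase : ∀ (T' : Over S') (σ : El g (fib π).obj T'), π.hom.app (op T') (q.hom.app (op T') σ) = ULift.up σ.1 := by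
    intro T' σ
    rw [happ]
    refine (NatTrans.naturality_apply π.hom (eBase σ.1).hom.op σ.2.1).trans ?_
    refine (congrArg _ σ.2.2).trans (ULift.ext _ _ (Over.OverMorphism.ext (Category.id_comp _)))
  refine ⟨?_, ?_⟩
  · have hi : ∀ T' : (Over S')ᵒᵖ, IsIso (q.hom.app T') := fun T' => by
      rw [isIso_iff_bijective]
      obtain ⟨T'⟩ := T'
      refine ⟨fun σ τ e => ?_, fun x => ?_⟩
      · have h₁ : σ.1 = τ.1 := congrArg ULift.down
          ((hbase T' σ).symm.trans ((congrArg (π.hom.app (op T')) e).trans (hbase T' τ)))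
        have e' : X.obj.map (eBase σ.1).hom.op σ.2.1 = X.obj.map (eBase τ.1).hom.op τ.2.1 :=
          (happ T' σ).symm.trans (e.trans (happ T' τ))
        obtain ⟨φ, a⟩ := σ
        obtain ⟨ψ, b⟩ := τ
        obtain rfl : φ = ψ := h₁
        have hinv : ∀ z, X.obj.map (eBase φ).inv.op (X.obj.map (eBase φ).hom.op z) = z := fun z => by
          rw [← FunctorToTypes.map_comp_apply, ← op_comp, Iso.inv_hom_id, op_id, FunctorToTypes.map_id_apply]
        exact congrArg (Sigma.mk φ) (Subtype.ext ((hinv a.1).symm.trans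
          ((congrArg (X.obj.map (eBase φ).inv.op) e').trans (hinv b.1))))
      · let φ : T' ⟶ Over.mk g := (π.hom.app (op T') x).down
        refine ⟨(⟨φ, ⟨X.obj.map (eBase φ).inv.op x, ?_⟩⟩ : El g (fib π).obj T'), ?_⟩
        · refine (NatTrans.naturality_apply π.hom (eBase φ).inv.op x).trans (ULift.ext _ _ ?_)
          exact Over.OverMorphism.ext (Category.id_comp _)
        · refine (happ T' _).trans ?_
          change X.obj.map (eBase φ).hom.op (X.obj.map (eBase φ).inv.op x) = x
          rw [← FunctorToTypes.map_comp_apply, ← op_comp, Iso.hom_inv_id, op_id, FunctorToTypes.map_id_apply]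
    have : IsIso q.hom := NatIso.isIso_of_isIso_app _
    have : IsIso ((sheafToPresheaf (QuotSh.J Scheme.fppfPrecoverage S') (Type (u + 1))).map q) := this
    exact isIso_of_reflects_iso q (sheafToPresheaf _ _)
  · apply CategoryTheory.Sheaf.hom_ext
    apply NatTrans.ext
    funext T'
    exact ConcreteCategory.hom_ext _ _ fun σ => hbase T'.unop σ

variable (g)

instance : (extend g).EssSurj where
  mem_essImage Y := by
    obtain ⟨hq, hb⟩ := fib_spec (g := g) Y.hom.hom
    let q := ((adj g).homEquiv (fib Y.hom.hom) Y.left.obj).symm (fibι Y.hom.hom)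
    have : IsIso q := hq
    have hF : IsAlgSpace (fib Y.hom.hom) := isAlgSpace_of_shr (g := g) (IsAlgSpace.of_iso Y.left.property (asIso q).symm)
    refine ⟨⟨fib Y.hom.hom, hF⟩, ⟨Over.isoMk (ObjectProperty.isoMk _ (asIso q)) ?_⟩⟩
    exact InducedCategory.hom_ext hb

end Groth.Agent.H12AlgSp.Shriek
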