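import Groth.Agent.H12AlgSp.EtNbhd
import Groth.Agent.H12AlgSp.Points
import Groth.Agent.H18Et.Stalk
import Mathlib.CategoryTheory.Sites.Point.Skyscraper
import Mathlib.Algebra.Category.Grp.FilteredColimits
import Mathlib.FieldTheory.IsAlgClosed.AlgebraicClosure

/-!
Stalks on the small etale site of an algebraic space: exactness, and detection of monomorphisms and
epimorphisms on geometric stalks.
-/

set_option backward.isDefEq.respectTransparency false

universe u

open CategoryTheory CategoryTheory.Limits AlgebraicGeometry Opposite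
open AlgSp

namespace Groth.Agent.H12AlgSp

open scoped Groth.Agent.H18Et

variable {S : Scheme.{u}} {X : Sp S}

scoped instance ab5OfSize_type : AB5OfSize.{u, u} (Type (u + 1)) := AB5OfSize_of_univLE.{u, u, u + 1, u + 1} _

/-- A family of arrows of the small etale site whose images contain every point generates a covering sieve. -/
theorem mem_etTop_of_forall_point {E : EtOver X} (R : Sieve E)
    (h : ∀ x : ↥E.obj.left.left, ∃ (E' : EtOver X) (g : E' ⟶ E) (y : ↥E'.obj.left.left),
      R g ∧ g.hom.left.left y = x) : R ∈ etTop X E := by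
  choose E' g y hR hy using h
  refine (etTop X).superset_covering (S := Sieve.ofArrows E' g) ?_ (ofArrows_mem_etTop _ _ fun x => ⟨x, y x, hy x⟩)
  rw [Sieve.generate_le_iff, Presieve.ofArrows_le_iff]
  exact hR

/-- The standard geometric point over a point of a scheme. -/
noncomputable def geomPtMor {U : Scheme.{u}} (x : U) :
    Spec (CommRingCat.of (AlgebraicClosure (U.residueField x))) ⟶ U :=
  Spec.map (CommRingCat.ofHom (algebraMap (U.residueField x) (AlgebraicClosure (U.residueField x)))) ≫
    U.fromSpecResidueField x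

theorem geomPtMor_apply {U : Scheme.{u}} (x : U)
    (z : ↥(Spec (CommRingCat.of (AlgebraicClosure (U.residueField x))))) : geomPtMor x z = x := by
  rw [geomPtMor, Scheme.Hom.comp_apply]
  exact Scheme.fromSpecResidueField_apply x _

/-- The standard geometric point over a point of a scheme mapping to `X`. -/
noncomputable def geomFieldPt {U : Over S} (a : (yon S).obj U ⟶ X) (x : ↥U.left) : FieldPt X :=
  fieldPtOfHom (str := geomPtMor x ≫ U.hom) ((yon S).map (Over.homMk (geomPtMor x) rfl) ≫ a)

theorem geomFieldPt_isGeometric {U : Over S} (a : (yon S).obj U ⟶ X) (x : ↥U.left) :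
    (geomFieldPt a x).IsGeometric :=
  inferInstanceAs (IsAlgClosed (AlgebraicClosure (U.left.residueField x)))

theorem exists_geometric_lift (E : EtOver X) (x : ↥E.obj.left.left) :
    ∃ p : FieldPt X, p.IsGeometric ∧ ∃ l : (FieldPt.liftsTo p).obj E,
      l.1.left (default : Spec (CommRingCat.of p.K)) = x := by
  exact ⟨geomFieldPt E.obj.hom x, geomFieldPt_isGeometric _ _,
    ⟨Over.homMk (geomPtMor x) rfl, (toHom_fieldPtOfHom _).symm⟩, geomPtMor_apply x _⟩

theorem mk_geometric_of_lift {p : FieldPt X} {E : EtOver X} (l : (FieldPt.liftsTo p).obj E) :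
    Points.mk p = Points.ofPt E.obj.hom (l.1.left (default : Spec (CommRingCat.of p.K))) := by
  rw [← ofPt_map]
  have := l.2
  rw [this]
  exact (Points.ofPt_toHom p _).symm

section Stalk

variable (hX : IsAlgSpace X) {p : FieldPt X} (hp : p.IsGeometric)

include hX hp

theorem stalkEtPshFunctor_exact_type :
    PreservesFiniteLimits (stalkEtPshFunctor (Type (u + 1)) p) ∧
      PreservesFiniteColimits (stalkEtPshFunctor (Type (u + 1)) p) := by
  have hc : PreservesColimitsOfSize.{u, u} ((etPoint p hX hp).presheafFiber (A := Type (u + 1))) := inferInstance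
  exact ⟨inferInstanceAs (PreservesFiniteLimits ((etPoint p hX hp).presheafFiber (A := Type (u + 1)))),
    show PreservesFiniteColimits ((etPoint p hX hp).presheafFiber (A := Type (u + 1))) from
      PreservesColimitsOfSize.preservesFiniteColimits _⟩

theorem stalkEtPshFunctor_exact_ab :
    PreservesFiniteLimits (stalkEtPshFunctor AddCommGrpCat.{u + 1} p) ∧
      PreservesFiniteColimits (stalkEtPshFunctor AddCommGrpCat.{u + 1} p) := by
  have hc : PreservesColimitsOfSize.{u, u} ((etPoint p hX hp).presheafFiber (A := AddCommGrpCat.{u + 1})) := inferInstance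
  exact ⟨inferInstanceAs (PreservesFiniteLimits ((etPoint p hX hp).presheafFiber (A := AddCommGrpCat.{u + 1}))),
    show PreservesFiniteColimits ((etPoint p hX hp).presheafFiber (A := AddCommGrpCat.{u + 1})) from
      PreservesColimitsOfSize.preservesFiniteColimits _⟩

theorem stalkEtFunctor_exact_type :
    PreservesFiniteLimits (stalkEtFunctor (Type (u + 1)) p) ∧
      PreservesFiniteColimits (stalkEtFunctor (Type (u + 1)) p) := by
  have : ((etPoint p hX hp).sheafFiber (A := Type (u + 1))).IsLeftAdjoint := inferInstance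
  exact ⟨inferInstanceAs (PreservesFiniteLimits ((etPoint p hX hp).sheafFiber (A := Type (u + 1)))),
    show PreservesFiniteColimits ((etPoint p hX hp).sheafFiber (A := Type (u + 1))) from
      inferInstance⟩

theorem stalkEtFunctor_exact_ab :
    PreservesFiniteLimits (stalkEtFunctor AddCommGrpCat.{u + 1} p) ∧
      PreservesFiniteColimits (stalkEtFunctor AddCommGrpCat.{u + 1} p) := by
  have : ((etPoint p hX hp).sheafFiber (A := AddCommGrpCat.{u + 1})).IsLeftAdjoint := inferInstance
  exact ⟨inferInstanceAs (PreservesFiniteLimits ((etPoint p hX hp).sheafFiber (A := AddCommGrpCat.{u + 1}))),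
    show PreservesFiniteColimits ((etPoint p hX hp).sheafFiber (A := AddCommGrpCat.{u + 1})) from
      inferInstance⟩

theorem isIso_stalkEtPshFunctor_map_toSheafify (P : (EtOver X)ᵒᵖ ⥤ Type (u + 1))
    [HasWeakSheafify (etTop X) (Type (u + 1))] :
    IsIso ((stalkEtPshFunctor (Type (u + 1)) p).map (toSheafify (etTop X) P)) := by
  change IsIso ((etPoint p hX hp).presheafFiber.map (toSheafify (etTop X) P))
  rw [isIso_iff_bijective]
  exact (etPoint p hX hp).toPresheafFiber_map_bijective _

end Stalk

section Detect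

variable {A : Type*} [Category.{u + 1} A] [HasColimitsOfSize.{u, u} A]
  {FA : A → A → Type*} {CA : A → Type (u + 1)} [∀ P Q, FunLike (FA P Q) (CA P) (CA Q)]
  [ConcreteCategory.{u + 1} A FA] [PreservesFilteredColimitsOfSize.{u, u} (CategoryTheory.forget A)]
  (hX : IsAlgSpace X)

include hX

theorem app_injective_of_stalk [(etTop X).HasSheafCompose (CategoryTheory.forget A)]
    {F G : EtSh X A} (a : F ⟶ G)
    (h : ∀ (p : FieldPt X) (hp : p.IsGeometric),
      Function.Injective ((etPoint p hX hp).presheafFiber.map a.hom))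
    (E : (EtOver X)ᵒᵖ) : Function.Injective (a.hom.app E) := by
  intro s t hst
  refine Presieve.IsSeparatedFor.ext (P := F.obj ⋙ CategoryTheory.forget _)
    (R := (Presheaf.equalizerSieve (F := F.obj) s t).arrows) ?_ fun V g hg => hg
  refine (((isSheaf_iff_isSheaf_of_type _ _).1
    ((sheafCompose _ (CategoryTheory.forget _)).obj F).property) _ ?_).isSeparatedFor
  refine mem_etTop_of_forall_point _ fun x => ?_
  obtain ⟨p, hp, l, hl⟩ := exists_geometric_lift (unop E) x
  have he := @h p hp ((etPoint p hX hp).toPresheafFiber (unop E) l F.obj s)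
    ((etPoint p hX hp).toPresheafFiber (unop E) l F.obj t) (by
      simp only [GrothendieckTopology.Point.toPresheafFiber_naturality_apply]
      exact congrArg _ hst)
  obtain ⟨E', g, y, hy, hg⟩ := ((etPoint p hX hp).toPresheafFiber_eq_iff' (P := F.obj) _ l s t).1 he
  refine ⟨E', g, y.1.left (default : Spec (CommRingCat.of p.K)), hg, ?_⟩
  rw [← hl, ← hy]
  rfl

theorem isLocallySurjective_of_stalk {P Q : (EtOver X)ᵒᵖ ⥤ A} (a : P ⟶ Q)
    (h : ∀ (p : FieldPt X) (hp : p.IsGeometric),
      Function.Surjective ((etPoint p hX hp).presheafFiber.map a)) :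
    Presheaf.IsLocallySurjective (etTop X) a where
  imageSieve_mem {E} t := mem_etTop_of_forall_point _ fun x => by
    obtain ⟨p, hp, l, hl⟩ := exists_geometric_lift E x
    let Φ := etPoint p hX hp
    obtain ⟨z, hz⟩ := h p hp (Φ.toPresheafFiber E l Q t)
    obtain ⟨E', l', s, rfl⟩ := Φ.toPresheafFiber_jointly_surjective (P := P) z
    rw [GrothendieckTopology.Point.toPresheafFiber_naturality_apply] at hz
    obtain ⟨⟨W, w⟩, ⟨b, hb⟩, ⟨c, hc⟩, -⟩ := IsCofilteredOrEmpty.cone_objs
      (C := Φ.fiber.Elements) ⟨E', l'⟩ ⟨E, l⟩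
    dsimp at b c hb hc
    have h1 : Φ.toPresheafFiber W w Q (Q.map b.op (a.app _ s)) = Φ.toPresheafFiber E' l' Q (a.app _ s) := by
      rw [← hb]; exact Φ.toPresheafFiber_w_apply b w Q _
    have h2 : Φ.toPresheafFiber W w Q (Q.map c.op t) = Φ.toPresheafFiber E l Q t := by
      rw [← hc]; exact Φ.toPresheafFiber_w_apply c w Q _
    obtain ⟨Z, d, z, hzw, hd⟩ :=
      (Φ.toPresheafFiber_eq_iff' (P := Q) W w _ _).1 (h1.trans (hz.trans h2.symm))
    refine ⟨Z, d ≫ c, z.1.left (default : Spec (CommRingCat.of p.K)), ⟨P.map (d ≫ b).op s, ?_⟩, ?_⟩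
    · rw [NatTrans.naturality_apply, op_comp, op_comp, Functor.map_comp, Functor.map_comp]
      simp only [CategoryTheory.comp_apply]
      exact hd
    · rw [← hl, ← hc, ← hzw]
      rfl

end Detect

end Groth.Agent.H12AlgSp
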