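import Groth.Agent.H12AlgSp.EtStalk
import Groth.Agent.H12AlgSp.EtNbhd
import Groth.Agent.H12AlgSp.UnivInj
import Groth.Agent.H18Et.IntegralLift
import Groth.Prelude.Def_AlgSpOX2

/-!
Small etale sites and integral universally injective morphisms: base change is locally fully faithful and cover dense.
-/

set_option linter.unusedVariables false
set_option backward.isDefEq.respectTransparency false

universe u

open CategoryTheory CategoryTheory.Limits AlgebraicGeometry Opposite Topology
open AlgSp

namespace Groth.Agent.H12AlgSp.EtUHomeo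

variable {S : Scheme.{u}} {Y : Sp S}

/-- An open piece of an object of the small etale site. -/
noncomputable def openObj (E : EtOver Y) (O : E.obj.left.left.Opens) : EtOver Y :=
  EtOver.mk ((yon S).map (Over.homMk O.ι rfl : Over.mk (O.ι ≫ E.obj.left.hom) ⟶ E.obj.left) ≫ E.obj.hom)
    ((RepWith (S := S) @Etale).comp_mem _ _ ((repWith_yon_map_iff _ _).2 (inferInstanceAs (Etale O.ι))) E.property)

/-- The inclusion of an open piece. -/
noncomputable def openHom (E : EtOver Y) (O : E.obj.left.left.Opens) : openObj E O ⟶ E :=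
  EtOver.homMk (Over.homMk O.ι rfl) rfl

theorem etHom_ext {A B : EtOver Y} {f g : A ⟶ B} (h : f.hom.left.left = g.hom.left.left) : f = g :=
  EtOver.hom_ext _ _ (Over.OverMorphism.ext h)

theorem comp_left_left {A B C : EtOver Y} (f : A ⟶ B) (g : B ⟶ C) :
    (f ≫ g).hom.left.left = f.hom.left.left ≫ g.hom.left.left := rfl

/-- Two morphisms to an etale object agree on an open set. -/
theorem exists_open_equalizer {A B : EtOver Y} (a b : A ⟶ B) :
    ∃ Ω : A.obj.left.left.Opens,
      (∀ {A' : EtOver Y} (k : A' ⟶ A), (∀ x, k.hom.left.left x ∈ Ω) → k ≫ a = k ≫ b) ∧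
      ∀ {T : Over S} (k : T ⟶ A.obj.left), k ≫ a.hom.left = k ≫ b.hom.left → ∀ x, k.left x ∈ Ω := by
  let P := EtOver.prodObj B B
  let hP := EtOver.prodIsLimit B B
  let L : A ⟶ P := hP.lift (BinaryFan.mk a b)
  let δ : B ⟶ P := hP.lift (BinaryFan.mk (𝟙 B) (𝟙 B))
  have hL1 : L ≫ EtOver.prodFst B B = a := hP.fac (BinaryFan.mk a b) ⟨.left⟩
  have hL2 : L ≫ EtOver.prodSnd B B = b := hP.fac (BinaryFan.mk a b) ⟨.right⟩
  have hδ1 : δ ≫ EtOver.prodFst B B = 𝟙 B := hP.fac (BinaryFan.mk (𝟙 B) (𝟙 B)) ⟨.left⟩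
  have hδ2 : δ ≫ EtOver.prodSnd B B = 𝟙 B := hP.fac (BinaryFan.mk (𝟙 B) (𝟙 B)) ⟨.right⟩
  have e1 : δ.hom.left.left ≫ (EtOver.prodFst B B).hom.left.left = 𝟙 _ :=
    congrArg (fun t => t.hom.left.left) hδ1
  have e2 : δ.hom.left.left ≫ (EtOver.prodSnd B B).hom.left.left = 𝟙 _ :=
    congrArg (fun t => t.hom.left.left) hδ2
  have : IsSplitMono δ.hom.left.left := IsSplitMono.mk' ⟨_, e1⟩
  have : Etale δ.hom.left.left := EtOver.etale_left δ
  have : IsOpenImmersion δ.hom.left.left := IsOpenImmersion.of_flat_of_mono _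
  refine ⟨L.hom.left.left ⁻¹ᵁ δ.hom.left.left.opensRange, fun {A'} k hk => ?_, fun {T} k hk x => ?_⟩
  · have hr : Set.range (k ≫ L).hom.left.left ⊆ Set.range δ.hom.left.left := by
      rintro _ ⟨x, rfl⟩
      exact hk x
    have hl := IsOpenImmersion.lift_fac δ.hom.left.left (k ≫ L).hom.left.left hr
    refine etHom_ext ?_
    rw [← hL1, ← hL2, ← Category.assoc, ← Category.assoc, comp_left_left (k ≫ L), comp_left_left (k ≫ L), ← hl,
      Category.assoc, Category.assoc, e1, e2]
  · have h : k ≫ L.hom.left = (k ≫ a.hom.left) ≫ δ.hom.left := by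
      have f1 : L.hom.left ≫ (EtOver.prodFst B B).hom.left = a.hom.left := congrArg (fun t => t.hom.left) hL1
      have f2 : L.hom.left ≫ (EtOver.prodSnd B B).hom.left = b.hom.left := congrArg (fun t => t.hom.left) hL2
      have d1 : δ.hom.left ≫ (EtOver.prodFst B B).hom.left = 𝟙 _ := congrArg (fun t => t.hom.left) hδ1
      have d2 : δ.hom.left ≫ (EtOver.prodSnd B B).hom.left = 𝟙 _ := congrArg (fun t => t.hom.left) hδ2
      refine B.property.1.hom_ext' ?_ ?_
      · change (k ≫ L.hom.left) ≫ (EtOver.prodSnd B B).hom.left =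
          ((k ≫ a.hom.left) ≫ δ.hom.left) ≫ (EtOver.prodSnd B B).hom.left
        rw [Category.assoc, f2, Category.assoc, d2, Category.comp_id, hk]
      · change (k ≫ L.hom.left) ≫ (EtOver.prodFst B B).hom.left =
          ((k ≫ a.hom.left) ≫ δ.hom.left) ≫ (EtOver.prodFst B B).hom.left
        rw [Category.assoc, f1, Category.assoc, d1, Category.comp_id]
    exact ⟨(k ≫ a.hom.left).left x, (congrArg (fun t => t.left x) h).symm⟩

variable {X : Sp S} {f : Y ⟶ X} (hr : Representable f)

/-- The projection of a base change to the original object. -/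
noncomputable abbrev proj (E : EtOver X) :
    ((EtOver.bc hr).obj E).obj.left.left ⟶ E.obj.left.left :=
  (hr.snd E.obj.hom).left

theorem range_bcMap {E E' : EtOver X} (g : E ⟶ E') :
    Set.range (EtOver.bcMap hr g).hom.left.left = proj hr E' ⁻¹' Set.range g.hom.left.left := by
  ext x
  constructor
  · rintro ⟨z, rfl⟩
    exact ⟨proj hr E z, congrArg (fun t => t z) (EtOver.isPullback_bcMap_left hr g).w.symm⟩
  · rintro ⟨z, hz⟩
    obtain ⟨o, h1, -⟩ := Scheme.exists_preimage_of_isPullback (EtOver.isPullback_bcMap_left hr g) x z hz.symm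
    exact ⟨o, h1⟩

variable (hX : IsAlgSpace X) (hY : IsAlgSpace Y) (hi : RepWith @IsIntegralHom f) (hu : IsUnivInjectiveMor f)

include hY hi hu in
theorem repWith_univInj : RepWith @UniversallyInjective f :=
  (repWith_universallyInjective_iff hY hi.1).2 ((isUnivInjectiveMor_iff hY f).1.2 hu)

include hY hi hu in
theorem proj_closedEmbedding (E : EtOver X) : IsClosedEmbedding (proj hr E) := by
  have : IsIntegralHom (proj hr E) := hi.property _ _ _ (hr.isPullback E.obj.hom)
  have : UniversallyInjective (proj hr E) := (repWith_univInj hY hi hu).property _ _ _ (hr.isPullback E.obj.hom)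
  exact .of_continuous_injective_isClosedMap (proj hr E).continuous
    (proj hr E).injective (proj hr E).isClosedMap

include hY hi hu in
theorem isLocallyFaithful : (EtOver.bc hr).IsLocallyFaithful (etTop Y) where
  functorPushforward_equalizer_mem {U V} a b hab := by
    refine Groth.Agent.H12AlgSp.mem_etTop_of_forall_point _ fun x => ?_
    obtain ⟨Ω, h1, h2⟩ := exists_open_equalizer a b
    have e : hr.snd U.obj.hom ≫ a.hom.left = hr.snd U.obj.hom ≫ b.hom.left := by
      rw [← EtOver.bcMap_snd hr a, ← EtOver.bcMap_snd hr b]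
      exact congrArg (fun t : (EtOver.bc hr).obj U ⟶ (EtOver.bc hr).obj V => t.hom.left ≫ hr.snd V.obj.hom) hab
    have hab' : ∀ y, proj hr U y ∈ Ω := fun y => h2 (hr.snd U.obj.hom) e y
    obtain ⟨o, ho⟩ : x ∈ Set.range (EtOver.bcMap hr (openHom U Ω)).hom.left.left := by
      rw [range_bcMap]
      exact ⟨⟨_, hab' x⟩, rfl⟩
    refine ⟨_, EtOver.bcMap hr (openHom U Ω), o, ⟨openObj U Ω, openHom U Ω, 𝟙 _, ?_, (Category.id_comp _).symm⟩, ho⟩
    exact h1 _ fun z => z.2

include hY hi hu in
theorem isLocallyFull : (EtOver.bc hr).IsLocallyFull (etTop Y) where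
  functorPushforward_imageSieve_mem {U V} φ := by
    refine Groth.Agent.H12AlgSp.mem_etTop_of_forall_point _ fun x => ?_
    have hw : (yon S).map (φ.hom.left ≫ hr.snd V.obj.hom) ≫ V.obj.hom =
        (yon S).map (hr.snd U.obj.hom) ≫ U.obj.hom := by
      rw [Functor.map_comp, Category.assoc, ← hr.w, ← hr.w, ← Category.assoc]
      exact congrArg (· ≫ f) (EtOver.w φ)
    let P := EtOver.prodObj U V
    let σ : ((EtOver.bc hr).obj U).obj.left ⟶ P.obj.left :=
      V.property.1.lift' (φ.hom.left ≫ hr.snd V.obj.hom) (hr.snd U.obj.hom) hw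
    have hσ1 : σ ≫ (EtOver.prodFst U V).hom.left = hr.snd U.obj.hom :=
      Functor.relativelyRepresentable.lift'_snd _ _ _ _
    have hσ2 : σ ≫ (EtOver.prodSnd U V).hom.left = φ.hom.left ≫ hr.snd V.obj.hom :=
      Functor.relativelyRepresentable.lift'_fst _ _ _ _
    let σ' : (EtOver.bc hr).obj U ⟶ (EtOver.bc hr).obj P :=
      EtOver.homMk (hr.lift (hr.fst U.obj.hom) σ (by
        rw [hr.w, ← hσ1, Functor.map_comp, Category.assoc, EtOver.w (EtOver.prodFst U V)]))
        (hr.lift_fst _ _ _)
    have hs : σ'.hom.left ≫ hr.snd P.obj.hom = σ := hr.lift_snd _ _ _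
    have h1 : σ' ≫ EtOver.bcMap hr (EtOver.prodFst U V) = 𝟙 _ := by
      refine EtOver.hom_ext _ _ (hr.hom_ext (F := yon S) ?_ ?_)
      · exact (EtOver.w (σ' ≫ EtOver.bcMap hr (EtOver.prodFst U V))).trans (EtOver.w (𝟙 _)).symm
      · change (σ'.hom.left ≫ (EtOver.bcMap hr (EtOver.prodFst U V)).hom.left) ≫ hr.snd U.obj.hom = 𝟙 _ ≫ _
        rw [Category.assoc, EtOver.bcMap_snd, reassoc_of% hs, hσ1]
        exact (Category.id_comp _).symm
    have h2 : σ' ≫ EtOver.bcMap hr (EtOver.prodSnd U V) = φ := by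
      refine EtOver.hom_ext _ _ (hr.hom_ext (F := yon S) ?_ ?_)
      · exact (EtOver.w (σ' ≫ EtOver.bcMap hr (EtOver.prodSnd U V))).trans (EtOver.w φ).symm
      · change (σ'.hom.left ≫ (EtOver.bcMap hr (EtOver.prodSnd U V)).hom.left) ≫ hr.snd V.obj.hom = _
        rw [Category.assoc, EtOver.bcMap_snd, reassoc_of% hs, hσ2]
    obtain ⟨Ω, e1, e2⟩ := exists_open_equalizer (A := (EtOver.bc hr).obj P) (B := (EtOver.bc hr).obj V)
      (EtOver.bcMap hr (EtOver.prodSnd U V)) (EtOver.bcMap hr (EtOver.prodFst U V) ≫ φ)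
    have hx : σ'.hom.left.left x ∈ Ω := e2 σ'.hom.left
      (congrArg (fun t => t.hom.left) (show σ' ≫ EtOver.bcMap hr (EtOver.prodSnd U V) =
        σ' ≫ EtOver.bcMap hr (EtOver.prodFst U V) ≫ φ by
          rw [← Category.assoc σ' (EtOver.bcMap hr (EtOver.prodFst U V)) φ, h1, h2, Category.id_comp])) x
    have hπ := proj_closedEmbedding hr hY hi hu P
    let O : P.obj.left.left.Opens :=
      ⟨(proj hr P '' (Ω : Set _)ᶜ)ᶜ, (hπ.isClosedMap _ Ω.isOpen.isClosed_compl).isOpen_compl⟩
    have hOΩ : ∀ z, proj hr P z ∈ O ↔ z ∈ Ω := fun z => by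
      change proj hr P z ∉ proj hr P '' (Ω : Set _)ᶜ ↔ _
      rw [hπ.injective.mem_set_image]
      exact not_not
    have hrange : Set.range (EtOver.bcMap hr (openHom P O)).hom.left.left =
        (Ω : Set ↥(((EtOver.bc hr).obj P).obj.left.left)) := by
      rw [range_bcMap]
      ext z
      change proj hr P z ∈ Set.range O.ι ↔ _
      rw [Scheme.Opens.range_ι]
      exact hOΩ z
    obtain ⟨o, ho⟩ : σ'.hom.left.left x ∈ Set.range (EtOver.bcMap hr (openHom P O)).hom.left.left := by
      rw [hrange]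
      exact hx
    refine ⟨(EtOver.bc hr).obj (openObj P O), (EtOver.bc hr).map (openHom P O ≫ EtOver.prodFst U V), o,
      ⟨openObj P O, openHom P O ≫ EtOver.prodFst U V, 𝟙 _,
        ⟨openHom P O ≫ EtOver.prodSnd U V, ?_⟩, (Category.id_comp _).symm⟩, ?_⟩
    · rw [Functor.map_comp, Functor.map_comp, Category.assoc]
      exact e1 (EtOver.bcMap hr (openHom P O)) fun z => hrange.le ⟨z, rfl⟩
    · rw [Functor.map_comp]
      change (EtOver.bcMap hr (EtOver.prodFst U V)).hom.left.left
        ((EtOver.bcMap hr (openHom P O)).hom.left.left o) = x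
      rw [ho]
      exact congrArg (fun t => t.hom.left.left x) h1

include hX hY hi hu in
theorem isCoverDense : (EtOver.bc hr).IsCoverDense (etTop Y) where
  is_cover V := by
    refine Groth.Agent.H12AlgSp.mem_etTop_of_forall_point _ fun v => ?_
    obtain ⟨U, a, ha, has⟩ := hX.atlas
    have hsW : RepWith @Surjective (hr.fst a) := repWith_of_isPullback (hr.isPullback a).flip has
    let k := V.property.1.fst' (hr.fst a)
    let p := V.property.1.snd (hr.fst a)
    have hk : Surjective k.left := hsW.property V.obj.hom ((yon S).map p) k (by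
      have := (V.property.1.isPullback (hr.fst a)).flip
      rwa [← Functor.relativelyRepresentable.map_fst'] at this)
    obtain ⟨v', hv'⟩ := hk.surj v
    have hp : Etale p.left := V.property.property _ _ p (V.property.1.isPullback (hr.fst a))
    have hπint : IsIntegralHom (hr.snd a).left := hi.property _ _ _ (hr.isPullback a)
    have hπui : UniversallyInjective (hr.snd a).left :=
      (repWith_univInj hY hi hu).property _ _ _ (hr.isPullback a)
    obtain ⟨Vs, q, hq, a₀, ha₀, hv''⟩ := Groth.Agent.H18Et.liftsEtale_of_integral_injective (hr.snd a).left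
      (hr.snd a).left.injective p.left hp v'
    obtain ⟨t, ht⟩ := hv''
    let U' : Over S := Over.mk (q ≫ U.hom)
    let q' : U' ⟶ U := Over.homMk q
    let E : EtOver X := EtOver.mk ((yon S).map q' ≫ a)
      ((RepWith (S := S) @Etale).comp_mem _ _ ((repWith_yon_map_iff _ q').2 hq) ha)
    let β : ((EtOver.bc hr).obj E).obj.left ⟶ hr.pullback a :=
      hr.lift (hr.fst E.obj.hom) (hr.snd E.obj.hom ≫ q') (by
        rw [hr.w, Functor.map_comp, Category.assoc]
        rfl)
    have hβ1 : (yon S).map β ≫ hr.fst a = hr.fst E.obj.hom := hr.lift_fst _ _ _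
    have hβ2 : β ≫ hr.snd a = hr.snd E.obj.hom ≫ q' := hr.lift_snd _ _ _
    let γ : ((EtOver.bc hr).obj E).obj.left.left ⟶ pullback q (hr.snd a).left :=
      pullback.lift (hr.snd E.obj.hom).left β.left (by rw [← Over.comp_left, hβ2]; rfl)
    let μ : ((EtOver.bc hr).obj E).obj.left ⟶ V.property.1.pullback (hr.fst a) :=
      Over.homMk (γ ≫ a₀) (by
        rw [← Over.w p, Category.assoc, reassoc_of% ha₀, pullback.lift_snd_assoc]
        exact Over.w β)
    have hμ : μ ≫ p = β := Over.OverMorphism.ext (by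
      rw [Over.comp_left]
      change (γ ≫ a₀) ≫ p.left = β.left
      rw [Category.assoc, ha₀, pullback.lift_snd])
    let ξ : (EtOver.bc hr).obj E ⟶ V := EtOver.homMk (μ ≫ k) (by
      change _ = hr.fst E.obj.hom
      rw [Functor.map_comp, Category.assoc, Functor.relativelyRepresentable.map_fst', V.property.1.w,
        ← Category.assoc, ← Functor.map_comp, hμ]
      exact hβ1)
    let T : Over S := Over.mk (pullback.fst q (hr.snd a).left ≫ q ≫ U.hom)
    let tf : T ⟶ U' := Over.homMk (pullback.fst q (hr.snd a).left) rfl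
    let ts : T ⟶ hr.pullback a := Over.homMk (pullback.snd q (hr.snd a).left) (by
      rw [← Over.w (hr.snd a), ← pullback.condition_assoc]
      rfl)
    have hts : ts ≫ hr.snd a = tf ≫ q' := Over.OverMorphism.ext pullback.condition.symm
    let κ : T ⟶ ((EtOver.bc hr).obj E).obj.left := hr.lift ((yon S).map ts ≫ hr.fst a) tf (by
      rw [Category.assoc, hr.w, ← Functor.map_comp_assoc, hts, Functor.map_comp, Category.assoc]
      rfl)
    have hκ1 : κ ≫ hr.snd E.obj.hom = tf := hr.lift_snd _ _ _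
    have hκ2 : κ ≫ β = ts := hr.hom_ext
      (by rw [Functor.map_comp, Category.assoc, hβ1]; exact hr.lift_fst _ _ _)
      (by rw [Category.assoc, hβ2, reassoc_of% hκ1, hts])
    have hκγ : κ.left ≫ γ = 𝟙 (pullback q (hr.snd a).left) := by
      apply pullback.hom_ext
      · refine Eq.trans ?_ (Category.id_comp _).symm
        rw [Category.assoc, pullback.lift_fst, ← Over.comp_left, hκ1]
        rfl
      · refine Eq.trans ?_ (Category.id_comp _).symm
        rw [Category.assoc, pullback.lift_snd, ← Over.comp_left, hκ2]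
        rfl
    refine ⟨_, ξ, κ.left t, Presieve.in_coverByImage (EtOver.bc hr) ξ, ?_⟩
    change k.left (a₀ (γ (κ.left t))) = v
    rw [show γ (κ.left t) = t from congrArg (fun m => m t) hκγ, ht, hv']

/-- Base change preserves coverings. -/
theorem coverPreserving_bc : CoverPreserving (etTop X) (etTop Y) (EtOver.bc hr) where
  cover_preserve {E R} hR := by
    refine Groth.Agent.H12AlgSp.mem_etTop_of_forall_point _ fun x => ?_
    obtain ⟨E', g, hg, y, hy⟩ := Groth.Agent.H12AlgSp.jointly_surjective_of_mem_etTop hR (proj hr E x)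
    obtain ⟨o, ho⟩ : x ∈ Set.range (EtOver.bcMap hr g).hom.left.left := by
      rw [range_bcMap]
      exact ⟨y, hy⟩
    exact ⟨_, (EtOver.bc hr).map g, o, ⟨E', g, 𝟙 _, hg, (Category.id_comp _).symm⟩, ho⟩

end Groth.Agent.H12AlgSp.EtUHomeo
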