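import Groth.Agent.H12AlgSp.EtUHomeoSheaf
import Groth.Agent.H12AlgSp.SchImage
import Groth.Agent.S9987

/-!
Direct image of modules along closed immersions of algebraic spaces is fully faithful.
-/

set_option linter.unusedVariables false
set_option backward.isDefEq.respectTransparency false

universe u

open CategoryTheory CategoryTheory.Limits AlgebraicGeometry Opposite Topology
open AlgSp

namespace Groth.Agent.H12AlgSp.EtUHomeo

variable {S : Scheme.{u}} {Z X : Space S} (i : Z ⟶ X) (hi : RepWith @IsClosedImmersion i.hom)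

include hi in
theorem integral_of_closed : RepWith @IsIntegralHom i.hom :=
  Groth.Agent.H12AlgSp.repWith_le (fun _ _ k (_ : IsClosedImmersion k) => inferInstanceAs (IsIntegralHom k)) hi

include hi in
theorem univInjective_of_closed : IsUnivInjectiveMor i.hom := by
  have : Mono i.hom := Groth.Agent.H12AlgSp.mono_of_closedImmersion hi
  exact Groth.Agent.H12AlgSp.isUnivInjectiveMor_of_injective_on_fields fun K _ str a b e => (cancel_mono i.hom).1 e

theorem pushModEt_full : (pushModEt hi.1).Full := by
  have hint := integral_of_closed i hi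
  have hu := univInjective_of_closed i hi
  have hfull := pushEt_full hi.1 X.property Z.property hint hu AddCommGrpCat.{u + 1}
  have hcd := isCoverDense hi.1 X.property Z.property hint hu
  refine ⟨fun {G H} φ => ?_⟩
  obtain ⟨ψ, hψ⟩ := (pushEt hi.1 AddCommGrpCat.{u + 1}).map_surjective
    (X := (SheafOfModules.toSheaf (OEtRing Z.obj)).obj G) (Y := (SheafOfModules.toSheaf (OEtRing Z.obj)).obj H)
    ((SheafOfModules.toSheaf (OEtRing X.obj)).map φ)
  have hψ' : ∀ (E : EtOver X.obj) (w : G.val.obj (op ((EtOver.bc hi.1).obj E))),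
      ψ.hom.app (op ((EtOver.bc hi.1).obj E)) w = φ.val.app (op E) w := fun E w =>
    congrArg (fun t => t.hom.app (op E) w) hψ
  let p : ∀ A : (EtOver Z.obj)ᵒᵖ, G.val.obj A → H.val.obj A := fun A m => ψ.hom.app A m
  have hlin : ∀ (A : (EtOver Z.obj)ᵒᵖ) (r : (OEtRing Z.obj).obj.obj A) (m : G.val.obj A),
      p A (r • m) = r • p A m := by
    rintro ⟨A⟩ r m
    have hH : Presieve.IsSheaf (etTop Z.obj) (H.val.presheaf ⋙ forget AddCommGrpCat.{u + 1}) :=
      (isSheaf_iff_isSheaf_of_type _ _).1 ((sheafCompose _ (forget AddCommGrpCat.{u + 1})).obj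
        ((SheafOfModules.toSheaf (OEtRing Z.obj)).obj H)).property
    refine (hH _ (Functor.is_cover_of_isCoverDense (EtOver.bc hi.1) (etTop Z.obj) A)).isSeparatedFor.ext ?_
    rintro W g ⟨⟨E, a, b, rfl⟩⟩
    suffices h : H.val.map b.op (p (op A) (r • m)) =
        H.val.map b.op (r • p (op A) m) by
      have h2 := congrArg (H.val.map a.op) h
      rw [← PresheafOfModules.map_comp_apply, ← PresheafOfModules.map_comp_apply, ← op_comp] at h2
      exact h2
    let B : EtOver Z.obj := (EtOver.bc hi.1).obj E
    let r' : (OEtRing Z.obj).obj.obj (op B) := (OEtRing Z.obj).obj.map b.op r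
    let m' : G.val.obj (op B) := G.val.map b.op m
    have hn : ∀ {C D : EtOver Z.obj} (c : C ⟶ D) (w : G.val.obj (op D)),
        H.val.map c.op (p (op D) w) = p (op C) (G.val.map c.op w) :=
      fun c w => (NatTrans.naturality_apply ψ.hom c.op w).symm
    rw [PresheafOfModules.map_smul, hn, hn, PresheafOfModules.map_smul]
    change p (op B) (r' • m') = (r' • p (op B) m')
    refine (hH _ ((coverPreserving_bc hi.1).cover_preserve
      ((Groth.Agent.S9987.result i hi).imageSieve_mem (U := E) r'))).isSeparatedFor.ext ?_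
    rintro W' g' ⟨E', c, a', ⟨s, hs⟩, rfl⟩
    suffices h : H.val.map ((EtOver.bc hi.1).map c).op (p (op B) (r' • m')) =
        H.val.map ((EtOver.bc hi.1).map c).op (r' • p (op B) m') by
      have h2 := congrArg (H.val.map a'.op) h
      rw [← PresheafOfModules.map_comp_apply, ← PresheafOfModules.map_comp_apply, ← op_comp] at h2
      exact h2
    rw [PresheafOfModules.map_smul, hn, hn, PresheafOfModules.map_smul]
    have hs' : (bcRingHom hi.1).hom.app (op E') s = (OEtRing Z.obj).obj.map ((EtOver.bc hi.1).map c).op r' := hs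
    rw [← hs']
    refine (hψ' E' _).trans (((φ.val.app (op E')).hom.map_smul s (G.val.map ((EtOver.bc hi.1).map c).op m')).trans ?_)
    exact congrArg (fun v : H.val.obj (op ((EtOver.bc hi.1).obj E')) => (bcRingHom hi.1).hom.app (op E') s • v)
      (hψ' E' _).symm
  refine ⟨⟨PresheafOfModules.homMk ψ.hom hlin⟩, (SheafOfModules.toSheaf (OEtRing X.obj)).map_injective ?_⟩
  exact hψ

theorem pushModEt_faithful : (pushModEt hi.1).Faithful := by
  have := pushEt_faithful hi.1 X.property Z.property (integral_of_closed i hi) (univInjective_of_closed i hi)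
    AddCommGrpCat.{u + 1}
  refine ⟨fun {G H} a b e => (SheafOfModules.toSheaf (OEtRing Z.obj)).map_injective
    ((pushEt hi.1 AddCommGrpCat.{u + 1}).map_injective ?_)⟩
  exact congrArg (fun t => (SheafOfModules.toSheaf (OEtRing X.obj)).map t) e

end Groth.Agent.H12AlgSp.EtUHomeo
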