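import Groth.Agent.H12AlgSp.Presentation

/-!
Affine charts of algebraic spaces lying over affine opens of the base.
-/

set_option linter.unusedVariables false

universe u

open CategoryTheory CategoryTheory.Limits AlgebraicGeometry Opposite Topology
open AlgSp Groth.Agent.H13AlgSp

namespace Groth.Agent.H12AlgSp

variable {S : Scheme.{u}} {X : Sp S}

theorem exists_affine_family_over (hX : IsAlgSpace X) :
    ∃ (ι : Type u) (T : ι → Over S) (a : ∀ i, (yon S).obj (T i) ⟶ X), (∀ i, IsAffine (T i).left) ∧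
      (∀ i, RepWith @Etale (a i)) ∧ (∀ i, ∃ W : S.Opens, IsAffineOpen W ∧ ∀ v : (T i).left, (T i).hom v ∈ W) ∧
      ∀ z : Points X, ∃ i, z ∈ Set.range (Points.ofPt (a i)) := by
  obtain ⟨U, p, hp, hps⟩ := hX.atlas
  let ι := {A : U.left.affineOpens // ∃ W : S.Opens, IsAffineOpen W ∧ A.1 ≤ U.hom ⁻¹ᵁ W}
  let j : ∀ i : ι, openOver U i.1.1 ⟶ U := fun i => openIncl U i.1.1
  refine ⟨ι, fun i => openOver U i.1.1, fun i => (yon S).map (j i) ≫ p, fun i => i.1.2, fun i => ?_,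
    fun i => ?_, fun z => ?_⟩
  · exact repWith_comp ((repWith_yon_map_iff _ _).2 (inferInstanceAs (Etale i.1.1.ι))) hp
  · obtain ⟨W, hW, hle⟩ := i.2
    exact ⟨W, hW, fun v => hle v.2⟩
  · obtain ⟨u, rfl⟩ := surjective_ofPt_of_repWith le_rfl hps z
    obtain ⟨W, hW, huW, -⟩ := TopologicalSpace.Opens.isBasis_iff_nbhd.mp S.isBasis_affineOpens
      (TopologicalSpace.Opens.mem_top (U.hom u))
    obtain ⟨A, hA, huA, hle⟩ := TopologicalSpace.Opens.isBasis_iff_nbhd.mp U.left.isBasis_affineOpens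
      (show u ∈ U.hom ⁻¹ᵁ W from huW)
    exact ⟨⟨⟨A, hA⟩, W, hW, hle⟩, ⟨u, huA⟩, ofPt_map _ p _⟩

theorem exists_isZarCover_affine (X : Space S) :
    ∃ (ι : Type u) (Xi : ι → Space S) (j : ∀ i, Xi i ⟶ X),
      IsZarCover (fun i => (Xi i).obj) (fun i => (j i).hom) ∧
        ∀ i, ∃ (U : Over S) (p : (yon S).obj U ⟶ (Xi i).obj), IsAffine U.left ∧
          RepWith @Etale p ∧ RepWith @Surjective p ∧
          ∃ W : S.Opens, IsAffineOpen W ∧ ∀ v : U.left, U.hom v ∈ W := by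
  obtain ⟨ι, T, a, hT, ha, hW, hs⟩ := exists_affine_family_over X.property
  choose Xi j hXi hj hr using fun i => exists_open_subspace X.property
    ((isOpenMap_ofPt_of_repWith etale_le_universallyOpen (ha i)).isOpen_range)
  refine ⟨ι, fun i => ⟨Xi i, hXi i⟩, fun i => ObjectProperty.homMk (j i), ⟨hj, fun x => ?_⟩, fun i => ?_⟩
  · obtain ⟨i, hi⟩ := hs x
    exact ⟨i, (hr i).ge hi⟩
  · obtain ⟨a', -, he, hs', -⟩ := exists_factor_presentation (ha i) (hj i) (hr i)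
    exact ⟨T i, a', hT i, he, hs', hW i⟩

theorem exists_sigma_affine (X : Space S) :
    ∃ (ι : Type u) (V : ι → Scheme.{u}) (_ : ∀ i, IsAffine (V i)) (q : (∐ V) ⟶ S)
      (p : (yon S).obj (Over.mk q) ⟶ X.obj), RepWith @Etale p ∧ RepWith @Surjective p ∧
        ∀ i, ∃ W : S.Opens, IsAffineOpen W ∧ ∀ v : (V i), (Sigma.ι V i ≫ q) v ∈ W := by
  obtain ⟨U, p, hp, hps⟩ := X.property.atlas
  let ι := {A : U.left.affineOpens // ∃ W : S.Opens, IsAffineOpen W ∧ A.1 ≤ U.hom ⁻¹ᵁ W}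
  let V : ι → Scheme.{u} := fun i => i.1.1.toScheme
  let σ : (∐ V) ⟶ U.left := Sigma.desc fun i => i.1.1.ι
  have hσ : Etale σ := IsZariskiLocalAtSource.sigmaDesc (P := @Etale) fun i => inferInstanceAs (Etale i.1.1.ι)
  have hσs : Surjective σ := ⟨fun u => by
    obtain ⟨W, hW, huW, -⟩ := TopologicalSpace.Opens.isBasis_iff_nbhd.mp S.isBasis_affineOpens
      (TopologicalSpace.Opens.mem_top (U.hom u))
    obtain ⟨A, hA, huA, hle⟩ := TopologicalSpace.Opens.isBasis_iff_nbhd.mp U.left.isBasis_affineOpens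
      (show u ∈ U.hom ⁻¹ᵁ W from huW)
    refine ⟨Sigma.ι V ⟨⟨A, hA⟩, W, hW, hle⟩ ⟨u, huA⟩, ?_⟩
    rw [← Scheme.Hom.comp_apply, Sigma.ι_desc]
    rfl⟩
  refine ⟨ι, V, fun i => i.1.2, σ ≫ U.hom,
    (yon S).map (Over.homMk σ rfl : Over.mk (σ ≫ U.hom) ⟶ U) ≫ p, ?_, ?_, fun i => ?_⟩
  · exact repWith_comp ((repWith_yon_map_iff @Etale _).2 hσ) hp
  · exact repWith_comp ((repWith_yon_map_iff @Surjective _).2 hσs) hps
  · obtain ⟨W, hW, hle⟩ := i.2
    refine ⟨W, hW, fun v => ?_⟩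
    rw [← Category.assoc, Sigma.ι_desc]
    exact hle v.2

end Groth.Agent.H12AlgSp
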