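import Groth.Agent.S10234
import Groth.Prelude.Def_AlgSpOX2
import Mathlib.Algebra.Category.ModuleCat.Sheaf.Quasicoherent

/-!
Pullback of modules along a representable etale morphism is restriction.
-/

set_option linter.unusedVariables false
set_option backward.isDefEq.respectTransparency false

universe u

open CategoryTheory CategoryTheory.Limits AlgebraicGeometry Opposite
open AlgSp

namespace Groth.Agent.H12AlgSp.EtRes

variable {S : Scheme.{u}}

section

variable {X Y : Sp S} (f : X ⟶ Y) (hf : IsEtaleMor f) (hr : Representable f)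

/-- The unit of postcomposition and base change. -/
noncomputable def unitHom (E : EtOver X) : E ⟶ (EtOver.bc hr).obj ((EtOver.postcomp f hf).obj E) :=
  EtOver.homMk (hr.lift E.obj.hom (𝟙 E.obj.left)
    (show E.obj.hom ≫ f = (yon S).map (𝟙 E.obj.left) ≫ E.obj.hom ≫ f by
      rw [CategoryTheory.Functor.map_id]; exact (Category.id_comp _).symm)) (hr.lift_fst _ _ _)

/-- The counit of postcomposition and base change. -/
noncomputable def counitHom (E : EtOver Y) : (EtOver.postcomp f hf).obj ((EtOver.bc hr).obj E) ⟶ E :=
  EtOver.homMk (hr.snd E.obj.hom) (hr.w E.obj.hom).symm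

theorem unitHom_snd (E : EtOver X) :
    (unitHom f hf hr E).hom.left ≫ hr.snd (E.obj.hom ≫ f) = 𝟙 E.obj.left := hr.lift_snd _ _ _

theorem unitHom_fst (E : EtOver X) :
    (yon S).map (unitHom f hf hr E).hom.left ≫ hr.fst (E.obj.hom ≫ f) = E.obj.hom := hr.lift_fst _ _ _

/-- Postcomposition is left adjoint to base change. -/
noncomputable def adjBc : EtOver.postcomp f hf ⊣ EtOver.bc hr :=
  Adjunction.mkOfUnitCounit
    { unit :=
        { app := unitHom f hf hr
          naturality := fun E E' g => EtOver.hom_ext _ _ (hr.hom_ext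
            (by
              change (yon S).map (g.hom.left ≫ (unitHom f hf hr E').hom.left) ≫ hr.fst (E'.obj.hom ≫ f) =
                (yon S).map ((unitHom f hf hr E).hom.left ≫
                  (EtOver.bcMap hr ((EtOver.postcomp f hf).map g)).hom.left) ≫ hr.fst (E'.obj.hom ≫ f)
              refine ((congrArg (fun t => t ≫ hr.fst (E'.obj.hom ≫ f)) ((yon S).map_comp _ _)).trans
                (Category.assoc _ _ _)).trans ?_
              refine Eq.trans ?_ ((congrArg (fun t => t ≫ hr.fst (E'.obj.hom ≫ f)) ((yon S).map_comp _ _)).trans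
                (Category.assoc _ _ _)).symm
              rw [unitHom_fst, EtOver.w g]
              refine Eq.trans ?_ (congrArg ((yon S).map (unitHom f hf hr E).hom.left ≫ ·)
                (EtOver.map_bcMap_fst hr ((EtOver.postcomp f hf).map g))).symm
              exact (unitHom_fst f hf hr E).symm)
            (by
              change (g.hom.left ≫ (unitHom f hf hr E').hom.left) ≫ hr.snd (E'.obj.hom ≫ f) =
                ((unitHom f hf hr E).hom.left ≫
                  (EtOver.bcMap hr ((EtOver.postcomp f hf).map g)).hom.left) ≫ hr.snd (E'.obj.hom ≫ f)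
              refine ((Category.assoc _ _ _).trans ((congrArg (g.hom.left ≫ ·) (unitHom_snd f hf hr E')).trans
                (Category.comp_id _))).trans ?_
              refine Eq.trans ?_ ((Category.assoc _ _ _).trans (congrArg ((unitHom f hf hr E).hom.left ≫ ·)
                (EtOver.bcMap_snd hr ((EtOver.postcomp f hf).map g)))).symm
              exact ((reassoc_of% unitHom_snd f hf hr E) g.hom.left).symm)) }
      counit :=
        { app := counitHom f hf hr
          naturality := fun E E' g => EtOver.hom_ext _ _ (EtOver.bcMap_snd hr g) }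
      left_triangle := by
        ext E : 2
        refine EtOver.hom_ext _ _ ?_
        change (𝟙 _ ≫ (unitHom f hf hr E).hom.left) ≫ 𝟙 _ ≫ hr.snd (E.obj.hom ≫ f) = 𝟙 E.obj.left
        simp only [Category.id_comp]
        exact unitHom_snd f hf hr E
      right_triangle := by
        ext E : 2
        refine EtOver.hom_ext _ _ (hr.hom_ext ?_ ?_)
        · change (yon S).map ((unitHom f hf hr ((EtOver.bc hr).obj E)).hom.left ≫ 𝟙 _ ≫
            (EtOver.bcMap hr (counitHom f hf hr E)).hom.left) ≫ hr.fst E.obj.hom = _
          rw [Category.id_comp, Functor.map_comp, Category.assoc, EtOver.map_bcMap_fst]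
          refine (hr.lift_fst _ _ _).trans ?_
          exact ((congrArg (· ≫ hr.fst E.obj.hom) ((yon S).map_id _)).trans (Category.id_comp _)).symm
        · change ((unitHom f hf hr ((EtOver.bc hr).obj E)).hom.left ≫ 𝟙 _ ≫
            (EtOver.bcMap hr (counitHom f hf hr E)).hom.left) ≫ hr.snd E.obj.hom = _
          rw [Category.id_comp, Category.assoc, EtOver.bcMap_snd]
          exact ((reassoc_of% unitHom_snd f hf hr ((EtOver.bc hr).obj E)) _).trans (Category.id_comp _).symm }

end

variable {X Y : Space S} (f : X ⟶ Y) (hf : IsEtaleMor f.hom) (hr : Representable f.hom)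

instance : (EtOver.postcomp f.hom hf).IsContinuous (etTop X.obj) (etTop Y.obj) := (S10234.result f hf).1

instance : (EtOver.postcomp f.hom hf).IsCocontinuous (etTop X.obj) (etTop Y.obj) := (S10234.result f hf).2

include hr in
theorem isLeftAdjoint_postcomp : (EtOver.postcomp f.hom hf).IsLeftAdjoint := (adjBc f.hom hf hr).isLeftAdjoint

/-- The structure sheaf of `X` is the restriction of that of `Y`. -/
noncomputable def resHom :
    OEtRing X.obj ⟶
      ((EtOver.postcomp f.hom hf).sheafPushforwardContinuous RingCat.{u + 1} (etTop X.obj) (etTop Y.obj)).obj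
        (OEtRing Y.obj) :=
  ObjectProperty.homMk
    { app := fun E => 𝟙 _
      naturality := fun E E' g => (Category.comp_id _).trans (Category.id_comp _).symm }

instance : IsIso (resHom f hf) := by
  have : ∀ E, IsIso ((resHom f hf).hom.app E) := fun E => inferInstanceAs (IsIso (𝟙 _))
  have : IsIso (resHom f hf).hom := NatIso.isIso_of_isIso_app _
  have : IsIso ((sheafToPresheaf _ _).map (resHom f hf)) := this
  exact isIso_of_reflects_iso (resHom f hf) (sheafToPresheaf _ _)

/-- Restriction of modules is left adjoint to direct image. -/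
noncomputable def resAdj :
    SheafOfModules.pushforward.{u + 1} (resHom f hf) ⊣ pushModEt hr :=
  SheafOfModules.pushforwardPushforwardAdj (adjBc f.hom hf hr) (resHom f hf) (bcRingHom hr)
    (by
      ext E : 2
      exact (Category.comp_id _).symm)
    (by
      ext E : 2
      change 𝟙 _ ≫ (BigSite.ORing Scheme.etalePrecoverage S).obj.map (hr.snd (E.unop.obj.hom ≫ f.hom)).op ≫
        (BigSite.ORing Scheme.etalePrecoverage S).obj.map (unitHom f.hom hf hr E.unop).hom.left.op = 𝟙 _
      rw [Category.id_comp, ← Functor.map_comp, ← op_comp, unitHom_snd, op_id, CategoryTheory.Functor.map_id])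

/-- The inverse image is restriction. -/
noncomputable def pullIso [(SheafOfModules.pushforward.{u + 1} (bcRingHom hr)).IsRightAdjoint] :
    pullModEt hr ≅ SheafOfModules.pushforward.{u + 1} (resHom f hf) :=
  Adjunction.leftAdjointUniq (pullPushAdjModEt hr) (resAdj f hf hr)

instance postEquivalence (E : EtOver X.obj) : (Over.post (X := E) (EtOver.postcomp f.hom hf)).IsEquivalence := by
  let G := EtOver.postcomp f.hom hf
  have hfull : (Over.post (X := E) G).Full := ⟨fun {A B} h => by
    have e : h.left.hom.left ≫ B.hom.hom.left = A.hom.hom.left :=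
      congrArg (fun t => t.hom.left) (Over.w h)
    have w : (yon S).map h.left.hom.left ≫ B.left.obj.hom = A.left.obj.hom := by
      rw [← EtOver.w B.hom, ← EtOver.w A.hom, ← Category.assoc, ← Functor.map_comp]
      exact congrArg (fun t => (yon S).map t ≫ E.obj.hom) e
    exact ⟨Over.homMk (EtOver.homMk h.left.hom.left w) (EtOver.hom_ext _ _ e),
      Over.OverMorphism.ext (EtOver.hom_ext _ _ rfl)⟩⟩
  have hfaith : (Over.post (X := E) G).Faithful := ⟨fun {A B h h'} e =>
    Over.OverMorphism.ext (EtOver.hom_ext _ _ (congrArg (fun t => t.left.hom.left) e))⟩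
  have hess : (Over.post (X := E) G).EssSurj := ⟨fun Z => by
    have hZ : RepWith @Etale ((yon S).map Z.hom.hom.left ≫ E.obj.hom) :=
      (RepWith (S := S) @Etale).comp_mem _ _
        ((repWith_yon_map_iff _ _).2 (EtOver.etale_left Z.hom)) E.property
    refine ⟨Over.mk (EtOver.homMk (E := EtOver.mk _ hZ) Z.hom.hom.left rfl),
      ⟨Over.isoMk ⟨EtOver.homMk (𝟙 _) ?_, EtOver.homMk (𝟙 _) ?_, EtOver.hom_ext _ _ (Category.id_comp _),
        EtOver.hom_ext _ _ (Category.id_comp _)⟩ (EtOver.hom_ext _ _ (Category.id_comp _))⟩⟩
    · change (yon S).map (𝟙 _) ≫ Z.left.obj.hom = ((yon S).map Z.hom.hom.left ≫ E.obj.hom) ≫ f.hom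
      rw [CategoryTheory.Functor.map_id, Category.assoc]
      exact (Category.id_comp _).trans (EtOver.w Z.hom).symm
    · change (yon S).map (𝟙 _) ≫ ((yon S).map Z.hom.hom.left ≫ E.obj.hom) ≫ f.hom = Z.left.obj.hom
      rw [CategoryTheory.Functor.map_id, Category.assoc]
      exact (Category.id_comp _).trans (EtOver.w Z.hom)⟩
  exact { }

theorem post_isContinuous (E : EtOver X.obj) :
    (Over.post (X := E) (EtOver.postcomp f.hom hf)).IsContinuous ((etTop X.obj).over E)
      ((etTop Y.obj).over _) := by
  let e := (Over.post (X := E) (EtOver.postcomp f.hom hf)).asEquivalence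
  have := (e.symm.toAdjunction.isCocontinuous_iff_coverPreserving (J := (etTop Y.obj).over _)
    (K := (etTop X.obj).over E)).2 (CoverPreserving.overPost E (S10234.coverPreserving f hf))
  exact e.symm.toAdjunction.isContinuous_of_isCocontinuous _ _

theorem isQuasicoherent_res [(EtOver.postcomp f.hom hf).IsLeftAdjoint] (F : ModEt Y.obj) (hF : F.IsQuasicoherent) :
    ((SheafOfModules.pushforward.{u + 1} (resHom f hf)).obj F).IsQuasicoherent := by
  have := post_isContinuous f hf
  exact SheafOfModules.isQuasicoherent_pushforward_of_isLeftAdjoint.{u + 1}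
    (G := EtOver.postcomp f.hom hf) (φ := resHom f hf) (Iso.refl _)

theorem preservesFiniteLimits_res :
    PreservesFiniteLimits (SheafOfModules.pushforward.{u + 1} (resHom f hf)) := by
  constructor
  intro J _ _
  let G := SheafOfModules.forget.{u + 1} (OEtRing X.obj) ⋙ PresheafOfModules.toPresheaf _
  have h : PreservesLimitsOfShape J (SheafOfModules.pushforward.{u + 1} (resHom f hf) ⋙ G) :=
    inferInstanceAs (PreservesLimitsOfShape J (SheafOfModules.forget.{u + 1} (OEtRing Y.obj) ⋙
      PresheafOfModules.toPresheaf _ ⋙ (Functor.whiskeringLeft _ _ _).obj (EtOver.postcomp f.hom hf).op))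
  exact preservesLimitsOfShape_of_reflects_of_preserves _ G

end Groth.Agent.H12AlgSp.EtRes
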