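import Groth.Agent.H12AlgSp.Codim
import Mathlib.AlgebraicGeometry.AlgClosed.Basic

/-!
Lifting geometric points along etale morphisms of algebraic spaces.
-/

universe u

open CategoryTheory CategoryTheory.Limits AlgebraicGeometry Topology
open AlgSp

namespace Groth.Agent.H12AlgSp

variable {S : Scheme.{u}}

theorem exists_lift_geometric_point {U X : Sp S} (hU : IsAlgSpace U) {φ : U ⟶ X}
    (hφ : IsEtaleMor φ) (xbar : FieldPt X) (hx : xbar.IsGeometric) (u : Points U)
    (hu : Points.map φ u = Points.mk xbar) :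
    ∃ ubar : (yon S).obj xbar.pt ⟶ U, ubar ≫ φ = xbar.toHom ∧
      Points.ofPt ubar (IsLocalRing.closedPoint xbar.K) = u := by
  have : IsAlgClosed xbar.K := hx
  obtain ⟨V, a, ha, has⟩ := hU.atlas
  obtain ⟨v, rfl⟩ := surjective_ofPt_of_repWith le_rfl has u
  obtain ⟨P, h, g', sq⟩ := (hφ a ha).1 xbar.toHom
  obtain ⟨g, rfl⟩ := (yon S).map_surjective g'
  have he : Etale h.left := (hφ a ha).2 _ _ h sq
  obtain ⟨p', hp₁, -⟩ := exists_point_of_isPullback sq (Points.ofScheme V v)
    (Points.ofScheme xbar.pt (IsLocalRing.closedPoint xbar.K)) (by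
      rw [← Points.ofPt_eq_map_ofScheme, ← Points.ofPt_eq_map_ofScheme, Points.ofPt_toHom, ← hu,
        Points.map_ofPt])
  obtain ⟨p, rfl⟩ := (Points.schemeEquiv P).surjective p'
  have hgp : g.left p = v := by
    apply (Points.schemeEquiv V).injective
    change Points.ofScheme V (g.left p) = Points.ofScheme V v
    rw [← hp₁]
    change Points.ofPt (𝟙 _) (g.left p) = Points.map _ (Points.ofPt (𝟙 _) p)
    rw [Points.map_ofPt, ← ofPt_map, Category.id_comp, Category.comp_id]
  let f : P.left ⟶ Spec (CommRingCat.of xbar.K) := h.left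
  have : Etale f := he
  have := lqf_of_etale f
  have hp : IsClosed ({p} : Set P.left) := by
    have hd : _root_.IsDiscrete (Set.univ : Set P.left) := by
      rw [show (Set.univ : Set P.left) = f ⁻¹' {f p} from
        (Set.eq_univ_of_forall fun y => Subsingleton.elim (α := ↥(Spec (CommRingCat.of xbar.K))) _ _).symm]
      exact f.isDiscrete_preimage_singleton (f p)
    have : DiscreteTopology P.left := isDiscrete_univ_iff.mp hd
    exact isClosed_discrete _
  let σ := pointOfClosedPoint f p hp
  have hσ : σ ≫ P.hom = xbar.str := by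
    rw [← Over.w h, ← Category.assoc]
    exact (congrArg (· ≫ xbar.str) (pointOfClosedPoint_comp f p hp)).trans (Category.id_comp _)
  let s : xbar.pt ⟶ P := Over.homMk σ hσ
  have hs : s ≫ h = 𝟙 _ := Over.OverMorphism.ext (pointOfClosedPoint_comp f p hp)
  refine ⟨(yon S).map (s ≫ g) ≫ a, ?_, ?_⟩
  · rw [Category.assoc, Functor.map_comp, Category.assoc, sq.w, ← Category.assoc, ← Functor.map_comp, hs,
      CategoryTheory.Functor.map_id, Category.id_comp]
  · rw [ofPt_map, ← hgp]
    change Points.ofPt a (g.left (σ _)) = _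
    rw [show σ (IsLocalRing.closedPoint xbar.K) = p from pointOfClosedPoint_apply f p hp _]

end Groth.Agent.H12AlgSp
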