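import Groth.Agent.H12AlgSp.EtStalk
import Groth.Agent.H12AlgSp.GeomLift

/-!
Vanishing loci of sections and supports of sheaves on the small etale site of an algebraic space.
-/

set_option backward.isDefEq.respectTransparency false

universe u

open CategoryTheory CategoryTheory.Limits AlgebraicGeometry Opposite Topology
open AlgSp

namespace Groth.Agent.H12AlgSp

open scoped Groth.Agent.H18Et

variable {S : Scheme.{u}} {X : Sp S}

theorem exists_geometric_over (hX : IsAlgSpace X) (x : Points X) :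
    ∃ p : FieldPt X, p.IsGeometric ∧ Points.mk p = x := by
  obtain ⟨U, a, ha, hs⟩ := hX.atlas
  obtain ⟨v, rfl⟩ := surjective_ofPt_of_repWith le_rfl hs x
  obtain ⟨p, hp, l, rfl⟩ := exists_geometric_lift (EtOver.mk a ha) v
  exact ⟨p, hp, mk_geometric_of_lift l⟩

/-- A geometric point lifts to a neighbourhood at any point over its image. -/
theorem exists_lift_of_mk_eq {p : FieldPt X} (hp : p.IsGeometric) (E : EtOver X) (e : ↥E.obj.left.left)
    (h : Points.ofPt E.obj.hom e = Points.mk p) :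
    ∃ l : (FieldPt.liftsTo p).obj E, l.1.left (default : Spec (CommRingCat.of p.K)) = e := by
  obtain ⟨ub, hub, hu⟩ := exists_lift_geometric_point (IsAlgSpace.yon_obj E.obj.left)
    (isEtaleMor_of_repWith _ E.property) p hp (Points.ofScheme E.obj.left e)
    (by rw [← Points.ofPt_eq_map_ofScheme]; exact h)
  obtain ⟨m, rfl⟩ := (yon S).map_surjective ub
  refine ⟨⟨m, hub⟩, (Points.schemeEquiv E.obj.left).injective ?_⟩
  change Points.ofScheme E.obj.left _ = Points.ofScheme E.obj.left e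
  refine Eq.trans ?_ hu
  rw [show (yon S).map m = (yon S).map m ≫ 𝟙 _ from (Category.comp_id _).symm, ofPt_map]
  rw [show IsLocalRing.closedPoint p.K = (default : Spec (CommRingCat.of p.K)) from
    Subsingleton.elim (α := ↥(Spec (CommRingCat.of p.K))) _ _]

theorem isOpen_range_ofPt (E : EtOver X) : IsOpen (Set.range (Points.ofPt E.obj.hom)) :=
  (isOpenMap_ofPt_of_repWith etale_le_universallyOpen E.property).isOpen_range

theorem isOpenMap_etOver {E E' : EtOver X} (g : E ⟶ E') : IsOpenMap g.hom.left.left := by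
  have := EtOver.etale_left g
  exact g.hom.left.left.isOpenMap

theorem ofPt_map_etOver {E E' : EtOver X} (g : E ⟶ E') (e : ↥E.obj.left.left) :
    Points.ofPt E'.obj.hom (g.hom.left.left e) = Points.ofPt E.obj.hom e := by
  rw [← ofPt_map, EtOver.w g]

/-- The open locus where a section vanishes. -/
def zeroLocus (F : AbEt X) {U : EtOver X} (σ : ↥(F.obj.obj (op U))) : Set ↥U.obj.left.left :=
  {u | ∃ (V : EtOver X) (φ : V ⟶ U), (F.obj.map φ.op).hom σ = 0 ∧ u ∈ Set.range φ.hom.left.left}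

theorem isOpen_zeroLocus (F : AbEt X) {U : EtOver X} (σ : ↥(F.obj.obj (op U))) :
    IsOpen (zeroLocus F σ) := by
  rw [isOpen_iff_forall_mem_open]
  rintro u ⟨V, φ, hφ, hu⟩
  exact ⟨_, fun v hv => ⟨V, φ, hφ, hv⟩, (isOpenMap_etOver φ).isOpen_range, hu⟩

theorem map_comp_apply (F : AbEt X) {U V W : EtOver X} (f : W ⟶ V) (g : V ⟶ U) (σ : ↥(F.obj.obj (op U))) :
    (F.obj.map (f ≫ g).op).hom σ = (F.obj.map f.op).hom ((F.obj.map g.op).hom σ) := by
  rw [op_comp, Functor.map_comp]
  rfl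

theorem map_eq_zero_iff (F : AbEt X) {U V : EtOver X} (σ : ↥(F.obj.obj (op U))) (φ : V ⟶ U) :
    (F.obj.map φ.op).hom σ = 0 ↔ Set.range φ.hom.left.left ⊆ zeroLocus F σ := by
  refine ⟨fun h u hu => ⟨V, φ, h, hu⟩, fun h => ?_⟩
  refine Presieve.IsSeparatedFor.ext (P := F.obj ⋙ CategoryTheory.forget _)
    (R := (Presheaf.equalizerSieve (F := F.obj) ((F.obj.map φ.op).hom σ) 0).arrows) ?_ fun W g hg => hg
  refine (((isSheaf_iff_isSheaf_of_type _ _).1
    ((sheafCompose _ (CategoryTheory.forget _)).obj F).property) _ ?_).isSeparatedFor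
  refine mem_etTop_of_forall_point _ fun v => ?_
  obtain ⟨V', ψ, hψ, v', hv'⟩ := h ⟨v, rfl⟩
  obtain ⟨w, hw, hw'⟩ := Scheme.Pullback.exists_preimage_pullback (f := φ.hom.left.left) (g := ψ.hom.left.left) v v' hv'.symm
  let e : (pullback φ.hom.left ψ.hom.left).left ≅ pullback φ.hom.left.left ψ.hom.left.left :=
    ((IsPullback.of_hasPullback φ.hom.left ψ.hom.left).map (Over.forget S)).isoPullback
  refine ⟨EtOver.pullbackObj φ ψ, EtOver.pullbackFst φ ψ, e.inv w, ?_, ?_⟩
  · change (F.obj.map (EtOver.pullbackFst φ ψ).op).hom ((F.obj.map φ.op).hom σ) =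
      (F.obj.map (EtOver.pullbackFst φ ψ).op).hom 0
    rw [map_zero, ← map_comp_apply, EtOver.pullback_condition, map_comp_apply, hψ, map_zero]
  · change (e.inv ≫ (pullback.fst φ.hom.left ψ.hom.left).left) w = v
    rw [show e.inv ≫ (pullback.fst φ.hom.left ψ.hom.left).left = pullback.fst φ.hom.left.left ψ.hom.left.left from
      IsPullback.isoPullback_inv_fst _]
    exact hw

theorem stalkEtι_eq_zero_iff (hX : IsAlgSpace X) {p : FieldPt X} (hp : p.IsGeometric) (F : AbEt X)
    {U : EtOver X} (l : (FieldPt.liftsTo p).obj U) (σ : ↥(F.obj.obj (op U))) :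
    (stalkEtι p F ⟨U, l⟩).hom σ = 0 ↔
      l.1.left (default : Spec (CommRingCat.of p.K)) ∈ zeroLocus F σ := by
  let Φ := etPoint p hX hp
  change (Φ.toPresheafFiber U l F.obj).hom σ = 0 ↔ _
  constructor
  · intro h
    obtain ⟨V, g, y, hy, hg⟩ := (Φ.toPresheafFiber_eq_iff' (P := F.obj) U l σ 0).1 (h.trans (map_zero _).symm)
    refine ⟨V, g, hg.trans (map_zero _), y.1.left (default : Spec (CommRingCat.of p.K)), ?_⟩
    rw [← hy]
    rfl
  · rintro ⟨V, φ, hφ, v, hv⟩
    obtain ⟨y, hy⟩ := exists_lift_etOver hp φ l v hv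
    refine ((Φ.toPresheafFiber_eq_iff' (P := F.obj) U l σ 0).2 ⟨V, φ, y, hy, ?_⟩).trans (map_zero _)
    exact hφ.trans (map_zero _).symm

theorem exists_open_zeroLocus (hX : IsAlgSpace X) (F : AbEt X) (U : EtOver X) (σ : ↥(F.obj.obj (op U))) :
    ∃ W : TopologicalSpace.Opens ↥U.obj.left.left,
      (∀ (V : EtOver X) (φ : V ⟶ U),
          (F.obj.map φ.op).hom σ = 0 ↔ Set.range (fun v => φ.hom.left.left v) ⊆ (W : Set ↥U.obj.left.left)) ∧
      (∀ p : FieldPt X, p.IsGeometric → ∀ l : (FieldPt.liftsTo p).obj U,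
          (stalkEtι p F ⟨U, l⟩).hom σ = 0 ↔ l.1.left (IsLocalRing.closedPoint p.K) ∈ W) :=
  ⟨⟨zeroLocus F σ, isOpen_zeroLocus F σ⟩, fun _ φ => map_eq_zero_iff F σ φ, fun p hp l => by
    rw [show IsLocalRing.closedPoint p.K = (default : Spec (CommRingCat.of p.K)) from
      Subsingleton.elim (α := ↥(Spec (CommRingCat.of p.K))) _ _]
    exact stalkEtι_eq_zero_iff hX hp F l σ⟩

theorem not_isZero_stalk_iff (hX : IsAlgSpace X) (F : AbEt X) (x : Points X) :
    (∃ p : FieldPt X, p.IsGeometric ∧ Points.mk p = x ∧ ¬ IsZero (stalkEt p F)) ↔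
      ∃ (U : EtOver X) (σ : ↥(F.obj.obj (op U))) (u : ↥U.obj.left.left),
        Points.ofPt U.obj.hom u = x ∧
          ∀ (V : EtOver X) (φ : V ⟶ U), (F.obj.map φ.op).hom σ = 0 →
            u ∉ Set.range (fun v => φ.hom.left.left v) := by
  constructor
  · rintro ⟨p, hp, rfl, hne⟩
    by_contra hc
    push Not at hc
    apply hne
    rw [AddCommGrpCat.isZero_iff_subsingleton]
    refine subsingleton_of_forall_eq 0 fun z => ?_
    obtain ⟨U, l, σ, rfl⟩ := (etPoint p hX hp).toPresheafFiber_jointly_surjective (P := F.obj) z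
    obtain ⟨V, φ, hφ, hu⟩ := hc U σ _ (mk_geometric_of_lift l).symm
    exact (stalkEtι_eq_zero_iff hX hp F l σ).2 ⟨V, φ, hφ, hu⟩
  · rintro ⟨U, σ, u, rfl, hu⟩
    obtain ⟨p, hp, l, rfl⟩ := exists_geometric_lift U u
    refine ⟨p, hp, mk_geometric_of_lift l, fun hz => ?_⟩
    obtain ⟨V, φ, hφ, hv⟩ := (stalkEtι_eq_zero_iff hX hp F l σ).1
      (@Subsingleton.elim _ (AddCommGrpCat.subsingleton_of_isZero hz) _ _)
    exact hu V φ hφ hv

end Groth.Agent.H12AlgSp
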