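import Groth.Agent.H12AlgSp.Proper
import Groth.Prelude.Def_AlgSpGpd
import Mathlib.CategoryTheory.Monoidal.Cartesian.Grp

/-!
Separation of group objects and free actions.
-/

universe u

open CategoryTheory CategoryTheory.Limits AlgebraicGeometry MonoidalCategory MonObj CartesianMonoidalCategory
open AlgSp

namespace Groth.Agent.H12AlgSp

variable {S : Scheme.{u}} {B : Sp S} (G : Over B) [GrpObj G]

theorem isPullback_unit_diag :
    IsPullback η[G] η[G] (lift (𝟙 G) (𝟙 G)) (lift (𝟙 G) (1 : G ⟶ G)) := by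
  have h1 : η[G] ≫ (1 : G ⟶ G) = η[G] := by
    rw [MonObj.comp_one, Hom.one_def, toUnit_unique (toUnit _) (𝟙 _), Category.id_comp]
  refine ⟨⟨?_⟩, ⟨PullbackCone.isLimitAux' _ fun s => ?_⟩⟩
  · ext <;> simp only [Category.assoc, lift_fst, lift_snd, Category.comp_id, h1]
  have e₁ := s.condition =≫ CartesianMonoidalCategory.fst G G
  have e₂ := s.condition =≫ CartesianMonoidalCategory.snd G G
  simp only [Category.assoc, lift_fst, lift_snd, Category.comp_id] at e₁ e₂
  have e₃ : s.fst = toUnit _ ≫ η[G] := e₂.trans ((MonObj.comp_one _).trans Hom.one_def)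
  exact ⟨toUnit _, e₃.symm, e₃.symm.trans e₁, fun {_} _ _ => toUnit_unique _ _⟩

theorem isPullback_diag_unit :
    IsPullback (toUnit G) (lift (𝟙 G) (𝟙 G)) η[G]
      (CartesianMonoidalCategory.fst G G / CartesianMonoidalCategory.snd G G) := by
  refine ⟨⟨?_⟩, ⟨PullbackCone.isLimitAux' _ fun s => ?_⟩⟩
  · rw [GrpObj.comp_div, lift_fst, lift_snd, div_self', ← Hom.one_def]
  have e : (1 : s.pt ⟶ G) =
      s.snd ≫ CartesianMonoidalCategory.fst G G / s.snd ≫ CartesianMonoidalCategory.snd G G := by
    rw [← GrpObj.comp_div]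
    exact Hom.one_def.trans ((congrArg (· ≫ η[G]) (toUnit_unique _ _)).trans s.condition)
  rw [eq_comm, div_eq_one] at e
  refine ⟨s.snd ≫ CartesianMonoidalCategory.fst G G, toUnit_unique _ _, ?_, fun {m : s.pt ⟶ G} _
    (hm : m ≫ lift (𝟙 G) (𝟙 G) = s.snd) => ?_⟩
  · change (s.snd ≫ CartesianMonoidalCategory.fst G G) ≫ lift (𝟙 G) (𝟙 G) = s.snd
    ext
    · rw [Category.assoc, lift_fst, Category.comp_id]
    · rw [Category.assoc, lift_snd, Category.comp_id, e]
  · change m = s.snd ≫ CartesianMonoidalCategory.fst G G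
    rw [← hm, Category.assoc, lift_fst, Category.comp_id]

theorem lift_id_left : (lift (𝟙 G) (𝟙 G)).left = pullback.diagonal G.hom := by
  apply pullback.hom_ext
  · rw [pullback.diagonal_fst]
    exact congrArg (fun t => Over.Hom.left t) (lift_fst (𝟙 G) (𝟙 G))
  · rw [pullback.diagonal_snd]
    exact congrArg (fun t => Over.Hom.left t) (lift_snd (𝟙 G) (𝟙 G))

theorem grpObj_separation (hB : IsAlgSpace B) (hG : IsAlgSpace G.left) :
    (IsSeparatedMor G.hom ↔ RepWith @IsClosedImmersion (η[G]).left) ∧
      (IsQuasiSeparatedMor G.hom ↔ IsQuasiCompactMor (η[G]).left) ∧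
      (IsLocallySeparatedMor G.hom → RepWith @IsImmersion (η[G]).left) := by
  have sq₁ := (isPullback_unit_diag G).map (Over.forget B)
  have sq₂ := (isPullback_diag_unit G).map (Over.forget B)
  simp only [Over.forget_map, lift_id_left] at sq₁ sq₂
  have hP : IsAlgSpace (G ⊗ G).left := isAlgSpace_pullback hB.diag hG hG G.hom G.hom
  have hΔ := representable_diagonal G.hom hG.diag
  have hη : Representable (η[G]).left := representable_of_isPullback sq₁ hΔ
  refine ⟨⟨fun h => repWith_of_isPullback sq₁ h, fun h => repWith_of_isPullback sq₂ h⟩, ⟨fun h => ?_, fun h => ?_⟩,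
    fun h => repWith_of_isPullback sq₁ h⟩
  · exact isQuasiCompactMor_of_repWith hB hG (repWith_of_isPullback sq₁ h)
  · exact repWith_of_isPullback sq₂ (repWith_quasiCompact_of_mor hη h)

/-- A free action gives a monomorphism `(g, x) ↦ (g x, x)`. -/
theorem mono_shear_of_isFree {X : Over B} (a : GAction G X) (ha : a.IsFree) :
    Mono (lift a.act (CartesianMonoidalCategory.snd G X)).left := by
  refine mono_of_yon fun T z z' e => ?_
  let β : (yon S).obj T ⟶ B := z ≫ (G ⊗ X).hom
  have hβ : z' ≫ (G ⊗ X).hom = β := by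
    change _ = z ≫ (G ⊗ X).hom
    rw [← Over.w (lift a.act (CartesianMonoidalCategory.snd G X)), ← Category.assoc, ← e, Category.assoc]
  let zo : Over.mk β ⟶ G ⊗ X := Over.homMk z rfl
  let zo' : Over.mk β ⟶ G ⊗ X := Over.homMk z' hβ
  have he : zo ≫ lift a.act (CartesianMonoidalCategory.snd G X) =
      zo' ≫ lift a.act (CartesianMonoidalCategory.snd G X) := Over.OverMorphism.ext e
  have hx := he =≫ CartesianMonoidalCategory.snd X X
  have hy := he =≫ CartesianMonoidalCategory.fst X X
  simp only [Category.assoc, lift_fst, lift_snd] at hx hy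
  let g := zo ≫ CartesianMonoidalCategory.fst G X
  let g' := zo' ≫ CartesianMonoidalCategory.fst G X
  let x := zo ≫ CartesianMonoidalCategory.snd G X
  have hz : zo = lift g x := by ext <;> simp only [g, x, lift_fst, lift_snd]
  have hz' : zo' = lift g' x := by ext <;> simp only [g', x, lift_fst, lift_snd, hx]
  rw [hz, hz'] at hy
  -- group action on points
  have hmul : ∀ (p q : Over.mk β ⟶ G) (y : Over.mk β ⟶ X),
      lift (p * q) y ≫ a.act = lift p (lift q y ≫ a.act) ≫ a.act := fun p q y => by
    have := lift (lift p q) y ≫= a.mul_act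
    rw [← Category.assoc, lift_whiskerRight, ← Category.assoc, lift_lift_associator_hom,
      ← Category.assoc, lift_whiskerLeft] at this
    exact this
  have hone : ∀ (y : Over.mk β ⟶ X), lift (1 : Over.mk β ⟶ G) y ≫ a.act = y := fun y => by
    have := lift (toUnit (Over.mk β)) y ≫= a.one_act
    rw [← Category.assoc, lift_whiskerRight, lift_leftUnitor_hom] at this
    exact this
  have hfix : lift (g'⁻¹ * g) x ≫ a.act = x := by
    rw [hmul, hy, ← hmul, inv_mul_cancel, hone]
  have hg : g = g' := by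
    have := (ha β (g'⁻¹ * g) x hfix).trans (Hom.one_def (M := G)).symm
    rwa [inv_mul_eq_one, eq_comm] at this
  have : zo = zo' := by rw [hz, hz', hg]
  exact congrArg (fun t => Over.Hom.left t) this

end Groth.Agent.H12AlgSp
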