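import Groth.Agent.H12AlgSp.EtLocalRingProps
import Groth.Agent.H9Hens.BranchCount
import Groth.Agent.S0539
import Mathlib.RingTheory.Ideal.GoingDown
import Mathlib.Data.Set.Card

/-!
Branches at a point of an algebraic space read off on the etale local ring.
-/

set_option backward.isDefEq.respectTransparency false

universe u

open CategoryTheory CategoryTheory.Limits AlgebraicGeometry Opposite
open AlgSp Groth.Agent.H12AlgSp.EtStrictHens Groth.Agent.H18Et

namespace Groth.Agent.H12AlgSp

section Algebra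

variable {R T : Type*} [CommRing R] [CommRing T] [Algebra R T]

theorem under_mem_minimalPrimes [Algebra.HasGoingDown R T] {q : Ideal T} (hq : q ∈ minimalPrimes T) :
    q.under R ∈ minimalPrimes R := by
  have := hq.1.1
  refine ⟨⟨inferInstance, bot_le⟩, fun r hr hle => ?_⟩
  have := hr.1
  obtain ⟨P, hP, hPp, hlo⟩ := Ideal.exists_ideal_le_liesOver_of_le (S := T) (p := r) (q := q.under R) q hle
  rw [← le_antisymm hP (hq.2 ⟨hPp, bot_le⟩ hP)]
  exact hlo.over.ge

theorem exists_minimalPrimes_under_eq [Module.FaithfullyFlat R T] {r : Ideal R} (hr : r ∈ minimalPrimes R) :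
    ∃ q ∈ minimalPrimes T, q.under R = r := by
  have := hr.1.1
  obtain ⟨P, hP⟩ := PrimeSpectrum.comap_surjective_of_faithfullyFlat (A := R) (B := T) ⟨r, inferInstance⟩
  obtain ⟨q, hq, hqP⟩ := Ideal.exists_minimalPrimes_le (I := (⊥ : Ideal T)) (J := P.asIdeal) bot_le
  refine ⟨q, hq, ?_⟩
  have := hq.1.1
  have hle : q.under R ≤ r := by
    rw [← show P.asIdeal.under R = r from congrArg PrimeSpectrum.asIdeal hP]
    exact Ideal.comap_mono hqP
  exact le_antisymm hle (hr.2 ⟨inferInstance, bot_le⟩ hle)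

theorem encard_minimalPrimes_le [Module.FaithfullyFlat R T] :
    (minimalPrimes R).encard ≤ (minimalPrimes T).encard := by
  have h : minimalPrimes R ⊆ (fun q : Ideal T => q.under R) '' minimalPrimes T := fun r hr => by
    obtain ⟨q, hq, h⟩ := exists_minimalPrimes_under_eq (T := T) hr
    exact ⟨q, hq, h⟩
  exact (Set.encard_le_encard h).trans (Set.encard_image_le _ _)

theorem comap_symm_mem_minimalPrimes {A B : Type*} [CommRing A] [CommRing B] (e : A ≃+* B) {q : Ideal A}
    (hq : q ∈ minimalPrimes A) : q.comap e.symm.toRingHom ∈ minimalPrimes B := by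
  have := hq.1.1
  refine ⟨⟨inferInstance, bot_le⟩, fun r hr hle => ?_⟩
  have := hr.1
  have h2 : r.comap e.toRingHom ≤ q := fun x hx => by
    have h := hle (Ideal.mem_comap.1 hx)
    rw [Ideal.mem_comap] at h
    exact (show e.symm.toRingHom (e.toRingHom x) = x from e.symm_apply_apply x) ▸ h
  intro x hx
  have h3 := hq.2 ⟨inferInstance, bot_le⟩ h2 (Ideal.mem_comap.1 hx)
  rw [Ideal.mem_comap] at h3
  exact (show e.toRingHom (e.symm.toRingHom x) = x from e.apply_symm_apply x) ▸ h3

theorem encard_minimalPrimes_congr {A B : Type*} [CommRing A] [CommRing B] (e : A ≃+* B) :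
    (minimalPrimes A).encard = (minimalPrimes B).encard := by
  have hset : minimalPrimes B = (fun q : Ideal A => q.comap e.symm.toRingHom) '' minimalPrimes A := by
    refine Set.Subset.antisymm (fun r hr => ⟨_, comap_symm_mem_minimalPrimes e.symm hr, ?_⟩)
      (by rintro _ ⟨q, hq, rfl⟩; exact comap_symm_mem_minimalPrimes e hq)
    refine SetLike.ext fun x => ?_
    change e (e.symm x) ∈ r ↔ x ∈ r
    rw [e.apply_symm_apply]
  rw [hset, Function.Injective.encard_image]
  intro q q' hqq
  ext x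
  have h := SetLike.ext_iff.1 hqq (e x)
  change e.symm (e x) ∈ q ↔ e.symm (e x) ∈ q' at h
  rwa [e.symm_apply_apply] at h

end Algebra

section Scheme

variable {X : Scheme.{u}} {Ω : Type u} [Field Ω] [IsSepClosed Ω] (ξ : Spec (CommRingCat.of Ω) ⟶ X)

theorem encard_minimalPrimes_stalk_le :
    (minimalPrimes ↥(X.presheaf.stalk (imagePt ξ))).encard ≤
      (minimalPrimes ↥(EtBase.etaleLocalRing ξ)).encard := by
  have := isStrictHenselization ξ
  have := Groth.Agent.S0539.result ↥(X.presheaf.stalk (imagePt ξ)) ↥(EtBase.etaleLocalRing ξ)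
  exact encard_minimalPrimes_le

theorem encard_minimalPrimes_etaleLocalRing :
    (minimalPrimes ↥(EtBase.etaleLocalRing ξ)).encard = Brnch.numGeomBranchesAt X (imagePt ξ) := by
  have := isStrictHenselization ξ
  exact Groth.Agent.H9Hens.card_minimalPrimes_strictHenselization _ _

end Scheme

section Space

variable {S : Scheme.{u}} {X : Sp S} (hX : IsAlgSpace X) {p : FieldPt X} (hp : p.IsGeometric)

include hX hp in
/-- Finitely many elements of the etale local ring come from one neighbourhood. -/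
theorem exists_nbhd_finset (s : Finset ↥(OEtStalk p)) :
    ∃ N : EtNbhd p, ∀ r ∈ s, ∃ f, (stalkEtι p (OEt X) N).hom f = r := by
  classical
  have := preservesFilteredColimitsOfSize_shrink.{u, u + 1, u, u + 1} (forget CommRingCat.{u + 1})
  have : HasColimitsOfSize.{u, u} CommRingCat.{u + 1} := hasColimitsOfSizeShrink.{u, u, u + 1, u + 1} _
  let Φ := etPoint p hX hp
  induction s using Finset.induction with
  | empty =>
    obtain ⟨N⟩ := (isCofiltered_etNbhd hX hp).nonempty
    exact ⟨N, by simp⟩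
  | insert r s _ ih =>
    obtain ⟨N, hN⟩ := ih
    obtain ⟨E, y, f, rfl⟩ := Φ.toPresheafFiber_jointly_surjective (P := (OEt X).obj) r
    obtain ⟨M, m₁, m₂, -⟩ := etNbhd_cone_objs N ⟨E, y⟩
    refine ⟨M, fun x hx => ?_⟩
    rcases Finset.mem_insert.1 hx with rfl | hx
    · exact ⟨((OEt X).obj.map m₂.val.op).hom f,
        ConcreteCategory.congr_hom (colimit.w (stalkEtDiagram p (OEt X)) m₂.op) f⟩
    · obtain ⟨g, rfl⟩ := hN x hx
      exact ⟨((OEt X).obj.map m₁.val.op).hom g,
        ConcreteCategory.congr_hom (colimit.w (stalkEtDiagram p (OEt X)) m₁.op) g⟩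

theorem nbhdGerm_self [IsSepClosed p.K] (N : EtNbhd p) (f : Γ(N.1.obj.left.left, ⊤)) :
    nbhdGerm N.1.obj.hom N.1.property N.2.1 N.2.2 N (ULift.up f) =
      ULift.up (openGerm N.2.1.left ⊤ trivial f) := by
  let U := N.1.obj.left.left
  let V : U.Etale := openEt ⊤
  let z : (Scheme.pointSmallEtale N.2.1.left).fiber.obj V := openPt N.2.1.left ⊤ trivial
  let E := (EtOver.ofChart N.1.obj.hom N.1.property).obj V
  let k : nbhdOfScheme N.1.obj.hom N.1.property N.2.1 N.2.2 V z ⟶ N :=
    CategoryOfElements.homMk _ _ (EtOver.homMk (EtOver.homOfEtale V) rfl : E ⟶ N.1)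
      (Subtype.ext (liftOfScheme_hom N.1.obj.hom N.1.property N.2.1 V z))
  rw [← nbhdGerm_naturality N.1.obj.hom N.1.property N.2.1 N.2.2 k]
  refine (nbhdGerm_nbhdOfScheme N.1.obj.hom N.1.property N.2.1 N.2.2 V z (V.hom.appTop f)).trans ?_
  congr 1

include hX hp in
theorem exists_chart_encard_le [IsSepClosed p.K] (Q : Finset (Ideal ↥(OEtStalk p)))
    (hQ : ∀ q ∈ Q, q ∈ minimalPrimes ↥(OEtStalk p)) :
    ∃ (U : Over S) (a : (yon S).obj U ⟶ X) (u : ↥U.left), RepWith @Etale a ∧ Points.ofPt a u = Points.mk p ∧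
      (Q.card : ℕ∞) ≤ (minimalPrimes ↥(U.left.presheaf.stalk u)).encard := by
  classical
  have hsep : ∀ q ∈ Q, ∀ q' ∈ Q, q ≠ q' → ∃ r, r ∈ q ∧ r ∉ q' := by
    intro q hq q' hq' hne
    by_contra hc
    push Not at hc
    exact hne (le_antisymm (fun r hr => hc r hr) ((hQ q' hq').2 ⟨(hQ q hq).1.1, bot_le⟩ (fun r hr => hc r hr)))
  choose! r hr₁ hr₂ using hsep
  obtain ⟨N, hN⟩ := exists_nbhd_finset hX hp ((Q ×ˢ Q).image fun q => r q.1 q.2)
  let ξ := N.2.1.left
  refine ⟨N.1.obj.left, N.1.obj.hom, imagePt ξ, N.1.property, (mk_geometric_of_lift N.2).symm, ?_⟩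
  let e := (RingEquiv.ofBijective _ (stalkToChart_bijective N.1.obj.hom N.1.property N.2.1 N.2.2 hX hp)).trans
    ULift.ringEquiv
  let ψ : ↥(N.1.obj.left.left.presheaf.stalk (imagePt ξ)) →+* ↥(OEtStalk p) :=
    e.symm.toRingHom.comp (algebraMap _ _)
  have hψ : ∀ f : (OEt X).obj.obj (op N.1),
      ψ (N.1.obj.left.left.presheaf.germ ⊤ (imagePt ξ) trivial f.down) = (stalkEtι p (OEt X) N).hom f := by
    intro f
    apply e.injective
    change e (e.symm _) = (stalkToChart N.1.obj.hom N.1.property N.2.1 N.2.2 ((stalkEtι p (OEt X) N).hom f)).down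
    rw [stalkToChart_ι, e.apply_symm_apply]
    refine (stalkHom_germ ξ ⊤ trivial f.down).trans ?_
    exact (congrArg ULift.down (nbhdGerm_self N f.down)).symm
  have := isStrictHenselization ξ
  have := Groth.Agent.S0539.result ↥(N.1.obj.left.left.presheaf.stalk (imagePt ξ)) ↥(EtBase.etaleLocalRing ξ)
  have hmin : ∀ q ∈ Q, q.comap ψ ∈ minimalPrimes ↥(N.1.obj.left.left.presheaf.stalk (imagePt ξ)) := by
    intro q hq
    have h1 : q.comap e.symm.toRingHom ∈ minimalPrimes ↥(EtBase.etaleLocalRing ξ) :=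
      comap_symm_mem_minimalPrimes e (hQ q hq)
    exact under_mem_minimalPrimes h1
  have hinj : Set.InjOn (fun q : Ideal ↥(OEtStalk p) => q.comap ψ) Q := by
    intro q hq q' hq' h
    by_contra hne
    obtain ⟨f, hf⟩ := hN (r q q')
      (Finset.mem_image.2 ⟨(q, q'), Finset.mem_product.2 ⟨hq, hq'⟩, rfl⟩)
    have h1 : N.1.obj.left.left.presheaf.germ ⊤ (imagePt ξ) trivial f.down ∈ q.comap ψ := by
      rw [Ideal.mem_comap, hψ, hf]
      exact hr₁ q hq q' hq' hne
    change q.comap ψ = q'.comap ψ at h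
    rw [h, Ideal.mem_comap, hψ, hf] at h1
    exact hr₂ q hq q' hq' hne h1
  rw [← Set.encard_coe_eq_coe_finsetCard, ← hinj.encard_image]
  exact Set.encard_le_encard (by rintro _ ⟨q, hq, rfl⟩; exact hmin q hq)

end Space

end Groth.Agent.H12AlgSp
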