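import Groth.Agent.H12AlgSp.Sep

/-!
Charts with separated source are separated.
-/

set_option linter.unusedVariables false

universe u

open CategoryTheory CategoryTheory.Limits AlgebraicGeometry Opposite Topology
open AlgSp

namespace Groth.Agent.H12AlgSp

variable {S : Scheme.{u}}

theorem repWith_isSeparated_of_isSeparated_source {X : Sp S} (hX : IsAlgSpace X) {U : Over S}
    (a : (yon S).obj U ⟶ X) [U.left.IsSeparated] :
    RepWith @IsSeparated a := by
  refine repWith_of_snd (hX.representable_from_yon a) fun T g => ?_
  have sq := (hX.representable_from_yon a).isPullback g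
  obtain ⟨fst, hfst⟩ := (yon S).map_surjective ((hX.representable_from_yon a).fst g)
  rw [← hfst] at sq
  let snd := (hX.representable_from_yon a).snd g
  let k : ((hX.representable_from_yon a).pullback g).left ⟶ pullback U.hom T.hom :=
    pullback.lift fst.left snd.left ((Over.w fst).trans (Over.w snd).symm)
  have : Mono k := ⟨fun {Z} c d e => by
    have e₁ : c ≫ fst.left = d ≫ fst.left := by
      exact (congrArg (c ≫ ·) (pullback.lift_fst _ _ _).symm).trans ((Category.assoc _ _ _).symm.trans
        ((congrArg (· ≫ pullback.fst U.hom T.hom) e).trans
          ((Category.assoc _ _ _).trans (congrArg (d ≫ ·) (pullback.lift_fst _ _ _)))))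
    have e₂ : c ≫ snd.left = d ≫ snd.left := by
      exact (congrArg (c ≫ ·) (pullback.lift_snd _ _ _).symm).trans ((Category.assoc _ _ _).symm.trans
        ((congrArg (· ≫ pullback.snd U.hom T.hom) e).trans
          ((Category.assoc _ _ _).trans (congrArg (d ≫ ·) (pullback.lift_snd _ _ _)))))
    have e₀ : d ≫ ((hX.representable_from_yon a).pullback g).hom =
        c ≫ ((hX.representable_from_yon a).pullback g).hom := by
      rw [← Over.w snd, reassoc_of% e₂]
    let c' : Over.mk (c ≫ ((hX.representable_from_yon a).pullback g).hom) ⟶
        (hX.representable_from_yon a).pullback g := Over.homMk c rfl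
    let d' : Over.mk (c ≫ ((hX.representable_from_yon a).pullback g).hom) ⟶
        (hX.representable_from_yon a).pullback g := Over.homMk d e₀
    have : (yon S).map c' = (yon S).map d' := by
      apply sq.hom_ext
      · rw [← Functor.map_comp, ← Functor.map_comp]
        exact congrArg (yon S).map (Over.OverMorphism.ext e₁)
      · rw [← Functor.map_comp, ← Functor.map_comp]
        exact congrArg (yon S).map (Over.OverMorphism.ext e₂)
    exact congrArg (·.left) ((yon S).map_injective this)⟩
  have hk : k ≫ pullback.snd U.hom T.hom = snd.left := pullback.lift_snd _ _ _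
  change IsSeparated snd.left
  rw [← hk]
  infer_instance

theorem isSeparated_fibre_product {X : Sp S} (hX : IsAlgSpace X) {U : Over S}
    (a : (yon S).obj U ⟶ X) [U.left.IsSeparated] {R : Over S} (s t : R ⟶ U)
    (sq : IsPullback ((yon S).map t) ((yon S).map s) a a) : R.left.IsSeparated := by
  have : IsSeparated s.left := (repWith_isSeparated_of_isSeparated_source hX a).property a _ s sq
  refine ⟨?_⟩
  rw [← terminal.comp_from s.left]
  infer_instance

end Groth.Agent.H12AlgSp
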