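import Groth.Agent.H12AlgSp.EtaleLocal
import Groth.Agent.H12AlgSp.QC
import Groth.Agent.H12AlgSp.LocP
import Groth.Prelude.Def_AlgSp4

/-!
Chevalley's theorem for algebraic spaces.
-/

universe u

open CategoryTheory CategoryTheory.Limits AlgebraicGeometry Topology
open AlgSp Groth.Agent.H13AlgSp

set_option backward.isDefEq.respectTransparency false

namespace Groth.Agent.H12AlgSp

variable {S : Scheme.{u}}

/-- Chevalley's theorem for morphisms of algebraic spaces. -/
theorem isLocallyConstructible_image_chart {X Y : Sp S} (hX : IsAlgSpace X) (hY : IsAlgSpace Y) (f : X ⟶ Y)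
    (hq : IsQuasiCompactMor f) (hfp : LocP @LocallyOfFinitePresentation f) (E : Set (Points X))
    (hE : ∀ (U : Over S) (φ : (yon S).obj U ⟶ X), RepWith @Etale φ →
        IsLocallyConstructible (Points.ofPt φ ⁻¹' E))
    (U : Over S) (φ : (yon S).obj U ⟶ Y) (hφ : RepWith @Etale φ) :
    IsLocallyConstructible (Points.ofPt φ ⁻¹' (Points.map f '' E)) := by
  refine .of_isOpenCover (TopologicalSpace.IsOpenCover.mk (iSup_affineOpens_eq_top U.left)) fun B => ?_
  change IsLocallyConstructible (B.1.ι ⁻¹' (Points.ofPt φ ⁻¹' (Points.map f '' E)))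
  let Bo : Over S := Over.mk (B.1.ι ≫ U.hom)
  let j : Bo ⟶ U := Over.homMk B.1.ι
  have hB : IsAffine Bo.left := B.2
  have hj : Etale j.left := inferInstanceAs (Etale B.1.ι)
  let b : (yon S).obj Bo ⟶ Y := (yon S).map j ≫ φ
  have hb : RepWith @Etale b := MorphismProperty.comp_mem _ _ _ ((repWith_yon_map_iff _ _).2 hj) hφ
  have e : (B.1.ι ⁻¹' (Points.ofPt φ ⁻¹' (Points.map f '' E))) = Points.ofPt b ⁻¹' (Points.map f '' E) := by
    ext z
    simp only [Set.mem_preimage, b, ofPt_map]
    rfl
  rw [e]
  have hP : IsAlgSpace (pullback f b) := isAlgSpace_pullback hY.diag hX (IsAlgSpace.yon_obj _) f b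
  have hqc : IsQuasiCompactSp (pullback f b) :=
    hq (IsAlgSpace.yon_obj _) (isQuasiCompactSp_yon_iff.2 (inferInstanceAs (CompactSpace Bo.left))) b _ _
      (IsPullback.of_hasPullback f b)
  have := compactSpace_points_of_isQuasiCompactSp hqc
  obtain ⟨W, w, hW, hw, hws⟩ := exists_affine_atlas hP
  obtain ⟨h, hh⟩ := (yon S).map_surjective (w ≫ pullback.snd f b)
  have he : RepWith @Etale (w ≫ pullback.fst f b) :=
    MorphismProperty.comp_mem _ _ _ hw (repWith_of_isPullback (IsPullback.of_hasPullback f b).flip hb)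
  have hl : LocallyOfFinitePresentation h.left := hfp (w ≫ pullback.fst f b) b h he hb
    (by rw [hh, Category.assoc, Category.assoc, pullback.condition])
  have key : Points.ofPt b ⁻¹' (Points.map f '' E) =
      h.left '' (Points.ofPt (w ≫ pullback.fst f b) ⁻¹' E) := by
    ext z
    constructor
    · rintro ⟨x, hx, hxz⟩
      obtain ⟨y, hy₁, hy₂⟩ := exists_point_of_isPullback (IsPullback.of_hasPullback f b) x
        (Points.ofScheme Bo z) (hxz.trans (Points.ofPt_eq_map_ofScheme b z))
      obtain ⟨v, rfl⟩ := surjective_ofPt_of_repWith le_rfl hws y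
      refine ⟨v, ?_, ?_⟩
      · show Points.ofPt (w ≫ pullback.fst f b) v ∈ E
        rw [← Points.map_ofPt, hy₁]
        exact hx
      · apply (Points.schemeEquiv Bo).injective
        refine Eq.trans ?_ hy₂
        rw [Points.map_ofPt, ← hh, ← Category.comp_id ((yon S).map h), ofPt_map]
        rw [Points.ofPt_eq_map_ofScheme, Points.map_id]; rfl
    · rintro ⟨v, hv, rfl⟩
      refine ⟨_, hv, ?_⟩
      rw [Points.map_ofPt, Category.assoc, pullback.condition, ← Category.assoc, ← hh, ofPt_map]
  rw [key]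
  exact h.left.isLocallyConstructible_image (hE W _ he)

end Groth.Agent.H12AlgSp
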