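import Groth.Agent.H13AlgSp.RedInduced
import Groth.Agent.H12AlgSp.SchImage

/-!
Limits of closed immersions are closed immersions.
-/

universe u

open CategoryTheory CategoryTheory.Limits AlgebraicGeometry Opposite
open AlgSp Groth.Agent.H13AlgSp Groth.Agent.H13Cartier
open Groth.Agent.H14AlgSt (comap_eq_bot_iff_factors)

set_option backward.isDefEq.respectTransparency false

namespace Groth.Agent.H12AlgSp

variable {S : Scheme.{u}}

/-- A natural transformation by closed immersions induces a closed immersion on limits. -/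
theorem repWith_closedImmersion_limMap {I : Type u} [SmallCategory I] (DX DY : I ⥤ Sp S) (τ : DX ⟶ DY)
    (hτ : ∀ i, RepWith @IsClosedImmersion (τ.app i)) (cX : Cone DX) (hcX : IsLimit cX) (cY : Cone DY)
    (g : cX.pt ⟶ cY.pt) (hg : ∀ i, g ≫ cY.π.app i = cX.π.app i ≫ τ.app i) (hcY : IsLimit cY) :
    RepWith @IsClosedImmersion g := by
  have hm : ∀ i, Mono (τ.app i) := fun i => mono_of_closedImmersion (hτ i)
  have : Mono g := ⟨fun a b e => hcX.hom_ext fun i => by
    rw [← cancel_mono (τ.app i), Category.assoc, Category.assoc, ← hg i, ← Category.assoc, e, Category.assoc]⟩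
  refine MorphismProperty.relative.of_exists fun T y => ?_
  choose P p fst sq using fun i => (hτ i).1 (y ≫ cY.π.app i)
  have hp : ∀ i, IsClosedImmersion (p i).left := fun i => (hτ i).2 _ _ _ (sq i)
  let J : T.left.IdealSheafData := ⨆ i, (p i).left.ker
  have key : ∀ i {A : Over S} (a : A ⟶ T), (p i).left.ker.comap a.left = ⊥ →
      ∃ l : (yon S).obj A ⟶ DX.obj i, l ≫ τ.app i = (yon S).map a ≫ y ≫ cY.π.app i := fun i {A} a h => by
    obtain ⟨k, hk⟩ := (comap_eq_bot_iff_factors _ a.left).1 h
    let m : A.left ⟶ (P i).left := k ≫ inv (p i).left.toImage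
    have hm : m ≫ (p i).left = a.left := by
      rw [Category.assoc]
      conv_rhs => rw [← hk]
      congr 1
      rw [IsIso.inv_comp_eq]
      exact ((p i).left.toImage_imageι).symm
    let m' : A ⟶ P i := Over.homMk m (by rw [← Over.w (p i), ← Category.assoc, hm]; exact Over.w a)
    refine ⟨(yon S).map m' ≫ fst i, ?_⟩
    rw [Category.assoc, (sq i).w, ← Category.assoc, ← Functor.map_comp,
      show m' ≫ p i = a from Over.OverMorphism.ext hm]
  have hJ : ∀ i, (p i).left.ker.comap (subIncl T J).left = ⊥ := fun i => by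
    refine le_bot_iff.1 ((Scheme.IdealSheafData.comap_mono _ (le_iSup (fun i => (p i).left.ker) i)).trans ?_)
    exact le_of_eq ((comap_eq_bot_iff_factors J _).2 ⟨𝟙 _, Category.id_comp _⟩)
  choose l hl using fun i => key i (subIncl T J) (hJ i)
  have hnat : ∀ i j (φ : i ⟶ j), l i ≫ DX.map φ = l j := fun i j φ => by
    rw [← cancel_mono (τ.app j), hl j, Category.assoc, τ.naturality φ, ← Category.assoc, hl i, Category.assoc,
      Category.assoc, cY.w φ]
  let c : Cone DX :=
    ⟨(yon S).obj (subOver T J), { app := l, naturality := fun i j φ => (Category.id_comp _).trans (hnat i j φ).symm }⟩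
  let q := hcX.lift c
  have hq : q ≫ g = (yon S).map (subIncl T J) ≫ y := hcY.hom_ext fun i => by
    rw [Category.assoc, hg, ← Category.assoc, hcX.fac c i]
    exact (hl i).trans (Category.assoc _ _ _).symm
  have : Mono (subIncl T J).left := inferInstanceAs (Mono J.subschemeι)
  have : Mono (subIncl T J) := (Over.forget S).mono_of_mono_map ‹_›
  refine ⟨subOver T J, q, subIncl T J, exists_isPullback_idealSub.isPullback_of_points hq fun A l' m e => ?_,
    inferInstanceAs (IsClosedImmersion J.subschemeι)⟩
  obtain ⟨m, rfl⟩ := (yon S).map_surjective m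
  have hker : J.comap m.left = ⊥ := by
    refine le_bot_iff.1 ((Scheme.IdealSheafData.map_gc m.left _ _).2 (iSup_le fun i => ?_))
    refine (Scheme.IdealSheafData.map_gc m.left _ _).1 (le_of_eq ?_)
    obtain ⟨n, hn⟩ := (yon S).map_surjective ((sq i).lift (l' ≫ cX.π.app i) ((yon S).map m) (by
      rw [Category.assoc, ← hg, ← Category.assoc, e, Category.assoc]))
    have hn' : n ≫ p i = m := (yon S).map_injective (by rw [Functor.map_comp, hn, (sq i).lift_snd])
    exact (comap_eq_bot_iff_factors _ m.left).2 ⟨n.left ≫ (p i).left.toImage, by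
      rw [Category.assoc]
      exact (congrArg (n.left ≫ ·) (p i).left.toImage_imageι).trans (congrArg Over.Hom.left hn')⟩
  obtain ⟨k, hk⟩ := (comap_eq_bot_iff_factors J m.left).1 hker
  let k' : A ⟶ subOver T J := Over.homMk k (by
    change k ≫ J.subschemeι ≫ T.hom = A.hom
    rw [← Category.assoc, hk, Over.w])
  exact ⟨k', by rw [← Functor.map_comp]; exact congrArg (yon S).map (Over.OverMorphism.ext hk)⟩

end Groth.Agent.H12AlgSp
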