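import Groth.Agent.H12AlgSp.DecentField
import Groth.Agent.H12AlgSp.GroupObj
import Groth.Agent.H12AlgSp.FppfBootstrap
import Groth.Agent.H13AlgSp.LocPDescent

/-!
Closed points of decent algebraic spaces.
-/

set_option linter.unusedVariables false
set_option backward.isDefEq.respectTransparency false

universe u

open CategoryTheory CategoryTheory.Limits AlgebraicGeometry Opposite Topology
open AlgSp Groth.Agent.H13AlgSp

namespace Groth.Agent.H12AlgSp

variable {S : Scheme.{u}} {X : Sp S}

/-- A field valued point of a decent space is quasi-compact. -/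
theorem repWith_qc_fieldPt (hX : IsAlgSpace X) (hd : IsDecent X) {k : Type u} [Field k]
    {str : Spec (CommRingCat.of k) ⟶ S} (p : (yon S).obj (Over.mk str) ⟶ X) : RepWith @QuasiCompact p := by
  let p' : FieldPt X := fieldPtOfHom p
  have hp' : p'.toHom = p := (J S).uliftYonedaEquiv.symm_apply_apply p
  obtain ⟨q, hq, hm, hqc⟩ := hd (Points.mk p')
  obtain ⟨c, hc, -⟩ := exists_factor_of_mk_eq hX q p' hm hq
  rw [← hp', ← hc]
  have hcq : QuasiCompact c.left := (quasiCompact_iff_compactSpace (Y := Spec (CommRingCat.of q.K)) c.left).2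
    (inferInstanceAs (CompactSpace (Spec (CommRingCat.of k))))
  exact repWith_comp ((repWith_yon_map_iff _ c).2 hcq) hqc

/-- A field valued point of a decent space over `T` which is integral over `T` has the same property. -/
theorem repWith_fieldPt_of_decent (P : MorphismProperty Scheme.{u}) [P.IsStableUnderBaseChange]
    [P.IsStableUnderComposition] [IsZariskiLocalAtTarget P] [P.DescendsAlong fppfMor.{u}]
    (hfin : (@IsFinite : MorphismProperty Scheme.{u}) ≤ P)
    (hcancel : ∀ {A B C : Scheme.{u}} (f : A ⟶ B) (g : B ⟶ C), IsSeparated g → P (f ≫ g) → P f)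
    (hX : IsAlgSpace X) (hd : IsDecent X) {k : Type u} [Field k] {str : Spec (CommRingCat.of k) ⟶ S}
    (p : (yon S).obj (Over.mk str) ⟶ X) {T : Over S} (f : X ⟶ (yon S).obj T) (c : Over.mk str ⟶ T)
    (hc : p ≫ f = (yon S).map c) (hP : P c.left) : RepWith P p := by
  have hqc := repWith_qc_fieldPt hX hd p
  obtain ⟨U, a, ha, has⟩ := hX.atlas
  obtain ⟨W, w, b', sq⟩ := hqc.rep a
  obtain ⟨b, rfl⟩ := (yon S).map_surjective b'
  have : QuasiCompact w.left := hqc.property a _ w sq
  let b₀ : W.left ⟶ Spec (CommRingCat.of k) := b.left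
  have : Etale b₀ := ha.property p _ b sq.flip
  obtain ⟨h, hh⟩ := (yon S).map_surjective (a ≫ f)
  have hcomm : b.left ≫ c.left = w.left ≫ h.left := by
    have : b ≫ c = w ≫ h := (yon S).map_injective (by
      rw [Functor.map_comp, Functor.map_comp, hh, ← hc, ← Category.assoc, sq.w, Category.assoc])
    rw [← Over.comp_left, this, Over.comp_left]
  let ι := {A : U.left.affineOpens // ∃ V : T.left.Opens, IsAffineOpen V ∧ A.1 ≤ h.left ⁻¹ᵁ V}
  refine repWith_of_fppf_base (Qc := fppfMor.{u}) hqc.1 (repWith_fppf_of_etale ha has) sq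
    ((repWith_yon_map_iff P w).2 ?_)
  refine IsZariskiLocalAtTarget.of_iSup_eq_top (P := P) (fun i : ι => i.1.1) (top_unique fun u _ => ?_) fun i => ?_
  · obtain ⟨V, hV, huV, -⟩ := TopologicalSpace.Opens.isBasis_iff_nbhd.mp T.left.isBasis_affineOpens
      (TopologicalSpace.Opens.mem_top (h.left u))
    obtain ⟨A, hA, huA, hle⟩ := TopologicalSpace.Opens.isBasis_iff_nbhd.mp U.left.isBasis_affineOpens
      (show u ∈ h.left ⁻¹ᵁ V from huV)
    exact TopologicalSpace.Opens.mem_iSup.2 ⟨⟨⟨A, hA⟩, V, hV, hle⟩, huA⟩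
  obtain ⟨⟨A, hA⟩, V, hV, hle⟩ := i
  change P (w.left ∣_ A)
  have : IsAffine A.toScheme := hA
  have : IsAffine V.toScheme := hV
  let hA' : A.toScheme ⟶ V.toScheme := h.left.resLE V A hle
  have hsep : IsSeparated (A.ι ≫ h.left) := by
    rw [← h.left.resLE_comp_ι hle]
    exact inferInstanceAs (IsSeparated (hA' ≫ V.ι))
  refine hcancel (w.left ∣_ A) (A.ι ≫ h.left) hsep ?_
  rw [← Category.assoc, morphismRestrict_ι, Category.assoc, ← hcomm, ← Category.assoc]
  refine P.comp_mem _ _ (hfin _ _ ((w.left ⁻¹ᵁ A).ι ≫ b₀) ?_) hP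
  let e := (w.left ⁻¹ᵁ A).ι ≫ b₀
  have : CompactSpace (w.left ⁻¹ᵁ A).toScheme :=
    isCompact_iff_compactSpace.1 (w.left.isCompact_preimage hA.isCompact)
  have : LocallyQuasiFinite e := lqf_of_etale e
  have : QuasiCompact e := (quasiCompact_iff_compactSpace e).2 inferInstance
  exact IsFinite.of_locallyQuasiFinite e

theorem repWith_finite_fieldPt (hX : IsAlgSpace X) (hd : IsDecent X) {k : Type u} [Field k]
    {str : Spec (CommRingCat.of k) ⟶ S} (p : (yon S).obj (Over.mk str) ⟶ X) {T : Over S}
    (f : X ⟶ (yon S).obj T) (c : Over.mk str ⟶ T) (hc : p ≫ f = (yon S).map c) (hf : IsFinite c.left) :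
    RepWith @IsFinite p ∧ (Mono c → RepWith @IsClosedImmersion p) := by
  have h := repWith_fieldPt_of_decent @IsFinite le_rfl
    (fun f g hg hfg => IsFinite.of_comp f g) hX hd p f c hc hf
  refine ⟨h, fun hm => ⟨h.1, fun A V g fst snd sq => ?_⟩⟩
  have : Mono ((yon S).map c) := (yon S).map_mono c
  have : Mono (p ≫ f) := by rw [hc]; infer_instance
  have : Mono p := mono_of_mono p f
  have : Mono ((yon S).map snd) := mono_of_sq sq.flip
  have : Mono snd := (yon S).mono_of_mono_map ‹_›
  have : Mono snd.left := (Over.forget S).map_mono snd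
  exact (IsClosedImmersion.iff_isFinite_and_mono _).2 ⟨h.property g fst snd sq, inferInstance⟩

theorem isClosed_point_of_integral (hX : IsAlgSpace X) (hd : IsDecent X) {k : Type u} [Field k]
    {str : Spec (CommRingCat.of k) ⟶ S} (p : (yon S).obj (Over.mk str) ⟶ X) {T : Over S}
    (f : X ⟶ (yon S).obj T) (c : Over.mk str ⟶ T) (hc : p ≫ f = (yon S).map c) (hi : IsIntegralHom c.left)
    (t : Spec (CommRingCat.of k)) : IsClosed ({Points.ofPt p t} : Set (Points X)) := by
  have h := repWith_fieldPt_of_decent @IsIntegralHom (fun _ _ g (_ : IsFinite g) => inferInstance)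
    (fun f g hg hfg => IsIntegralHom.of_comp f g) hX hd p f c hc hi
  have hs : ({Points.ofPt p t} : Set (Points X)) = Set.range (Points.map p) := by
    ext y
    constructor
    · rintro rfl
      exact ⟨_, (Points.ofPt_eq_map_ofScheme p t).symm⟩
    · rintro ⟨z, rfl⟩
      obtain ⟨t', rfl⟩ := (Points.schemeEquiv (Over.mk str)).surjective z
      change Points.map p (Points.ofScheme (Over.mk str) t') = _
      rw [← Points.ofPt_eq_map_ofScheme, Subsingleton.elim (α := ↥(Spec (CommRingCat.of k))) t' t]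
  rw [hs, isClosed_iff_ofPt]
  intro A g
  obtain ⟨V, snd, fst, sq⟩ := h.rep g
  rw [preimage_ofPt_range sq]
  have : IsIntegralHom snd.left := h.property g fst snd sq
  exact snd.left.isClosedMap.isClosed_range

/-- The terminal structure map, as a morphism to the representable sheaf of the base. -/
theorem exists_toBase_comp {A : Over S} (p : (yon S).obj A ⟶ X) :
    ∃ (f : X ⟶ (yon S).obj (Over.mk (𝟙 S))) (c : A ⟶ Over.mk (𝟙 S)),
      p ≫ f = (yon S).map c ∧ c.left = A.hom := by
  have ht : IsTerminal ((yon S).obj (Over.mk (𝟙 S))) := IsTerminal.isTerminalObj (yon S) _ Over.mkIdTerminal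
  exact ⟨ht.from X, Over.mkIdTerminal.from A, ht.hom_ext _ _,
    (Category.comp_id _).symm.trans (Over.w (Over.mkIdTerminal.from A))⟩

theorem isClosedImmersion_SpecMap_fromSpecResidueField {s : S} (hs : IsClosed ({s} : Set S)) :
    IsClosedImmersion (S.fromSpecResidueField s) := by
  refine IsClosedImmersion.of_isPreimmersion _ ?_
  rwa [Scheme.range_fromSpecResidueField]

/-- Rational points of decent spaces over a field are closed immersions. -/
theorem repWith_closedImmersion_section {k : Type u} [Field k] (hX : IsAlgSpace X) (hd : IsDecent X)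
    {str : Spec (CommRingCat.of k) ⟶ S} (p : (yon S).obj (Over.mk str) ⟶ X) (f : X ⟶ (yon S).obj (Over.mk str))
    (hpf : p ≫ f = 𝟙 _) : RepWith @IsClosedImmersion p :=
  (repWith_finite_fieldPt hX hd p f (𝟙 _) (by rw [hpf, CategoryTheory.Functor.map_id])
    (inferInstanceAs (IsFinite (𝟙 (Spec (CommRingCat.of k)))))).2 inferInstance

end Groth.Agent.H12AlgSp
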