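import Groth.Agent.H12AlgSp.AffineLimit
import Groth.Agent.H12AlgSp.DecentClosed
import Groth.Agent.H12AlgSp.AffineMor
import Groth.Agent.H13AlgSp.DecentCriteria
import Mathlib.Algebra.Category.Ring.FilteredColimits

/-!
Points of limits of decent spaces with affine transition maps.
-/

universe u

open CategoryTheory CategoryTheory.Limits AlgebraicGeometry Opposite Topology
open AlgSp Groth.Agent.H13AlgSp

set_option backward.isDefEq.respectTransparency false

namespace Groth.Agent.H12AlgSp

variable {S : Scheme.{u}}

/-- A filtered colimit of fields is a field. -/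
theorem isField_colimit {J : Type u} [SmallCategory J] [IsFiltered J] (F : J ⥤ CommRingCat.{u})
    (hF : ∀ j, IsField (F.obj j)) (c : Cocone F) (hc : IsColimit c) : IsField c.pt := by
  have hrep : ∀ a : c.pt, ∃ j b, c.ι.app j b = a := fun a =>
    Types.jointly_surjective_of_isColimit (isColimitOfPreserves (forget CommRingCat) hc) a
  refine ⟨⟨0, 1, fun h => ?_⟩, mul_comm, fun {a} ha => ?_⟩
  · let j : J := IsFiltered.nonempty.some
    have h' : c.ι.app j (0 : F.obj j) = c.ι.app j 1 := by rw [map_zero, map_one]; exact h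
    obtain ⟨k, f, g, he⟩ := (Types.FilteredColimit.isColimit_eq_iff (F ⋙ forget CommRingCat)
      (isColimitOfPreserves (forget CommRingCat) hc)).1 h'
    let _ := (hF k).toField
    have he' : F.map f 0 = F.map g 1 := he
    rw [map_zero, map_one] at he'
    exact zero_ne_one he'
  · obtain ⟨j, b, rfl⟩ := hrep a
    obtain ⟨b', hb'⟩ := (hF j).mul_inv_cancel (a := b) (fun h0 => ha (by rw [h0, map_zero]))
    exact ⟨c.ι.app j b', by rw [← map_mul (c.ι.app j).hom, hb', map_one (c.ι.app j).hom]⟩

variable {I : Type u} [SmallCategory I] [IsCofiltered I] {D : I ⥤ Sp S}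
  (hD : ∀ i, IsAlgSpace (D.obj i)) {c : Cone D} (hc : IsLimit c)

include hD hc in
/-- Compatible families of points of decent spaces come from points of the limit. -/
theorem exists_point_limit (hdec : ∀ i, IsDecent (D.obj i)) (s : ∀ i, Points (D.obj i))
    (hs : ∀ (i j : I) (φ : i ⟶ j), Points.map (D.map φ) (s i) = s j) :
    ∃ x : Points c.pt, ∀ i, Points.map (c.π.app i) x = s i := by
  choose q hq hm _ using fun i => hdec i (s i)
  have hmap : ∀ {i j : I} (φ : i ⟶ j), ∃ d : (q i).pt ⟶ (q j).pt,
      (yon S).map d ≫ (q j).toHom = (q i).toHom ≫ D.map φ := fun {i j} φ => by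
    obtain ⟨d, hd, -⟩ := exists_factor_of_mk_eq (hD j) (q j) ((q i).map (D.map φ)) (hm j) (by
      rw [hq, ← Points.map_mk, hq]; exact (hs i j φ).symm)
    exact ⟨d, hd.trans (FieldPt.toHom_map _ _)⟩
  choose d hd using @hmap
  have huniq : ∀ {A : Over S} {j : I} (a b : A ⟶ (q j).pt),
      (yon S).map a ≫ (q j).toHom = (yon S).map b ≫ (q j).toHom → a = b := fun {A j} a b e =>
    have := hm j
    (yon S).map_injective ((cancel_mono _).1 e)
  let P : I ⥤ Over S :=
    { obj := fun i => (q i).pt
      map := fun φ => d φ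
      map_id := fun i => huniq _ _ (by
        rw [hd, D.map_id, Category.comp_id, CategoryTheory.Functor.map_id, Category.id_comp])
      map_comp := fun φ ψ => huniq _ _ (by
        rw [hd, D.map_comp, Functor.map_comp, Category.assoc, hd, ← Category.assoc, ← Category.assoc, hd]) }
  let K : Iᵒᵖ ⥤ CommRingCat.{u} :=
    { obj := fun i => CommRingCat.of (q i.unop).K
      map := fun {i j} φ => Spec.preimage (d φ.unop).left
      map_id := fun i => Spec.map_injective (by
        rw [Spec.map_preimage, Spec.map_id]
        exact congrArg (fun f => Over.Hom.left f) (P.map_id i.unop))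
      map_comp := fun φ ψ => Spec.map_injective (by
        rw [Spec.map_preimage, Spec.map_comp, Spec.map_preimage, Spec.map_preimage]
        exact congrArg (fun f => Over.Hom.left f) (P.map_comp ψ.unop φ.unop)) }
  let cK := colimit.cocone K
  have hfield : IsField cK.pt :=
    isField_colimit K (fun i => Field.toIsField (q i.unop).K) cK (colimit.isColimit K)
  let _ : Field cK.pt := hfield.toField
  have hd' : ∀ {i j : I} (φ : i ⟶ j), Spec.map (cK.ι.app (op i)) ≫ (d φ).left = Spec.map (cK.ι.app (op j)) := by
    intro i j φ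
    rw [← cK.w φ.op, Spec.map_comp]
    exact congrArg (Spec.map (cK.ι.app (op i)) ≫ ·) (Spec.map_preimage _).symm
  let i₀ : I := IsCofiltered.nonempty.some
  let str : Spec (CommRingCat.of cK.pt) ⟶ S := Spec.map (cK.ι.app (op i₀)) ≫ (q i₀).str
  have hstr : ∀ i, Spec.map (cK.ι.app (op i)) ≫ (q i).str = str := fun i => by
    obtain ⟨m, a, b, -⟩ := IsCofilteredOrEmpty.cone_objs i i₀
    have ha : (d a).left ≫ (q i).str = (q m).str := Over.w (d a)
    have hb : (d b).left ≫ (q i₀).str = (q m).str := Over.w (d b)
    show _ = Spec.map (cK.ι.app (op i₀)) ≫ (q i₀).str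
    rw [← hd' a, ← hd' b, Category.assoc, Category.assoc, ha, hb]
  let e : ∀ i, Over.mk str ⟶ (q i).pt := fun i => Over.homMk (Spec.map (cK.ι.app (op i))) (hstr i)
  have he : ∀ (i j : I) (φ : i ⟶ j), ((yon S).map (e i) ≫ (q i).toHom) ≫ D.map φ =
      (yon S).map (e j) ≫ (q j).toHom := fun i j φ => by
    rw [Category.assoc, ← hd φ, ← Category.assoc, ← Functor.map_comp,
      show e i ≫ d φ = e j from Over.OverMorphism.ext (hd' φ)]
  let cc : Cone D := ⟨(yon S).obj (Over.mk str),
    { app := fun i => (yon S).map (e i) ≫ (q i).toHom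
      naturality := fun i j φ => (Category.id_comp _).trans (he i j φ).symm }⟩
  refine ⟨Points.ofPt (hc.lift cc) (IsLocalRing.closedPoint cK.pt), fun i => ?_⟩
  rw [Points.map_ofPt, hc.fac]
  exact (ofPt_map (e i) (q i).toHom _).trans ((Points.ofPt_toHom (q i) _).trans (hq i))

include hD hc in
/-- The projections separate the points of a limit of decent spaces with affine transition maps. -/
theorem points_eq_of_proj_eq (hDa : ∀ (i j : I) (φ : i ⟶ j), IsAffineMor (D.map φ))
    (hdec : ∀ i, IsDecent (D.obj i)) (x x' : Points c.pt)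
    (h : ∀ i, Points.map (c.π.app i) x = Points.map (c.π.app i) x') : x = x' := by
  induction x using Points.ind with | h p =>
  induction x' using Points.ind with | h p' =>
  let i : I := IsCofiltered.nonempty.some
  let a : ∀ j, (yon S).obj p.pt ⟶ D.obj j := fun j => p.toHom ≫ c.π.app j
  let b : ∀ j, (yon S).obj p'.pt ⟶ D.obj j := fun j => p'.toHom ≫ c.π.app j
  choose F g f sq using fun j : Over i => ((hD j.left).representable_from_yon (a j.left) (b j.left))
  have hne : ∀ j, Nonempty (F j).left := fun j => by
    obtain ⟨z, -, -⟩ := exists_point_of_isPullback (sq j)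
      (Points.ofScheme p.pt (IsLocalRing.closedPoint p.K)) (Points.ofScheme p'.pt (IsLocalRing.closedPoint p'.K))
      (by
        rw [← Points.ofPt_eq_map_ofScheme, ← Points.ofPt_eq_map_ofScheme, ← Points.map_ofPt, ← Points.map_ofPt,
          Points.ofPt_toHom, Points.ofPt_toHom, h])
    exact ⟨(Points.schemeEquiv _).symm z⟩
  let i₀ : Over i := Over.mk (𝟙 i)
  have htr : ∀ j : Over i, ∃ m : F j ⟶ F i₀,
      IsClosedImmersion m.left ∧ (yon S).map m ≫ f i₀ = f j ∧ m ≫ g i₀ = g j := fun j => by
    have hsep : RepWith @IsClosedImmersion (pullback.diagonal (D.map j.hom)) :=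
      isSeparatedMor_of_repWith (repWith_le (fun _ _ k (_ : IsAffineHom k) => inferInstanceAs (IsSeparated k))
        (isAffineMor_iff.1 (hDa _ _ j.hom)))
    have sqd := repWith_of_isPullback (pullback_map_diagonal_isPullback (a j.left) (b j.left) (D.map j.hom)) hsep
    have hai : a j.left ≫ D.map j.hom = a i := by simp only [a, Category.assoc, c.w]
    have hbi : b j.left ≫ D.map j.hom = b i := by simp only [b, Category.assoc, c.w]
    have sqi : IsPullback (f i₀) ((yon S).map (g i₀)) (a j.left ≫ D.map j.hom) (b j.left ≫ D.map j.hom) := by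
      rw [hai, hbi]; exact sq i₀
    obtain ⟨m, hm⟩ := (yon S).map_surjective
      ((sq j).isoPullback.hom ≫
        pullback.map (a j.left) (b j.left) (a j.left ≫ D.map j.hom) (b j.left ≫ D.map j.hom) _ _ (D.map j.hom)
          (Category.id_comp _).symm (Category.id_comp _).symm ≫ sqi.isoPullback.inv)
    refine ⟨m, ?_, ?_, ?_⟩
    · have hrep : RepWith @IsClosedImmersion ((yon S).map m) := by
        rw [hm]
        exact repWith_comp (repWith_of_isIso _) (repWith_comp sqd (repWith_of_isIso _))
      exact (repWith_yon_map_iff _ _).1 hrep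
    · rw [hm, Category.assoc, Category.assoc, IsPullback.isoPullback_inv_fst, pullback.lift_fst,
        Category.comp_id, IsPullback.isoPullback_hom_fst]
    · apply (yon S).map_injective
      rw [Functor.map_comp, hm, Category.assoc, Category.assoc, IsPullback.isoPullback_inv_snd, pullback.lift_snd,
        Category.comp_id, IsPullback.isoPullback_hom_snd]
  choose m hmc hmf hmg using htr
  have hqc : QuasiCompact (g i₀).left :=
    (repWith_qc_fieldPt (hD _) (hdec _) (a i₀.left)).2 _ _ _ (sq i₀)
  have : CompactSpace (p'.pt).left := inferInstanceAs (CompactSpace (Spec (CommRingCat.of p'.K)))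
  have : CompactSpace (F i₀).left := QuasiCompact.compactSpace_of_compactSpace (g i₀).left
  have hext : ∀ (j : Over i) {A : Over S} (u v : A ⟶ F j), (yon S).map u ≫ f j = (yon S).map v ≫ f j →
      u ≫ g j = v ≫ g j → u = v := fun j A u v e₁ e₂ =>
    (yon S).map_injective ((sq j).hom_ext e₁ (by rw [← Functor.map_comp, ← Functor.map_comp, e₂]))
  have hdir : Directed (· ⊇ ·) fun j : Over i => Set.range (m j).left := by
    intro j k
    obtain ⟨l, u, v, -⟩ := IsCofilteredOrEmpty.cone_objs j k
    have key : ∀ {j l : Over i} (u : l ⟶ j), Set.range (m l).left ⊆ Set.range (m j).left := fun {j l} u => by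
      obtain ⟨n, hn⟩ := (yon S).map_surjective ((sq j).lift (f l) ((yon S).map (g l)) (by
        have e := (sq l).w =≫ D.map u.left
        simp only [a, b, Category.assoc, c.w] at e
        exact e))
      have e : n ≫ m j = m l := by
        apply hext
        · rw [Functor.map_comp, Category.assoc, hmf, hmf, hn, (sq j).lift_fst]
        · apply (yon S).map_injective
          rw [Category.assoc, hmg, hmg, Functor.map_comp, hn, (sq j).lift_snd]
      rintro _ ⟨z, rfl⟩
      exact ⟨n.left z, by rw [← e]; rfl⟩
    exact ⟨l, key u, key v⟩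
  have : Nonempty (Over i) := ⟨i₀⟩
  obtain ⟨r, hr⟩ := IsCompact.nonempty_iInter_of_directed_nonempty_isCompact_isClosed _ hdir
    (fun j => Set.range_nonempty _) (fun j => (hmc j).isClosedEmbedding.isClosed_range.isCompact)
    (fun j => (hmc j).isClosedEmbedding.isClosed_range)
  rw [Set.mem_iInter] at hr
  let ir : Over.mk ((F i₀).left.fromSpecResidueField r ≫ (F i₀).hom) ⟶ F i₀ :=
    Over.homMk ((F i₀).left.fromSpecResidueField r) rfl
  have hfac : ∀ j, ∃ n : _ ⟶ F j, n ≫ m j = ir := fun j => by
    obtain ⟨z, hz⟩ := hr j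
    obtain ⟨w, -, -⟩ := Scheme.Pullback.exists_preimage_pullback (f := ir.left) (g := (m j).left)
      (IsLocalRing.closedPoint _) z ((Scheme.fromSpecResidueField_apply r _).trans hz.symm)
    have : Nonempty ↥(pullback ir.left (m j).left) := ⟨w⟩
    have := hmc j
    let pk : pullback ir.left (m j).left ⟶ Spec (CommRingCat.of ((F i₀).left.residueField r)) :=
      pullback.fst ir.left (m j).left
    have : Mono pk := inferInstanceAs (Mono (pullback.fst ir.left (m j).left))
    have : IsIso pk := isIso_of_mono_nonempty pk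
    let n : Spec (CommRingCat.of ((F i₀).left.residueField r)) ⟶ (F j).left := inv pk ≫ pullback.snd _ _
    have hn : n ≫ (m j).left = (F i₀).left.fromSpecResidueField r := by
      change (inv pk ≫ pullback.snd _ _) ≫ (m j).left = ir.left
      rw [Category.assoc, ← pullback.condition]
      exact IsIso.inv_hom_id_assoc pk _
    refine ⟨Over.homMk n ?_, Over.OverMorphism.ext hn⟩
    change n ≫ (F j).hom = (F i₀).left.fromSpecResidueField r ≫ (F i₀).hom
    rw [← hn]
    exact ((Category.assoc _ _ _).trans (congrArg (n ≫ ·) (Over.w (m j)))).symm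
  choose n hn using hfac
  obtain ⟨u₁, hu₁⟩ := (yon S).map_surjective ((yon S).map ir ≫ f i₀)
  refine Points.sound (rel_iff_toHom.2
    ⟨(F i₀).left.residueField r, inferInstance, _, u₁, ir ≫ g i₀, hc.hom_ext fun j => ?_⟩)
  obtain ⟨l, α, β, -⟩ := IsCofilteredOrEmpty.cone_objs i j
  have e := (yon S).map (n (Over.mk α)) ≫= (sq (Over.mk α)).w =≫ D.map β
  simp only [a, b, Category.assoc, c.w] at e
  rw [hu₁, ← hn (Over.mk α), Category.assoc (n _), hmg, Functor.map_comp, Functor.map_comp, Category.assoc,
    Category.assoc, Category.assoc, ← Category.assoc ((yon S).map (m _)), hmf, e]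
  simp only [Category.assoc]

end Groth.Agent.H12AlgSp
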