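import Groth.Agent.H12AlgSp.AffineLimit
import Groth.Agent.H12AlgSp.SchImageApps
import Groth.Agent.H12AlgSp.Charts
import Groth.Agent.S10222

/-!
A limit of reduced spaces with affine transition maps is reduced.
-/

universe u

open CategoryTheory CategoryTheory.Limits AlgebraicGeometry Opposite
open AlgSp Groth.Agent.H13AlgSp

set_option backward.isDefEq.respectTransparency false

attribute [local instance] CategoryTheory.isConnected_of_hasTerminal

namespace Groth.Agent.H12AlgSp

variable {S : Scheme.{u}}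

/-- A cofiltered limit of reduced affine schemes is reduced. -/
theorem isReduced_limit_affine {J : Type u} [SmallCategory J] [IsCofiltered J] (D : J ⥤ Scheme.{u})
    (c : Cone D) (hc : IsLimit c) [∀ j, IsAffine (D.obj j)] [IsAffine c.pt] [∀ j, IsReduced (D.obj j)] :
    IsReduced c.pt := by
  have : _root_.IsReduced Γ(c.pt, ⊤) := ⟨fun a ⟨n, hn⟩ => by
    obtain ⟨j, b, rfl⟩ := exists_appTop_π_eq_of_isAffine_of_isLimit D c hc a
    rw [← map_pow (c.π.app j).appTop.hom] at hn
    obtain ⟨k, φ, hk⟩ := exists_appTop_map_eq_zero_of_isAffine_of_isLimit D c hc j (b ^ n) hn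
    rw [map_pow (D.map φ).appTop.hom] at hk
    have h0 : (D.map φ).appTop b = 0 := (IsReduced.eq_zero _ ⟨n, hk⟩)
    rw [← c.w φ, Scheme.Hom.comp_appTop, CommRingCat.comp_apply, h0, map_zero]⟩
  exact isReduced_of_isAffine_isReduced _

theorem isReducedSp_limit {I : Type u} [SmallCategory I] [IsCofiltered I] {D : I ⥤ Sp S}
    (hD : ∀ i, IsAlgSpace (D.obj i)) (hDa : ∀ (i j : I) (φ : i ⟶ j), IsAffineMor (D.map φ))
    {c : Cone D} (hc : IsLimit c) (hred : ∀ i, IsReducedSp (D.obj i)) : IsReducedSp c.pt := by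
  obtain ⟨hX, -⟩ := isAlgSpace_limit_and_affine hDa hc hD
  refine (Groth.Agent.S10222.result ⟨c.pt, hX⟩).2 fun x => ?_
  let i : I := IsCofiltered.nonempty.some
  obtain ⟨ι, T, a, hT, ha, -, hcov⟩ := exists_affine_family_over (hD i)
  obtain ⟨k, z, hz⟩ := hcov (Points.map (c.π.app i) x)
  obtain ⟨K, cK, hcK, w, fst, f, p, sq, haff, -, -, hK⟩ := exists_pullback_proj_data hDa hc i (hT k) (a k)
  have hfst : RepWith @Etale fst := repWith_of_isPullback sq.flip (ha k)
  obtain ⟨v, hv₁, -⟩ := exists_point_of_isPullback sq x (Points.ofScheme (T k) z)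
    ((Points.ofPt_eq_map_ofScheme (a k) z).symm.trans hz).symm
  obtain ⟨v, rfl⟩ := (Points.schemeEquiv cK.pt).surjective v
  have : ∀ j, IsReduced ((K ⋙ Over.forget S).obj j) := fun j =>
    isReduced_of_chart (hD j.left) (hred j.left) (b := f j) (repWith_of_isPullback (hK j).2.flip (ha k))
  have : ∀ j, IsAffine ((K ⋙ Over.forget S).obj j) := fun j => (hK j).1
  have : IsAffine ((Over.forget S).mapCone cK).pt := haff
  have hlim : IsLimit ((Over.forget S).mapCone cK) := isLimitOfPreserves _ hcK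
  have : IsReduced cK.pt.left := isReduced_limit_affine _ _ hlim
  exact ⟨cK.pt, fst, v, hfst, (Points.ofPt_eq_map_ofScheme fst v).trans hv₁, inferInstance⟩

end Groth.Agent.H12AlgSp
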