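import Groth.Agent.H12AlgSp.TopologyLimit
import Groth.Agent.H12AlgSp.ClosedLimit
import Groth.Agent.H12AlgSp.ReducedLimit
import Groth.Agent.H12AlgSp.PointsLimit
import Groth.Agent.H12AlgSp.OpenScheme
import Groth.Agent.H12AlgSp.DecentLocal
import Groth.Prelude.Def_AlgSpSub

/-!
Closures of points in limits of decent spaces.
-/

universe u

open CategoryTheory CategoryTheory.Limits AlgebraicGeometry Opposite Topology
open AlgSp Groth.Agent.H13AlgSp

set_option backward.isDefEq.respectTransparency false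

namespace Groth.Agent.H12AlgSp

variable {S : Scheme.{u}} {I : Type u} [SmallCategory I] [IsCofiltered I] {D : I ⥤ Sp S}

theorem mem_closure_limit_iff (hD : ∀ i, IsAlgSpace (D.obj i))
    (hDa : ∀ (i j : I) (φ : i ⟶ j), IsAffineMor (D.map φ)) {c : Cone D} (hc : IsLimit c) (x x' : Points c.pt) :
    x' ∈ closure {x} ↔ ∀ i, Points.map (c.π.app i) x' ∈ closure {Points.map (c.π.app i) x} := by
  refine ⟨fun h i => specializes_iff_mem_closure.1 ((specializes_iff_mem_closure.2 h).map (Points.continuous_map _)),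
    fun h => specializes_iff_mem_closure.1 ?_⟩
  show nhds x ≤ nhds x'
  rw [topology_limit hD hDa hc, nhds_iInf, nhds_iInf]
  refine le_iInf fun i => (iInf_le _ i).trans ?_
  rw [nhds_induced, nhds_induced]
  exact Filter.comap_mono (specializes_iff_mem_closure.2 (h i))

/-- Two reduced closed subspaces with the same points coincide. -/
theorem exists_iso_of_isRedInduced {X Z Z' : Sp S} {T : Set (Points X)} {i : Z ⟶ X} {i' : Z' ⟶ X}
    (h : IsRedInduced T i) (h' : IsRedInduced T i') : ∃ e : Z ≅ Z', e.hom ≫ i' = i := by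
  obtain ⟨g, hg⟩ := exists_factor_closed h'.1 h.2.2 i (by rw [h.2.1, h'.2.1])
  obtain ⟨g', hg'⟩ := exists_factor_closed h.1 h'.2.2 i' (by rw [h.2.1, h'.2.1])
  have := mono_of_closedImmersion h.1
  have := mono_of_closedImmersion h'.1
  exact ⟨⟨g, g', by rw [← cancel_mono i, Category.assoc, hg', hg, Category.id_comp],
    by rw [← cancel_mono i', Category.assoc, hg, hg', Category.id_comp]⟩, hg⟩

/-- A system of closed subspaces of a system with affine transition maps has affine transition maps. -/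
theorem isAffineMor_closedSub {DZ : I ⥤ Sp S} (τ : DZ ⟶ D) (hτ : ∀ i, RepWith @IsClosedImmersion (τ.app i))
    (hDa : ∀ (i j : I) (φ : i ⟶ j), IsAffineMor (D.map φ)) (i j : I) (φ : i ⟶ j) : IsAffineMor (DZ.map φ) := by
  have hcomp : RepWith @IsAffineHom (DZ.map φ ≫ τ.app j) := by
    rw [τ.naturality φ]
    exact repWith_comp (repWith_le (fun _ _ k (_ : IsClosedImmersion k) => inferInstanceAs (IsAffineHom k)) (hτ i))
      (isAffineMor_iff.1 (hDa i j φ))
  refine isAffineMor_iff.2 (repWith_of_comp _ (τ.app j) ?_ hcomp)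
  have := mono_of_closedImmersion (hτ j)
  exact repWith_of_isIso _

theorem isLimit_closure_point (hD : ∀ i, IsAlgSpace (D.obj i))
    (hDa : ∀ (i j : I) (φ : i ⟶ j), IsAffineMor (D.map φ)) {c : Cone D} (hc : IsLimit c)
    (hdec : ∀ i, IsDecent (D.obj i)) (x : Points c.pt) {Z : Sp S} (zι : Z ⟶ c.pt)
    (hz : IsRedInduced (closure {x}) zι) (DZ : I ⥤ Sp S) (hDZ : ∀ i, IsAlgSpace (DZ.obj i)) (τ : DZ ⟶ D)
    (hτ : ∀ i, IsRedInduced (closure {Points.map (c.π.app i) x}) (τ.app i))
    (ξ : (Functor.const I).obj Z ⟶ DZ) (hξ : ∀ i, ξ.app i ≫ τ.app i = zι ≫ c.π.app i) :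
    Nonempty (IsLimit (Cone.mk Z ξ)) := by
  let cZ := limit.cone DZ
  let hcZ : IsLimit cZ := limit.isLimit DZ
  let g : cZ.pt ⟶ c.pt := hc.lift ((Cone.postcompose τ).obj cZ)
  have hg : ∀ i, g ≫ c.π.app i = cZ.π.app i ≫ τ.app i := fun i => hc.fac _ i
  have hcl := repWith_closedImmersion_limMap DZ D τ (fun i => (hτ i).1) cZ hcZ c g hg hc
  have hDZa := isAffineMor_closedSub τ (fun i => (hτ i).1) hDa
  have hred : IsReducedSp cZ.pt := isReducedSp_limit hDZ hDZa hcZ fun i => (hτ i).2.2
  have hdecZ : ∀ i, IsDecent (DZ.obj i) := fun i => isDecent_of_representable_mor (hτ i).1.1 (hdec i)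
  have hr : Set.range (Points.map g) = closure {x} := by
    ext x'
    rw [mem_closure_limit_iff hD hDa hc]
    constructor
    · rintro ⟨z, rfl⟩ i
      rw [← (hτ i).2.1, ← Points.map_comp, hg]
      exact ⟨Points.map (cZ.π.app i) z, (Points.map_comp _ _ _).symm⟩
    · intro h
      choose s hs using fun i => (show Points.map (c.π.app i) x' ∈ Set.range (Points.map (τ.app i)) by
        rw [(hτ i).2.1]; exact h i)
      have hscompat : ∀ (i j : I) (φ : i ⟶ j), Points.map (DZ.map φ) (s i) = s j := fun i j φ => by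
        have := mono_of_closedImmersion (hτ j).1
        refine injective_map_of_mono (τ.app j) ?_
        rw [← Points.map_comp, τ.naturality φ, Points.map_comp, hs i, hs j, ← Points.map_comp, c.w]
      obtain ⟨z, hz'⟩ := exists_point_limit hDZ hcZ hdecZ s hscompat
      refine ⟨z, points_eq_of_proj_eq hD hc hDa hdec _ _ fun i => ?_⟩
      rw [← Points.map_comp, hg, Points.map_comp, hz', hs]
  obtain ⟨e, he⟩ := exists_iso_of_isRedInduced hz ⟨hcl, hr, hred⟩
  refine ⟨hcZ.ofIsoLimit (Cone.ext e.symm fun i => ?_)⟩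
  have := mono_of_closedImmersion (hτ i).1
  rw [← cancel_mono (τ.app i)]
  change cZ.π.app i ≫ τ.app i = (e.inv ≫ ξ.app i) ≫ τ.app i
  rw [Category.assoc, hξ, ← hg, ← Category.assoc, ← he, Iso.inv_hom_id_assoc]

end Groth.Agent.H12AlgSp
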