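import Groth.Agent.H12AlgSp.OpenSub
import Groth.Agent.H12AlgSp.RepMisc
import Mathlib.CategoryTheory.Sites.Subsheaf
import Mathlib.CategoryTheory.Sites.LocallySurjective
import Mathlib.CategoryTheory.Limits.Types.Coproducts

/-!
Coproducts of fppf sheaves: injections are open and closed immersions.
-/

universe u

open CategoryTheory CategoryTheory.Limits AlgebraicGeometry Opposite Topology
open AlgSp Groth.Agent.H13AlgSp

namespace Groth.Agent.H12AlgSp.Coprod

variable {S : Scheme.{u}} {ι : Type u} {F : ι → Sp S} {c : Cofan F}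

theorem sep (G : Sp S) {U : Over S} (R : Sieve U) (hR : R ∈ J S U) {s t : G.obj.obj (op U)}
    (h : ∀ ⦃V : Over S⦄ (f : V ⟶ U), R f → G.obj.map f.op s = G.obj.map f.op t) : s = t :=
  (((isSheaf_iff_isSheaf_of_type _ _).1 G.property) R hR).isSeparatedFor.ext h

theorem isEmpty_of_bot_mem {U : Over S} (h : (⊥ : Sieve U) ∈ J S U) : IsEmpty U.left := by
  obtain ⟨κ, C, c, -, -, hc, hb⟩ := exists_cover_of_mem_J h
  exact ⟨fun a => (hb (hc a).choose).elim⟩

/-- The coproduct of sheaves receives the coproduct of presheaves by a locally injective map. -/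
theorem inj_app_eq (hc : IsColimit c) :
    ∃ (d : Cofan (fun i => (F i).obj)) (_ : IsColimit d) (η : d.pt ⟶ c.pt.obj),
      Presheaf.IsLocallyInjective (J S) η ∧ ∀ i, d.inj i ≫ η = (c.inj i).hom := by
  let d : Cofan (fun i => (F i).obj) := Cofan.mk _ (Sigma.ι (fun i => (F i).obj))
  have hd : IsColimit d := coproductIsCoproduct _
  let adj := sheafificationAdjunction (J S) (Type (u + 1))
  let T : Sp S := (presheafToSheaf (J S) (Type (u + 1))).obj d.pt
  let t : ∀ i, F i ⟶ T := fun i => ⟨d.inj i ≫ adj.unit.app d.pt⟩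
  let η : d.pt ⟶ c.pt.obj := Cofan.IsColimit.desc hd fun i => (c.inj i).hom
  let ψ : c.pt ⟶ T := Cofan.IsColimit.desc hc t
  have hψ : η ≫ ψ.hom = adj.unit.app d.pt := Cofan.IsColimit.hom_ext hd _ _ fun i => by
    rw [← Category.assoc, Cofan.IsColimit.fac]
    exact congrArg (fun φ : F i ⟶ T => φ.hom) (Cofan.IsColimit.fac hc t i)
  refine ⟨d, hd, η, ?_, fun i => Cofan.IsColimit.fac hd _ i⟩
  have : Presheaf.IsLocallyInjective (J S) (η ≫ ψ.hom) := by
    rw [hψ]
    exact inferInstanceAs (Presheaf.IsLocallyInjective (J S) (toSheafify (J S) d.pt))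
  exact Presheaf.isLocallyInjective_of_isLocallyInjective (J S) η ψ.hom

theorem evalCofan {P : ι → (Over S)ᵒᵖ ⥤ Type (u + 1)} {d : Cofan P} (hd : IsColimit d) (V : (Over S)ᵒᵖ) :
    Nonempty (IsColimit (Cofan.mk (d.pt.obj V) (fun i => (d.inj i).app V))) :=
  ⟨isColimitCofanMkObjOfIsColimit ((evaluation (Over S)ᵒᵖ (Type (u + 1))).obj V) (fun i => P i)
    (fun i => d.inj i) (hd.ofIsoColimit (Cofan.ext (Iso.refl _)))⟩

theorem mono_inj (hc : IsColimit c) (i : ι) : Mono (c.inj i) := by
  obtain ⟨d, hd, η, hη, he⟩ := inj_app_eq hc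
  refine mono_of_yon fun T a b e => (J S).uliftYonedaEquiv.injective ?_
  have e' := congrArg (J S).uliftYonedaEquiv e
  rw [GrothendieckTopology.uliftYonedaEquiv_comp, GrothendieckTopology.uliftYonedaEquiv_comp, ← he,
    NatTrans.comp_app_apply, NatTrans.comp_app_apply] at e'
  refine sep (F i) _ (Presheaf.equalizerSieve_mem (J S) η _ _ e') ?_
  intro V f hf
  obtain ⟨hl⟩ := evalCofan hd (op V)
  refine Cofan.inj_injective_of_isColimit hl i ?_
  change (d.inj i).app (op V) _ = (d.inj i).app (op V) _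
  rw [NatTrans.naturality_apply, NatTrans.naturality_apply]
  exact hf

/-- Distinct summands are disjoint. -/
theorem isEmpty_of_inj_eq (hc : IsColimit c) {i j : ι} (hij : i ≠ j) {T : Over S}
    {a : (yon S).obj T ⟶ F i} {b : (yon S).obj T ⟶ F j} (e : a ≫ c.inj i = b ≫ c.inj j) :
    IsEmpty T.left := by
  obtain ⟨d, hd, η, hη, he⟩ := inj_app_eq hc
  have e' := congrArg (J S).uliftYonedaEquiv e
  rw [GrothendieckTopology.uliftYonedaEquiv_comp, GrothendieckTopology.uliftYonedaEquiv_comp, ← he,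
    ← he, NatTrans.comp_app_apply, NatTrans.comp_app_apply] at e'
  refine isEmpty_of_bot_mem ((J S).superset_covering ?_ (Presheaf.equalizerSieve_mem (J S) η _ _ e'))
  intro V f hf
  obtain ⟨hl⟩ := evalCofan hd (op V)
  refine absurd (Cofan.eq_of_inj_apply_eq_of_isColimit hl
    ((F i).obj.map f.op ((J S).uliftYonedaEquiv a)) ((F j).obj.map f.op ((J S).uliftYonedaEquiv b)) ?_) hij
  change (d.inj i).app (op V) _ = (d.inj j).app (op V) _
  rw [NatTrans.naturality_apply, NatTrans.naturality_apply]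
  exact hf

/-- Sections of a coproduct of sheaves come locally from the summands. -/
theorem exists_local_lift (hc : IsColimit c) {T : Over S} (y : (yon S).obj T ⟶ c.pt) :
    ∃ (κ : Type u) (C : κ → Over S) (g : ∀ k, C k ⟶ T) (i : κ → ι), (∀ k, Flat (g k).left) ∧
      (∀ k, LocallyOfFinitePresentation (g k).left) ∧ (∀ t : T.left, ∃ k, t ∈ Set.range (g k).left) ∧
      ∀ k, ∃ l : (yon S).obj (C k) ⟶ F (i k), l ≫ c.inj (i k) = (yon S).map (g k) ≫ y := by
  let G : Subfunctor c.pt.obj :=
    { obj := fun V => Set.ofPred (fun s : c.pt.obj.obj V =>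
        ∃ (i : ι) (z : (F i).obj.obj V), (c.inj i).hom.app V z = s)
      map := by
        rintro V W f s ⟨i, z, rfl⟩
        exact ⟨i, (F i).obj.map f z, ConcreteCategory.congr_hom ((c.inj i).hom.naturality f) z⟩ }
  let Y : Sp S := ⟨(G.sheafify (J S)).toFunctor, (isSheaf_iff_isSheaf_of_type _ _).2
    (G.sheafify_isSheaf ((isSheaf_iff_isSheaf_of_type _ _).1 c.pt.property))⟩
  let m : Y ⟶ c.pt := ⟨(G.sheafify (J S)).ι⟩
  have : Mono m := (sheafToPresheaf (J S) (Type (u + 1))).mono_of_mono_map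
    (inferInstanceAs (Mono (G.sheafify (J S)).ι))
  have : Epi m := ⟨fun a b hab => Cofan.IsColimit.hom_ext hc _ _ fun i => by
    let l : F i ⟶ Y :=
      ⟨{ app := fun V => ↾fun z => ⟨(c.inj i).hom.app V z, G.le_sheafify (J S) _ ⟨i, z, rfl⟩⟩
         naturality := fun V W f => by
          ext z
          apply Subtype.ext
          exact ConcreteCategory.congr_hom ((c.inj i).hom.naturality f) z }⟩
    have hl : l ≫ m = c.inj i := rfl
    rw [← hl, Category.assoc, Category.assoc, hab]⟩
  have := isIso_of_mono_of_epi m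
  obtain ⟨z, hz⟩ : ∃ z : Y.obj.obj (op T), z.1 = (J S).uliftYonedaEquiv y :=
    ⟨(inv m).hom.app (op T) ((J S).uliftYonedaEquiv y), ConcreteCategory.congr_hom
      (congrArg (fun φ : c.pt ⟶ c.pt => φ.hom.app (op T)) (IsIso.inv_hom_id m)) _⟩
  obtain ⟨κ, C, g, h1, h2, h3, h4⟩ := exists_cover_of_mem_J z.2
  choose i w hw using h4
  refine ⟨κ, C, g, i, h1, h2, h3, fun k => ⟨(J S).uliftYonedaEquiv.symm (w k),
    (J S).uliftYonedaEquiv.injective ?_⟩⟩
  rw [GrothendieckTopology.uliftYonedaEquiv_comp, Equiv.apply_symm_apply, hw, hz,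
    GrothendieckTopology.uliftYonedaEquiv_naturality]

/-- The locus where a section of the coproduct lies in the `i`-th summand is open and closed. -/
theorem exists_isPullback_openIncl (hc : IsColimit c) {T : Over S} (y : (yon S).obj T ⟶ c.pt) (i : ι) :
    ∃ (O : T.left.Opens) (l : (yon S).obj (openOver T O) ⟶ F i), IsClosed (O : Set T.left) ∧
      IsPullback l ((yon S).map (openIncl T O)) (c.inj i) y := by
  have := mono_inj hc i
  obtain ⟨κ, C, g, idx, hf, hp, hs, hl⟩ := exists_local_lift hc y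
  choose m hm using hl
  have huniq : ∀ (k : κ) (i' : ι) (x : (C k).left) {W : Over S} (w : W ⟶ T)
      (l' : (yon S).obj W ⟶ F i'), l' ≫ c.inj i' = (yon S).map w ≫ y →
      (g k).left x ∈ Set.range w.left → idx k = i' := by
    intro k i' x W w l' hl' hx
    by_contra hne
    obtain ⟨z, hz⟩ := hx
    obtain ⟨V, a, b, sq⟩ : ∃ (V : Over S) (a : V ⟶ C k) (b : V ⟶ W), IsPullback a b (g k) w :=
      ⟨pullback (g k) w, _, _, IsPullback.of_hasPullback _ _⟩
    obtain ⟨v, -, -⟩ := Scheme.exists_preimage_of_isPullback (sq.map (Over.forget S)) x z hz.symm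
    exact (isEmpty_of_inj_eq hc hne (a := (yon S).map a ≫ m k) (b := (yon S).map b ≫ l') (by
      rw [Category.assoc, Category.assoc, hm, hl', ← Functor.map_comp_assoc, sq.w, Functor.map_comp_assoc]
      )).false v
  let O : T.left.Opens := ⟨⋃ k ∈ {k | idx k = i}, Set.range (g k).left,
    isOpen_biUnion fun k _ =>
      have := hf k
      have := hp k
      (g k).left.isOpenMap.isOpen_range⟩
  have hO : ∀ t, t ∈ O ↔ ∃ k, idx k = i ∧ t ∈ Set.range (g k).left := fun t => by
    simp [O, ← SetLike.mem_coe]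
  have hclosed : IsClosed (O : Set T.left) := by
    rw [← isOpen_compl_iff, show (O : Set T.left)ᶜ = ⋃ k ∈ {k | idx k ≠ i}, Set.range (g k).left from ?_]
    · exact isOpen_biUnion fun k _ =>
        have := hf k
        have := hp k
        (g k).left.isOpenMap.isOpen_range
    ext t
    simp only [Set.mem_compl_iff, SetLike.mem_coe, hO, Set.mem_iUnion, Set.mem_ofPred_eq, not_exists, not_and]
    constructor
    · intro h
      obtain ⟨k, hk⟩ := hs t
      exact ⟨k, fun e => h k e hk, hk⟩
    · rintro ⟨k, hk, x, rfl⟩ k' hk' hx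
      exact hk ((huniq k (idx k') x (g k') (m k') (hm k') hx).trans hk')
  -- the lift over `O`
  let j := (yon S).map (openIncl T O)
  have : IsIso (pullback.fst (j ≫ y) (c.inj i)) := by
    refine isIso_of_mono_of_local_lifts _ fun W w => ?_
    obtain ⟨w', hw'⟩ := (yon S).map_surjective w
    let D : {k // idx k = i} → Over S := fun k => pullback (g k.1) (w' ≫ openIncl T O)
    refine ⟨{k // idx k = i}, D, fun k => pullback.snd (g k.1) (w' ≫ openIncl T O),
      ofArrows_mem_J _ (fun k => ?_) (fun k => ?_) (fun t => ?_), fun k => ?_⟩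
    · exact MorphismProperty.of_isPullback ((IsPullback.of_hasPullback _ _).map (Over.forget S)) (hf k.1)
    · exact MorphismProperty.of_isPullback ((IsPullback.of_hasPullback _ _).map (Over.forget S)) (hp k.1)
    · obtain ⟨k, hk, x, hx⟩ := (hO _).1 (show (w' ≫ openIncl T O).left t ∈ O from (w'.left t).2)
      obtain ⟨v, -, hv⟩ := Scheme.exists_preimage_of_isPullback
        ((IsPullback.of_hasPullback (g k) (w' ≫ openIncl T O)).map (Over.forget S)) x t hx
      exact ⟨⟨k, hk⟩, v, hv⟩
    · obtain ⟨k, rfl⟩ := k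
      refine ⟨pullback.lift ((yon S).map (pullback.snd (g k) (w' ≫ openIncl T O)) ≫ w)
        ((yon S).map (pullback.fst (g k) (w' ≫ openIncl T O)) ≫ m k) ?_, pullback.lift_fst _ _ _⟩
      rw [← hw', Category.assoc, Category.assoc, hm, ← Category.assoc _ j y, ← Functor.map_comp,
        ← Category.assoc, ← Category.assoc, ← Functor.map_comp, ← Functor.map_comp, pullback.condition]
  let l := inv (pullback.fst (j ≫ y) (c.inj i)) ≫ pullback.snd (j ≫ y) (c.inj i)
  have hlw : l ≫ c.inj i = j ≫ y := by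
    simp only [l, Category.assoc, ← pullback.condition, IsIso.inv_hom_id_assoc]
  refine ⟨O, l, hclosed, ⟨⟨hlw⟩, ⟨?_⟩⟩⟩
  have hj : RepWith @IsOpenImmersion j := (repWith_yon_map_iff _ _).2 (inferInstanceAs (IsOpenImmersion O.ι))
  have hfac : ∀ s : PullbackCone (c.inj i) y, ∃ b, b ≫ j = s.snd := by
    intro s
    refine exists_factor_open hj s.snd ?_
    rintro _ ⟨x, rfl⟩
    induction x using Points.ind with | h q => ?_
    obtain ⟨q', hq'⟩ := (yon S).map_surjective (q.toHom ≫ s.snd)
    let t := q'.left (IsLocalRing.closedPoint q.K)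
    have ht : t ∈ O := by
      obtain ⟨k, x, hx⟩ := hs t
      exact (hO t).2 ⟨k, huniq k i x q' (q.toHom ≫ s.fst)
        (by rw [Category.assoc, s.condition, ← Category.assoc, hq']) (hx.symm ▸ ⟨_, rfl⟩), x, hx⟩
    refine ⟨Points.ofScheme (openOver T O) ⟨t, ht⟩, ?_⟩
    rw [Points.map_ofPt, ← Points.ofPt_toHom q (IsLocalRing.closedPoint q.K), Points.map_ofPt,
      Category.id_comp, ← hq', ← Category.comp_id j, ← Category.comp_id ((yon S).map q'), ofPt_map,
      ofPt_map]
    rfl
  choose b hb using hfac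
  refine PullbackCone.IsLimit.mk hlw b (fun s => ?_) hb fun s r _ hr => ?_
  · rw [← cancel_mono (c.inj i), Category.assoc, hlw, ← Category.assoc, hb, s.condition]
  · have := mono_of_openImmersion hj
    rw [← cancel_mono j, hr, hb]

/-- The injections of a coproduct of sheaves are open and closed immersions. -/
theorem repWith_inj (hc : IsColimit c) (i : ι) :
    RepWith (@IsOpenImmersion ⊓ @IsClosedImmersion) (c.inj i) := by
  refine MorphismProperty.relative.of_exists fun T g => ?_
  obtain ⟨O, l, hO, sq⟩ := exists_isPullback_openIncl hc g i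
  refine ⟨_, l, openIncl T O, sq, (inferInstanceAs (IsOpenImmersion O.ι)), ?_⟩
  refine IsClosedImmersion.of_isPreimmersion O.ι ?_
  rw [Scheme.Opens.range_ι]
  exact hO

end Groth.Agent.H12AlgSp.Coprod
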