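import Groth.Agent.H12AlgSp.EtLocalRing
import Groth.Agent.H12AlgSp.EtStrictHens
import Groth.Agent.H12AlgSp.EtSupport
import Groth.Agent.S0540
import Groth.Agent.S0541
import Groth.Agent.S2743
import Groth.Agent.S2747
import Groth.Agent.S2135
import Groth.Prelude.Def_CAlgX
import Groth.Prelude.Def_CAlg2

/-!
Properties of the etale local rings of an algebraic space read off on charts.
-/

set_option backward.isDefEq.respectTransparency false

universe u

open CategoryTheory CategoryTheory.Limits AlgebraicGeometry Opposite IsLocalRing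
open AlgSp Groth.Agent.H12AlgSp.EtStrictHens

namespace Groth.Agent.H12AlgSp

variable {S : Scheme.{u}}

/-- At every point of every chart over the point, the etale local ring is the strict henselization. -/
theorem exists_stalk_equiv {X : Sp S} (hX : IsAlgSpace X) {p : FieldPt X} (hp : p.IsGeometric)
    [IsSepClosed p.K] {U : Over S} {a : (yon S).obj U ⟶ X} (ha : RepWith @Etale a) {u : U.left}
    (hu : Points.ofPt a u = Points.mk p) :
    ∃ ξ : Spec (CommRingCat.of p.K) ⟶ U.left,
      imagePt ξ = u ∧ Nonempty (↥(OEtStalk p) ≃+* ↥(EtBase.etaleLocalRing ξ)) := by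
  obtain ⟨l, rfl⟩ := exists_lift_of_mk_eq hp (EtOver.mk a ha) u hu
  exact ⟨l.1.left, rfl, exists_equiv_etaleLocalRing hX hp a ha l.1 l.2⟩

section Scheme

variable {X : Scheme.{u}} {Ω : Type u} [Field Ω] [IsSepClosed Ω] (ξ : Spec (CommRingCat.of Ω) ⟶ X)

theorem etaleLocalRing_krullDim :
    ringKrullDim ↥(EtBase.etaleLocalRing ξ) = ringKrullDim ↥(X.presheaf.stalk (imagePt ξ)) := by
  have := isStrictHenselization ξ
  exact Groth.Agent.S0541.result _ _

theorem etaleLocalRing_isReduced_iff :
    _root_.IsReduced ↥(EtBase.etaleLocalRing ξ) ↔ _root_.IsReduced ↥(X.presheaf.stalk (imagePt ξ)) := by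
  have := isStrictHenselization ξ
  exact Groth.Agent.S2747.result _ _

theorem etaleLocalRing_isNoetherianRing_iff :
    IsNoetherianRing ↥(EtBase.etaleLocalRing ξ) ↔ IsNoetherianRing ↥(X.presheaf.stalk (imagePt ξ)) := by
  have := isStrictHenselization ξ
  exact (Groth.Agent.S0540.result _ _).symm

theorem etaleLocalRing_isRegular_iff :
    IsRegularLocalRing ↥(EtBase.etaleLocalRing ξ) ↔ IsRegularLocalRing ↥(X.presheaf.stalk (imagePt ξ)) := by
  have := isStrictHenselization ξ
  constructor
  · intro h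
    have : IsNoetherianRing ↥(X.presheaf.stalk (imagePt ξ)) :=
      (Groth.Agent.S0540.result _ ↥(EtBase.etaleLocalRing ξ)).2 inferInstance
    exact (Groth.Agent.S2743.result _ _).1 h
  · intro h
    exact (Groth.Agent.S2743.result _ _).2 h

theorem etaleLocalRing_uniqueMinimal_iff :
    CAlgX.HasUniqueMinimalPrime ↥(EtBase.etaleLocalRing ξ) ↔
      CAlg2.IsGeomUnibranch ↥(X.presheaf.stalk (imagePt ξ)) := by
  have := isStrictHenselization ξ
  exact (Groth.Agent.S2135.result).symm

theorem hasUniqueMinimalPrime_iff (A : Type*) [CommRing A] :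
    CAlgX.HasUniqueMinimalPrime A ↔
      Nontrivial A ∧ ∀ a b : A, IsNilpotent (a * b) → IsNilpotent a ∨ IsNilpotent b := by
  constructor
  · rintro ⟨q, hq, huniq⟩
    have hprime : q.IsPrime := hq.1.1
    refine ⟨?_, fun a b h => ?_⟩
    · refine not_subsingleton_iff_nontrivial.1 fun hA => hprime.ne_top (Subsingleton.elim _ _)
    have hn : ∀ x : A, x ∈ q → IsNilpotent x := fun x hx => by
      rw [← mem_nilradical]
      change x ∈ (⊥ : Ideal A).radical
      rw [← Ideal.sInf_minimalPrimes, Submodule.mem_sInf]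
      intro r hr
      rw [huniq r hr]
      exact hx
    have hab : a * b ∈ q := by
      obtain ⟨n, hn⟩ := h
      exact hprime.mem_of_pow_mem n (by rw [hn]; exact q.zero_mem)
    exact (hprime.mem_or_mem hab).imp (hn a) (hn b)
  · rintro ⟨_, h⟩
    have hP : (nilradical A).IsPrime := by
      refine ⟨fun ht => ?_, fun {a b} hab => h a b hab⟩
      obtain ⟨n, hn⟩ := mem_nilradical.1 ((Ideal.eq_top_iff_one _).1 ht)
      exact one_ne_zero ((one_pow n).symm.trans hn)
    refine ⟨nilradical A, ⟨⟨hP, bot_le⟩, fun q hq _ => (nilradical_le_prime (H := hq.1) q)⟩, fun q hq => ?_⟩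
    exact le_antisymm (hq.2 ⟨hP, bot_le⟩ (nilradical_le_prime (H := hq.1.1) q)) (nilradical_le_prime (H := hq.1.1) q)

theorem hasUniqueMinimalPrime_iff_of_ringEquiv {A B : Type*} [CommRing A] [CommRing B] (e : A ≃+* B) :
    CAlgX.HasUniqueMinimalPrime A ↔ CAlgX.HasUniqueMinimalPrime B := by
  rw [hasUniqueMinimalPrime_iff, hasUniqueMinimalPrime_iff, e.toEquiv.nontrivial_congr]
  refine and_congr_right fun _ => ⟨fun h a b hab => ?_, fun h a b hab => ?_⟩
  · have h2 := h (e.symm a) (e.symm b) (by rw [← map_mul e.symm a b]; exact hab.map e.symm)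
    exact h2.imp (fun h => e.apply_symm_apply a ▸ h.map e) (fun h => e.apply_symm_apply b ▸ h.map e)
  · have h2 := h (e a) (e b) (by rw [← map_mul e a b]; exact hab.map e)
    exact h2.imp (fun h => e.symm_apply_apply a ▸ h.map e.symm) (fun h => e.symm_apply_apply b ▸ h.map e.symm)

theorem hasUniqueMinimalPrime_of_isGeomUnibranch {A : Type u} [CommRing A] [IsLocalRing A]
    (h : CAlg2.IsGeomUnibranch A) : CAlgX.HasUniqueMinimalPrime A := by
  rw [hasUniqueMinimalPrime_iff]
  refine ⟨inferInstance, fun a b hab => ?_⟩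
  have : IsDomain (A ⧸ nilradical A) := h.1.1
  have hP : (nilradical A).IsPrime := (Ideal.Quotient.isDomain_iff_prime _).1 this
  exact hP.mem_or_mem hab

open Groth.Agent.H18Et in
/-- If every etale neighbourhood has a unique minimal prime at the point, so has the etale local ring. -/
theorem etaleLocalRing_uniqueMinimal_of_nbhds
    (h : ∀ (V : X.Etale) (z : (Scheme.pointSmallEtale ξ).fiber.obj V),
      CAlgX.HasUniqueMinimalPrime ↥(V.left.presheaf.stalk (ptOf z))) :
    CAlgX.HasUniqueMinimalPrime ↥(EtBase.etaleLocalRing ξ) := by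
  rw [hasUniqueMinimalPrime_iff]
  refine ⟨inferInstance, fun r r' hrr => ?_⟩
  classical
  obtain ⟨U, z, -, hs⟩ := exists_common_stage ξ {r, r'}
  obtain ⟨b, rfl⟩ := hs r (by simp)
  obtain ⟨b', rfl⟩ := hs r' (by simp)
  obtain ⟨n, hn⟩ := hrr
  obtain ⟨V, g, y, hy, hg⟩ := ((Scheme.pointSmallEtale ξ).toPresheafFiber_eq_iff' (P := EtBase.OO X) U z
    ((b * b') ^ n) 0).1 (by
      refine Eq.trans ?_ (map_zero (funGerm ξ U z).hom).symm
      change (funGerm ξ U z).hom ((b * b') ^ n) = 0
      rw [map_pow, map_mul]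
      exact hn)
  have hprod : IsNilpotent (g.left.appTop b * g.left.appTop b') :=
    ⟨n, by rw [← map_mul, ← map_pow]; exact hg.trans (map_zero _)⟩
  let v := ptOf y
  have hor := ((hasUniqueMinimalPrime_iff _).1 (h V y)).2 _ _
    (by rw [← map_mul (V.left.presheaf.germ ⊤ v trivial).hom (g.left.appTop b) (g.left.appTop b')]
        exact hprod.map (V.left.presheaf.germ ⊤ v trivial).hom)
  have fin : ∀ c : Γ(U.left, ⊤), IsNilpotent (V.left.presheaf.germ ⊤ v trivial (g.left.appTop c)) →
      IsNilpotent (funGerm ξ U z c) := by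
    rintro c ⟨m, hm⟩
    rw [← map_pow] at hm
    obtain ⟨O, hvO, i, j, hO⟩ := TopCat.Presheaf.germ_eq V.left.presheaf (U := ⊤) (V := ⊤) v trivial trivial _ (0 : Γ(V.left, ⊤)) (hm.trans (map_zero _).symm)
    obtain ⟨V', g', y', hy', e, he⟩ := exists_nbhd_opens ξ V y O hvO
    refine ⟨m, ?_⟩
    rw [← map_pow, ← hy, ← hy', ← funGerm_map, ← funGerm_map]
    have hres : g'.left.appTop (g.left.appTop (c ^ m)) = 0 := by
      rw [← he, Scheme.Hom.comp_appTop, CommRingCat.comp_apply]
      have h0 : (Scheme.Opens.ι O).appTop (g.left.appTop (c ^ m)) = 0 := by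
        apply (ConcreteCategory.bijective_of_isIso (Scheme.Opens.topIso (X := V.left) O).hom).1
        rw [map_zero, map_pow]
        refine Eq.trans ?_ ((hO.trans (map_zero _)))
        rw [← CommRingCat.comp_apply]
        congr 2
        rw [Scheme.Opens.ι_appTop]
        simp only [Scheme.Opens.topIso, Functor.mapIso_hom, ← Functor.map_comp]
        rfl
      rw [h0, map_zero]
    rw [hres, map_zero]
  exact hor.imp (fin b) (fin b')

end Scheme

end Groth.Agent.H12AlgSp
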