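import Groth.Agent.H12AlgSp.Codim
import Groth.Agent.H12AlgSp.EtLocalRingProps
import Groth.Prelude.Def_Flat

/-!
Local dimension and dimension of local rings of etale charts.
-/

set_option backward.isDefEq.respectTransparency false

universe u

open CategoryTheory CategoryTheory.Limits AlgebraicGeometry Topology TopologicalSpace
open AlgSp

namespace Groth.Agent.H12AlgSp

theorem topologicalKrullDim_mono {X : Scheme.{u}} {V V' : X.Opens} (h : V ≤ V') :
    topologicalKrullDim (V : Set X) ≤ topologicalKrullDim (V' : Set X) :=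
  IsInducing.topologicalKrullDim_le (f := Set.inclusion h) (IsEmbedding.inclusion h).isInducing

/-- The local dimension is unchanged along etale morphisms. -/
theorem localDim_eq_of_etale {W U : Scheme.{u}} (g : W ⟶ U) [Etale g] (w : W) :
    FlatMor.localDim W w = FlatMor.localDim U (g w) := by
  have := lqf_of_etale g
  have hdim : ∀ V : W.Opens, ∀ U' : U.Opens, (U' : Set U) = g '' (V : Set W) →
      topologicalKrullDim (V : Set W) = topologicalKrullDim (U' : Set U) := by
    intro V U' hU'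
    have hm : Set.MapsTo g (V : Set W) (U' : Set U) := fun x hx => hU' ▸ ⟨x, hx, rfl⟩
    have : QuasiSober (V : Set W) := inferInstanceAs (QuasiSober V.toScheme)
    have : QuasiSober (U' : Set U) := inferInstanceAs (QuasiSober U'.toScheme)
    refine le_antisymm (Groth.Agent.H17.topologicalKrullDim_le_of_noSpecializationsInFibres
      (hm.restrict g _ _) (g.continuous.restrict hm) fun x y hxy e => ?_)
      (Groth.Agent.H17.topologicalKrullDim_le_of_generalizingMap (hm.restrict g _ _) ?_ ?_)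
    · exact Subtype.ext (Groth.Agent.H05EGA4.eq_of_specializes_of_fibre g
        (hxy.map continuous_subtype_val) (congrArg Subtype.val e))
    · intro x y hy
      obtain ⟨z, hz, hzy⟩ := Flat.generalizingMap g (hy.map continuous_subtype_val)
      exact ⟨⟨z, hz.mem_open V.isOpen x.2⟩, (subtype_specializes_iff _ _).2 hz, Subtype.ext hzy⟩
    · rintro ⟨y, hy⟩
      rw [hU'] at hy
      obtain ⟨x, hx, rfl⟩ := hy
      exact ⟨⟨x, hx⟩, rfl⟩
  refine le_antisymm (le_iInf fun U' => ?_) (le_iInf fun V => ?_)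
  · refine iInf_le_of_le ⟨g ⁻¹ᵁ U'.1, U'.2⟩ ?_
    let I : U.Opens := ⟨g '' (g ⁻¹ᵁ U'.1 : Set W), g.isOpenMap _ (g ⁻¹ᵁ U'.1).isOpen⟩
    rw [hdim _ I rfl]
    exact topologicalKrullDim_mono (fun y ⟨x, hx, e⟩ => e ▸ hx)
  · let I : U.Opens := ⟨g '' (V.1 : Set W), g.isOpenMap _ V.1.isOpen⟩
    refine iInf_le_of_le ⟨I, w, V.2, rfl⟩ ?_
    rw [hdim V.1 I rfl]

variable {S : Scheme.{u}} {X : Sp S}

theorem ringKrullDim_stalk_chart_eq (hX : IsAlgSpace X) {U V : Over S} {a : (yon S).obj U ⟶ X}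
    {b : (yon S).obj V ⟶ X} (ha : RepWith @Etale a) (hb : RepWith @Etale b) {u : U.left} {v : V.left}
    (h : Points.ofPt a u = Points.ofPt b v) :
    ringKrullDim ↥(U.left.presheaf.stalk u) = ringKrullDim ↥(V.left.presheaf.stalk v) := by
  obtain ⟨p, hp, hpx⟩ := exists_geometric_over hX (Points.ofPt b v)
  have := isSepClosed_of_isGeometric hp
  obtain ⟨ξ, rfl, ⟨e⟩⟩ := exists_stalk_equiv hX hp ha (h.trans hpx.symm)
  obtain ⟨η, rfl, ⟨e'⟩⟩ := exists_stalk_equiv hX hp hb hpx.symm
  rw [← etaleLocalRing_krullDim, ← etaleLocalRing_krullDim, ← ringKrullDim_eq_of_ringEquiv e,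
    ringKrullDim_eq_of_ringEquiv e']

theorem localDim_chart_eq (hX : IsAlgSpace X) {U V : Over S} {a : (yon S).obj U ⟶ X}
    {b : (yon S).obj V ⟶ X} (ha : RepWith @Etale a) (hb : RepWith @Etale b) {u : U.left} {v : V.left}
    (h : Points.ofPt a u = Points.ofPt b v) :
    FlatMor.localDim U.left u = FlatMor.localDim V.left v := by
  obtain ⟨W, g, k, w, hg, hk, rfl, rfl⟩ := exists_common_chart hX ha hb h
  rw [← localDim_eq_of_etale g.left w, ← localDim_eq_of_etale k.left w]

/-- A chart invariant transfers along etale morphisms of algebraic spaces. -/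
theorem hasAt_iff_of_isEtaleMor {Y : Sp S} (hX : IsAlgSpace X) {f : X ⟶ Y} (hf : IsEtaleMor f)
    (Q : ∀ U : Scheme.{u}, ↥U → Prop)
    (hQ : ∀ {U V : Over S} {a : (yon S).obj U ⟶ Y} {b : (yon S).obj V ⟶ Y} {u : U.left} {v : V.left},
      RepWith @Etale a → RepWith @Etale b → Points.ofPt a u = Points.ofPt b v → (Q U.left u ↔ Q V.left v))
    (x : Points X) : HasAt Q X x ↔ HasAt Q Y (Points.map f x) := by
  constructor
  · rintro ⟨U, a, u, ha, rfl, h⟩
    exact ⟨U, a ≫ f, u, hf a ha, (Points.map_ofPt _ _ _).symm, h⟩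
  · rintro ⟨V, b, v, hb, hv, h⟩
    obtain ⟨U, a, ha, hs⟩ := hX.atlas
    obtain ⟨u, rfl⟩ := surjective_ofPt_of_repWith le_rfl hs x
    rw [Points.map_ofPt] at hv
    exact ⟨U, a, u, ha, rfl, (hQ (hf a ha) hb hv.symm).2 h⟩

end Groth.Agent.H12AlgSp
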