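import Groth.Agent.H12AlgSp.DecentField

/-!
Topology of points of decent spaces.
-/

universe u

open CategoryTheory CategoryTheory.Limits AlgebraicGeometry Opposite Topology
open AlgSp Groth.Agent.H13AlgSp

namespace Groth.Agent.H12AlgSp

variable {S : Scheme.{u}}

/-- Generizations lift along etale charts. -/
theorem exists_lift_generization {X : Sp S} {x' : Points X}
    (hx' : ∀ (V : Over S) (b : (yon S).obj V ⟶ X), IsAffine V.left → RepWith @Etale b →
      (Points.ofPt b ⁻¹' {x'}).Finite) {U : Over S} {a : (yon S).obj U ⟶ X} (ha : RepWith @Etale a)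
    (u : U.left) (h : x' ⤳ Points.ofPt a u) : ∃ u' : U.left, u' ⤳ u ∧ Points.ofPt a u' = x' := by
  obtain ⟨A, hA, huA, -⟩ := TopologicalSpace.Opens.isBasis_iff_nbhd.mp U.left.isBasis_affineOpens
    (TopologicalSpace.Opens.mem_top u)
  let fib := (A : Set U.left) ∩ Points.ofPt a ⁻¹' {x'}
  have hfin : fib.Finite := by
    refine ((hx' (openOver U A) _ hA (repWith_etale_openIncl ha A)).image
      fun z => (openIncl U A).left z).subset ?_
    rintro w ⟨hwA, hw⟩
    exact ⟨⟨w, hwA⟩, (ofPt_map (openIncl U A) a _).trans hw, rfl⟩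
  by_contra hcon
  push Not at hcon
  have key : ∀ z ∈ fib, ∃ O : Set U.left, IsOpen O ∧ u ∈ O ∧ z ∉ O := fun z hz => by
    have : ¬ z ⤳ u := fun hzu => hcon z hzu hz.2
    rw [specializes_iff_forall_open] at this
    push Not at this
    exact this
  choose O h1 h2 h3 using key
  have := hfin.to_subtype
  let N : Set U.left := (A : Set U.left) ∩ ⋂ z : fib, O z.1 z.2
  have hN : IsOpen N := A.isOpen.inter (isOpen_iInter_of_finite fun z => h1 _ _)
  have huN : u ∈ N := ⟨huA, Set.mem_iInter.2 fun z => h2 _ _⟩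
  obtain ⟨w, hw, hwx⟩ : x' ∈ Points.ofPt a '' N :=
    h.mem_open (isOpenMap_ofPt_of_repWith etale_le_universallyOpen ha N hN) ⟨u, huN, rfl⟩
  exact h3 w ⟨hw.1, hwx⟩ (Set.mem_iInter.1 hw.2 ⟨w, hw.1, hwx⟩)

/-- Generizations lift along flat morphisms. -/
theorem exists_lift_generization_flat {X Y : Sp S} (hX : IsAlgSpace X) (hY : IsAlgSpace Y) {f : Y ⟶ X}
    (hf : LocP @Flat f) {x' : Points X}
    (hx' : ∀ (V : Over S) (b : (yon S).obj V ⟶ X), IsAffine V.left → RepWith @Etale b →
      (Points.ofPt b ⁻¹' {x'}).Finite)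
    (y : Points Y) (h : x' ⤳ Points.map f y) :
    ∃ y' : Points Y, y' ⤳ y ∧ Points.map f y' = x' := by
  obtain ⟨V, U, a, b, g, ha, has, hb, -, w⟩ := exists_chart hY hX f
  obtain ⟨v, rfl⟩ := surjective_ofPt_of_repWith le_rfl has y
  have hgf : Flat g.left := hf a b g ha hb w
  obtain ⟨u', hu', hux⟩ := exists_lift_generization hx' hb (g.left v) (by
    rw [← ofPt_map, ← w, ← Points.map_ofPt]; exact h)
  obtain ⟨v', hv', hvu⟩ := Flat.generalizingMap g.left (a := v) (b := u') hu'
  refine ⟨Points.ofPt a v', hv'.map (Points.continuous_ofPt a), ?_⟩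
  rw [Points.map_ofPt, w, ofPt_map, hvu, hux]

theorem t0Space_points {X : Sp S} (hX : IsAlgSpace X) (hd : IsDecent X) : T0Space (Points X) := by
  constructor
  intro x y hxy
  rw [inseparable_iff_specializes_and] at hxy
  have fin : ∀ z : Points X, ∀ (V : Over S) (b : (yon S).obj V ⟶ X), IsAffine V.left → RepWith @Etale b →
      (Points.ofPt b ⁻¹' {z}).Finite := fun z V b hV hb => by
    obtain ⟨p, rfl, -, hqc⟩ := hd z
    exact @finite_fibre_affine _ _ p hqc _ hV _ hb
  obtain ⟨U, a, ha, has⟩ := hX.atlas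
  obtain ⟨u, rfl⟩ := surjective_ofPt_of_repWith le_rfl has x
  obtain ⟨v, hv, rfl⟩ := exists_lift_generization (fin y) ha u hxy.2
  obtain ⟨w, hw, hwx⟩ := exists_lift_generization (fin (Points.ofPt a u)) ha v hxy.1
  have huw : u = w := eq_of_specializes_of_finite (fin _) ha rfl hwx (hw.trans hv)
  exact congrArg _ (Specializes.antisymm (huw ▸ hw) hv).eq

/-- Finite fibres on a jointly surjective family of charts give finite fibres on all affine charts. -/
theorem finite_fibre_of_cover {X : Sp S} {x : Points X} {ι : Type u}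
    (U : ι → Over S) (φ : ∀ i, (yon S).obj (U i) ⟶ X) (hφ : ∀ i, RepWith @Etale (φ i))
    (hsurj : ∀ y : Points X, ∃ (i : ι) (v : (U i).left), Points.ofPt (φ i) v = y)
    (hfin : ∀ i, (Points.ofPt (φ i) ⁻¹' {x}).Finite)
    {V : Over S} [IsAffine V.left] (ψ : (yon S).obj V ⟶ X) (hψ : RepWith @Etale ψ) :
    (Points.ofPt ψ ⁻¹' {x}).Finite := by
  choose W q r' sq using fun i => (hφ i).1 ψ
  choose r hr using fun i => (yon S).map_surjective (r' i)
  have sq' : ∀ i, IsPullback ((yon S).map (r i)) ((yon S).map (q i)) (φ i) ψ := fun i => by rw [hr]; exact sq i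
  have hqe : ∀ i, Etale (q i).left := fun i => (hφ i).2 ψ _ (q i) (sq' i)
  have hre : ∀ i, Etale (r i).left := fun i => hψ.2 _ _ (r i) (sq' i).flip
  let κ := Σ i, {O : (W i).left.Opens // IsAffineOpen O ∧
    ∃ B : (U i).left.Opens, IsAffineOpen B ∧ (O : Set (W i).left) ⊆ (r i).left ⁻¹' B}
  obtain ⟨σ, hσ⟩ := isCompact_univ.elim_finite_subcover
    (fun k : κ => (q k.1).left '' (k.2.1 : Set (W k.1).left))
    (fun k => (q k.1).left.isOpenMap _ k.2.1.isOpen) (fun v _ => by
      obtain ⟨i, u, hu⟩ := hsurj (Points.ofPt ψ v)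
      obtain ⟨w, -, hw⟩ := exists_point_of_isPullback (sq' i) (Points.ofScheme (U i) u) (Points.ofScheme V v)
        (by rw [← Points.ofPt_eq_map_ofScheme, ← Points.ofPt_eq_map_ofScheme, hu])
      obtain ⟨w, rfl⟩ := (Points.schemeEquiv (W i)).surjective w
      obtain ⟨B, hB, huB, -⟩ := TopologicalSpace.Opens.isBasis_iff_nbhd.mp (U i).left.isBasis_affineOpens
        (TopologicalSpace.Opens.mem_top ((r i).left w))
      obtain ⟨O, hO, hwO, hle⟩ := TopologicalSpace.Opens.isBasis_iff_nbhd.mp (W i).left.isBasis_affineOpens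
        (show w ∈ (r i).left ⁻¹ᵁ B from huB)
      refine Set.mem_iUnion.2 ⟨⟨i, O, hO, B, hB, hle⟩, w, hwO, ?_⟩
      apply (Points.schemeEquiv V).injective
      refine Eq.trans ?_ hw
      change Points.ofScheme _ _ = Points.map _ (Points.ofScheme _ _)
      rw [← Points.ofPt_eq_map_ofScheme, ← Category.comp_id ((yon S).map (q i)), ofPt_map])
  refine (σ.finite_toSet.biUnion fun k _ => ?_).subset
    (s := ⋃ k ∈ (σ : Set κ), (q k.1).left ''
      ((k.2.1 : Set (W k.1).left) ∩ (r k.1).left ⁻¹' (Points.ofPt (φ k.1) ⁻¹' {x}))) ?_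
  · obtain ⟨i, O, hO, B, hB, hle⟩ := k
    refine Set.Finite.image _ ?_
    have : IsAffine O.toScheme := hO
    have : IsAffine B.toScheme := hB
    have := hre i
    let g : O.toScheme ⟶ B.toScheme := (r i).left.resLE B O hle
    have : Etale g := inferInstanceAs (Etale ((r i).left.resLE B O hle))
    have := lqf_of_etale g
    refine ((g.finite_preimage ((hfin i).preimage (Subtype.val_injective.injOn))).image Subtype.val).subset ?_
    rintro w ⟨hwO, hw⟩
    refine ⟨⟨w, hwO⟩, ?_, rfl⟩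
    change Points.ofPt (φ i) (B.ι (g ⟨w, hwO⟩)) = x
    rw [← Scheme.Hom.comp_apply, Scheme.Hom.resLE_comp_ι]
    exact hw
  · intro v hv
    obtain ⟨k, hk, w, hw, rfl⟩ := Set.mem_iUnion₂.1 (hσ (Set.mem_univ v))
    refine Set.mem_iUnion₂.2 ⟨k, hk, w, ⟨hw, ?_⟩, rfl⟩
    change Points.ofPt (φ k.1) ((r k.1).left w) = x
    rw [← ofPt_map, (sq' k.1).w, ofPt_map]
    exact hv

end Groth.Agent.H12AlgSp
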