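import Groth.Agent.H12AlgSp.DecentTop
import Groth.Agent.H17.Reduced
import Mathlib.AlgebraicGeometry.Morphisms.Finite

/-!
Decent spaces with one point; closed points; specializations in Noetherian spaces.
-/

universe u

open CategoryTheory CategoryTheory.Limits AlgebraicGeometry Opposite Topology
open AlgSp Groth.Agent.H13AlgSp

namespace Groth.Agent.H12AlgSp

variable {S : Scheme.{u}}

/-- A reduced decent space with one point is the spectrum of a field. -/
theorem isIso_toHom_of_subsingleton {X : Sp S} (hX : IsAlgSpace X) (hr : IsReducedSp X) (p : FieldPt X)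
    (hm : Mono p.toHom) (hqc : RepWith @QuasiCompact p.toHom) [Subsingleton (Points X)] :
    IsIso p.toHom := by
  obtain ⟨g, hg⟩ := exists_factor_reduced hX (𝟙 X) p hm hqc hr fun _ => Subsingleton.elim _ _
  exact ⟨g, by rw [← cancel_mono p.toHom, Category.assoc, hg, Category.comp_id, Category.id_comp], hg⟩

theorem exists_iso_spec_field {X : Sp S} (hX : IsAlgSpace X) (hd : IsDecent X) {k : Type u} [Field k]
    {str : Spec (CommRingCat.of k) ⟶ S} (p : (yon S).obj (Over.mk str) ⟶ X) (hp : RepWith @Etale p)
    (hs : RepWith @Surjective p) :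
    ∃ (k' : Type u) (_ : Field k') (str' : Spec (CommRingCat.of k') ⟶ S)
      (e : (yon S).obj (Over.mk str') ≅ X) (c : Over.mk str ⟶ Over.mk str'),
      (yon S).map c ≫ e.hom = p ∧ IsFinite c.left ∧ Etale c.left := by
  have hr : IsReducedSp X := ⟨Over.mk str, p, hp, hs, inferInstanceAs (IsReduced (Spec (CommRingCat.of k)))⟩
  have hsub : Subsingleton (Over.mk str).left := inferInstanceAs (Subsingleton (Spec (CommRingCat.of k)))
  have : Subsingleton (Points X) := (surjective_ofPt_of_repWith le_rfl hs).subsingleton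
  obtain ⟨q, -, hm, hqc⟩ := hd (Points.ofPt p (IsLocalRing.closedPoint k))
  have := isIso_toHom_of_subsingleton hX hr q hm hqc
  obtain ⟨c, hc⟩ := (yon S).map_surjective (p ≫ inv q.toHom)
  have he : Etale c.left := (repWith_yon_map_iff @Etale c).1 (by
    rw [hc]; exact MorphismProperty.RespectsIso.postcomp _ _ _ hp)
  let c' : Spec (CommRingCat.of k) ⟶ Spec (CommRingCat.of q.K) := c.left
  have : Etale c' := he
  have := lqf_of_etale c'
  refine ⟨q.K, q.instField, q.str, asIso q.toHom, c, by rw [hc]; simp, ?_, he⟩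
  change IsFinite c'
  exact IsFinite.of_locallyQuasiFinite c'

/-- Closed points of decent spaces are represented by closed immersions. -/
theorem repWith_closedImmersion_of_isClosed {X : Sp S} (hX : IsAlgSpace X) (p : FieldPt X) (hm : Mono p.toHom)
    (hqc : RepWith @QuasiCompact p.toHom) (hx : IsClosed ({Points.mk p} : Set (Points X))) :
    RepWith @IsClosedImmersion p.toHom := by
  obtain ⟨U, a, ha, has⟩ := hX.atlas
  obtain ⟨P, v, fst, sq⟩ := hqc.1 a
  refine repWith_of_etale_cover_immersions (IsAlgSpace.yon_obj _) hX (Or.inl rfl) ha has sq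
    ((repWith_yon_map_iff _ v).2 ?_)
  obtain ⟨f, rfl⟩ := (yon S).map_surjective fst
  let f' : P.left ⟶ Spec (CommRingCat.of p.K) := f.left
  have : Etale f' := ha.2 p.toHom _ f sq.flip
  have : IsReduced P.left := Groth.Agent.H13AlgSp.isReduced_of_smooth_mor f'
  let E : TopologicalSpace.Closeds U.left :=
    ⟨Points.ofPt a ⁻¹' {Points.mk p}, hx.preimage (Points.continuous_ofPt a)⟩
  let i := (Scheme.IdealSheafData.vanishingIdeal E).subschemeι
  have hred : IsReduced (Scheme.IdealSheafData.vanishingIdeal E).subscheme :=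
    Groth.Agent.H17.isReduced_vanishingIdeal_subscheme E
  have hi : Set.range i = (E : Set U.left) := Groth.Agent.H17.range_vanishingIdeal_subschemeι E
  have hv : Set.range v.left ⊆ Set.range i := by
    rw [hi]
    rintro _ ⟨z, rfl⟩
    change Points.ofPt a (v.left z) = Points.mk p
    rw [← ofPt_map, ← sq.w, ofPt_map, Points.ofPt_toHom]
  obtain ⟨g, hg⟩ := Groth.Agent.H17.exists_lift_immersion_of_range_subset v.left i hv
  let ZO : Over S := Over.mk (i ≫ U.hom)
  let iO : ZO ⟶ U := Over.homMk i rfl
  obtain ⟨l, hl⟩ := exists_factor_reduced hX ((yon S).map iO ≫ a) p hm hqc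
    ⟨ZO, 𝟙 _, repWith_id _ ZO, repWith_id _ ZO, hred⟩ fun y => by
      obtain ⟨y, rfl⟩ := (Points.schemeEquiv ZO).surjective y
      change Points.map _ (Points.ofScheme ZO y) = _
      rw [← Points.ofPt_eq_map_ofScheme, ofPt_map]
      exact (hi.le ⟨y, rfl⟩ : i y ∈ (E : Set U.left))
  obtain ⟨m, hmm⟩ := (yon S).map_surjective (sq.lift l ((yon S).map iO) hl)
  have hmv : m ≫ v = iO := (yon S).map_injective (by rw [Functor.map_comp, hmm, sq.lift_snd])
  have hmv' : m.left ≫ v.left = i := congrArg CommaMorphism.left hmv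
  have : Mono ((yon S).map v) := mono_of_sq sq.flip
  have : Mono v := (yon S).mono_of_mono_map this
  have : Mono v.left := inferInstance
  have h1 : g ≫ m.left = 𝟙 _ := by rw [← cancel_mono v.left, Category.assoc, hmv', hg, Category.id_comp]
  have h2 : m.left ≫ g = 𝟙 _ := by rw [← cancel_mono i, Category.assoc, hg, hmv', Category.id_comp]
  have : IsIso g := ⟨m.left, h1, h2⟩
  rw [← hg]
  infer_instance

/-- In a locally Noetherian scheme, codimension is preserved along etale morphisms. -/
theorem coheight_eq_of_etale {X Y : Scheme.{u}} (g : X ⟶ Y) [Etale g] (x : X) :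
    Order.coheight x = Order.coheight (g x) := by
  have := lqf_of_etale g
  have hmono : StrictMono g := fun a b hab => lt_of_le_not_ge (hab.le.map g.continuous) fun hba => by
    have e : g b = g a := (Specializes.antisymm (hab.le.map g.continuous) hba).eq
    exact hab.ne (Groth.Agent.H05EGA4.eq_of_specializes_of_fibre g hab.le e).symm
  refine le_antisymm (Order.coheight_le_coheight_apply_of_strictMono g hmono x) ?_
  rw [Order.coheight_eq_iSup_head_eq (g x)]
  refine iSup₂_le fun p hp => ?_
  suffices ∃ q : LTSeries X, q.length = p.length ∧ q.head = x ∧ g q.last = p.last by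
    obtain ⟨q, hq, hh, -⟩ := this
    rw [← hq]
    exact Order.length_le_coheight hh.ge
  induction p using RelSeries.inductionOn' with
  | singleton y => exact ⟨RelSeries.singleton _ x, rfl, rfl, by simpa using hp.symm⟩
  | snoc p y hy ih =>
    rw [RelSeries.head_snoc] at hp
    obtain ⟨q, hq, hh, hlast⟩ := ih hp
    have hlt : p.last < y := hy
    obtain ⟨b, hb, hby⟩ := Flat.generalizingMap g (a := q.last) (b := y) (by rw [hlast]; exact hlt.le)
    have hqb : q.last < b := lt_of_le_not_ge (show q.last ≤ b from hb) fun h =>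
      hlt.ne (hlast.symm.trans ((congrArg g (Specializes.antisymm h hb).eq).trans hby))
    refine ⟨q.snoc b hqb, by simp [hq], by rw [RelSeries.head_snoc, hh], ?_⟩
    rw [RelSeries.last_snoc, RelSeries.last_snoc, hby]

theorem eq_of_specializes_of_locNoeth {X : Sp S} (hX : IsAlgSpace X) (hN : IsLocNoethSp X) {U : Over S}
    {a : (yon S).obj U ⟶ X} (ha : RepWith @Etale a) {u u' : U.left}
    (he : Points.ofPt a u = Points.ofPt a u') (hs : u' ⤳ u) : u = u' := by
  obtain ⟨W, g, h, w, hg, hh, hgw, hhw⟩ := exists_common_chart hX ha ha he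
  have : IsLocallyNoetherian U.left := Groth.Agent.H13AlgSp.etaleLocally_chart
    (fun g hg hB => @Groth.Agent.H13AlgSp.isLocallyNoetherian_of_etale _ _ g hg hB)
    (fun g hg hs hA => @Groth.Agent.H13AlgSp.isLocallyNoetherian_of_flat_lfp_surjective _ _ g
      inferInstance inferInstance hs hA) hX hN ha
  have e1 : Order.coheight u = Order.coheight u' := by
    have h1 := coheight_eq_of_etale g.left w
    have h2 := coheight_eq_of_etale h.left w
    rw [hgw] at h1
    rw [hhw] at h2
    exact h1.symm.trans h2
  by_contra hne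
  have hlt : u < u' := lt_of_le_not_ge (show u ≤ u' from hs) fun h => hne (Specializes.antisymm h hs).eq
  have hfin : Order.coheight u < ⊤ := by
    have := ringKrullDim_stalk_eq_coheight u
    have hr : ringKrullDim (U.left.presheaf.stalk u) < ⊤ := ringKrullDim_lt_top
    rw [this] at hr
    exact WithBot.coe_lt_coe.1 hr
  exact (Order.coheight_strictAnti hlt (e1 ▸ hfin)).ne e1.symm

end Groth.Agent.H12AlgSp
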