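import Groth.Agent.H12AlgSp.DecentTop
import Groth.Agent.H12AlgSp.EtDim
import Groth.Agent.H13AlgSp.DecentGeneric
import Groth.Agent.H28Top.Dim
import Groth.Agent.S10338
import Groth.Agent.S10339

/-!
Dimension of the space of points of a decent algebraic space.
-/

set_option backward.isDefEq.respectTransparency false

universe u

open CategoryTheory CategoryTheory.Limits AlgebraicGeometry Topology TopologicalSpace
open AlgSp

namespace Groth.Agent.H12AlgSp

variable {S : Scheme.{u}}

theorem dim_open_chart_eq (X : Space S) (hX : IsDecent X.obj) {U : Over S} {a : (yon S).obj U ⟶ X.obj}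
    (ha : RepWith @Etale a) (V : U.left.Opens) (W : Opens (Points X.obj))
    (hW : (W : Set (Points X.obj)) = Points.ofPt a '' (V : Set U.left)) :
    topologicalKrullDim (V : Set U.left) = topologicalKrullDim (W : Set (Points X.obj)) := by
  have := Groth.Agent.S10338.result X hX
  have := Groth.Agent.S10339.result X hX
  have : QuasiSober (W : Set (Points X.obj)) :=
    W.isOpenEmbedding'.quasiSober
  have : QuasiSober (V : Set U.left) := inferInstanceAs (QuasiSober V.toScheme)
  have hm : Set.MapsTo (Points.ofPt a) (V : Set U.left) (W : Set (Points X.obj)) :=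
    fun x hx => hW ▸ ⟨x, hx, rfl⟩
  refine le_antisymm (Groth.Agent.H17.topologicalKrullDim_le_of_noSpecializationsInFibres
    (hm.restrict (Points.ofPt a) _ _) ((Points.continuous_ofPt a).restrict hm) fun x y hxy e => ?_)
    (Groth.Agent.H17.topologicalKrullDim_le_of_generalizingMap (hm.restrict (Points.ofPt a) _ _) ?_ ?_)
  · exact Subtype.ext (Groth.Agent.H13AlgSp.eq_of_specializes_chart hX ha
      (hxy.map continuous_subtype_val) (congrArg Subtype.val e).symm).symm
  · intro x y hy
    obtain ⟨z, hz, hzy⟩ := Groth.Agent.H13AlgSp.generalizingMap_chart hX ha (hy.map continuous_subtype_val)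
    exact ⟨⟨z, hz.mem_open V.isOpen x.2⟩, (subtype_specializes_iff _ _).2 hz, Subtype.ext hzy⟩
  · rintro ⟨y, hy⟩
    rw [hW] at hy
    obtain ⟨x, hx, rfl⟩ := hy
    exact ⟨⟨x, hx⟩, rfl⟩

theorem localDim_chart_points (X : Space S) (hX : IsDecent X.obj) {U : Over S} {a : (yon S).obj U ⟶ X.obj}
    (ha : RepWith @Etale a) (u : U.left) :
    FlatMor.localDim ↥U.left u = FlatMor.localDim (Points X.obj) (Points.ofPt a u) := by
  have ho := isOpenMap_ofPt_of_repWith etale_le_universallyOpen ha
  refine le_antisymm (le_iInf fun W => ?_) (le_iInf fun V => ?_)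
  · let V : U.left.Opens := ⟨Points.ofPt a ⁻¹' (W.1 : Set _), W.1.2.preimage (Points.continuous_ofPt a)⟩
    refine (H28Top.localDim_le (X := U.left) u (U := V) W.2).trans ?_
    rw [dim_open_chart_eq X hX ha V ⟨_, ho _ V.2⟩ rfl]
    exact IsInducing.topologicalKrullDim_le (f := Set.inclusion (Set.image_preimage_subset _ _))
      (IsEmbedding.inclusion _).isInducing
  · rw [dim_open_chart_eq X hX ha V.1 ⟨_, ho _ V.1.2⟩ rfl]
    exact H28Top.localDim_le (X := Points X.obj) _ ⟨u, V.2, rfl⟩

end Groth.Agent.H12AlgSp
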