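import Groth.Agent.H13AlgSp.FibreCount
import Groth.Agent.H13AlgSp.DecentCriteria
import Groth.Agent.H12AlgSp.RelDimApps
import Groth.Agent.H12AlgSp.DecentClosed
import Groth.Agent.H12AlgSp.SepAbsolute
import Groth.Agent.H12AlgSp.Codim

/-!
Locally Noetherian decent algebraic spaces are quasi-separated.
-/

universe u

open CategoryTheory CategoryTheory.Limits AlgebraicGeometry Opposite Topology TopologicalSpace
open AlgSp Groth.Agent.H13AlgSp

namespace Groth.Agent.H12AlgSp

section scheme

variable {R U : Scheme.{u}} (s : R ⟶ U) [Etale s] [IsSeparated s]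

/-- Finite fibres over a Noetherian open have bounded size. -/
theorem exists_atLeast_bound [IsLocallyNoetherian U] {O : U.Opens} (hO : IsAffineOpen O)
    (hfin : ∀ v, (s ⁻¹' {v}).Finite) : ∃ M, ∀ v ∈ O, ¬ AtLeast s M v := by
  have hO' : IsAffine O.toScheme := hO
  have : IsNoetherian O.toScheme := { }
  have hg : (genericPoints O.toScheme).Finite :=
    genericPoints.finite NoetherianSpace.finite_irreducibleComponents
  choose N hN using fun η : O.toScheme => exists_not_atLeast s (hfin η.1)
  obtain ⟨M, hM⟩ := (hg.image N).bddAbove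
  refine ⟨M, fun v hv h => ?_⟩
  obtain ⟨η, hη, hsp⟩ := Groth.Agent.H8Props.exists_genericPoints_specializes (show O.toScheme from ⟨v, hv⟩)
  exact hN η (atLeast_of_le s (hM ⟨η, hη, rfl⟩)
    ((hsp.map O.ι.continuous).mem_open (isOpen_atLeast s M) h))

/-- A separated etale morphism with finite fibres to a locally Noetherian scheme is quasi-compact. -/
theorem quasiCompact_of_finite_fibres_noetherian [IsLocallyNoetherian U]
    (hfin : ∀ v, (s ⁻¹' {v}).Finite) : QuasiCompact s := by
  classical
  refine quasiCompact_iff_forall_isAffineOpen.2 fun O hO => ?_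
  have hO' : IsAffine O.toScheme := hO
  have : IsNoetherian O.toScheme := { }
  obtain ⟨M, hM⟩ := exists_atLeast_bound s hO hfin
  have hD : ∀ m, IsCompact ((O : Set U) ∩ {v | AtLeast s m v}) := fun m => by
    have h : IsCompact (O.ι ⁻¹' {v | AtLeast s m v}) := NoetherianSpace.isCompact _
    have h' := h.image O.ι.continuous
    rwa [Set.image_preimage_eq_inter_range, O.range_ι, Set.inter_comm] at h'
  have e : s ⁻¹' (O : Set U) = ⋃ m ∈ Finset.range M,
      s ⁻¹' ({v | ¬ AtLeast s (m + 1) v} ∩ ((O : Set U) ∩ {v | AtLeast s m v})) := by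
    ext r
    simp only [Set.mem_iUnion, Set.mem_preimage, Set.mem_inter_iff, Finset.mem_range, exists_prop]
    constructor
    · intro hr
      have h := hM _ hr
      have hex : ∃ n, ¬ AtLeast s n (s r) := ⟨M, hM _ hr⟩
      have h1 := Nat.find_spec hex
      have h2 := Nat.find_min' hex (hM _ hr)
      obtain ⟨m, hm⟩ : ∃ m, Nat.find hex = m + 1 := Nat.exists_eq_succ_of_ne_zero fun h0 => by
        rw [h0] at h1
        exact h1 (atLeast_zero s _)
      refine ⟨m, by omega, hm ▸ h1, hr, ?_⟩
      by_contra hc
      have := Nat.find_min' hex hc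
      omega
    · rintro ⟨m, -, -, hr, -⟩
      exact hr
  change IsCompact (s ⁻¹' (O : Set U))
  rw [e]
  refine (Finset.range M).isCompact_biUnion fun m _ => ?_
  exact isCompact_preimage_of_constant s (isOpen_atLeast s (m + 1)).isClosed_compl
    (O.2.inter (isOpen_atLeast s m)) (hD m) (fun v _ => hfin v) (fun v hv => ⟨hv.2.2, hv.1⟩)

end scheme

variable {S : Scheme.{u}}

/-- The projections of a self product of a decent space have finite fibres on affine opens. -/
theorem finite_fibre_proj {X : Sp S} (hX : IsAlgSpace X) (hd : IsDecent X) {U R : Over S}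
    {a : (yon S).obj U ⟶ X} (ha : RepWith @Etale a) {s t : R ⟶ U}
    (sq : IsPullback ((yon S).map t) ((yon S).map s) a a) {O : U.left.Opens} (hO : IsAffineOpen O) (u : U.left) :
    {r : R.left | t.left r = u ∧ s.left r ∈ O}.Finite := by
  let iu : Over.mk (U.left.fromSpecResidueField u ≫ U.hom) ⟶ U :=
    Over.homMk (U.left.fromSpecResidueField u) rfl
  have sqF := IsPullback.of_hasPullback t iu
  have sqf := sqF.map (Over.forget S)
  have ht : Etale t.left := ha.2 a _ t sq.flip
  have big' : IsPullback ((yon S).map (pullback.fst t iu ≫ s)) ((yon S).map (pullback.snd t iu))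
      a ((yon S).map iu ≫ a) := by
    have h := ((sqF.map (yon S)).flip.paste_vert sq).flip
    rw [← Functor.map_comp] at h
    exact h
  have hq : QuasiCompact (pullback.fst t iu ≫ s).left :=
    (repWith_qc_fieldPt hX hd ((yon S).map iu ≫ a)).2 a _ _ big'.flip
  let pk : (pullback t iu).left ⟶ Spec (CommRingCat.of (U.left.residueField u)) := (pullback.snd t iu).left
  have : Etale pk := MorphismProperty.of_isPullback (P := @Etale) sqf ht
  have : LocallyQuasiFinite pk := lqf_of_etale pk
  have : DiscreteTopology (pullback t iu).left := discreteTopology_of_lqf_to_field pk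
  have hc := (pullback.fst t iu ≫ s).left.isCompact_preimage (U := O) hO.isCompact
  refine ((hc.finite_of_discrete).image (pullback.fst t iu).left).subset fun r hr => ?_
  obtain ⟨z, hz₁, -⟩ := Scheme.Pullback.exists_preimage_pullback (f := (Over.forget S).map t)
    (g := (Over.forget S).map iu) r (IsLocalRing.closedPoint _)
    (hr.1.trans (Scheme.fromSpecResidueField_apply _ _).symm)
  have hz : (pullback.fst t iu).left (sqf.isoPullback.inv z) = r :=
    Eq.trans (congrArg (fun f => f z) sqf.isoPullback_inv_fst) hz₁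
  refine ⟨sqf.isoPullback.inv z, ?_, hz⟩
  show s.left ((pullback.fst t iu).left (sqf.isoPullback.inv z)) ∈ O
  rw [hz]
  exact hr.2

/-- A locally Noetherian decent space is quasi-separated. -/
theorem isQuasiSeparatedSp_of_decent_noetherian {X : Sp S} (hX : IsAlgSpace X) (hN : IsLocNoethSp X)
    (hd : IsDecent X) : IsQuasiSeparatedSp X := by
  obtain ⟨U, a, ha, has⟩ := hX.atlas
  have hUn : IsLocallyNoetherian U.left := isLocallyNoetherian_chart hX hN ha
  obtain ⟨R, s, t', sq⟩ := ha.1 a
  obtain ⟨t, rfl⟩ := (yon S).map_surjective t'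
  have hse : Etale s.left := ha.2 a _ s sq
  have hte : Etale t.left := ha.2 a _ t sq.flip
  let j := toAbsProd t.left s.left
  have hmono : Mono j := ⟨fun {Z} x y h => by
    have h1 : x ≫ t.left = y ≫ t.left := by
      have h' := h =≫ pullback.fst _ _
      simp only [j, toAbsProd, Category.assoc, pullback.lift_fst] at h'
      exact h'
    have h2 : x ≫ s.left = y ≫ s.left := by
      have h' := h =≫ pullback.snd _ _
      simp only [j, toAbsProd, Category.assoc, pullback.lift_snd] at h'
      exact h'
    have hy : y ≫ R.hom = x ≫ R.hom := by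
      rw [← Over.w t, reassoc_of% h1]
    let x' : Over.mk (x ≫ R.hom) ⟶ R := Over.homMk x rfl
    let y' : Over.mk (x ≫ R.hom) ⟶ R := Over.homMk y hy
    have e : (yon S).map x' = (yon S).map y' := sq.hom_ext
      (by rw [← Functor.map_comp, ← Functor.map_comp]; exact congrArg _ (Over.OverMorphism.ext h1))
      (by rw [← Functor.map_comp, ← Functor.map_comp]; exact congrArg _ (Over.OverMorphism.ext h2))
    exact congrArg (fun k => Over.Hom.left k) ((yon S).map_injective e)⟩
  let p₁ := pullback.fst (terminal.from U.left) (terminal.from U.left)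
  let p₂ := pullback.snd (terminal.from U.left) (terminal.from U.left)
  have hjqc : QuasiCompact j := by
    refine IsZariskiLocalAtTarget.of_iSup_eq_top (P := @QuasiCompact)
      (fun O : U.left.affineOpens => p₂ ⁻¹ᵁ O.1) ?_ fun O => ?_
    · rw [← Scheme.Hom.preimage_iSup, iSup_affineOpens_eq_top, Scheme.Hom.preimage_top]
    have hO : IsAffine (O.1 : U.left.Opens).toScheme := O.2
    have sqO : IsPullback ((p₂ ⁻¹ᵁ O.1).ι ≫ p₁) (p₂ ∣_ O.1) (terminal.from U.left)
        (O.1.ι ≫ terminal.from U.left) :=
      ((isPullback_morphismRestrict p₂ O.1).paste_vert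
        (IsPullback.of_hasPullback (terminal.from U.left) (terminal.from U.left)).flip).flip
    have hsep : IsSeparated ((p₂ ⁻¹ᵁ O.1).ι ≫ p₁) :=
      MorphismProperty.of_isPullback (P := @IsSeparated) sqO.flip inferInstance
    let g := (j ∣_ (p₂ ⁻¹ᵁ O.1)) ≫ (p₂ ⁻¹ᵁ O.1).ι ≫ p₁
    have hg : g = (j ⁻¹ᵁ (p₂ ⁻¹ᵁ O.1)).ι ≫ t.left := by
      simp only [g, morphismRestrict_ι_assoc, j, p₁, pullback.lift_fst]
    have : Mono (j ∣_ (p₂ ⁻¹ᵁ O.1)) :=
      MorphismProperty.of_isPullback (P := MorphismProperty.monomorphisms Scheme)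
        (isPullback_morphismRestrict j _).flip (.infer_property j)
    have : IsSeparated g := inferInstance
    have : Etale g := by rw [hg]; infer_instance
    have : QuasiCompact g := quasiCompact_of_finite_fibres_noetherian g fun u => by
      refine ((finite_fibre_proj hX hd ha sq O.2 u).preimage
        (j ⁻¹ᵁ (p₂ ⁻¹ᵁ O.1)).ι.injective.injOn).subset fun r hr => ?_
      refine ⟨?_, ?_⟩
      · rw [← Scheme.Hom.comp_apply, ← hg]
        exact hr
      · have h := r.2
        change (j ≫ p₂) r.1 ∈ O.1 at h
        rw [show j ≫ p₂ = s.left from pullback.lift_snd _ _ _] at h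
        exact h
    exact QuasiCompact.of_comp _ ((p₂ ⁻¹ᵁ O.1).ι ≫ p₁)
  refine repWith_quasiCompact_of_atlas hX.diag
    (MorphismProperty.RespectsIso.precomp _ _ _ (repWith_prodMap ha ha))
    (MorphismProperty.RespectsIso.precomp _ _ _ (repWith_prodMap has has)) (isPullback_diag_prodHom sq) ?_
  let e : absProd U.left U.left ≅ pullback (U.hom ≫ terminal.from S) (U.hom ≫ terminal.from S) :=
    pullback.congrHom (Subsingleton.elim _ _) (Subsingleton.elim _ _)
  have hj : j = (prod.lift t s).left ≫ (Over.prodLeftIsoPullback U U).hom ≫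
      pullback.mapDesc U.hom U.hom (terminal.from S) ≫ e.inv := by
    apply pullback.hom_ext
    · simp only [j, pullback.lift_fst, e, pullback.congrHom_inv, pullback.mapDesc, pullback.map, Category.assoc,
        pullback.lift_fst_assoc, Category.comp_id, Over.prodLeftIsoPullback_hom_fst]
      rw [← Over.comp_left, prod.lift_fst]
    · simp only [j, pullback.lift_snd, e, pullback.congrHom_inv, pullback.mapDesc, pullback.map, Category.assoc,
        pullback.lift_snd_assoc, Category.comp_id, Over.prodLeftIsoPullback_hom_snd]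
      rw [← Over.comp_left, prod.lift_snd]
  have : QuasiCompact ((prod.lift t s).left ≫ (Over.prodLeftIsoPullback U U).hom ≫
      pullback.mapDesc U.hom U.hom (terminal.from S) ≫ e.inv) := hj ▸ hjqc
  exact QuasiCompact.of_comp _ ((Over.prodLeftIsoPullback U U).hom ≫
    pullback.mapDesc U.hom U.hom (terminal.from S) ≫ e.inv)

end Groth.Agent.H12AlgSp
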