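import Groth.Agent.H12AlgSp.ValuativeRefined
import Mathlib.AlgebraicGeometry.Morphisms.FlatDescent
import Mathlib.AlgebraicGeometry.EffectiveEpi
import Mathlib.AlgebraicGeometry.Morphisms.UniversallyInjective
import Mathlib.RingTheory.Flat.FaithfullyFlat.Algebra

/-!
Equalities of points descend along faithfully flat ring maps.
-/

set_option linter.unusedVariables false

universe u

open CategoryTheory CategoryTheory.Limits AlgebraicGeometry Opposite Topology IsLocalRing
open AlgSp

namespace Groth.Agent.H12AlgSp

variable {S : Scheme.{u}} {X Y : Sp S}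

open RPt

theorem faithfullyFlat_of_isLocalHom {A B : Type u} [CommRing A] [IsDomain A] [ValuationRing A] [CommRing B]
    [IsDomain B] [IsLocalRing B] (g : A →+* B) (hg : Function.Injective g) [IsLocalHom g] :
    g.FaithfullyFlat := by
  let := g.toAlgebra
  have : FaithfulSMul A B := (faithfulSMul_iff_algebraMap_injective _ _).2 hg
  have : Module.IsTorsionFree A B := inferInstance
  have : Module.Flat A B := by
    rw [Module.Flat.flat_iff_torsion_eq_bot_of_isBezout]
    exact Submodule.isTorsionFree_iff_torsion_eq_bot.1 inferInstance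
  have : IsLocalHom (algebraMap A B) := ‹_›
  exact RingHom.faithfullyFlat_algebraMap_iff.2 Module.FaithfullyFlat.of_flat_of_isLocalHom

theorem eq_of_res_str {R R' : Type u} [CommRing R] [CommRing R'] {g : R →+* R'} (hg : g.FaithfullyFlat)
    {p q : RPt Y R} (h : res g p = res g q) : p.str = q.str := by
  have hk : Flat (Spec.map (CommRingCat.ofHom g)) ∧ Surjective (Spec.map (CommRingCat.ofHom g)) := by
    rwa [flat_and_surjective_SpecMap_iff]
  have := hk.1
  have := hk.2
  have := Flat.epi_of_flat_of_surjective (Spec.map (CommRingCat.ofHom g))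
  exact (cancel_epi (Spec.map (CommRingCat.ofHom g))).1 (congrArg RPt.str h)

/-- Two points of a space equal after a faithfully flat extension are equal. -/
theorem eq_of_res_faithfullyFlat (hY : IsAlgSpace Y) {R R' : Type u} [CommRing R] [CommRing R']
    {g : R →+* R'} (hg : g.FaithfullyFlat) {p q : RPt Y R} (h : res g p = res g q) : p = q := by
  have hs := eq_of_res_str hg h
  obtain ⟨s, x⟩ := p
  obtain ⟨s', y⟩ := q
  dsimp only at hs
  subst hs
  have hxy := RPt.hom_eq_of_eq (p := res g ⟨s, x⟩) (y := (res g ⟨s, y⟩).hom) (h.trans rfl)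
  simp only [res] at hxy
  let T : Over S := Over.mk s
  let T' : Over S := Over.mk (Spec.map (CommRingCat.ofHom g) ≫ s)
  let k : T' ⟶ T := Over.homMk (Spec.map (CommRingCat.ofHom g)) rfl
  have hm : RepWith (MorphismProperty.monomorphisms Scheme.{u}) (Limits.diag Y) := repWith_mono_diag hY
  obtain ⟨W, w, a, sq⟩ := hY.diag (prod.lift x y)
  have : Mono w.left := hm.property _ a w sq
  have hxy' : (yon S).map k ≫ x = (yon S).map k ≫ y := hxy
  obtain ⟨σ, -, hσ⟩ := sq.exists_lift ((yon S).map k ≫ x) ((yon S).map k) (by
    apply Limits.prod.hom_ext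
    · simp only [Category.assoc, prod.lift_fst, Category.comp_id]
    · simp only [Category.assoc, prod.lift_snd, Category.comp_id]
      exact hxy')
  obtain ⟨σ, rfl⟩ := (yon S).map_surjective σ
  have hσw : σ ≫ w = k := (yon S).map_injective (by rw [Functor.map_comp, hσ])
  have hk : Flat k.left ∧ Surjective k.left := by
    change Flat (Spec.map (CommRingCat.ofHom g)) ∧ Surjective (Spec.map (CommRingCat.ofHom g))
    rwa [flat_and_surjective_SpecMap_iff]
  have := hk.1
  have := hk.2
  have : IsAffine T.left := inferInstanceAs (IsAffine (Spec (CommRingCat.of R)))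
  have : IsAffine T'.left := inferInstanceAs (IsAffine (Spec (CommRingCat.of R')))
  have hσs : Function.Surjective σ.left := fun z => by
    obtain ⟨t, ht⟩ := k.left.surjective (w.left z)
    refine ⟨t, ?_⟩
    have hw : Function.Injective w.left := Scheme.Hom.injective w.left
    apply hw
    rw [← Scheme.Hom.comp_apply, ← Over.comp_left, hσw, ht]
  have : CompactSpace ↥W.left := hσs.compactSpace σ.left.continuous
  have : QuasiCompact w.left := (HasAffineProperty.iff_of_isAffine (P := @QuasiCompact)).2 inferInstance
  let snd := pullback.snd w.left k.left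
  have hiso : IsIso snd := by
    let s' : T'.left ⟶ pullback w.left k.left := pullback.lift σ.left (𝟙 _)
      (by rw [← Over.comp_left, hσw, Category.id_comp])
    have : IsSplitEpi snd := IsSplitEpi.mk' ⟨s', pullback.lift_snd _ _ _⟩
    exact isIso_of_mono_of_isSplitEpi snd
  have hw : IsIso w.left :=
    MorphismProperty.of_pullback_snd_of_descendsAlong (P := MorphismProperty.isomorphisms Scheme.{u})
      (Q := @Surjective ⊓ @Flat ⊓ @QuasiCompact) (f := w.left) (g := k.left)
      ⟨⟨inferInstance, inferInstance⟩, inferInstance⟩ hiso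
  have : IsIso w := by
    have : IsIso ((Over.forget S).map w) := hw
    exact isIso_of_reflects_iso w (Over.forget S)
  have e := sq.w
  have e₁ := e =≫ prod.fst
  have e₂ := e =≫ prod.snd
  simp only [Category.assoc, prod.lift_fst, prod.lift_snd, Category.comp_id] at e₁ e₂
  have : x = y := (cancel_epi ((yon S).map w)).1 (e₁.symm.trans e₂)
  rw [this]

end Groth.Agent.H12AlgSp
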