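import Groth.Agent.H12AlgSp.RelDimApps
import Groth.Agent.H17.DimIneqScheme
import Groth.Agent.H28Top.Dim
import Groth.Agent.H23Comp.Flat
import Groth.Agent.H13AlgSp.DecentGeneric

/-!
The dimension formula for algebraic spaces locally of finite type.
-/

set_option backward.isDefEq.respectTransparency false

universe u

open CategoryTheory CategoryTheory.Limits AlgebraicGeometry Topology TopologicalSpace
open AlgSp

namespace Groth.Agent.H12AlgSp

theorem topologicalKrullDim_le_of_stalks {X : Scheme.{u}} (M : WithBot ℕ∞)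
    (h : ∀ x : X, ringKrullDim (X.presheaf.stalk x) ≤ M) : topologicalKrullDim X ≤ M := by
  rw [Groth.Agent.H17.topologicalKrullDim_eq_krullDim_specialization]
  rcases isEmpty_or_nonempty X with hX | hX
  · rw [Order.krullDim_eq_bot]; exact bot_le
  refine (Order.krullDim_eq_iSup_coheight_of_nonempty).trans_le ?_
  obtain ⟨x⟩ := id hX
  obtain ⟨m, hm⟩ := WithBot.ne_bot_iff_exists.1 (ne_bot_of_le_ne_bot
    (ne_of_gt (lt_of_lt_of_le (WithBot.bot_lt_coe 0) ringKrullDim_nonneg_of_nontrivial)) (h x))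
  rw [← hm] at h ⊢
  refine WithBot.coe_le_coe.2 (iSup_le fun y => ?_)
  have := h y
  rw [ringKrullDim_stalk_eq_coheight, WithBot.coe_le_coe] at this
  exact this

variable {S : Scheme.{u}}

theorem stalkDim_add_trdeg_le {X Y : Sp S} (hY : IsAlgSpace Y) (hYn : IsLocNoethSp Y) {f : X ⟶ Y}
    (hf : LocP @LocallyOfFiniteType f) {U V : Over S} {a : (yon S).obj U ⟶ X}
    {b : (yon S).obj V ⟶ Y} {h : U ⟶ V} (ha : RepWith @Etale a) (hb : RepWith @Etale b)
    (w : a ≫ f = (yon S).map h ≫ b) (u : U.left) (E : Cardinal.{u})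
    (hE : ∀ ξ : Points X, ξ ⤳ Points.ofPt a u →
      HasAt (fun U u => ringKrullDim ↥(U.presheaf.stalk u) = 0) X ξ →
      ∀ s : Cardinal.{u}, HasAtMor (fun _ _ h u => Dual3.resTrdeg h u = s) f ξ → s ≤ E) :
    ringKrullDim (U.left.presheaf.stalk u) + ((Cardinal.toENat (Dual3.resTrdeg h.left u) : ℕ∞) : WithBot ℕ∞) ≤
      ringKrullDim (V.left.presheaf.stalk (h.left u)) + ((Cardinal.toENat E : ℕ∞) : WithBot ℕ∞) := by
  have := isLocallyNoetherian_chart hY hYn hb
  have : LocallyOfFiniteType h.left := hf a b h ha hb w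
  induction hA : ringKrullDim (U.left.presheaf.stalk u) using WithBot.recBotCoe with
  | bot => simp
  | coe A =>
  induction hB : ringKrullDim (V.left.presheaf.stalk (h.left u)) using WithBot.recBotCoe with
  | bot => exact absurd hB (ne_of_gt (lt_of_lt_of_le (WithBot.bot_lt_coe 0) ringKrullDim_nonneg_of_nontrivial))
  | coe Bd =>
  rw [← WithBot.coe_add, ← WithBot.coe_add, WithBot.coe_le_coe]
  induction hn : Cardinal.toENat E using ENat.recTopCoe with
  | top => simp
  | coe n =>
  have hn' : E = (n : Cardinal.{u}) := Cardinal.toENat_eq_natCast.1 hn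
  obtain ⟨d, hd, hl⟩ := Groth.Agent.H17.DimIneq.scheme_ineq h.left u n (fun ξ hξ hξu => by
    rw [← hn']
    refine hE _ (hξu.map (Points.continuous_ofPt a)) ⟨U, a, ξ, ha, rfl, ?_⟩ _
      (((etInvAt_resTrdeg (· = Dual3.resTrdeg h.left ξ)).hasAtMor_iff (locP_top f) ha hb w ξ).2 rfl)
    exact (ringKrullDim_stalk_eq_zero_iff ξ).2 hξ)
  rw [hB, WithBot.coe_inj] at hd
  subst hd
  have key : ∀ l : ℕ, (l : ℕ∞) ≤ A → (l : ℕ∞) + Cardinal.toENat (Dual3.resTrdeg h.left u) ≤ Bd + n := by
    intro l hlA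
    have := OrderHomClass.mono Cardinal.toENat (hl l (by rw [hA]; exact_mod_cast hlA))
    rw [map_add, map_add, Cardinal.toENat_nat, Cardinal.toENat_ofENat, Cardinal.toENat_nat] at this
    exact this
  induction A using ENat.recTopCoe with
  | top =>
    have : Bd + n = ⊤ := by
      by_contra hne
      obtain ⟨m, hm⟩ := ENat.ne_top_iff_exists.1 hne
      have := key (m + 1) le_top
      rw [← hm] at this
      have h2 : ((m + 1 : ℕ) : ℕ∞) ≤ (m : ℕ∞) := le_self_add.trans this
      exact Nat.not_succ_le_self m (by exact_mod_cast h2)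
    rw [this]; exact le_top
  | coe A => exact key A le_rfl

end Groth.Agent.H12AlgSp
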