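import Groth.Agent.H12AlgSp.DecentPoint
import Groth.Agent.H17.Fibre
import Mathlib.AlgebraicGeometry.Morphisms.QuasiFinite

/-!
Locally quasi-finite morphisms of algebraic spaces have discrete fibres, and conversely.
-/

universe u

open CategoryTheory CategoryTheory.Limits AlgebraicGeometry Opposite Topology
open AlgSp Groth.Agent.H13AlgSp

namespace Groth.Agent.H12AlgSp

variable {S : Scheme.{u}}

theorem discreteTopology_points_of_atlas {P : Sp S} {W : Over S} {p : (yon S).obj W ⟶ P}
    (hp : RepWith @Etale p) (hps : RepWith @Surjective p) [DiscreteTopology W.left] :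
    DiscreteTopology (Points P) := by
  refine discreteTopology_iff_isOpen_singleton.2 fun y => ?_
  obtain ⟨w, rfl⟩ := surjective_ofPt_of_repWith le_rfl hps y
  simpa using isOpenMap_ofPt_of_repWith (fun _ _ k (_ : Etale k) => (inferInstance : UniversallyOpen k)) hp _
    (isOpen_discrete {w})

/-- Charts of a space which is locally of finite type over a field with discrete points are discrete. -/
theorem discreteTopology_chart {P : Sp S} (hP : IsAlgSpace P) [DiscreteTopology (Points P)] {k : Type u} [Field k]
    {str : Spec (CommRingCat.of k) ⟶ S} {s : P ⟶ (yon S).obj (Over.mk str)} (hs : LocP @LocallyOfFiniteType s)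
    {W : Over S} {q : (yon S).obj W ⟶ P} (hq : RepWith @Etale q) : DiscreteTopology W.left := by
  obtain ⟨W₀, p, hp, hps⟩ := hP.atlas
  have key : ∀ (W : Over S) (q : (yon S).obj W ⟶ P), RepWith @Etale q → IsLocallyNoetherian W.left := fun W q hq => by
    obtain ⟨w, hw⟩ := (yon S).map_surjective (q ≫ s)
    let w' : W.left ⟶ Spec (CommRingCat.of k) := w.left
    have : LocallyOfFiniteType w' := hs q (𝟙 _) w hq (repWith_id _ (Over.mk str)) (by rw [hw, Category.comp_id])
    exact LocallyOfFiniteType.isLocallyNoetherian w'
  have hN : IsLocNoethSp P := ⟨W₀, p, hp, hps, key W₀ p hp⟩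
  have := key W q hq
  refine Groth.Agent.H17.discreteTopology_of_isClosed_singleton fun w => ?_
  refine closure_subset_iff_isClosed.1 fun v hv => Set.mem_singleton_iff.2 ?_
  have hs' : w ⤳ v := specializes_iff_mem_closure.2 hv
  have h2 : Points.ofPt q w = Points.ofPt q v := (hs'.map (Points.continuous_ofPt q)).eq
  exact eq_of_specializes_of_locNoeth hP hN hq h2.symm hs'

theorem locP_lqf_iff_discrete {X Y : Sp S} (hX : IsAlgSpace X) (hY : IsAlgSpace Y) (f : X ⟶ Y)
    (hf : LocP @LocallyOfFiniteType f) :
    LocP ((@LocallyQuasiFinite : MorphismProperty Scheme.{u}) ⊓ @LocallyOfFiniteType) f ↔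
      ∀ (k : Type u) [Field k] (str : Spec (CommRingCat.of k) ⟶ S) (y : (yon S).obj (Over.mk str) ⟶ Y)
        (P : Sp S) (fst : P ⟶ X) (snd : P ⟶ (yon S).obj (Over.mk str)),
        IsPullback fst snd f y → DiscreteTopology (Points P) := by
  constructor
  · intro h k _ str y P fst snd sq
    have hP := isAlgSpace_of_isPullback hY.diag hX (IsAlgSpace.yon_obj _) sq
    have h' := locP_of_isPullback (etLocal_inf etLocal_lqf etLocal_lft) sq hX hY (IsAlgSpace.yon_obj _) h
    obtain ⟨W, p, hp, hps⟩ := hP.atlas
    obtain ⟨w, hw⟩ := (yon S).map_surjective (p ≫ snd)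
    let w' : W.left ⟶ Spec (CommRingCat.of k) := w.left
    obtain ⟨h1, -⟩ := h' p (𝟙 _) w hp (repWith_id _ (Over.mk str)) (by rw [hw, Category.comp_id])
    have : LocallyQuasiFinite w' := h1
    have : IsLocallyArtinian W.left := IsLocallyArtinian.of_locallyQuasiFinite w'
    exact discreteTopology_points_of_atlas hp hps
  · intro hd U V a b h ha hb e
    have hl : LocallyOfFiniteType h.left := hf a b h ha hb e
    refine ⟨locallyQuasiFinite_iff_isDiscrete_preimage_singleton.2 fun v => ?_, hl⟩
    let K := (FieldPt.ofPt b v).pt
    let j : K ⟶ V := Over.homMk (V.left.fromSpecResidueField v) rfl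
    let y : (yon S).obj K ⟶ Y := (yon S).map j ≫ b
    have := hd (V.left.residueField v) (V.left.fromSpecResidueField v ≫ V.hom) y _ _ _
      (IsPullback.of_hasPullback f y)
    have hP := isAlgSpace_pullback hY.diag hX (IsAlgSpace.yon_obj K) f y
    have hls := locP_of_isPullback etLocal_lft (IsPullback.of_hasPullback f y) hX hY (IsAlgSpace.yon_obj K) hf
    obtain ⟨W, w, u', sqW⟩ := hY.representable_from_yon (a ≫ f) y
    obtain ⟨u, rfl⟩ := (yon S).map_surjective u'
    let q : (yon S).obj W ⟶ pullback f y :=
      pullback.lift ((yon S).map u ≫ a) ((yon S).map w) (by rw [Category.assoc, sqW.w])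
    have sqa : IsPullback ((yon S).map u) q a (pullback.fst f y) :=
      IsPullback.of_bot (by rw [show q ≫ pullback.snd f y = (yon S).map w from pullback.lift_snd _ _ _]; exact sqW)
        (pullback.lift_fst _ _ _).symm (IsPullback.of_hasPullback f y)
    have hq : RepWith @Etale q := repWith_of_isPullback sqa ha
    have : DiscreteTopology W.left := discreteTopology_chart hP hls hq
    let z : pullback h j ⟶ U := pullback.fst h j
    obtain ⟨m, hm⟩ := (yon S).map_surjective (sqW.lift ((yon S).map z) ((yon S).map (pullback.snd h j)) (by
      rw [← Category.assoc ((yon S).map (pullback.snd h j)), ← Functor.map_comp, ← pullback.condition,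
        Functor.map_comp, Category.assoc, ← e]))
    have hm1 : m ≫ u = z := (yon S).map_injective (by rw [Functor.map_comp, hm, sqW.lift_fst])
    have sqS : IsPullback z.left (pullback.snd h j).left h.left j.left :=
      (IsPullback.of_hasPullback h j).map (Over.forget S)
    have hpre : IsPreimmersion z.left := MorphismProperty.of_isPullback sqS.flip
      (inferInstanceAs (IsPreimmersion (V.left.fromSpecResidueField v)))
    have hinj : Function.Injective z.left := z.left.isEmbedding.injective
    have hmi : Function.Injective m.left := fun x x' hx => hinj (by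
      rw [← hm1, Over.comp_left, Scheme.Hom.comp_apply, Scheme.Hom.comp_apply, hx])
    have : DiscreteTopology (pullback h j).left := DiscreteTopology.of_continuous_injective m.left.continuous hmi
    have hr : h.left ⁻¹' {v} = Set.range z.left := by
      refine Set.ext fun x => ⟨fun hx => ?_, ?_⟩
      · obtain ⟨r, hr, -⟩ := exists_point_of_isPullback ((IsPullback.of_hasPullback h j).map (yon S))
          (Points.ofScheme U x) (Points.ofScheme K (IsLocalRing.closedPoint _)) (by
            rw [Points.map_ofPt, Points.map_ofPt, Category.id_comp, Category.id_comp,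
              ← Category.comp_id ((yon S).map h), ← Category.comp_id ((yon S).map j), ofPt_map, ofPt_map,
              show h.left x = v from hx]
            exact congrArg _ (Scheme.fromSpecResidueField_apply _ _).symm)
        obtain ⟨r, rfl⟩ := (Points.schemeEquiv _).surjective r
        refine ⟨r, (Points.schemeEquiv U).injective (Eq.trans ?_ hr)⟩
        change Points.ofScheme _ _ = Points.map _ (Points.ofScheme _ _)
        rw [← Points.ofPt_eq_map_ofScheme, ← Category.comp_id ((yon S).map (pullback.fst h j)), ofPt_map]
      · rintro ⟨r, rfl⟩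
        change h.left (z.left r) = v
        rw [← Scheme.Hom.comp_apply, sqS.w, Scheme.Hom.comp_apply]
        exact Scheme.fromSpecResidueField_apply _ _
    rw [hr, ← Set.image_univ]
    exact (IsDiscrete.univ).image z.left.isEmbedding.toIsInducing

end Groth.Agent.H12AlgSp
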