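import Groth.Agent.H11Val.Point
import Mathlib.RingTheory.PowerSeries.Inverse

/-!
A discrete valuation ring through a specialization, the trivial one included.
-/

universe u

open CategoryTheory AlgebraicGeometry IsLocalRing

namespace Groth.Agent.H12AlgSp

/-- A specialization of an image point is realised by a discrete valuation ring. -/
theorem exists_dvr_square {X Y : Scheme.{u}} [IsLocallyNoetherian Y] (h : X ⟶ Y) [LocallyOfFiniteType h]
    (x : X) (y : Y) (hs : h x ⤳ y) :
    ∃ (A : Type u) (_ : CommRing A) (_ : IsDomain A) (_ : IsDiscreteValuationRing A)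
      (k : Spec (CommRingCat.of A) ⟶ Y) (l : Spec (CommRingCat.of (FractionRing A)) ⟶ X),
      k (closedPoint A) = y ∧ l ≫ h = Spec.map (CommRingCat.ofHom (algebraMap A (FractionRing A))) ≫ k := by
  by_cases hne : y = h x
  · subst hne
    let K := X.residueField x
    let C : (K : Type u) →+* PowerSeries K := PowerSeries.C
    refine ⟨PowerSeries K, inferInstance, inferInstance, inferInstance,
      Spec.map (CommRingCat.ofHom C) ≫ X.fromSpecResidueField x ≫ h,
      Spec.map (CommRingCat.ofHom ((algebraMap (PowerSeries K) (FractionRing (PowerSeries K))).comp C)) ≫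
        X.fromSpecResidueField x, ?_, ?_⟩
    · rw [Scheme.Hom.comp_apply, Scheme.Hom.comp_apply, Scheme.fromSpecResidueField_apply]
    · rw [Category.assoc, ← Spec.map_comp_assoc, ← CommRingCat.ofHom_comp]
  · obtain ⟨A, k, hA, hk, he⟩ := Groth.Agent.H11Val.exists_dvr_hom_through h x y hs hne
    obtain ⟨e, -, hee⟩ := Groth.Agent.H11Val.map_fractionRing A (X.residueField x)
    refine ⟨A, inferInstance, inferInstance, hA, k, e ≫ X.fromSpecResidueField x, hk, ?_⟩
    rw [Category.assoc, ← he, ← hee, Category.assoc]
    rfl

end Groth.Agent.H12AlgSp
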