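import Groth.Agent.H12AlgSp.Bootstrap
import Groth.Agent.H12AlgSp.Descent
import Groth.Prelude.Def_Desc

/-!
A sheaf over a scheme whose base change along an fppf cover is a scheme with an effective descent datum.
-/

universe u

open CategoryTheory CategoryTheory.Limits AlgebraicGeometry Opposite
open AlgSp Groth.Agent.H13AlgSp

namespace Groth.Agent.H12AlgSp

variable {S : Scheme.{u}} {Q : Sp S} {T W Q' : Over S} {q : Q ⟶ (yon S).obj T} {c : W ⟶ T}
  {q' : (yon S).obj Q' ⟶ Q} {b' : Q' ⟶ W}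
  (sqQ : IsPullback q' ((yon S).map b') q ((yon S).map c))

include sqQ in
theorem existsUnique_move {A : Over S} (v : A ⟶ Q') (x : A ⟶ W) (h : x ≫ c = v ≫ b' ≫ c) :
    ∃! w : A ⟶ Q', w ≫ b' = x ∧ (yon S).map w ≫ q' = (yon S).map v ≫ q' := by
  obtain ⟨w, hw₁, hw₂⟩ := sqQ.exists_lift ((yon S).map v ≫ q') ((yon S).map x) (by
    rw [Category.assoc, sqQ.w, ← Category.assoc, ← Functor.map_comp, ← Functor.map_comp, ← Functor.map_comp,
      Category.assoc, h])
  obtain ⟨w, rfl⟩ := (yon S).map_surjective w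
  refine ⟨w, ⟨(yon S).map_injective (by rw [Functor.map_comp, hw₂]), hw₁⟩, fun w' ⟨h₁, h₂⟩ =>
    (yon S).map_injective (sqQ.hom_ext (h₂.trans hw₁.symm) (by rw [hw₂, ← Functor.map_comp, h₁]))⟩

/-- The point of `Q'` over `x₁` with the same image in `Q`. -/
noncomputable def move {Z : Scheme.{u}} (x₀ x₁ : Z ⟶ W.left) (h : x₀ ≫ c.left = x₁ ≫ c.left)
    (v : Desc.Lifts (Over.mk b'.left) x₀) : Desc.Lifts (Over.mk b'.left) x₁ :=
  let A : Over S := Over.mk (x₀ ≫ W.hom)
  have e₀ : v.1 ≫ b'.left = x₀ := v.2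
  have h₁ : x₁ ≫ W.hom = x₀ ≫ W.hom := by
    rw [← Over.w c, ← Category.assoc, ← h, Category.assoc]
  have hex := existsUnique_move sqQ (A := A)
    (Over.homMk v.1 (show v.1 ≫ Q'.hom = x₀ ≫ W.hom by rw [← Over.w b', ← Category.assoc, e₀]))
    (Over.homMk x₁ h₁) (Over.OverMorphism.ext (by simp [← h, ← e₀]))
  ⟨hex.exists.choose.left, congrArg (fun t => Over.Hom.left t) hex.exists.choose_spec.1⟩

theorem move_spec {A : Over S} (x₀ x₁ : A.left ⟶ W.left) (h : x₀ ≫ c.left = x₁ ≫ c.left)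
    (v : Desc.Lifts (Over.mk b'.left) x₀) (v' w' : A ⟶ Q')
    (hv : v'.left = v.1) (hw : w'.left = (move sqQ x₀ x₁ h v).1) :
    (yon S).map w' ≫ q' = (yon S).map v' ≫ q' := by
  have e₀ : v.1 ≫ b'.left = x₀ := v.2
  have hA : A.hom = x₀ ≫ W.hom :=
    (Over.w v').symm.trans (by rw [hv, ← Over.w b', ← Category.assoc, e₀])
  let ι : A ⟶ Over.mk (x₀ ≫ W.hom) := Over.homMk (𝟙 A.left) ((Category.id_comp _).trans hA.symm)
  have h₁ : x₁ ≫ W.hom = x₀ ≫ W.hom := by
    rw [← Over.w c, ← Category.assoc, ← h, Category.assoc]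
  have hex := existsUnique_move sqQ (A := Over.mk (x₀ ≫ W.hom))
    (Over.homMk v.1 (show v.1 ≫ Q'.hom = x₀ ≫ W.hom by rw [← Over.w b', ← Category.assoc, e₀]))
    (Over.homMk x₁ h₁) (Over.OverMorphism.ext (by simp [← h, ← e₀]))
  have e₁ : v' = ι ≫ Over.homMk v.1 (show v.1 ≫ Q'.hom = x₀ ≫ W.hom by rw [← Over.w b', ← Category.assoc, e₀]) :=
    Over.OverMorphism.ext (hv.trans (Category.id_comp v.1).symm)
  have e₂ : w' = ι ≫ hex.exists.choose :=
    Over.OverMorphism.ext (hw.trans (Category.id_comp _).symm)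
  have aux : ∀ a b : Over.mk (x₀ ≫ W.hom) ⟶ Q', (yon S).map a ≫ q' = (yon S).map b ≫ q' →
      (yon S).map (ι ≫ a) ≫ q' = (yon S).map (ι ≫ b) ≫ q' := fun a b e => by
    rw [Functor.map_comp, Functor.map_comp, Category.assoc, Category.assoc, e]
  have key := aux _ _ hex.exists.choose_spec.2
  exact ((congrArg (fun t => (yon S).map t ≫ q') e₂).trans key).trans
    (congrArg (fun t => (yon S).map t ≫ q') e₁).symm

include sqQ in
theorem move_eq {A : Over S} (x₀ x₁ : A.left ⟶ W.left) (h : x₀ ≫ c.left = x₁ ≫ c.left)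
    (v : Desc.Lifts (Over.mk b'.left) x₀) (w : Desc.Lifts (Over.mk b'.left) x₁) (v' w' : A ⟶ Q')
    (hv : v'.left = v.1) (hw : w'.left = w.1)
    (hq : (yon S).map w' ≫ q' = (yon S).map v' ≫ q') : move sqQ x₀ x₁ h v = w := by
  apply Subtype.ext
  have hm : (move sqQ x₀ x₁ h v).1 ≫ b'.left = x₁ := (move sqQ x₀ x₁ h v).2
  have hw₁ : w.1 ≫ b'.left = x₁ := w.2
  let m : A ⟶ Q' := Over.homMk (move sqQ x₀ x₁ h v).1
    ((by rw [← Over.w b', ← Category.assoc, ← Category.assoc]; exact congrArg (· ≫ W.hom) (hm.trans hw₁.symm) :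
      (move sqQ x₀ x₁ h v).1 ≫ Q'.hom = w.1 ≫ Q'.hom).trans ((congrArg (· ≫ Q'.hom) hw.symm).trans (Over.w w')))
  have hmq := move_spec sqQ x₀ x₁ h v v' m hv rfl
  have : m = w' := (yon S).map_injective (sqQ.hom_ext (hmq.trans hq.symm) (by
    rw [← Functor.map_comp, ← Functor.map_comp]
    exact congrArg _ (Over.OverMorphism.ext (hm.trans (hw₁.symm.trans (congrArg (· ≫ b'.left) hw.symm))))))
  exact (congrArg (fun t => Over.Hom.left t) this).trans hw

/-- The descent datum of the base change of a sheaf. -/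
noncomputable def sheafDD : Desc.SchDD c.left where
  obj := Over.mk b'.left
  φ Z x₀ x₁ h :=
    { toFun := move sqQ x₀ x₁ h
      invFun := move sqQ x₁ x₀ h.symm
      left_inv := fun v => by
        have e₀ : v.1 ≫ b'.left = x₀ := v.2
        let w := move sqQ x₀ x₁ h v
        have ew : w.1 ≫ b'.left = x₁ := w.2
        have hh : x₁ ≫ W.hom = x₀ ≫ W.hom := by rw [← Over.w c, ← Category.assoc, ← h, Category.assoc]
        let A : Over S := Over.mk (x₀ ≫ W.hom)
        let v' : A ⟶ Q' := Over.homMk v.1 (show v.1 ≫ Q'.hom = x₀ ≫ W.hom by rw [← Over.w b', ← Category.assoc, e₀])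
        let w' : A ⟶ Q' := Over.homMk w.1 (show w.1 ≫ Q'.hom = x₀ ≫ W.hom by
          rw [← Over.w b', ← Category.assoc, ew, hh])
        exact move_eq sqQ (A := A) x₁ x₀ h.symm w v w' v' rfl rfl
          (move_spec sqQ (A := A) x₀ x₁ h v v' w' rfl rfl).symm
      right_inv := fun v => by
        have e₀ : v.1 ≫ b'.left = x₁ := v.2
        let w := move sqQ x₁ x₀ h.symm v
        have ew : w.1 ≫ b'.left = x₀ := w.2
        have hh : x₀ ≫ W.hom = x₁ ≫ W.hom := by rw [← Over.w c, ← Category.assoc, h, Category.assoc]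
        let A : Over S := Over.mk (x₁ ≫ W.hom)
        let v' : A ⟶ Q' := Over.homMk v.1 (show v.1 ≫ Q'.hom = x₁ ≫ W.hom by rw [← Over.w b', ← Category.assoc, e₀])
        let w' : A ⟶ Q' := Over.homMk w.1 (show w.1 ≫ Q'.hom = x₁ ≫ W.hom by
          rw [← Over.w b', ← Category.assoc, ew, hh])
        exact move_eq sqQ (A := A) x₀ x₁ h w v w' v' rfl rfl
          (move_spec sqQ (A := A) x₁ x₀ h.symm v v' w' rfl rfl).symm }
  φ_natural Z Z' g x₀ x₁ h h' v v' hv' := by
    have e₀ : v.1 ≫ b'.left = x₀ := v.2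
    let w := move sqQ x₀ x₁ h v
    have ew : w.1 ≫ b'.left = x₁ := w.2
    have hh : x₁ ≫ W.hom = x₀ ≫ W.hom := by rw [← Over.w c, ← Category.assoc, ← h, Category.assoc]
    let A : Over S := Over.mk (x₀ ≫ W.hom)
    let A' : Over S := Over.mk ((g ≫ x₀) ≫ W.hom)
    let gO : A' ⟶ A := Over.homMk g (Category.assoc _ _ _).symm
    let vA : A ⟶ Q' := Over.homMk v.1 (show v.1 ≫ Q'.hom = x₀ ≫ W.hom by rw [← Over.w b', ← Category.assoc, e₀])
    let wA : A ⟶ Q' := Over.homMk w.1 (show w.1 ≫ Q'.hom = x₀ ≫ W.hom by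
      rw [← Over.w b', ← Category.assoc, ew, hh])
    have hs := move_spec sqQ (A := A) x₀ x₁ h v vA wA rfl rfl
    exact congrArg Subtype.val (move_eq sqQ (A := A') (g ≫ x₀) (g ≫ x₁) h' v'
      ⟨g ≫ w.1, by change (g ≫ w.1) ≫ b'.left = _; rw [Category.assoc, ew]⟩ (gO ≫ vA) (gO ≫ wA) hv'.symm rfl
      (by rw [Functor.map_comp, Functor.map_comp, Category.assoc, Category.assoc, hs]))
  φ_self Z x v := by
    have e₀ : v.1 ≫ b'.left = x := v.2
    let v' : Over.mk (x ≫ W.hom) ⟶ Q' :=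
      Over.homMk v.1 (show v.1 ≫ Q'.hom = x ≫ W.hom by rw [← Over.w b', ← Category.assoc, e₀])
    exact move_eq sqQ (A := Over.mk (x ≫ W.hom)) x x rfl v v v' v' rfl rfl rfl
  φ_comp Z x₀ x₁ x₂ h₀₁ h₁₂ v := by
    have e₀ : v.1 ≫ b'.left = x₀ := v.2
    let w := move sqQ x₀ x₁ h₀₁ v
    let z := move sqQ x₁ x₂ h₁₂ w
    have ew : w.1 ≫ b'.left = x₁ := w.2
    have ez : z.1 ≫ b'.left = x₂ := z.2
    have h₁ : x₁ ≫ W.hom = x₀ ≫ W.hom := by rw [← Over.w c, ← Category.assoc, ← h₀₁, Category.assoc]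
    have h₂ : x₂ ≫ W.hom = x₀ ≫ W.hom := by
      rw [← Over.w c, ← Category.assoc, ← h₁₂, ← h₀₁, Category.assoc]
    let A : Over S := Over.mk (x₀ ≫ W.hom)
    let v' : A ⟶ Q' := Over.homMk v.1 (show v.1 ≫ Q'.hom = x₀ ≫ W.hom by rw [← Over.w b', ← Category.assoc, e₀])
    let w' : A ⟶ Q' := Over.homMk w.1 (show w.1 ≫ Q'.hom = x₀ ≫ W.hom by rw [← Over.w b', ← Category.assoc, ew, h₁])
    let z' : A ⟶ Q' := Over.homMk z.1 (show z.1 ≫ Q'.hom = x₀ ≫ W.hom by rw [← Over.w b', ← Category.assoc, ez, h₂])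
    have s₁ := move_spec sqQ (A := A) x₀ x₁ h₀₁ v v' w' rfl rfl
    have s₂ := move_spec sqQ (A := A) x₁ x₂ h₁₂ w w' z' rfl rfl
    exact (move_eq sqQ (A := A) x₀ x₂ (h₀₁.trans h₁₂) v z v' z' rfl rfl (s₂.trans s₁)).symm

include sqQ in
/-- If the descent datum of the base change of `Q` is effective, then `Q` is representable. -/
theorem exists_iso_of_effective [Flat c.left] [Surjective c.left] [LocallyOfFinitePresentation c.left]
    (heff : (Desc.toDD c.left).essImage (sheafDD sqQ)) :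
    ∃ (GT : Over S) (γ : GT ⟶ T) (μ : (yon S).obj GT ⟶ Q), IsIso μ ∧ μ ≫ q = (yon S).map γ := by
  obtain ⟨U, ⟨θ⟩⟩ := heff
  let Uo : Over S := Over.mk (U.hom ≫ T.hom)
  let γ : Uo ⟶ T := Over.homMk U.hom
  let Po : Over S := Over.mk (pullback.fst c.left U.hom ≫ W.hom)
  let pW : Po ⟶ W := Over.homMk (pullback.fst c.left U.hom)
  let pU : Po ⟶ Uo := Over.homMk (pullback.snd c.left U.hom) (by
    change pullback.snd c.left U.hom ≫ U.hom ≫ T.hom = pullback.fst c.left U.hom ≫ W.hom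
    rw [← pullback.condition_assoc, Over.w c])
  have hθb : θ.hom.hom.left ≫ b'.left = pullback.fst c.left U.hom := Over.w θ.hom.hom
  let ν₀ : Po.left ⟶ Q'.left := θ.hom.hom.left
  have hν₀ : ν₀ ≫ b'.left = pW.left := hθb
  let ν : Po ⟶ Q' := Over.homMk ν₀ (by
    rw [← Over.w b', ← Category.assoc, hν₀, Over.w pW])
  have hνb : ν ≫ b' = pW := Over.OverMorphism.ext hθb
  have hνi : IsIso ν := by
    have : IsIso θ.hom.hom.left := by
      refine ⟨θ.inv.hom.left, ?_, ?_⟩
      · exact congrArg (fun t => t.left) (congrArg (fun t : Desc.SchDD.Hom _ _ => t.hom) θ.hom_inv_id)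
      · exact congrArg (fun t => t.left) (congrArg (fun t : Desc.SchDD.Hom _ _ => t.hom) θ.inv_hom_id)
    have : IsIso ((Over.forget S).map ν) := this
    exact isIso_of_reflects_iso ν (Over.forget S)
  let z : (yon S).obj Po ⟶ Q := (yon S).map ν ≫ q'
  have hz : z ≫ q = (yon S).map (pU ≫ γ) := by
    rw [Category.assoc, sqQ.w, ← Category.assoc, ← Functor.map_comp, hνb, ← Functor.map_comp]
    exact congrArg _ (Over.OverMorphism.ext pullback.condition)
  have hsqP : IsPullback pW.left pU.left c.left U.hom := IsPullback.of_hasPullback c.left U.hom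
  have hPu : Flat pU.left ∧ LocallyOfFinitePresentation pU.left ∧ Surjective pU.left :=
    ⟨MorphismProperty.of_isPullback hsqP ‹Flat c.left›,
      MorphismProperty.of_isPullback hsqP ‹LocallyOfFinitePresentation c.left›,
      MorphismProperty.of_isPullback hsqP ‹Surjective c.left›⟩
  have hJ : Sieve.ofArrows (fun _ : PUnit.{u + 1} => Po) (fun _ => pU) ∈ J S Uo :=
    ofArrows_mem_J _ (fun _ => hPu.1) (fun _ => hPu.2.1) fun t => ⟨⟨⟩, hPu.2.2.surj t⟩
  have hcompat : ∀ {A : Over S} (x y : A ⟶ Po), x ≫ pU = y ≫ pU →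
      (yon S).map x ≫ z = (yon S).map y ≫ z := by
    intro A x y e
    have e' : x.left ≫ pullback.snd c.left U.hom = y.left ≫ pullback.snd c.left U.hom :=
      congrArg (fun t => Over.Hom.left t) e
    let x₀ := x.left ≫ pullback.fst c.left U.hom
    let x₁ := y.left ≫ pullback.fst c.left U.hom
    have h : x₀ ≫ c.left = x₁ ≫ c.left := by
      simp only [x₀, x₁, Category.assoc, pullback.condition, reassoc_of% e']
    let v : Desc.Lifts ((Desc.toDD c.left).obj U).obj x₀ := ⟨x.left, rfl⟩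
    let w : Desc.Lifts (sheafDD sqQ).obj x₀ :=
      ⟨x.left ≫ ν₀, (Category.assoc _ _ _).trans (congrArg (x.left ≫ ·) hν₀)⟩
    have hc := θ.hom.comm x₀ x₁ h v w rfl
    have hv : (((Desc.toDD c.left).obj U).φ x₀ x₁ h v).1 = y.left := by
      refine pullback.hom_ext ?_ ?_
      · exact (pullback.lift_fst _ _ _).trans rfl
      · exact (pullback.lift_snd _ _ _).trans e'
    rw [hv] at hc
    have := move_spec sqQ (A := A) x₀ x₁ h w (x ≫ ν) (y ≫ ν) rfl hc.symm
    simp only [z, ← Category.assoc, ← Functor.map_comp]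
    exact this.symm
  obtain ⟨g, hg, -⟩ := (Presieve.isSheafFor_arrows_iff _ _).1
    ((Presieve.isSheafFor_iff_generate _).2 (((isSheaf_iff_isSheaf_of_type _ _).1 Q.property) _ hJ))
    (fun _ => (J S).uliftYonedaEquiv z) (fun _ _ A x y e => by
      rw [GrothendieckTopology.uliftYonedaEquiv_naturality, GrothendieckTopology.uliftYonedaEquiv_naturality]
      exact congrArg (J S).uliftYonedaEquiv (hcompat x y e))
  let μ : (yon S).obj Uo ⟶ Q := (J S).uliftYonedaEquiv.symm g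
  have hμ : (yon S).map pU ≫ μ = z := (J S).uliftYonedaEquiv.injective (by
    rw [← GrothendieckTopology.uliftYonedaEquiv_naturality, Equiv.apply_symm_apply]; exact hg ⟨⟩)
  have hμq : μ ≫ q = (yon S).map γ := hom_ext_of_cover (fun _ => pU) hJ fun _ => by
    rw [← Category.assoc, hμ, hz, Functor.map_comp]
  have hcov : ∀ {A : Over S} (a : A ⟶ T), Sieve.ofArrows (fun _ : PUnit.{u + 1} => pullback a c)
      (fun _ => pullback.fst a c) ∈ J S A := fun {A} a => by
    have hsq : IsPullback (pullback.snd a c).left (pullback.fst a c).left c.left a.left :=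
      ((IsPullback.of_hasPullback a c).map (Over.forget S)).flip
    exact ofArrows_mem_J _ (fun _ => MorphismProperty.of_isPullback hsq ‹Flat c.left›)
      (fun _ => MorphismProperty.of_isPullback hsq ‹LocallyOfFinitePresentation c.left›)
      fun t => ⟨⟨⟩, (MorphismProperty.of_isPullback hsq ‹Surjective c.left›).surj t⟩
  have hm : Mono μ := mono_of_yon fun A a₁ a₂ e => by
    obtain ⟨a₁, rfl⟩ := (yon S).map_surjective a₁
    obtain ⟨a₂, rfl⟩ := (yon S).map_surjective a₂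
    have hγ : a₁ ≫ γ = a₂ ≫ γ := (yon S).map_injective (by
      have := e =≫ q
      rwa [Category.assoc, Category.assoc, hμq, ← Functor.map_comp, ← Functor.map_comp] at this)
    let f₁ := pullback.fst (a₁ ≫ γ) c
    let f₂ := pullback.snd (a₁ ≫ γ) c
    refine hom_ext_of_cover (fun _ => f₁) (hcov (a₁ ≫ γ)) fun _ => ?_
    let pt : ∀ a : A ⟶ Uo, a ≫ γ = a₁ ≫ γ → (pullback (a₁ ≫ γ) c ⟶ Po) := fun a ha =>
      Over.homMk (pullback.lift f₂.left (f₁.left ≫ a.left) (by
        have h₁ : (f₁ ≫ a ≫ γ).left = (f₂ ≫ c).left := by rw [ha, pullback.condition]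
        rw [Category.assoc]; exact h₁.symm)) (by
        change pullback.lift _ _ _ ≫ pullback.fst c.left U.hom ≫ W.hom = _
        rw [pullback.lift_fst_assoc, Over.w f₂])
    have hpU : ∀ a ha, pt a ha ≫ pU = f₁ ≫ a := fun a ha =>
      Over.OverMorphism.ext (pullback.lift_snd _ _ _)
    have hpW : ∀ a ha, pt a ha ≫ pW = f₂ := fun a ha =>
      Over.OverMorphism.ext (pullback.lift_fst _ _ _)
    have : pt a₁ rfl ≫ ν = pt a₂ hγ.symm ≫ ν := (yon S).map_injective (sqQ.hom_ext (by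
      rw [Functor.map_comp, Functor.map_comp, Category.assoc, Category.assoc]
      change (yon S).map _ ≫ z = (yon S).map _ ≫ z
      rw [← hμ, ← Category.assoc, ← Category.assoc, ← Functor.map_comp, ← Functor.map_comp, hpU a₁ rfl, hpU a₂ hγ.symm,
        Functor.map_comp, Functor.map_comp, Category.assoc, Category.assoc, e]) (by
      rw [← Functor.map_comp, ← Functor.map_comp, Category.assoc, Category.assoc, hνb, hpW a₁ rfl, hpW a₂ hγ.symm]))
    rw [← Functor.map_comp, ← Functor.map_comp, ← hpU a₁ rfl, ← hpU a₂ hγ.symm, (cancel_mono ν).1 this]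
  refine ⟨Uo, γ, μ, isIso_of_mono_of_local_lifts μ fun A y => ?_, hμq⟩
  obtain ⟨a, ha⟩ := (yon S).map_surjective (y ≫ q)
  obtain ⟨l, hl⟩ := (yon S).map_surjective (sqQ.lift ((yon S).map (pullback.fst a c) ≫ y)
    ((yon S).map (pullback.snd a c)) (by
      rw [Category.assoc, ← ha, ← Functor.map_comp, ← Functor.map_comp, pullback.condition]))
  refine ⟨PUnit, _, _, hcov a, fun _ => ⟨(yon S).map (l ≫ inv ν ≫ pU), ?_⟩⟩
  rw [Functor.map_comp, Functor.map_comp, Category.assoc, Category.assoc, hμ]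
  simp only [z, ← Category.assoc, ← Functor.map_comp]
  rw [Category.assoc l (inv ν) ν, IsIso.inv_hom_id, Category.comp_id, hl, sqQ.lift_fst]

end Groth.Agent.H12AlgSp
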