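import Groth.Agent.H13AlgSp.SepStrat
import Groth.Agent.H13AlgSp.DecentCriteria
import Groth.Agent.H12AlgSp.DecentClosed

/-!
Every point of a decent space has an elementary etale neighbourhood in which it has a single preimage.
-/

universe u

open CategoryTheory CategoryTheory.Limits AlgebraicGeometry Opposite Topology TopologicalSpace
open AlgSp Groth.Agent.H7Weight Groth.Agent.H13AlgSp

set_option backward.isDefEq.respectTransparency false

namespace Groth.Agent.H12AlgSp

variable {S : Scheme.{u}} {X : Sp S}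

theorem big_one_ofPt {U : Over S} {p : (yon S).obj U ⟶ X} (hp : RepWith @Etale p) (u : U.left) :
    SepStrat.Big p 1 (Points.ofPt p u) := by
  obtain ⟨R, s, t', sq⟩ := hp.1 p
  obtain ⟨t, rfl⟩ := (yon S).map_surjective t'
  obtain ⟨d, hdt, hds⟩ := sq.exists_lift (𝟙 _) (𝟙 _) rfl
  obtain ⟨δ, rfl⟩ := (yon S).map_surjective d
  obtain ⟨Ω, _, _, η, hη⟩ := exists_geomPt' u
  have hδ : δ.left ≫ s.left = 𝟙 _ := congrArg (fun f => Over.Hom.left f)
    ((yon S).map_injective (show (yon S).map (δ ≫ s) = (yon S).map (𝟙 U) by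
      rw [Functor.map_comp, hds, CategoryTheory.Functor.map_id]))
  refine ⟨U, R, p, s, t, sq, Ω, inferInstance, inferInstance, η,
    {⟨η ≫ δ.left, by rw [Category.assoc, hδ, Category.comp_id]⟩}, by rw [hη], ?_⟩
  exact le_of_eq (Finset.card_singleton _).symm

theorem exists_big_bound (hX : IsAlgSpace X) (hd : IsDecent X) {U : Over S} [IsAffine U.left]
    {p : (yon S).obj U ⟶ X} (hp : RepWith @Etale p) (x : Points X) :
    ∃ d, ∀ n, SepStrat.Big p n x → n ≤ d := by
  obtain ⟨q, rfl, -, hqc⟩ := hd x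
  obtain ⟨Y, a, b, sq⟩ := Hilb.exists_square hp.1 q.toHom
  have hb : QuasiCompact b.left := hqc.2 _ _ _ sq.flip
  have : CompactSpace Y.left := QuasiCompact.compactSpace_of_compactSpace b.left
  let aK : Y.left ⟶ Spec (CommRingCat.of q.K) := a.left
  have : Etale aK := hp.property _ _ a sq
  have : LocallyQuasiFinite aK := lqf_of_etale aK
  have : DiscreteTopology Y.left := discreteTopology_of_lqf_to_field aK
  have : Finite Y.left := finite_of_compact_of_discrete
  have : IsFinite aK := isFinite_of_finite_etale aK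
  refine ⟨aK.finrank (IsLocalRing.closedPoint q.K), fun n hn => ?_⟩
  rw [← Points.ofPt_toHom q (IsLocalRing.closedPoint q.K)] at hn
  refine SepStrat.le_of_big hX hp sq _ (fun Ω _ _ η hη s => ?_) hn
  have hf := Degree.finite_pts_of_isFinite aK η
  have h1 := Degree.finrank_eq_natCard_pts aK η
  have h2 := (congrArg aK.finrank hη).symm.trans h1
  refine le_of_le_of_eq ?_ h2.symm
  have := Fintype.ofFinite (Pts aK η)
  rw [Nat.card_eq_fintype_card]
  exact s.card_le_univ

/-- Two lifts to the moduli of maximal size over a point coincide. -/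
theorem eq_of_maximal {U : Over S} {p : (yon S).obj U ⟶ X} (hp : RepWith @Etale p) (M : SepStrat.Moduli p)
    {x : Points X} {n : ℕ} (hmax : ¬ SepStrat.Big p (n + 1) x) {T : Over S} {l l' : T ⟶ M.Q}
    (hll : (yon S).map l ≫ M.π = (yon S).map l' ≫ M.π)
    (h : ∀ t, M.D (l.left t) = n ∧ Points.ofPt M.π (l.left t) = x)
    (h' : ∀ t, M.D (l'.left t) = n ∧ Points.ofPt M.π (l'.left t) = x) : l = l' :=
  M.eq_of_not_big hp hll (fun t => by rw [(h t).1, (h t).2]; exact hmax)
    (fun t => by rw [(h' t).1, (h' t).2]; exact hmax)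

theorem exists_affine_elemEtaleNbhd (hX : IsAlgSpace X) (hd : IsDecent X) (x : Points X) :
    ∃ (U : Over S) (a : (yon S).obj U ⟶ X) (u : U.left), IsAffine U.left ∧
      IsElemEtaleNbhd a u x ∧ Points.ofPt a ⁻¹' {x} = {u} := by
  classical
  obtain ⟨ι, T, a, hT, ha, -, hcov⟩ := exists_affine_family_over hX
  obtain ⟨i, u, hu⟩ := hcov x
  have := hT i
  have hp := ha i
  obtain ⟨M⟩ := SepStrat.nonempty_moduli hp
  obtain ⟨d, hbd⟩ := exists_big_bound hX hd hp x
  have hone : SepStrat.Big (a i) 1 x := hu ▸ big_one_ofPt hp u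
  let n := Nat.findGreatest (fun m => SepStrat.Big (a i) m x) d
  have hn : SepStrat.Big (a i) n x :=
    Nat.findGreatest_spec (P := fun m => SepStrat.Big (a i) m x) (hbd 1 hone) hone
  have hn1 : 1 ≤ n := Nat.le_findGreatest (hbd 1 hone) hone
  have hmax : ¬ SepStrat.Big (a i) (n + 1) x := fun h => absurd
    (Nat.le_findGreatest (P := fun m => SepStrat.Big (a i) m x) (hbd _ h) h)
    (Nat.not_succ_le_self n)
  obtain ⟨v, hv, hvx⟩ := M.exists_of_big hp hn1 hn
  obtain ⟨O, hO, hvO, hOD⟩ := exists_isAffineOpen_mem_and_subset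
    (U := (⟨_, (M.isLocallyConstant_D hp).isOpen_fiber n⟩ : M.Q.left.Opens)) (x := v) hv
  let V : Over S := Over.mk (O.ι ≫ M.Q.hom)
  let j : V ⟶ M.Q := Over.homMk O.ι
  let b : (yon S).obj V ⟶ X := (yon S).map j ≫ M.π
  have hje : Etale j.left := inferInstanceAs (Etale O.ι)
  have hjm : Mono j.left := inferInstanceAs (Mono O.ι)
  have hb : RepWith @Etale b := MorphismProperty.comp_mem _ _ _ ((repWith_yon_map_iff _ _).2 hje) M.etale
  let v₀ : V.left := ⟨v, hvO⟩
  have hbv : Points.ofPt b v₀ = x := (ofPt_map j M.π v₀).trans hvx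
  let iv : Over.mk (V.left.fromSpecResidueField v₀ ≫ V.hom) ⟶ V :=
    Over.homMk (V.left.fromSpecResidueField v₀) rfl
  have hmono : Mono (FieldPt.ofPt b v₀).toHom := by
    rw [toHom_ofPt_chartPt]
    refine mono_of_yon fun T₀ k k' e => ?_
    obtain ⟨k, rfl⟩ := (yon S).map_surjective k
    obtain ⟨k', rfl⟩ := (yon S).map_surjective k'
    have hpt : ∀ (k : T₀ ⟶ Over.mk (V.left.fromSpecResidueField v₀ ≫ V.hom)) t,
        M.D ((k ≫ iv ≫ j).left t) = n ∧ Points.ofPt M.π ((k ≫ iv ≫ j).left t) = x := fun k t => by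
      have : (k ≫ iv ≫ j).left t = v := by
        show O.ι (V.left.fromSpecResidueField v₀ (k.left t)) = v
        rw [Scheme.fromSpecResidueField_apply]
        rfl
      rw [this]
      exact ⟨hv, hvx⟩
    have hk := eq_of_maximal hp M hmax (l := k ≫ iv ≫ j) (l' := k' ≫ iv ≫ j)
      (by
        simp only [Functor.map_comp, Category.assoc]
        exact e) (hpt k) (hpt k')
    have hk' := congrArg (fun f => Over.Hom.left f) hk
    refine congrArg _ (Over.OverMorphism.ext ?_)
    rw [← cancel_mono (V.left.fromSpecResidueField v₀), ← cancel_mono O.ι, Category.assoc, Category.assoc]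
    exact hk'
  refine ⟨V, b, v₀, hO, ⟨hb, hbv, hmono⟩, Set.eq_singleton_iff_unique_mem.2 ⟨hbv, fun w hw => ?_⟩⟩
  have hw' : Points.ofPt b w = Points.ofPt b v₀ := hw.trans hbv.symm
  have hrel : FieldPt.Rel (FieldPt.ofPt b w) (FieldPt.ofPt b v₀) := Points.mk_eq_mk_iff.1 hw'
  obtain ⟨L, _, wL, c₁, c₂, hc⟩ := rel_iff_toHom.1 hrel
  rw [toHom_ofPt_chartPt, toHom_ofPt_chartPt] at hc
  let iw : Over.mk (V.left.fromSpecResidueField w ≫ V.hom) ⟶ V :=
    Over.homMk (V.left.fromSpecResidueField w) rfl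
  have hpw : ∀ t, M.D ((c₁ ≫ iw ≫ j).left t) = n ∧ Points.ofPt M.π ((c₁ ≫ iw ≫ j).left t) = x := fun t => by
    have : (c₁ ≫ iw ≫ j).left t = O.ι w := by
      show O.ι (V.left.fromSpecResidueField w (c₁.left t)) = _
      rw [Scheme.fromSpecResidueField_apply]
    rw [this]
    exact ⟨hOD w.2, (ofPt_map j M.π w).symm.trans hw⟩
  have hpv : ∀ t, M.D ((c₂ ≫ iv ≫ j).left t) = n ∧ Points.ofPt M.π ((c₂ ≫ iv ≫ j).left t) = x := fun t => by
    have : (c₂ ≫ iv ≫ j).left t = v := by
      show O.ι (V.left.fromSpecResidueField v₀ (c₂.left t)) = v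
      rw [Scheme.fromSpecResidueField_apply]
      rfl
    rw [this]
    exact ⟨hv, hvx⟩
  have hk := eq_of_maximal hp M hmax (l := c₁ ≫ iw ≫ j) (l' := c₂ ≫ iv ≫ j)
    (by
      simp only [Functor.map_comp, Category.assoc]
      exact hc) hpw hpv
  let z : (Over.mk wL).left := IsLocalRing.closedPoint L
  have h1 : (c₁ ≫ iw ≫ j).left z = O.ι w := by
    show O.ι (V.left.fromSpecResidueField w (c₁.left z)) = _
    rw [Scheme.fromSpecResidueField_apply]
  have h2 : (c₂ ≫ iv ≫ j).left z = O.ι v₀ := by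
    show O.ι (V.left.fromSpecResidueField v₀ (c₂.left z)) = _
    rw [Scheme.fromSpecResidueField_apply]
  exact O.ι.isOpenEmbedding.injective (h1.symm.trans ((congrArg (fun f : Over.mk wL ⟶ M.Q => f.left z) hk).trans h2))

end Groth.Agent.H12AlgSp
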