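import Mathlib.RingTheory.LocalRing.Module
import Mathlib.RingTheory.TensorProduct.Free
import Mathlib.Algebra.Category.Ring.Constructions

/-!
Finite free equivalence relations on the spectrum of a local ring: the ring of invariants.
-/

universe u

open CategoryTheory TensorProduct

namespace Groth.Agent.H12AlgSp

variable {B C : Type u} [CommRing B] [CommRing C]

/-- A finite free transitive relation on the spectrum of a local ring is the tensor square over the
invariants, over which the ring is finite free. -/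
theorem exists_equalizer_quotient [IsLocalRing B] [Algebra B C] [Module.FinitePresentation B C] [Module.Flat B C]
    {C' : Type u} [CommRing C'] [Algebra B C'] (ι : C ≃+* C') (τ : B →+* C)
    (hι : ∀ x, ι (τ x) = algebraMap B C' x)
    (hgen : Submodule.span B (Set.range τ) = ⊤)
    (ε : C →+* B) (hεσ : ∀ x, ε (algebraMap B C x) = x) (hετ : ∀ x, ε (τ x) = x)
    (m : C →+* C' ⊗[B] C) (hmσ : ∀ x, m (algebraMap B C x) = ι (algebraMap B C x) ⊗ₜ[B] 1)
    (hmτ : ∀ x, m (τ x) = 1 ⊗ₜ[B] τ x) :
    Module.Free ((algebraMap B C).eqLocus τ) B ∧ Module.Finite ((algebraMap B C).eqLocus τ) B ∧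
      IsPushout (CommRingCat.ofHom ((algebraMap B C).eqLocus τ).subtype)
        (CommRingCat.ofHom ((algebraMap B C).eqLocus τ).subtype)
        (CommRingCat.ofHom (algebraMap B C)) (CommRingCat.ofHom τ) := by
  classical
  obtain ⟨κ, e, b, hb⟩ := Module.exists_basis_of_span_of_flat (R := B) τ hgen
  have hκ : Finite κ := Module.Finite.finite_basis b
  have := Fintype.ofFinite κ
  let A' := (algebraMap B C).eqLocus τ
  have hA' : ∀ x, x ∈ A' ↔ algebraMap B C x = τ x := fun x => Iff.rfl
  have hsum : ∀ y : B, τ y = ∑ i, algebraMap B C (b.repr (τ y) i) * τ (e i) := fun y => by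
    conv_lhs => rw [← b.sum_repr (τ y)]
    exact Finset.sum_congr rfl fun i _ => by rw [hb, Algebra.smul_def]
  let β := Algebra.TensorProduct.basis C' b
  have hβ : ∀ (x : κ → C') (i : κ), β.repr (∑ j, x j ⊗ₜ[B] b j) i = x i := fun x i => by
    rw [show ∑ j, x j ⊗ₜ[B] b j = ∑ j, x j • β j from Finset.sum_congr rfl fun j _ => by
      simp [β, TensorProduct.smul_tmul']]
    exact congrFun (β.repr_sum_self x) i
  have hcoe : ∀ y i, b.repr (τ y) i ∈ A' := fun y i => by
    set a := fun i => b.repr (τ y) i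
    have h₁ : ((1 : C') ⊗ₜ[B] τ y) = ∑ j, ι (algebraMap B C (a j)) ⊗ₜ[B] b j := by
      rw [← hmτ, hsum y, map_sum]
      refine Finset.sum_congr rfl fun j _ => ?_
      rw [map_mul, hmσ, hmτ, Algebra.TensorProduct.tmul_mul_tmul, mul_one, one_mul, hb]
    have h₂ : ((1 : C') ⊗ₜ[B] τ y) = ∑ j, algebraMap B C' (a j) ⊗ₜ[B] b j := by
      conv_lhs => rw [← b.sum_repr (τ y)]
      rw [TensorProduct.tmul_sum]
      refine Finset.sum_congr rfl fun j _ => ?_
      rw [TensorProduct.tmul_smul, TensorProduct.smul_tmul', Algebra.smul_def, mul_one]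
    have h₃ := hβ (fun j => ι (algebraMap B C (a j))) i
    rw [← h₁, h₂, hβ, ← hι] at h₃
    exact (hA' _).2 (ι.injective h₃).symm
  have hspan : ⊤ ≤ Submodule.span A' (Set.range e) := fun y _ => by
    have h := congrArg ε (hsum y)
    rw [map_sum, hετ] at h
    simp only [map_mul, hεσ, hετ] at h
    rw [h]
    refine Submodule.sum_mem _ fun i _ => ?_
    exact Submodule.smul_mem _ (⟨_, hcoe y i⟩ : A') (Submodule.subset_span ⟨i, rfl⟩)
  have hlin : ∀ g : κ → A', ∑ j, (g j : B) • b j = τ (∑ j, g j • e j) := fun g => by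
    rw [map_sum]
    refine Finset.sum_congr rfl fun j _ => ?_
    rw [Algebra.smul_def, hb, (hA' _).1 (g j).2, ← map_mul]
    rfl
  have hli : LinearIndependent A' e := by
    rw [Fintype.linearIndependent_iff]
    intro g hg i
    have h0 : ∑ j, (g j : B) • b j = 0 := by rw [hlin, hg, map_zero]
    exact Subtype.ext (Fintype.linearIndependent_iff.mp b.linearIndependent _ h0 i)
  let bB : Module.Basis κ A' B := Module.Basis.mk hli hspan
  refine ⟨Module.Free.of_basis bB, Module.Finite.of_basis bB, ?_⟩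
  let iC : Algebra A' C := ((algebraMap B C).comp A'.subtype).toAlgebra
  have : IsScalarTower A' B C := IsScalarTower.of_algebraMap_eq' rfl
  let τA : B →ₐ[A'] C := { τ with commutes' := fun a => ((hA' _).1 a.2).symm }
  let Φ : B ⊗[A'] B →ₐ[B] C := Algebra.TensorProduct.lift (Algebra.ofId B C) τA fun _ _ => .all _ _
  have hΦ : Function.Bijective Φ := by
    let γ := Algebra.TensorProduct.basis B bB
    have hg : Φ.toLinearMap = (γ.equiv b (Equiv.refl κ)).toLinearMap := γ.ext fun i => by
      change Φ (γ i) = γ.equiv b (Equiv.refl κ) (γ i)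
      rw [Module.Basis.equiv_apply]
      simp [γ, Φ, bB, τA, hb]
    have hg' : (Φ : B ⊗[A'] B → C) = γ.equiv b (Equiv.refl κ) :=
      funext fun z => LinearMap.congr_fun hg z
    rw [hg']
    exact (γ.equiv b (Equiv.refl κ)).bijective
  refine (CommRingCat.isPushout_tensorProduct A' B B).of_iso (Iso.refl _) (Iso.refl _) (Iso.refl _)
    (AlgEquiv.ofBijective Φ hΦ).toRingEquiv.toCommRingCatIso (by simp; rfl) (by simp; rfl) ?_ ?_
  · ext x
    change Φ (x ⊗ₜ 1) = _
    simp [Φ]
  · ext x
    change Φ (1 ⊗ₜ x) = _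
    simp [Φ, τA]

end Groth.Agent.H12AlgSp
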