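import Groth.Agent.H12AlgSp.EtRestrictMod
import Groth.Agent.H12AlgSp.Points

/-!
Quasi-coherence descends along surjective representable etale maps.
-/

set_option linter.unusedVariables false
set_option backward.isDefEq.respectTransparency false

universe u

open CategoryTheory CategoryTheory.Limits AlgebraicGeometry Opposite
open AlgSp

namespace Groth.Agent.H12AlgSp.EtRes

variable {S : Scheme.{u}} {X Y : Space S} (f : X ⟶ Y) (hf : IsEtaleMor f.hom)

theorem post_inverse_isContinuous (E : EtOver X.obj) :
    (Over.post (X := E) (EtOver.postcomp f.hom hf)).asEquivalence.inverse.IsContinuous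
      ((etTop Y.obj).over _) ((etTop X.obj).over E) := by
  let e := (Over.post (X := E) (EtOver.postcomp f.hom hf)).asEquivalence
  have hc : (Over.post (X := E) (EtOver.postcomp f.hom hf)).IsCocontinuous ((etTop X.obj).over E)
      ((etTop Y.obj).over _) := ⟨fun {A R} hR => by
    rw [GrothendieckTopology.mem_over_iff] at hR ⊢
    refine (etTop X.obj).superset_covering ?_ ((EtOver.postcomp f.hom hf).cover_lift (etTop X.obj) (etTop Y.obj) hR)
    intro B g hg
    rw [Sieve.overEquiv_iff]
    have h1 : R.arrows _ := (Sieve.overEquiv_iff R ((EtOver.postcomp f.hom hf).map g)).1 hg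
    let v : Over.mk ((EtOver.postcomp f.hom hf).map g ≫ ((Over.post (EtOver.postcomp f.hom hf)).obj A).hom) ≅
        (Over.post (EtOver.postcomp f.hom hf)).obj (Over.mk (g ≫ A.hom)) :=
      Over.isoMk (Iso.refl _) (by
        change 𝟙 _ ≫ (EtOver.postcomp f.hom hf).map (g ≫ A.hom) = _
        rw [Category.id_comp, Functor.map_comp]
        rfl)
    change R ((Over.post (EtOver.postcomp f.hom hf)).map (Over.homMk g : Over.mk (g ≫ A.hom) ⟶ A))
    convert R.downward_closed h1 v.inv using 1
    exact Over.OverMorphism.ext (Category.id_comp _).symm⟩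
  have : e.functor.IsCocontinuous ((etTop X.obj).over E) ((etTop Y.obj).over _) := hc
  exact e.toAdjunction.isContinuous_of_isCocontinuous _ _

/-- Modules are transported along an equivalence of sites. -/
noncomputable def modEquiv {C D : Type*} [Category C] [Category D] {J : GrothendieckTopology C}
    {K : GrothendieckTopology D} (e : C ≌ D) [e.functor.IsContinuous J K] [e.inverse.IsContinuous K J]
    (R : Sheaf K RingCat.{u + 1}) (R' : Sheaf J RingCat.{u + 1})
    (a : R' ≅ (e.functor.sheafPushforwardContinuous RingCat.{u + 1} J K).obj R) :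
    SheafOfModules.{u + 1} R ≌ SheafOfModules.{u + 1} R' :=
  SheafOfModules.pushforwardPushforwardEquivalence e a.hom
    (ObjectProperty.homMk
      { app := fun Z => R.obj.map (e.counit.app Z.unop).op ≫ a.inv.hom.app (op (e.inverse.obj Z.unop))
        naturality := fun Z Z' g => by
          change R.obj.map g ≫ R.obj.map (e.counit.app Z'.unop).op ≫ a.inv.hom.app (op (e.inverse.obj Z'.unop)) =
            (R.obj.map (e.counit.app Z.unop).op ≫ a.inv.hom.app (op (e.inverse.obj Z.unop))) ≫
              R'.obj.map (e.inverse.map g.unop).op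
          have h1 : g.unop.op = g := rfl
          rw [Category.assoc, ← a.inv.hom.naturality (e.inverse.map g.unop).op]
          change _ = R.obj.map (e.counit.app Z.unop).op ≫ R.obj.map (e.functor.map (e.inverse.map g.unop)).op ≫ _
          rw [← Functor.map_comp_assoc, ← Functor.map_comp_assoc, ← op_comp]
          conv_lhs => rw [← h1, ← op_comp]
          exact congrArg (fun t => R.obj.map t.op ≫ a.inv.hom.app (op (e.inverse.obj Z'.unop)))
            (e.counit.naturality g.unop).symm })
    (by
      ext Z : 2
      have h : a.inv.hom.app (op (e.inverse.obj Z.unop)) ≫ a.hom.hom.app (op (e.inverse.obj Z.unop)) = 𝟙 _ :=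
        congrArg (fun t => t.hom.app (op (e.inverse.obj Z.unop))) a.inv_hom_id
      exact (((Category.assoc _ _ _).trans (congrArg (R.obj.map (e.counit.app Z.unop).op ≫ ·) h)).trans
        (Category.comp_id _)).symm)
    (by
      ext A : 2
      change a.hom.hom.app A ≫ (R.obj.map (e.counit.app (e.functor.obj A.unop)).op ≫
        a.inv.hom.app (op (e.inverse.obj (e.functor.obj A.unop)))) ≫ R'.obj.map (e.unit.app A.unop).op = 𝟙 _
      refine (congrArg (a.hom.hom.app A ≫ ·) ((Category.assoc _ _ _).trans (congrArg
        (R.obj.map (e.counit.app (e.functor.obj A.unop)).op ≫ ·)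
        (a.inv.hom.naturality (e.unit.app A.unop).op).symm))).trans ?_
      change a.hom.hom.app A ≫ R.obj.map (e.counit.app (e.functor.obj A.unop)).op ≫
        R.obj.map (e.functor.map (e.unit.app A.unop)).op ≫ a.inv.hom.app A = 𝟙 _
      have h2 : R.obj.map (e.counit.app (e.functor.obj A.unop)).op ≫
          R.obj.map (e.functor.map (e.unit.app A.unop)).op = 𝟙 _ :=
        ((R.obj.map_comp _ _).symm.trans (congrArg (fun t => R.obj.map t.op)
          (e.functor_unit_comp A.unop))).trans (R.obj.map_id _)
      refine (congrArg (a.hom.hom.app A ≫ ·) (((Category.assoc _ _ _).symm.trans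
        (congrArg (· ≫ a.inv.hom.app A) h2)).trans (Category.id_comp _))).trans ?_
      exact congrArg (fun t => t.hom.app A) a.hom_inv_id)

/-- Modules on the slice over an object coming from `X` are the same on the sites of `X` and of `Y`. -/
noncomputable def sliceEquiv (E : EtOver X.obj) :
    SheafOfModules.{u + 1} ((OEtRing Y.obj).over ((EtOver.postcomp f.hom hf).obj E)) ≌
      SheafOfModules.{u + 1} ((OEtRing X.obj).over E) :=
  haveI : (Over.post (X := E) (EtOver.postcomp f.hom hf)).asEquivalence.functor.IsContinuous
      ((etTop X.obj).over E) ((etTop Y.obj).over _) := post_isContinuous f hf E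
  haveI := post_inverse_isContinuous f hf E
  modEquiv (Over.post (X := E) (EtOver.postcomp f.hom hf)).asEquivalence _ _
    (ObjectProperty.isoMk _ (NatIso.ofComponents (fun A => Iso.refl _)
      (fun g => (Category.comp_id _).trans (Category.id_comp _).symm)))

theorem exists_presentation_over (E : EtOver X.obj) (M : ModEt Y.obj)
    (P : (((SheafOfModules.pushforward.{u + 1} (resHom f hf)).obj M).over E).Presentation) :
    Nonempty (M.over ((EtOver.postcomp f.hom hf).obj E)).Presentation := by
  let e := sliceEquiv f hf E
  let η : e.inverse.obj (SheafOfModules.unit _) ≅ SheafOfModules.unit _ :=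
    (e.unitIso.app (SheafOfModules.unit _)).symm
  have i : e.inverse.obj (((SheafOfModules.pushforward.{u + 1} (resHom f hf)).obj M).over E) ≅
      M.over ((EtOver.postcomp f.hom hf).obj E) :=
    (e.unitIso.app (M.over ((EtOver.postcomp f.hom hf).obj E))).symm
  exact ⟨(P.map e.inverse η.symm).ofIsIso i.hom⟩

theorem coversTop_postcomp (hr : Representable f.hom) (hs : RepWith @Surjective f.hom) {I : Type*}
    {E : I → EtOver X.obj} (h : (etTop X.obj).CoversTop E) :
    (etTop Y.obj).CoversTop fun i => (EtOver.postcomp f.hom hf).obj (E i) := by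
  intro Z
  refine Groth.Agent.H12AlgSp.mem_etTop_of_forall_point _ fun x => ?_
  have hsur : Surjective (hr.snd Z.obj.hom).left :=
    hs.property Z.obj.hom (hr.fst Z.obj.hom) (hr.snd Z.obj.hom) (hr.isPullback Z.obj.hom)
  obtain ⟨w, hw⟩ := hsur.surj x
  obtain ⟨D, g, hg, y, hy⟩ := Groth.Agent.H12AlgSp.jointly_surjective_of_mem_etTop (h ((EtOver.bc hr).obj Z)) w
  obtain ⟨i, ⟨k⟩⟩ := hg
  refine ⟨(EtOver.postcomp f.hom hf).obj D, (EtOver.postcomp f.hom hf).map g ≫ counitHom f.hom hf hr Z, y,
    ⟨i, ⟨(EtOver.postcomp f.hom hf).map k⟩⟩, ?_⟩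
  change (hr.snd Z.obj.hom).left (g.hom.left.left y) = x
  rw [hy]
  exact hw

theorem isQuasicoherent_of_res (hr : Representable f.hom) (hs : RepWith @Surjective f.hom) (M : ModEt Y.obj)
    (hM : ((SheafOfModules.pushforward.{u + 1} (resHom f hf)).obj M).IsQuasicoherent) : M.IsQuasicoherent := by
  obtain ⟨q⟩ := hM.nonempty_quasicoherentData
  exact SheafOfModules.QuasicoherentData.isQuasicoherent.{u + 1} (M := M)
    { I := q.I
      X := fun i => (EtOver.postcomp f.hom hf).obj (q.X i)
      coversTop := coversTop_postcomp f hf hr hs q.coversTop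
      presentation := fun i => Classical.choice (exists_presentation_over f hf (q.X i) M (q.presentation i)) }

end Groth.Agent.H12AlgSp.EtRes
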