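import Groth.Agent.H12AlgSp.EtUHomeo
import Groth.Agent.H12AlgSp.Points
import Mathlib.CategoryTheory.Sites.DenseSubsite.InducedTopology
import Mathlib.CategoryTheory.Adjunction.FullyFaithful

/-!
Direct image on small etale sites along an integral universally injective morphism: full faithfulness and image.
-/

set_option linter.unusedVariables false
set_option backward.isDefEq.respectTransparency false

universe v u

open CategoryTheory CategoryTheory.Limits AlgebraicGeometry Opposite Topology
open AlgSp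

namespace Groth.Agent.H12AlgSp.EtUHomeo

variable {S : Scheme.{u}} {Y X : Sp S} {f : Y ⟶ X} (hr : Representable f)

/-- The topology on the site of `X` induced from the site of `Y`. -/
noncomputable abbrev topI : GrothendieckTopology (EtOver X) := (EtOver.bc hr).inducedTopology (etTop Y)

variable (hX : IsAlgSpace X) (hY : IsAlgSpace Y) (hi : RepWith @IsIntegralHom f) (hu : IsUnivInjectiveMor f)

include hX hY hi hu

theorem mem_topI_iff {E : EtOver X} (R : Sieve E) :
    R ∈ topI hr E ↔ R.functorPushforward (EtOver.bc hr) ∈ etTop Y ((EtOver.bc hr).obj E) := by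
  have := isLocallyFull hr hY hi hu
  have := isLocallyFaithful hr hY hi hu
  have := isCoverDense hr hX hY hi hu
  exact Functor.mem_inducedTopology_iff_of_isCoverDense _ _ R

theorem etTop_le : etTop X ≤ topI hr := fun E R hR =>
  (mem_topI_iff hr hX hY hi hu R).2 ((coverPreserving_bc hr).cover_preserve hR)

theorem isDenseSubsite : (EtOver.bc hr).IsDenseSubsite (topI hr) (etTop Y) := by
  have := isLocallyFull hr hY hi hu
  have := isLocallyFaithful hr hY hi hu
  have := isCoverDense hr hX hY hi hu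
  infer_instance

variable (A : Type v) [Category.{u + 1} A]
  [∀ Z : (EtOver Y)ᵒᵖ, HasLimitsOfShape (StructuredArrow Z (EtOver.bc hr).op) A]

theorem pushEt_full : (pushEt hr A).Full := by
  have := isDenseSubsite hr hX hY hi hu
  let e := (EtOver.bc hr).sheafPushforwardContinuous A (topI hr) (etTop Y)
  refine ⟨fun {F G} φ => ?_⟩
  let φ' : e.obj F ⟶ e.obj G := ⟨φ.hom⟩
  exact ⟨e.preimage φ', CategoryTheory.Sheaf.hom_ext (congrArg (fun t => t.hom) (e.map_preimage φ'))⟩

theorem pushEt_faithful : (pushEt hr A).Faithful := by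
  have := isDenseSubsite hr hX hY hi hu
  let e := (EtOver.bc hr).sheafPushforwardContinuous A (topI hr) (etTop Y)
  exact ⟨fun {F G} φ ψ h => e.map_injective (CategoryTheory.Sheaf.hom_ext (congrArg (fun t => t.hom) h :))⟩

theorem essImage_pushEt_iff (G : EtSh X A) :
    (pushEt hr A).essImage G ↔ Presheaf.IsSheaf (topI hr) G.obj := by
  have := isDenseSubsite hr hX hY hi hu
  let e := (EtOver.bc hr).sheafPushforwardContinuous A (topI hr) (etTop Y)
  constructor
  · rintro ⟨F, ⟨i⟩⟩
    exact (Presheaf.isSheaf_of_iso_iff ((sheafToPresheaf _ _).mapIso i)).1 (e.obj F).property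
  · intro h
    let i := (sheafToPresheaf (topI hr) A).mapIso (e.objObjPreimageIso ⟨G.obj, h⟩)
    exact ⟨e.objPreimage ⟨G.obj, h⟩, ⟨(fullyFaithfulSheafToPresheaf (etTop X) A).preimageIso
      (X := (pushEt hr A).obj (e.objPreimage ⟨G.obj, h⟩)) (Y := G) i⟩⟩

omit hX hY hi hu in
theorem isEmpty_bc_iff (E : EtOver X) :
    IsEmpty ↥((EtOver.bc hr).obj E).obj.left.left ↔
      Disjoint (Set.range (Points.map E.obj.hom)) (Set.range (Points.map f)) := by
  constructor
  · intro hE
    rw [Set.disjoint_left]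
    rintro _ ⟨e, rfl⟩ ⟨y, hy⟩
    obtain ⟨p, -, -⟩ := exists_point_of_isPullback (hr.isPullback E.obj.hom) y e hy
    obtain ⟨t, -⟩ := (Points.schemeEquiv _).surjective p
    exact hE.elim t
  · refine fun hd => ⟨fun t => ?_⟩
    let p := Points.ofScheme (hr.pullback E.obj.hom) t
    refine Set.disjoint_left.1 hd ⟨Points.map ((yon S).map (hr.snd E.obj.hom)) p, rfl⟩
      ⟨Points.map (hr.fst E.obj.hom) p, ?_⟩
    rw [← Points.map_comp, ← Points.map_comp, hr.w]

omit hX hi hu hY in
theorem isEmpty_bc_of_hom {E E' : EtOver X} (g : E' ⟶ E) (h : IsEmpty ↥((EtOver.bc hr).obj E).obj.left.left) :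
    IsEmpty ↥((EtOver.bc hr).obj E').obj.left.left :=
  ⟨fun t => h.elim ((EtOver.bcMap hr g).hom.left.left t)⟩

omit hX hi hu hY in
theorem bot_mem_of_isEmpty {Z : EtOver Y} (h : IsEmpty ↥Z.obj.left.left) : (⊥ : Sieve Z) ∈ etTop Y Z :=
  Groth.Agent.H12AlgSp.mem_etTop_of_forall_point _ fun x => h.elim x

/-- A sheaf of sets trivial away from the image is a sheaf for the induced topology. -/
theorem isSheaf_topI (G : (EtOver X)ᵒᵖ ⥤ Type (u + 1)) (hG : Presheaf.IsSheaf (etTop X) G)
    (h0 : ∀ E : EtOver X, IsEmpty ↥((EtOver.bc hr).obj E).obj.left.left → Nonempty (Unique (G.obj (op E)))) :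
    Presheaf.IsSheaf (topI hr) G := by
  classical
  rw [isSheaf_iff_isSheaf_of_type] at hG ⊢
  intro E R hR x hx
  let Z : ∀ E' : EtOver X, Prop := fun E' => IsEmpty ↥((EtOver.bc hr).obj E').obj.left.left
  have hsub : ∀ {E'}, Z E' → Subsingleton (G.obj (op E')) := fun h => by
    obtain ⟨i⟩ := h0 _ h
    exact inferInstance
  let R' : Sieve E := { arrows := fun E' g => R.arrows g ∨ Z E'
                        downward_closed := fun {A B g} hg k => hg.imp (fun h => R.downward_closed h k)
                          fun h => isEmpty_bc_of_hom hr k h }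
  have hR' : R' ∈ etTop X E := by
    refine Groth.Agent.H12AlgSp.mem_etTop_of_forall_point _ fun p => ?_
    by_cases hp : p ∈ Set.range (proj hr E)
    · obtain ⟨y, rfl⟩ := hp
      obtain ⟨D, g, hg, o, ho⟩ := Groth.Agent.H12AlgSp.jointly_surjective_of_mem_etTop
        ((mem_topI_iff hr hX hY hi hu R).1 hR) y
      obtain ⟨E', g', k, hg', e⟩ := hg
      refine ⟨E', g', proj hr E' (k.hom.left.left o), Or.inl hg', ?_⟩
      rw [← ho, e]
      exact congrArg (fun t => t (k.hom.left.left o)) (EtOver.isPullback_bcMap_left hr g').w.symm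
    · let O : E.obj.left.left.Opens :=
        ⟨(Set.range (proj hr E))ᶜ, (proj_closedEmbedding hr hY hi hu E).isClosed_range.isOpen_compl⟩
      refine ⟨openObj E O, openHom E O, ⟨p, hp⟩, Or.inr ⟨fun t => ?_⟩, rfl⟩
      have hm : (EtOver.bcMap hr (openHom E O)).hom.left.left t ∈ Set.range (EtOver.bcMap hr (openHom E O)).hom.left.left :=
        ⟨t, rfl⟩
      rw [range_bcMap] at hm
      obtain ⟨⟨z, hz⟩, e⟩ := hm
      exact hz ⟨_, e.symm⟩
  let x' : Presieve.FamilyOfElements G R'.arrows := fun E' g hg =>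
    if h : R.arrows g then x g h else (h0 E' (hg.resolve_left h)).some.default
  have hx'0 : ∀ {E'} (g : E' ⟶ E) (h : R.arrows g), x' g (Or.inl h) = x g h := fun g h => dif_pos h
  have hx' : x'.Compatible := (Presieve.compatible_iff_sieveCompatible x').2 fun A B g k hg => by
    rcases hg with h | h
    · rw [hx'0 g h, ← (Presieve.compatible_iff_sieveCompatible x).1 hx g k h]
      exact hx'0 (k ≫ g) (R.downward_closed h k)
    · have := hsub (isEmpty_bc_of_hom hr k h)
      exact Subsingleton.elim _ _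
  obtain ⟨a, ha, hau⟩ := hG R' hR' x' hx'
  refine ⟨a, fun E' g hg => (ha g (Or.inl hg)).trans (hx'0 g hg), fun b hb => hau b fun E' g hg => ?_⟩
  rcases hg with h | h
  · exact (hb g h).trans (hx'0 g h).symm
  · have := hsub h
    exact Subsingleton.elim _ _

omit hX hY hi hu in
theorem unique_of_sheaf (F : EtSh Y (Type (u + 1))) {Z : EtOver Y} (h : IsEmpty ↥Z.obj.left.left) :
    Nonempty (Unique (F.obj.obj (op Z))) := by
  have hF := (isSheaf_iff_isSheaf_of_type _ _).1 F.property ⊥ (bot_mem_of_isEmpty h)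
  obtain ⟨a, -, hu⟩ := hF (fun _ _ h => False.elim h) (fun _ _ _ _ _ _ _ h => False.elim h)
  exact ⟨{ default := a, uniq := fun b => hu b (fun _ _ h => False.elim h) }⟩

theorem essImage_type_iff (G : EtSh X (Type (u + 1))) :
    (pushEt hr (Type (u + 1))).essImage G ↔
      ∀ E : EtOver X, Disjoint (Set.range (Points.map E.obj.hom)) (Set.range (Points.map f)) →
        Nonempty (Unique (G.obj.obj (op E))) := by
  rw [essImage_pushEt_iff hr hX hY hi hu]
  constructor
  · intro h E hE
    obtain ⟨F, ⟨i⟩⟩ := (essImage_pushEt_iff hr hX hY hi hu (Type (u + 1)) G).2 h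
    obtain ⟨U⟩ := unique_of_sheaf (Y := Y) F ((isEmpty_bc_iff hr E).2 hE)
    exact ⟨@Equiv.unique _ _ U (((sheafToPresheaf _ _).mapIso i).app (op E)).toEquiv.symm⟩
  · intro h
    exact isSheaf_topI hr hX hY hi hu G.obj G.property fun E hE => h E ((isEmpty_bc_iff hr E).1 hE)

theorem essImage_ab_iff (G : AbEt X) :
    (pushEt hr AddCommGrpCat.{u + 1}).essImage G ↔
      ∀ E : EtOver X, Disjoint (Set.range (Points.map E.obj.hom)) (Set.range (Points.map f)) →
        Subsingleton ↥(G.obj.obj (op E)) := by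
  rw [essImage_pushEt_iff hr hX hY hi hu, Presheaf.isSheaf_iff_isSheaf_forget _ _ (forget AddCommGrpCat.{u + 1})]
  let G' : EtSh X (Type (u + 1)) :=
    ⟨G.obj ⋙ forget AddCommGrpCat.{u + 1}, (Presheaf.isSheaf_iff_isSheaf_forget _ _ _).1 G.property⟩
  rw [show Presheaf.IsSheaf (topI hr) (G.obj ⋙ forget AddCommGrpCat.{u + 1}) ↔
    (pushEt hr (Type (u + 1))).essImage G' from (essImage_pushEt_iff hr hX hY hi hu _ G').symm,
    essImage_type_iff hr hX hY hi hu]
  exact forall₂_congr fun E hE => ⟨fun ⟨h⟩ => inferInstanceAs (Subsingleton (G'.obj.obj (op E))),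
    fun h => ⟨{ default := (0 : ↥(G.obj.obj (op E))), uniq := fun a => h.elim a _ }⟩⟩

end Groth.Agent.H12AlgSp.EtUHomeo
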