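import Groth.Agent.H12AlgSp.EtUHomeo
import Groth.Agent.H12AlgSp.EtNbhd
import Groth.Prelude.Def_AlgSpOX3
import Mathlib.CategoryTheory.Limits.Types.Filtered

/-!
Stalks of direct images along integral universally injective morphisms.
-/

set_option linter.unusedVariables false
set_option backward.isDefEq.respectTransparency false

universe u

open CategoryTheory CategoryTheory.Limits AlgebraicGeometry Opposite
open AlgSp

namespace Groth.Agent.H12AlgSp.EtUHomeo

variable {S : Scheme.{u}} {Y X : Sp S} {f : Y ⟶ X} (hr : Representable f) (z : FieldPt Y)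

/-- Base change of a neighbourhood of the image point. -/
noncomputable def nbhdBc (N : EtNbhd (z.map f)) : EtNbhd z :=
  ⟨(EtOver.bc hr).obj N.1, ⟨hr.lift z.toHom N.2.1 ((N.2.2.trans (FieldPt.toHom_map f z)).symm),
    hr.lift_fst _ _ _⟩⟩

theorem nbhdBc_snd (N : EtNbhd (z.map f)) : (nbhdBc hr z N).2.1 ≫ hr.snd N.1.obj.hom = N.2.1 :=
  hr.lift_snd _ _ _

/-- Base change of a morphism of neighbourhoods. -/
noncomputable def nbhdBcMap {N N' : EtNbhd (z.map f)} (h : N ⟶ N') : nbhdBc hr z N ⟶ nbhdBc hr z N' :=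
  CategoryOfElements.homMk _ _ ((EtOver.bc hr).map h.val) (Subtype.ext (hr.hom_ext
    (by
      refine Eq.trans ?_ (nbhdBc hr z N').2.2.symm
      exact ((FieldPt.liftsTo z).map ((EtOver.bc hr).map h.val) (nbhdBc hr z N).2).2)
    (by
      change ((nbhdBc hr z N).2.1 ≫ (EtOver.bcMap hr h.val).hom.left) ≫ hr.snd N'.1.obj.hom = _
      rw [Category.assoc, EtOver.bcMap_snd, reassoc_of% (nbhdBc_snd hr z N), nbhdBc_snd]
      exact congrArg Subtype.val h.property)))

theorem val_left_w {E : EtOver Y} (u : (FieldPt.liftsTo z).obj E) : (yon S).map u.1 ≫ E.obj.hom = z.toHom := u.2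

variable (hX : IsAlgSpace X) (hY : IsAlgSpace Y) (hi : RepWith @IsIntegralHom f) (hu : IsUnivInjectiveMor f)
  (hz : z.IsGeometric)

include hX hY hi hu hz

theorem exists_nbhd (M : EtNbhd z) : ∃ N : EtNbhd (z.map f), Nonempty (nbhdBc hr z N ⟶ M) := by
  have := isCoverDense hr hX hY hi hu
  obtain ⟨W, g, hg, l', hl'⟩ :=
    exists_lift_of_mem_etTop (p := z) hz (Sieve.coverByImage (EtOver.bc hr) M.1) (Functor.is_cover_of_isCoverDense _ _ M.1) M.2
  obtain ⟨⟨E, a, b, hab⟩⟩ := hg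
  let l : (FieldPt.liftsTo z).obj ((EtOver.bc hr).obj E) := (FieldPt.liftsTo z).map a l'
  let n : (FieldPt.liftsTo (z.map f)).obj E := ⟨l.1 ≫ hr.snd E.obj.hom, by
    rw [Functor.map_comp, Category.assoc]
    refine Eq.trans ?_ (FieldPt.toHom_map f z).symm
    refine (congrArg ((yon S).map l.1 ≫ ·) (hr.w E.obj.hom).symm).trans ?_
    rw [← Category.assoc]
    exact congrArg (· ≫ f) l.2⟩
  let N : EtNbhd (z.map f) := ⟨E, n⟩
  have hl : (nbhdBc hr z N).2 = l := Subtype.ext (hr.hom_ext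
    ((nbhdBc hr z N).2.2.trans l.2.symm) (nbhdBc_snd hr z N))
  refine ⟨N, ⟨CategoryOfElements.homMk _ _ b ?_⟩⟩
  rw [hl, ← hl', ← hab, Functor.map_comp]
  rfl

theorem exists_refine {N N' : EtNbhd (z.map f)} (g : nbhdBc hr z N ⟶ nbhdBc hr z N') :
    ∃ (N'' : EtNbhd (z.map f)) (p : N'' ⟶ N) (q : N'' ⟶ N'),
      nbhdBcMap hr z p ≫ g = nbhdBcMap hr z q := by
  have := isLocallyFull hr hY hi hu
  obtain ⟨W, w, hw, l', hl'⟩ := exists_lift_of_mem_etTop (p := z) hz _
    (Functor.functorPushforward_imageSieve_mem (EtOver.bc hr) (etTop Y) g.val) (nbhdBc hr z N).2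
  obtain ⟨E, a, k, ⟨b, hb⟩, rfl⟩ := hw
  let l : (FieldPt.liftsTo z).obj ((EtOver.bc hr).obj E) := (FieldPt.liftsTo z).map k l'
  have hla : (FieldPt.liftsTo z).map ((EtOver.bc hr).map a) l = (nbhdBc hr z N).2 := by
    rw [← hl', Functor.map_comp]
    rfl
  have hlb : (FieldPt.liftsTo z).map ((EtOver.bc hr).map b) l = (nbhdBc hr z N').2 := by
    rw [hb, Functor.map_comp]
    exact (congrArg (fun t => (FieldPt.liftsTo z).map g.val t) hla).trans g.property
  let n : (FieldPt.liftsTo (z.map f)).obj E := ⟨l.1 ≫ hr.snd E.obj.hom, by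
    rw [Functor.map_comp, Category.assoc]
    refine Eq.trans ?_ (FieldPt.toHom_map f z).symm
    refine (congrArg ((yon S).map l.1 ≫ ·) (hr.w E.obj.hom).symm).trans ?_
    rw [← Category.assoc]
    exact congrArg (· ≫ f) l.2⟩
  have key : ∀ {M : EtNbhd (z.map f)} (c : E ⟶ M.1),
      (FieldPt.liftsTo z).map ((EtOver.bc hr).map c) l = (nbhdBc hr z M).2 → n.1 ≫ c.hom.left = M.2.1 := by
    intro M c hc
    rw [← nbhdBc_snd hr z M, ← hc]
    change (l.1 ≫ hr.snd E.obj.hom) ≫ c.hom.left = (l.1 ≫ (EtOver.bcMap hr c).hom.left) ≫ hr.snd M.1.obj.hom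
    rw [Category.assoc, Category.assoc, EtOver.bcMap_snd]
  refine ⟨⟨E, n⟩, CategoryOfElements.homMk _ _ a (Subtype.ext (key (M := N) a hla)),
    CategoryOfElements.homMk _ _ b (Subtype.ext (key (M := N') b hlb)), ?_⟩
  refine CategoryOfElements.ext _ _ _ ?_
  change (EtOver.bc hr).map a ≫ g.val = (EtOver.bc hr).map b
  exact hb.symm

theorem stalk_bijective (F : EtSh Y (Type (u + 1))) :
    ∃ φ : stalkEt (z.map f) ((pushEt hr (Type (u + 1))).obj F) ≃ stalkEt z F,
      ∀ (N : EtNbhd (z.map f)) (s : F.obj.obj (op ((EtOver.bc hr).obj N.1))),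
        φ (stalkEtι (z.map f) ((pushEt hr (Type (u + 1))).obj F) N s) = stalkEtι z F (nbhdBc hr z N) s := by
  have hc : IsCofiltered (EtNbhd (z.map f)) := isCofiltered_etNbhd hX hz
  have hc' : IsCofiltered (EtNbhd z) := isCofiltered_etNbhd hY hz
  let D := stalkEtDiagram (z.map f) ((pushEt hr (Type (u + 1))).obj F)
  let D' := stalkEtDiagram z F
  let co : Cocone D :=
    { pt := stalkEt z F
      ι :=
        { app := fun N => colimit.ι D' (op (nbhdBc hr z N.unop))
          naturality := fun N N' h => (colimit.w D' (nbhdBcMap hr z h.unop).op).trans (Category.comp_id _).symm } }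
  let φ := colimit.desc D co
  have hφ : ∀ (N : (EtNbhd (z.map f))ᵒᵖ) s, φ (colimit.ι D N s) = colimit.ι D' (op (nbhdBc hr z N.unop)) s :=
    fun N s => congrArg (fun t => t s) (colimit.ι_desc co N)
  have hbij : Function.Bijective φ := by
    refine ⟨fun x y e => ?_, fun y => ?_⟩
    · obtain ⟨N, s, rfl⟩ := Types.jointly_surjective' x
      obtain ⟨N', s', rfl⟩ := Types.jointly_surjective' y
      rw [hφ, hφ] at e
      obtain ⟨M, p, p', hp⟩ := (Types.FilteredColimit.colimit_eq_iff _).1 e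
      obtain ⟨L, ⟨q⟩⟩ := exists_nbhd hr z hX hY hi hu hz M.unop
      obtain ⟨L₁, a₁, b₁, h₁⟩ := exists_refine hr z hX hY hi hu hz (q ≫ p.unop)
      obtain ⟨L₂, a₂, b₂, h₂⟩ := exists_refine hr z hX hY hi hu hz (nbhdBcMap hr z a₁ ≫ q ≫ p'.unop)
      refine (Types.FilteredColimit.colimit_eq_iff _).2 ⟨op L₂, (a₂ ≫ b₁).op, b₂.op, ?_⟩
      have h1' : nbhdBcMap hr z (a₂ ≫ b₁) = (nbhdBcMap hr z a₂ ≫ nbhdBcMap hr z a₁ ≫ q) ≫ p.unop := by
        rw [Category.assoc, Category.assoc, h₁]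
        exact CategoryOfElements.ext _ _ _ ((EtOver.bc hr).map_comp _ _)
      have h2' : nbhdBcMap hr z b₂ = (nbhdBcMap hr z a₂ ≫ nbhdBcMap hr z a₁ ≫ q) ≫ p'.unop := by
        rw [← h₂]
        simp only [Category.assoc]
      change D'.map (nbhdBcMap hr z (a₂ ≫ b₁)).op s = D'.map (nbhdBcMap hr z b₂).op s'
      rw [h1', h2']
      generalize nbhdBcMap hr z a₂ ≫ nbhdBcMap hr z a₁ ≫ q = r
      rw [op_comp, op_comp]
      exact ((FunctorToTypes.map_comp_apply D' p r.op s).trans (congrArg (fun v => D'.map r.op v) hp)).trans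
        (FunctorToTypes.map_comp_apply D' p' r.op s').symm
    · obtain ⟨M, t, rfl⟩ := Types.jointly_surjective' y
      obtain ⟨N, ⟨g⟩⟩ := exists_nbhd hr z hX hY hi hu hz M.unop
      refine ⟨colimit.ι D (op N) (D'.map g.op t), (hφ (op N) _).trans ?_⟩
      exact congrArg (fun k => k t) (colimit.w D' g.op)
  exact ⟨Equiv.ofBijective φ hbij, fun N s => hφ (op N) s⟩

end Groth.Agent.H12AlgSp.EtUHomeo
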