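import Groth.Agent.H13AlgSp.EtaleLocally
import Groth.Agent.H12AlgSp.Points
import Mathlib.AlgebraicGeometry.Morphisms.FinitePresentation

/-!
Etale local properties of algebraic spaces: constructible subsets of points, reducedness, charts.
-/

universe u

open CategoryTheory CategoryTheory.Limits AlgebraicGeometry Topology
open AlgSp

namespace Groth.Agent.H12AlgSp

/-- The inverse image of a locally constructible set under a morphism of schemes is locally constructible. -/
theorem isLocallyConstructible_preimage {X Y : Scheme.{u}} (f : X ⟶ Y) {E : Set Y}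
    (hE : IsLocallyConstructible E) : IsLocallyConstructible (f ⁻¹' E) := by
  have hU : TopologicalSpace.IsOpenCover fun B : Y.affineOpens => f ⁻¹ᵁ B.1 :=
    TopologicalSpace.IsOpenCover.mk (top_le_iff.1 fun x _ => by
      obtain ⟨B, hB, hxB, -⟩ := TopologicalSpace.Opens.isBasis_iff_nbhd.mp Y.isBasis_affineOpens
        (TopologicalSpace.Opens.mem_top (f x))
      exact TopologicalSpace.Opens.mem_iSup.2 ⟨⟨B, hB⟩, hxB⟩)
  refine .of_isOpenCover hU fun B => ?_
  have : IsAffine B.1.toScheme := B.2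
  have h1 : IsConstructible (B.1.ι ⁻¹' E) :=
    (hE.preimage_of_isOpenEmbedding B.1.ι.isOpenEmbedding).isConstructible
  have h2 : f ∣_ B.1 ⁻¹' (B.1.ι ⁻¹' E) = (f ⁻¹ᵁ B.1).ι ⁻¹' (f ⁻¹' E) := by
    rw [← Set.preimage_comp, ← Set.preimage_comp]
    exact congrArg (· ⁻¹' E) (funext fun z => congrArg (fun m => m z) (morphismRestrict_ι f B.1))
  have h3 := ((f ∣_ B.1).isConstructible_preimage h1).isLocallyConstructible
  rw [h2] at h3
  exact h3

/-- Local constructibility descends along a surjective flat morphism locally of finite presentation. -/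
theorem isLocallyConstructible_of_preimage {W V : Scheme.{u}} (q : W ⟶ V) [Flat q]
    [LocallyOfFinitePresentation q] [Surjective q] {E : Set V} (hE : IsLocallyConstructible (q ⁻¹' E)) :
    IsLocallyConstructible E := by
  refine .of_isOpenCover (TopologicalSpace.IsOpenCover.mk (iSup_affineOpens_eq_top V)) fun B => ?_
  change IsLocallyConstructible (B.1.ι ⁻¹' E)
  have : IsAffine B.1.toScheme := B.2
  let q' := q ∣_ B.1
  have : Surjective q' := MorphismProperty.of_isPullback (isPullback_morphismRestrict q B.1).flip inferInstance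
  have hq' : IsLocallyConstructible (q' ⁻¹' (B.1.ι ⁻¹' E)) := by
    have e : q' ⁻¹' (B.1.ι ⁻¹' E) = (q ⁻¹ᵁ B.1).ι ⁻¹' (q ⁻¹' E) := by
      rw [← Set.preimage_comp, ← Set.preimage_comp]
      exact congrArg (· ⁻¹' E) (funext fun z => congrArg (fun m => m z) (morphismRestrict_ι q B.1))
    rw [e]
    exact hE.preimage_of_isOpenEmbedding (q ⁻¹ᵁ B.1).ι.isOpenEmbedding
  obtain ⟨σ, hσ⟩ := isCompact_univ.elim_finite_subcover
    (fun A : (q ⁻¹ᵁ B.1).toScheme.affineOpens => q' '' (A.1 : Set _))
    (fun A => q'.isOpenMap _ A.1.isOpen) (fun z _ => by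
      obtain ⟨w, rfl⟩ := q'.surjective z
      obtain ⟨A, hA, hwA, -⟩ := TopologicalSpace.Opens.isBasis_iff_nbhd.mp
        (q ⁻¹ᵁ B.1).toScheme.isBasis_affineOpens (TopologicalSpace.Opens.mem_top w)
      exact Set.mem_iUnion.2 ⟨⟨A, hA⟩, w, hwA, rfl⟩)
  have : (B.1.ι ⁻¹' E : Set B.1.toScheme) =
      ⋃ A ∈ (↑σ : Set (q ⁻¹ᵁ B.1).toScheme.affineOpens), (A.1.ι ≫ q') '' (A.1.ι ⁻¹' (q' ⁻¹' (B.1.ι ⁻¹' E))) := by
    ext v
    simp only [Set.mem_iUnion, Set.mem_image, Finset.mem_coe]
    constructor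
    · intro hv
      obtain ⟨A, hA, w, hw, rfl⟩ := Set.mem_iUnion₂.1 (hσ (Set.mem_univ v))
      exact ⟨A, hA, ⟨w, hw⟩, hv, rfl⟩
    · rintro ⟨A, -, w, hw, rfl⟩
      exact hw
  rw [this]
  refine IsLocallyConstructible.biUnion σ.finite_toSet fun A _ => ?_
  have : IsAffine A.1.toScheme := A.2
  exact (A.1.ι ≫ q').isLocallyConstructible_image (hq'.preimage_of_isOpenEmbedding A.1.ι.isOpenEmbedding)

variable {S : Scheme.{u}} {F : Sp S}

/-- Local constructibility in one etale surjective chart passes to every etale chart. -/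
theorem isLocallyConstructible_chart {E : Set (Points F)} {U : Over S} {p : (yon S).obj U ⟶ F}
    (hp : RepWith @Etale p) (hs : RepWith @Surjective p)
    (hE : IsLocallyConstructible (Points.ofPt p ⁻¹' E)) {V : Over S} (a : (yon S).obj V ⟶ F) :
    IsLocallyConstructible (Points.ofPt a ⁻¹' E) := by
  obtain ⟨W, q, w', sq⟩ := hp.1 a
  obtain ⟨w, rfl⟩ := (yon S).map_surjective w'
  have he : Etale q.left := hp.2 a _ q sq
  have : Surjective q.left := hs.2 a _ q sq
  have e : q.left ⁻¹' (Points.ofPt a ⁻¹' E) = w.left ⁻¹' (Points.ofPt p ⁻¹' E) := by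
    ext z
    simp only [Set.mem_preimage, ← ofPt_map, sq.w]
  exact isLocallyConstructible_of_preimage q.left (e ▸ isLocallyConstructible_preimage w.left hE)

/-- A property of schemes that is local for etale coverings is inherited along etale morphisms. -/
theorem etale_inherit {P : Scheme.{u} → Prop}
    (hP : ∀ (V : Scheme.{u}) (𝒰 : Scheme.Cover.{u} (Scheme.precoverage @Etale) V), P V ↔ ∀ i, P (𝒰.X i))
    {A B : Scheme.{u}} (g : A ⟶ B) (hg : Etale g) (hB : P B) : P A :=
  (hP B (Scheme.Cover.mkOfCovers (P := @Etale) (ULift.{u} Bool) (fun b => if b.down then A else B)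
    (fun b => match b with | ⟨true⟩ => g | ⟨false⟩ => 𝟙 B)
    (fun x => ⟨⟨false⟩, x, rfl⟩)
    (fun b => match b with | ⟨true⟩ => hg | ⟨false⟩ => inferInstanceAs (Etale (𝟙 B))))).1 hB ⟨true⟩

/-- A property of schemes that is local for etale coverings descends along etale surjections. -/
theorem etale_descend {P : Scheme.{u} → Prop}
    (hP : ∀ (V : Scheme.{u}) (𝒰 : Scheme.Cover.{u} (Scheme.precoverage @Etale) V), P V ↔ ∀ i, P (𝒰.X i))
    {A B : Scheme.{u}} (g : A ⟶ B) (hg : Etale g) (hs : Surjective g) (hA : P A) : P B :=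
  (hP B (Scheme.Cover.mkOfCovers (P := @Etale) PUnit.{u + 1} (fun _ => A) (fun _ => g)
    (fun x => ⟨⟨⟩, hs.surj x⟩) (fun _ => hg))).2 fun _ => hA

end Groth.Agent.H12AlgSp
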