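import Groth.Agent.H12AlgSp.FiniteSep
import Mathlib.RingTheory.Etale.Descent
import Mathlib.RingTheory.Localization.BaseChange
import Mathlib.RingTheory.Flat.Stability
import Mathlib.RingTheory.RingHom.Etale

/-!
Etale models over a valuation ring, descended from a dominating valuation ring.
-/

set_option linter.unusedVariables false

universe u

open scoped TensorProduct

namespace Groth.Agent.H12AlgSp

theorem injective_of_tmul_fractionRing {A K M N : Type u} [CommRing A] [IsDomain A] [Field K] [Algebra A K]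
    [IsFractionRing A K] [CommRing M] [Algebra K M] [Algebra A M] [IsScalarTower A K M]
    [CommRing N] [Algebra K N] [Algebra A N] [IsScalarTower A K N]
    (Φ : M ⊗[A] N →+* M ⊗[K] N) (hΦ : ∀ m n, Φ (m ⊗ₜ n) = m ⊗ₜ n) : Function.Injective Φ := by
  let e := IsLocalization.moduleTensorEquiv (R := A) (nonZeroDivisors A) K M N
  have h : ∀ z, Φ z = e.symm z := fun z => by
    induction z using TensorProduct.induction_on with
    | zero => simp
    | tmul m n => exact hΦ m n
    | add a b ha hb => rw [map_add, map_add, ha, hb]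
  intro a b hab
  rw [h, h] at hab
  exact e.symm.injective hab

/-- An etale algebra over a dominating valuation ring, generated by elements over the small field, is the
base change of a faithfully flat etale algebra over the small valuation ring. -/
theorem exists_etale_model {A K A' K' F G Γ : Type u} [CommRing A] [IsDomain A] [ValuationRing A] [Field K]
    [Algebra A K] [IsFractionRing A K] [CommRing A'] [IsDomain A'] [IsLocalRing A'] [Field K'] [Algebra A' K']
    [IsFractionRing A' K'] [Algebra A A'] [Algebra A K'] [IsScalarTower A A' K'] [Algebra K K']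
    [IsScalarTower A K K'] [CommRing F] [Algebra K F] [Algebra A F] [IsScalarTower A K F]
    [CommRing G] [CommRing Γ] (hloc : IsLocalHom (algebraMap A A'))
    (uG : A' →+* G) (huG : uG.Etale) (vG : Γ →+* G) (vF : Γ →+* F)
    (hgen : Subring.closure (Set.range uG ∪ Set.range vG) = ⊤)
    (g : G →+* K' ⊗[K] F) (hg : Function.Injective g)
    (hg₁ : ∀ a, g (uG a) = algebraMap A' K' a ⊗ₜ 1) (hg₂ : ∀ c, g (vG c) = 1 ⊗ₜ vF c)
    (σ : F →+* K') (hσ₁ : ∀ a, σ (algebraMap K F a) = algebraMap K K' a)
    (hσ₂ : ∀ c, ∃ a, algebraMap A' K' a = σ (vF c)) :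
    ∃ B : Subalgebra A F, (∀ c, vF c ∈ B) ∧ (algebraMap A B).FaithfullyFlat ∧
      (algebraMap A B).FinitePresentation ∧
      ∃ Ψ : B ⊗[A] B →+* F ⊗[K] F, Function.Injective Ψ ∧ ∀ x y : B, Ψ (x ⊗ₜ y) = (x : F) ⊗ₜ (y : F) := by
  let B : Subalgebra A F := Algebra.adjoin A (Set.range vF)
  have hvB : ∀ c, vF c ∈ B := fun c => Algebra.subset_adjoin ⟨c, rfl⟩
  have hinj : Function.Injective (algebraMap A A') := by
    intro a b hab
    refine IsFractionRing.injective A K ((algebraMap K K').injective ?_)
    rw [← IsScalarTower.algebraMap_apply, ← IsScalarTower.algebraMap_apply,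
      IsScalarTower.algebraMap_apply A A' K', IsScalarTower.algebraMap_apply A A' K', hab]
  have hA' : (algebraMap A A').FaithfullyFlat := faithfullyFlat_of_isLocalHom _ hinj
  have : Module.FaithfullyFlat A A' := RingHom.faithfullyFlat_algebraMap_iff.1 hA'
  have : Module.Flat A K := IsLocalization.flat K (nonZeroDivisors A)
  have : Module.Flat A F := Module.Flat.trans A K F
  let ι₁ : A' →ₐ[A] K' := IsScalarTower.toAlgHom A A' K'
  let Θ : A' ⊗[A] B →ₐ[A] K' ⊗[K] F := Algebra.TensorProduct.lift
    ((Algebra.TensorProduct.includeLeft : K' →ₐ[A] K' ⊗[K] F).comp ι₁)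
    (((Algebra.TensorProduct.includeRight : F →ₐ[K] K' ⊗[K] F).restrictScalars A).comp B.val)
    fun _ _ => Commute.all _ _
  have hΘt : ∀ (a : A') (b : B), Θ (a ⊗ₜ b) = algebraMap A' K' a ⊗ₜ (b : F) := fun a b => by
    simp [Θ, ι₁]
  have hΘinj : Function.Injective Θ := by
    let Φ : K' ⊗[A] F →ₐ[A] K' ⊗[K] F := Algebra.TensorProduct.lift
      (Algebra.TensorProduct.includeLeft : K' →ₐ[A] K' ⊗[K] F)
      ((Algebra.TensorProduct.includeRight : F →ₐ[K] K' ⊗[K] F).restrictScalars A) fun _ _ => Commute.all _ _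
    have hΦ : Function.Injective Φ :=
      injective_of_tmul_fractionRing Φ.toRingHom fun m n => by simp [Φ]
    let m₁ := LinearMap.lTensor A' B.val.toLinearMap
    let m₂ := LinearMap.rTensor F ι₁.toLinearMap
    have h₁ : Function.Injective m₁ :=
      Module.Flat.lTensor_preserves_injective_linearMap _ Subtype.val_injective
    have h₂ : Function.Injective m₂ :=
      Module.Flat.rTensor_preserves_injective_linearMap _ (IsFractionRing.injective A' K')
    have h : ∀ z, Θ z = Φ (m₂ (m₁ z)) := fun z => by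
      induction z using TensorProduct.induction_on with
      | zero => simp
      | tmul a b => simp [hΘt, Φ, m₁, m₂, ι₁]
      | add a b ha hb => rw [map_add, map_add, map_add, map_add, ha, hb]
    intro a b hab
    rw [h, h] at hab
    exact h₁ (h₂ (hΦ hab))
  have h1B : ∀ b ∈ B, (1 : K') ⊗ₜ[K] b ∈ g.range := fun b hb => by
    induction hb using Algebra.adjoin_induction with
    | mem x hx =>
      obtain ⟨c, rfl⟩ := hx
      exact ⟨vG c, hg₂ c⟩
    | algebraMap r =>
      refine ⟨uG (algebraMap A A' r), ?_⟩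
      rw [hg₁, ← IsScalarTower.algebraMap_apply, IsScalarTower.algebraMap_apply A K K',
        IsScalarTower.algebraMap_apply A K F, Algebra.algebraMap_eq_smul_one,
        Algebra.algebraMap_eq_smul_one (A := F), TensorProduct.smul_tmul]
    | add x y _ _ hx hy => rw [TensorProduct.tmul_add]; exact add_mem hx hy
    | mul x y _ _ hx hy =>
      rw [show (1 : K') ⊗ₜ[K] (x * y) = ((1 : K') ⊗ₜ x) * ((1 : K') ⊗ₜ y) by
        rw [Algebra.TensorProduct.tmul_mul_tmul, one_mul]]
      exact mul_mem hx hy
  have hΘg : ∀ z, Θ z ∈ g.range := fun z => by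
    induction z using TensorProduct.induction_on with
    | zero => simp
    | tmul a b =>
      rw [hΘt, show algebraMap A' K' a ⊗ₜ[K] (b : F) = g (uG a) * ((1 : K') ⊗ₜ (b : F)) by
        rw [hg₁, Algebra.TensorProduct.tmul_mul_tmul, one_mul, mul_one]]
      exact mul_mem ⟨_, rfl⟩ (h1B _ b.2)
    | add a b ha hb => rw [map_add]; exact add_mem ha hb
  let eG : G ≃+* g.range :=
    RingEquiv.ofBijective g.rangeRestrict ⟨fun a b hab => hg (congrArg Subtype.val hab), g.rangeRestrict_surjective⟩
  let h : A' ⊗[A] B →+* G := eG.symm.toRingHom.comp (Θ.toRingHom.codRestrict g.range hΘg)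
  have hgh : ∀ z, g (h z) = Θ z := fun z => congrArg Subtype.val (eG.apply_symm_apply ⟨Θ z, hΘg z⟩)
  have hbij : Function.Bijective h := by
    refine ⟨fun a b hab => hΘinj (by rw [← hgh, hab, hgh]), fun y => ?_⟩
    suffices y ∈ h.range from this
    have hle : Subring.closure (Set.range uG ∪ Set.range vG) ≤ h.range := by
      rw [Subring.closure_le]
      rintro _ (⟨a, rfl⟩ | ⟨c, rfl⟩)
      · exact ⟨a ⊗ₜ 1, hg (by rw [hgh, hΘt, hg₁]; rfl)⟩
      · exact ⟨1 ⊗ₜ ⟨vF c, hvB c⟩, hg (by rw [hgh, hΘt, hg₂, map_one])⟩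
    exact hle (hgen ▸ Subring.mem_top y)
  let e : A' ⊗[A] B ≃+* G := RingEquiv.ofBijective h hbij
  have het : (algebraMap A B).Etale := by
    refine RingHom.CodescendsAlong.algebraMap_tensorProduct _ A A' B
      RingHom.Etale.codescendsAlong_faithfullyFlat hA' ?_
    have : algebraMap A' (A' ⊗[A] B) = e.symm.toRingHom.comp uG := RingHom.ext fun a => e.injective (by
      rw [RingHom.comp_apply]
      refine Eq.trans ?_ (e.apply_symm_apply _).symm
      refine hg ?_
      change g (h (a ⊗ₜ 1)) = _
      rw [hgh, hΘt, hg₁]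
      rfl)
    rw [this]
    exact RingHom.Etale.respectsIso.1 uG e.symm huG
  have : Algebra.Etale A B := RingHom.etale_algebraMap.1 het
  have : Module.Flat A B := inferInstance
  have hσB : ∀ b : B, σ (b : F) ∈ (algebraMap A' K').range := fun b => by
    obtain ⟨b, hb⟩ := b
    change σ b ∈ _
    induction hb using Algebra.adjoin_induction with
    | mem x hx =>
      obtain ⟨c, rfl⟩ := hx
      exact hσ₂ c
    | algebraMap r =>
      refine ⟨algebraMap A A' r, ?_⟩
      rw [← IsScalarTower.algebraMap_apply, IsScalarTower.algebraMap_apply A K F, hσ₁,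
        ← IsScalarTower.algebraMap_apply]
    | add x y _ _ hx hy => rw [map_add]; exact add_mem hx hy
    | mul x y _ _ hx hy => rw [map_mul]; exact mul_mem hx hy
  let eA : A' ≃+* (algebraMap A' K').range := RingEquiv.ofBijective (algebraMap A' K').rangeRestrict
    ⟨fun a b hab => IsFractionRing.injective A' K' (congrArg Subtype.val hab),
      (algebraMap A' K').rangeRestrict_surjective⟩
  let σ₀ : B →+* A' := eA.symm.toRingHom.comp ((σ.comp B.val.toRingHom).codRestrict _ hσB)
  have hσ₀ : σ₀.comp (algebraMap A B) = algebraMap A A' := RingHom.ext fun r => by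
    refine IsFractionRing.injective A' K' ((congrArg Subtype.val (eA.apply_symm_apply _)).trans ?_)
    change σ (algebraMap A F r) = _
    rw [IsScalarTower.algebraMap_apply A K F, hσ₁, ← IsScalarTower.algebraMap_apply,
      ← IsScalarTower.algebraMap_apply]
  have hff : (algebraMap A B).FaithfullyFlat := by
    rw [RingHom.FaithfullyFlat.iff_flat_and_comap_surjective]
    refine ⟨RingHom.flat_algebraMap_iff.2 inferInstance, fun p => ?_⟩
    obtain ⟨q, hq⟩ := ((RingHom.FaithfullyFlat.iff_flat_and_comap_surjective).1 hA').2 p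
    refine ⟨PrimeSpectrum.comap σ₀ q, ?_⟩
    rw [← hq, ← hσ₀]
    rfl
  refine ⟨B, hvB, hff, RingHom.finitePresentation_algebraMap.2 inferInstance, ?_⟩
  let Ψ : B ⊗[A] B →ₐ[A] F ⊗[K] F := Algebra.TensorProduct.lift
    ((Algebra.TensorProduct.includeLeft : F →ₐ[A] F ⊗[K] F).comp B.val)
    (((Algebra.TensorProduct.includeRight : F →ₐ[K] F ⊗[K] F).restrictScalars A).comp B.val)
    fun _ _ => Commute.all _ _
  have hΨt : ∀ x y : B, Ψ (x ⊗ₜ y) = (x : F) ⊗ₜ (y : F) := fun x y => by simp [Ψ]
  refine ⟨Ψ.toRingHom, ?_, hΨt⟩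
  let Φ : F ⊗[A] F →ₐ[A] F ⊗[K] F := Algebra.TensorProduct.lift
    (Algebra.TensorProduct.includeLeft : F →ₐ[A] F ⊗[K] F)
    ((Algebra.TensorProduct.includeRight : F →ₐ[K] F ⊗[K] F).restrictScalars A) fun _ _ => Commute.all _ _
  have hΦ : Function.Injective Φ := injective_of_tmul_fractionRing Φ.toRingHom fun m n => by simp [Φ]
  have h : ∀ z, Ψ z = Φ (LinearMap.lTensor F B.val.toLinearMap (LinearMap.rTensor B B.val.toLinearMap z)) :=
    fun z => by
      induction z using TensorProduct.induction_on with
      | zero => simp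
      | tmul a b => simp [hΨt, Φ]
      | add a b ha hb => rw [map_add, map_add, map_add, map_add, ha, hb]
  intro a b hab
  change Ψ a = Ψ b at hab
  rw [h, h] at hab
  exact Module.Flat.rTensor_preserves_injective_linearMap _ Subtype.val_injective
    (Module.Flat.lTensor_preserves_injective_linearMap _ Subtype.val_injective (hΦ hab))

end Groth.Agent.H12AlgSp
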