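import Mathlib.RingTheory.Etale.QuasiFinite
import Mathlib.RingTheory.RingHom.Etale
import Mathlib.RingTheory.RingHom.Finite
import Mathlib.FieldTheory.SeparableClosure
import Mathlib.FieldTheory.PurelyInseparable.Basic
import Mathlib.RingTheory.LocalRing.ResidueField.Ideal
import Groth.Agent.H8Props.EtalePrescribedResidue

/-!
Etale neighbourhoods splitting off a radicial finite part.
-/

universe u

open TensorProduct
open scoped Classical

namespace Groth.Agent.H12AlgSp

theorem etale_includeRight {R A B : Type u} [CommRing R] [CommRing A] [CommRing B] [Algebra R A] [Algebra R B]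
    [Algebra.Etale R A] :
    (Algebra.TensorProduct.includeRight : B →ₐ[R] A ⊗[R] B).toRingHom.Etale := by
  letI : Algebra B (A ⊗[R] B) := Algebra.TensorProduct.rightAlgebra
  have h : (algebraMap R A).Etale := RingHom.etale_algebraMap.2 ‹_›
  exact RingHom.Etale.isStableUnderBaseChange R A B (A ⊗[R] B) h

theorem exists_factor_residueField {B K : Type u} [CommRing B] [Field K] (q : Ideal B) [q.IsPrime]
    (a : B →+* K) (ha : RingHom.ker a = q) :
    ∃ α : q.ResidueField →+* K, α.comp (algebraMap B q.ResidueField) = a := by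
  have hinj : Function.Injective (Ideal.Quotient.lift q a fun x hx => ha.ge hx) := by
    rw [injective_iff_map_eq_zero]
    intro x hx
    obtain ⟨x, rfl⟩ := Ideal.Quotient.mk_surjective x
    rw [Ideal.Quotient.lift_mk] at hx
    exact Ideal.Quotient.eq_zero_iff_mem.2 (ha.le hx)
  refine ⟨IsFractionRing.lift (A := B ⧸ q) (K := q.ResidueField) hinj, RingHom.ext fun x => ?_⟩
  rw [RingHom.comp_apply, IsScalarTower.algebraMap_apply B (B ⧸ q) q.ResidueField,
    IsFractionRing.lift_algebraMap, Ideal.Quotient.algebraMap_eq, Ideal.Quotient.lift_mk]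

theorem residueField_frac {B : Type u} [CommRing B] (q : Ideal B) [q.IsPrime] (x : q.ResidueField) :
    ∃ c d : B, algebraMap B q.ResidueField d ≠ 0 ∧
      algebraMap B q.ResidueField d * x = algebraMap B q.ResidueField c := by
  obtain ⟨c, d, hd, rfl⟩ := IsFractionRing.div_surjective (B ⧸ q) x
  obtain ⟨c, rfl⟩ := Ideal.Quotient.mk_surjective c
  obtain ⟨d, rfl⟩ := Ideal.Quotient.mk_surjective d
  have hd0 : algebraMap (B ⧸ q) q.ResidueField (Ideal.Quotient.mk q d) ≠ 0 :=
    IsFractionRing.to_map_ne_zero_of_mem_nonZeroDivisors hd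
  refine ⟨c, d, ?_, ?_⟩ <;>
    rw [IsScalarTower.algebraMap_apply B (B ⧸ q) q.ResidueField, Ideal.Quotient.algebraMap_eq]
  · exact hd0
  · rw [IsScalarTower.algebraMap_apply B (B ⧸ q) q.ResidueField, Ideal.Quotient.algebraMap_eq,
      mul_div_cancel₀ _ hd0]

/-- A quasi-finite algebra has, etale locally around a prime, a finite part with a single geometric point. -/
theorem exists_radicial_nbhd {R B : Type u} [CommRing R] [CommRing B] [Algebra R B] [Algebra.FiniteType R B]
    [Algebra.QuasiFinite R B] (q : Ideal B) [q.IsPrime] :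
    ∃ (R' : Type u) (_ : CommRing R') (_ : Algebra R R') (_ : Algebra.Etale R R') (P : Ideal R') (_ : P.IsPrime)
      (C : Type u) (_ : CommRing C) (gR : R' →+* C) (gB : B →+* C),
      gR.comp (algebraMap R R') = gB.comp (algebraMap R B) ∧ gR.Finite ∧ gB.Etale ∧
      (∃ Q : Ideal C, Q.IsPrime ∧ Q.comap gB = q ∧ Q.comap gR = P) ∧
      ∀ (K : Type u) [Field K] (a b : C →+* K), a.comp gR = b.comp gR → RingHom.ker (a.comp gR) = P → a = b := by
  let p := q.under R
  letI : Algebra p.ResidueField q.ResidueField :=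
    (Ideal.ResidueField.mapₐ p q (Algebra.ofId R B) rfl).toRingHom.toAlgebra
  have : IsScalarTower R p.ResidueField q.ResidueField :=
    .of_algebraMap_eq fun x => ((Ideal.ResidueField.mapₐ p q (Algebra.ofId R B) rfl).commutes x).symm
  have : Algebra.QuasiFinite R q.ResidueField := inferInstance
  have : Algebra.QuasiFinite p.ResidueField q.ResidueField :=
    Algebra.QuasiFinite.of_restrictScalars R p.ResidueField q.ResidueField
  have : Module.Finite p.ResidueField q.ResidueField := Module.Finite.of_quasiFinite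
  let L := separableClosure p.ResidueField q.ResidueField
  have : FiniteDimensional p.ResidueField L := inferInstance
  letI : Algebra R L := ((algebraMap p.ResidueField L).comp (algebraMap R p.ResidueField)).toAlgebra
  have : IsScalarTower R p.ResidueField L := .of_algebraMap_eq fun _ => rfl
  obtain ⟨R₁, _, _, _, ψ, hψ⟩ := Groth.Agent.H8Props.EtalePrescribedResidue.exists_etale_generating
    (R := R) (K := p.ResidueField) (L := L) (residueField_frac p)
  let ψ' : R₁ →ₐ[R] q.ResidueField :=
    { __ := (algebraMap L q.ResidueField).comp ψ.toRingHom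
      commutes' := fun r => by
        change algebraMap L q.ResidueField (ψ (algebraMap R R₁ r)) = _
        rw [ψ.commutes, IsScalarTower.algebraMap_apply R p.ResidueField q.ResidueField]
        exact (IsScalarTower.algebraMap_apply p.ResidueField L q.ResidueField _).symm }
  let θ : R₁ ⊗[R] B →ₐ[R] q.ResidueField :=
    Algebra.TensorProduct.productMap ψ' (IsScalarTower.toAlgHom R B q.ResidueField)
  let q₁ : Ideal (R₁ ⊗[R] B) := RingHom.ker θ.toRingHom
  have : q₁.IsPrime := RingHom.ker_isPrime θ.toRingHom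
  let p₁ := q₁.under R₁
  obtain ⟨R', _, _, _, P, _, _, e, he, P', _, _, hP'q, heP', -, hfin, huniq⟩ :=
    Algebra.exists_etale_isIdempotentElem_forall_liesOver_eq (R := R₁) (S := R₁ ⊗[R] B) p₁ q₁
  letI : Algebra R R' := ((algebraMap R₁ R').comp (algebraMap R R₁)).toAlgebra
  have : IsScalarTower R R₁ R' := .of_algebraMap_eq fun _ => rfl
  have : Algebra.Etale R R' := Algebra.Etale.comp R R₁ R'
  let T' := R' ⊗[R₁] (R₁ ⊗[R] B)
  let C := Localization.Away e
  let loc : T' →+* C := algebraMap T' C
  let gR : R' →+* C := algebraMap R' C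
  let iB : B →+* T' := (Algebra.TensorProduct.includeRight : R₁ ⊗[R] B →ₐ[R₁] T').toRingHom.comp
    (Algebra.TensorProduct.includeRight : B →ₐ[R] R₁ ⊗[R] B).toRingHom
  have hQ : (P'.map loc).IsPrime ∧ (P'.map loc).comap loc = P' := by
    have hd : Disjoint (Submonoid.powers e : Set T') P' := by
      rwa [Ideal.disjoint_powers_iff_notMem_of_isPrime]
    exact ⟨IsLocalization.isPrime_of_isPrime_disjoint _ _ _ ‹_› hd,
      IsLocalization.under_map_of_isPrime_disjoint _ _ ‹_› hd⟩
  refine ⟨R', inferInstance, inferInstance, inferInstance, P, inferInstance, C, inferInstance, gR, loc.comp iB,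
    ?_, ?_, ?_, ⟨P'.map loc, hQ.1, ?_, ?_⟩, ?_⟩
  · refine RingHom.ext fun r => ?_
    change loc ((algebraMap R₁ R' (algebraMap R R₁ r)) ⊗ₜ 1) = loc ((1 : R') ⊗ₜ ((1 : R₁) ⊗ₜ algebraMap R B r))
    congr 1
    rw [show (1 : R₁) ⊗ₜ[R] algebraMap R B r = algebraMap R R₁ r • (1 : R₁ ⊗[R] B) by
      rw [Algebra.TensorProduct.one_def, TensorProduct.smul_tmul', smul_eq_mul, mul_one,
        Algebra.algebraMap_eq_smul_one (R := R) (A := R₁), TensorProduct.smul_tmul,
        ← Algebra.algebraMap_eq_smul_one],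
      ← TensorProduct.smul_tmul, Algebra.smul_def, mul_one]
  · exact RingHom.finite_algebraMap.2 hfin
  · refine RingHom.Etale.stableUnderComposition iB loc
      (RingHom.Etale.stableUnderComposition _ _ etale_includeRight etale_includeRight) ?_
    exact RingHom.etale_algebraMap.2 (Algebra.Etale.of_isLocalizationAway e)
  · rw [← Ideal.comap_comap, hQ.2]
    refine (Ideal.comap_comap _ _).symm.trans ?_
    rw [hP'q]
    refine Ideal.ext fun x => ?_
    change θ ((1 : R₁) ⊗ₜ x) = 0 ↔ x ∈ q
    rw [Algebra.TensorProduct.productMap_apply_tmul, map_one, one_mul, IsScalarTower.coe_toAlgHom',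
      Ideal.algebraMap_residueField_eq_zero]
  · rw [show gR = loc.comp (algebraMap R' T') from IsScalarTower.algebraMap_eq R' T' C, ← Ideal.comap_comap, hQ.2]
    exact (P'.over_def P).symm
  intro K _ a b hab haP
  let a' := a.comp loc
  let b' := b.comp loc
  have hker : ∀ c : C →+* K, c.comp gR = a.comp gR → RingHom.ker (c.comp loc) = P' := by
    intro c hc
    refine huniq _ (RingHom.ker_isPrime _) ⟨?_⟩ ?_
    · refine haP.symm.trans ?_
      rw [← hc, show gR = loc.comp (algebraMap R' T') from IsScalarTower.algebraMap_eq R' T' C]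
      rfl
    · intro h
      exact ((IsLocalization.Away.algebraMap_isUnit (S := C) e).map c).ne_zero h
  have hka := hker a rfl
  have hkb := hker b hab.symm
  let i₁ : R₁ ⊗[R] B →+* T' := (Algebra.TensorProduct.includeRight : R₁ ⊗[R] B →ₐ[R₁] T').toRingHom
  have key : ∀ f : T' →+* K, RingHom.ker f = P' → ∃ α : q.ResidueField →+* K,
      ∀ x, f (i₁ x) = α (θ x) := by
    intro f hf
    have h1 : RingHom.ker (f.comp i₁) = q₁ := by
      rw [← RingHom.comap_ker, hf]; exact hP'q
    let fB : B →+* K := (f.comp i₁).comp (Algebra.TensorProduct.includeRight : B →ₐ[R] R₁ ⊗[R] B).toRingHom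
    obtain ⟨α, hα⟩ := exists_factor_residueField q fB (Ideal.ext fun x => by
      rw [RingHom.mem_ker]
      change (f.comp i₁) ((1 : R₁) ⊗ₜ x) = 0 ↔ x ∈ q
      rw [← RingHom.mem_ker, h1, RingHom.mem_ker]
      change θ ((1 : R₁) ⊗ₜ x) = 0 ↔ x ∈ q
      rw [Algebra.TensorProduct.productMap_apply_tmul, map_one, one_mul, IsScalarTower.coe_toAlgHom',
        Ideal.algebraMap_residueField_eq_zero])
    refine ⟨α, fun x => ?_⟩
    obtain ⟨c, d, hd, hcd⟩ := residueField_frac q (θ x)
    have hmem : x * ((1 : R₁) ⊗ₜ d) - (1 : R₁) ⊗ₜ c ∈ q₁ := by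
      change θ _ = 0
      rw [map_sub, map_mul, Algebra.TensorProduct.productMap_apply_tmul, Algebra.TensorProduct.productMap_apply_tmul,
        map_one, one_mul, one_mul, IsScalarTower.coe_toAlgHom', mul_comm, hcd, sub_self]
    rw [← h1, RingHom.mem_ker, map_sub, map_mul, sub_eq_zero] at hmem
    have hαd : α (algebraMap B q.ResidueField d) ≠ 0 := (map_ne_zero α).2 hd
    have hd' : (f.comp i₁) ((1 : R₁) ⊗ₜ d) = α (algebraMap B q.ResidueField d) := (RingHom.congr_fun hα d).symm
    have hc' : (f.comp i₁) ((1 : R₁) ⊗ₜ c) = α (algebraMap B q.ResidueField c) := (RingHom.congr_fun hα c).symm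
    rw [hd', hc', ← hcd, map_mul, mul_comm (α (algebraMap B q.ResidueField d))] at hmem
    exact mul_right_cancel₀ hαd hmem
  obtain ⟨α, hα⟩ := key a' hka
  obtain ⟨β, hβ⟩ := key b' hkb
  have hR : ∀ r' : R', a' (r' ⊗ₜ 1) = b' (r' ⊗ₜ 1) := fun r' => RingHom.congr_fun hab r'
  have hαβ : α = β := by
    refine IsPurelyInseparable.injective_comp_algebraMap L q.ResidueField K ?_
    have : ∀ r, α (ψ' r) = β (ψ' r) := fun r => by
      have e1 : θ (r ⊗ₜ (1 : B)) = ψ' r := by
        rw [Algebra.TensorProduct.productMap_apply_tmul, map_one, mul_one]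
      rw [← e1, ← hα, ← hβ]
      have e2 : i₁ (r ⊗ₜ (1 : B)) = (algebraMap R₁ R' r) ⊗ₜ 1 := by
        change (1 : R') ⊗ₜ (r ⊗ₜ[R] (1 : B)) = _
        rw [show r ⊗ₜ[R] (1 : B) = r • (1 : R₁ ⊗[R] B) by
          rw [Algebra.TensorProduct.one_def, TensorProduct.smul_tmul', smul_eq_mul, mul_one],
          ← TensorProduct.smul_tmul, ← Algebra.algebraMap_eq_smul_one]
      rw [e2, hR]
    have hle : Subfield.closure (Set.range ψ) ≤
        RingHom.eqLocusField (α.comp (algebraMap L q.ResidueField)) (β.comp (algebraMap L q.ResidueField)) := by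
      rw [Subfield.closure_le]
      rintro _ ⟨r, rfl⟩
      exact this r
    rw [hψ] at hle
    exact RingHom.ext fun x => hle (Subfield.mem_top x)
  refine IsLocalization.ringHom_ext (Submonoid.powers e) ?_
  change a' = b'
  refine RingHom.ext fun z => ?_
  induction z using TensorProduct.induction_on with
  | zero => rw [map_zero, map_zero]
  | add x y hx hy => rw [map_add, map_add, hx, hy]
  | tmul r' x =>
    rw [show r' ⊗ₜ[R₁] x = (r' ⊗ₜ 1) * i₁ x by
      change _ = (r' ⊗ₜ[R₁] (1 : R₁ ⊗[R] B)) * ((1 : R') ⊗ₜ x)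
      rw [Algebra.TensorProduct.tmul_mul_tmul, mul_one, one_mul], map_mul, map_mul, hR, hα, hβ, hαβ]

end Groth.Agent.H12AlgSp
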