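import Groth.Agent.H12AlgSp.RepBySp

/-!
Etale sheaves with an etale chart are algebraic spaces.
-/

universe u

open CategoryTheory CategoryTheory.Limits AlgebraicGeometry Opposite
open AlgSp Groth.Agent.H13AlgSp

namespace Groth.Agent.H12AlgSp

variable {S : Scheme.{u}}

theorem single_mem_etale {T T' : Over S} (c : T' ⟶ T) [Etale c.left] [Surjective c.left] :
    Sieve.ofArrows (fun _ : PUnit.{u + 1} => T') (fun _ => c) ∈ QuotSh.J Scheme.etalePrecoverage S T := by
  rw [GrothendieckTopology.mem_over_iff, Sieve.overEquiv_ofArrows]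
  refine Precoverage.generate_mem_toGrothendieck ?_
  rw [Scheme.etalePrecoverage]
  rw [Scheme.ofArrows_mem_precoverage_iff]
  exact ⟨fun t => ⟨⟨⟩, c.left.surjective t⟩, fun _ => ‹_›⟩

theorem pyon_map_comp {A B C : Over S} (f : A ⟶ B) (g : B ⟶ C) :
    (pyon S).map (f ≫ g) = (pyon S).map f ≫ (pyon S).map g :=
  (pyon S).map_comp f g

variable {F : PSp S}

/-- Sections of an etale sheaf are detected on an etale cover. -/
theorem hom_ext_etale (h1 : Presheaf.IsSheaf (QuotSh.J Scheme.etalePrecoverage S) F) {T T' : Over S} (c : T' ⟶ T)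
    [Etale c.left] [Surjective c.left] {a b : (pyon S).obj T ⟶ F}
    (e : (pyon S).map c ≫ a = (pyon S).map c ≫ b) : a = b := by
  apply uliftYonedaEquiv.{u + 1}.injective
  refine (((isSheaf_iff_isSheaf_of_type _ _).1 h1) _ (single_mem_etale c)).isSeparatedFor.ext ?_
  intro Z g hg
  obtain ⟨_, l, _, ⟨i⟩, rfl⟩ := hg
  have h : ∀ z : (pyon S).obj T ⟶ F,
      F.map c.op (uliftYonedaEquiv.{u + 1} z) = uliftYonedaEquiv.{u + 1} ((pyon S).map c ≫ z) :=
    fun z => uliftYonedaEquiv_naturality z c.op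
  rw [op_comp, Functor.map_comp_apply, Functor.map_comp_apply, h, h, e]

/-- Sections of an etale sheaf glue along an etale cover. -/
theorem exists_desc_etale (h1 : Presheaf.IsSheaf (QuotSh.J Scheme.etalePrecoverage S) F) {T T' : Over S} (c : T' ⟶ T)
    [Etale c.left] [Surjective c.left] (u : (pyon S).obj T' ⟶ F)
    (w : ∀ (W : Over S) (x y : W ⟶ T'), x ≫ c = y ≫ c → (pyon S).map x ≫ u = (pyon S).map y ≫ u) :
    ∃ v : (pyon S).obj T ⟶ F, (pyon S).map c ≫ v = u := by
  obtain ⟨g, hg, -⟩ := (Presieve.isSheafFor_arrows_iff _ _).1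
    ((Presieve.isSheafFor_iff_generate _).2 (((isSheaf_iff_isSheaf_of_type _ _).1 h1) _ (single_mem_etale c)))
    (fun _ : PUnit.{u + 1} => uliftYonedaEquiv.{u + 1} u) (fun _ _ W x y e => by
      rw [uliftYonedaEquiv_naturality, uliftYonedaEquiv_naturality]
      exact congrArg uliftYonedaEquiv.{u + 1} (w W x y e))
  refine ⟨uliftYonedaEquiv.{u + 1}.symm g, uliftYonedaEquiv.{u + 1}.injective ?_⟩
  refine Eq.trans ?_ (hg ⟨⟩)
  rw [← Equiv.apply_symm_apply uliftYonedaEquiv.{u + 1} g]
  rw [uliftYonedaEquiv_naturality]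
  simp

/-- An etale sheaf with an etale relation presenting it is an algebraic space. -/
theorem isAlgSpaceP_of_etale_sheaf (h1 : Presheaf.IsSheaf (QuotSh.J Scheme.etalePrecoverage S) F)
    {U R : Over S} (p : (pyon S).obj U ⟶ F) (t s : R ⟶ U) [Etale t.left] [Etale s.left]
    (sq : IsPullback ((pyon S).map t) ((pyon S).map s) p p)
    (hlift : ∀ (T : Over S) (y : (pyon S).obj T ⟶ F), ∃ (T' : Over S) (c : T' ⟶ T) (u : T' ⟶ U),
      Etale c.left ∧ Surjective c.left ∧ (pyon S).map u ≫ p = (pyon S).map c ≫ y) :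
    IsAlgSpaceP F := by
  let η : F ⟶ ((presheafToSheaf (J S) (Type (u + 1))).obj F).obj := CategoryTheory.toSheafify (J S) F
  let X : Sp S := (presheafToSheaf (J S) (Type (u + 1))).obj F
  have hinj : Presheaf.IsLocallyInjective (J S) η := inferInstance
  have hsurj : Presheaf.IsLocallySurjective (J S) η := inferInstance
  -- sections of F are fppf separated
  have hmono : ∀ (T : Over S) (a b : (pyon S).obj T ⟶ F), a ≫ η = b ≫ η → a = b := by
    intro T a b e
    have e' := congrArg uliftYonedaEquiv.{u + 1} e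
    rw [uliftYonedaEquiv_comp, uliftYonedaEquiv_comp] at e'
    have hR := hinj.equalizerSieve_mem _ _ e'
    obtain ⟨T₁, c₁, u, hc₁, hc₁s, hu⟩ := hlift T a
    obtain ⟨T₂, c₂, v, hc₂, hc₂s, hv⟩ := hlift T₁ ((pyon S).map c₁ ≫ b)
    have : Etale (c₂ ≫ c₁).left := inferInstanceAs (Etale (c₂.left ≫ c₁.left))
    have : Surjective (c₂ ≫ c₁).left := inferInstanceAs (Surjective (c₂.left ≫ c₁.left))
    refine hom_ext_etale h1 (c₂ ≫ c₁) ?_
    obtain ⟨κ, C, c, hfl, hfp, hsur, hc⟩ :=
      exists_cover_of_mem_J ((J S).pullback_stable (c₂ ≫ c₁) hR)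
    have hJ := ofArrows_mem_J c hfl hfp hsur
    have hex : ∀ i, ∃ r : C i ⟶ R, r ≫ t = c i ≫ c₂ ≫ u ∧ r ≫ s = c i ≫ v := fun i => by
      have hi : (pyon S).map (c i ≫ c₂ ≫ c₁) ≫ a = (pyon S).map (c i ≫ c₂ ≫ c₁) ≫ b := by
        apply uliftYonedaEquiv.{u + 1}.injective
        have := hc i
        change F.map (c i ≫ c₂ ≫ c₁).op _ = F.map (c i ≫ c₂ ≫ c₁).op _ at this
        rw [uliftYonedaEquiv_naturality, uliftYonedaEquiv_naturality] at this
        exact this
      obtain ⟨r, h₁, h₂⟩ := sq.exists_lift ((pyon S).map (c i ≫ c₂ ≫ u)) ((pyon S).map (c i ≫ v)) (by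
        simp only [pyon_map_comp, Category.assoc] at hi ⊢
        rw [hu, hv, hi])
      obtain ⟨r, rfl⟩ := (pyon S).map_surjective r
      exact ⟨r, (pyon S).map_injective ((pyon_map_comp _ _).trans h₁),
        (pyon S).map_injective ((pyon_map_comp _ _).trans h₂)⟩
    choose r hr₁ hr₂ using hex
    have hRinj : ∀ {W : Over S} (x y : W ⟶ R), x ≫ t = y ≫ t → x ≫ s = y ≫ s → x = y := fun x y h₁ h₂ =>
      (pyon S).map_injective (sq.hom_ext (by rw [← pyon_map_comp, ← pyon_map_comp, h₁])
        (by rw [← pyon_map_comp, ← pyon_map_comp, h₂]))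
    obtain ⟨g, hg, -⟩ := (Presieve.isSheafFor_arrows_iff _ _).1
      ((Presieve.isSheafFor_iff_generate _).2 (((isSheaf_iff_isSheaf_of_type _ _).1 ((yon S).obj R).property) _ hJ))
      (fun i => ULift.up (r i)) (fun i j W x y e => by
        apply ULift.ext
        refine hRinj (x ≫ r i) (y ≫ r j) ?_ ?_
        · rw [Category.assoc, Category.assoc, hr₁, hr₁, reassoc_of% e]
        · rw [Category.assoc, Category.assoc, hr₂, hr₂, reassoc_of% e])
    obtain ⟨g⟩ := g
    have hg' : ∀ i, c i ≫ g = r i := fun i => congrArg ULift.down (hg i)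
    have h₁ : g ≫ t = c₂ ≫ u := (yon S).map_injective (hom_ext_of_cover c hJ fun i => by
      rw [← Functor.map_comp, ← Functor.map_comp, reassoc_of% hg', hr₁])
    have h₂ : g ≫ s = v := (yon S).map_injective (hom_ext_of_cover c hJ fun i => by
      rw [← Functor.map_comp, ← Functor.map_comp, reassoc_of% hg', hr₂])
    have hw := (pyon S).map g ≫= sq.w
    rw [← Category.assoc, ← Category.assoc, ← pyon_map_comp, ← pyon_map_comp, h₁, h₂, hv, pyon_map_comp,
      Category.assoc, hu] at hw
    rw [pyon_map_comp, Category.assoc, Category.assoc]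
    exact hw
  have : Mono η := by
    refine ⟨fun {G} x y e => hom_ext_uliftYoneda.{u + 1} fun T z => hmono T _ _ ?_⟩
    rw [Category.assoc, Category.assoc, e]
  let q : (yon S).obj U ⟶ X := ObjectProperty.homMk (p ≫ η)
  have sqX : IsPullback ((yon S).map t) ((yon S).map s) q q := by
    refine IsPullback.of_map_of_faithful (sheafToPresheaf (J S) (Type (u + 1))) ?_
    exact ⟨⟨by change _ ≫ p ≫ η = _ ≫ p ≫ η; exact sq.w =≫ η |> fun h => (Category.assoc _ _ _).symm.trans (h.trans (Category.assoc _ _ _))⟩,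
      ⟨PullbackCone.isLimitOfCompMono p p η sq.cone sq.isLimit⟩⟩
  have hepi : Epi q := by
    refine epi_of_local_lifts q fun T y => ?_
    obtain ⟨κ, C, c, hfl, hfp, hsur, hc⟩ :=
      exists_cover_of_mem_J (hsurj.imageSieve_mem (uliftYonedaEquiv.{u + 1} y.hom))
    choose x hx using hc
    choose C' c' u' hc' hc's hu' using fun i => hlift (C i) (uliftYonedaEquiv.{u + 1}.symm (x i))
    refine ⟨κ, C', fun i => c' i ≫ c i, ofArrows_mem_J _ (fun i => ?_) (fun i => ?_) (fun a => ?_),
      fun i => ⟨(yon S).map (u' i), ?_⟩⟩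
    · have := hfl i; have := hc' i
      exact inferInstanceAs (Flat ((c' i).left ≫ (c i).left))
    · have := hfp i; have := hc' i
      exact inferInstanceAs (LocallyOfFinitePresentation ((c' i).left ≫ (c i).left))
    · obtain ⟨i, z, hz⟩ := hsur a
      obtain ⟨z', hz'⟩ := (hc's i).surj z
      exact ⟨i, z', show (c i).left ((c' i).left z') = a by rw [hz', hz]⟩
    · apply (sheafToPresheaf (J S) (Type (u + 1))).map_injective
      change (pyon S).map (u' i) ≫ p ≫ η = (pyon S).map (c' i ≫ c i) ≫ y.hom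
      rw [← Category.assoc, hu', Category.assoc, pyon_map_comp, Category.assoc]
      congr 1
      apply uliftYonedaEquiv.{u + 1}.injective
      rw [uliftYonedaEquiv_comp, Equiv.apply_symm_apply]
      exact (hx i).trans (uliftYonedaEquiv_naturality y.hom (c i).op)
  obtain ⟨hX, hqe, hqs⟩ := isAlgSpace_of_epi_etale sqX
  have hlift' : ∀ (T : Over S) (x : (pyon S).obj T ⟶ X.obj), ∃ a, a ≫ η = x := by
    intro T x
    let x' : (yon S).obj T ⟶ X := ObjectProperty.homMk x
    obtain ⟨V, c, v', sqV⟩ := hqe.rep x'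
    obtain ⟨v, rfl⟩ := (yon S).map_surjective v'
    have : Etale c.left := hqe.property _ _ c sqV
    have : Surjective c.left := hqs.property _ _ c sqV
    have hw : (pyon S).map v ≫ p ≫ η = (pyon S).map c ≫ x :=
      congrArg (sheafToPresheaf (J S) (Type (u + 1))).map sqV.w
    obtain ⟨a, ha⟩ := exists_desc_etale h1 c ((pyon S).map v ≫ p) fun W z z' e => by
      rw [← cancel_mono η]
      simp only [Category.assoc, hw]
      rw [← Category.assoc, ← Category.assoc, ← pyon_map_comp, ← pyon_map_comp, e]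
    refine ⟨a, ?_⟩
    have hJ : Sieve.ofArrows (fun _ : PUnit.{u + 1} => V) (fun _ => c) ∈ J S T :=
      ofArrows_mem_J _ (fun _ => inferInstance) (fun _ => inferInstance) fun t => ⟨⟨⟩, c.left.surjective t⟩
    let a' : (yon S).obj T ⟶ X := ObjectProperty.homMk (a ≫ η)
    have : a' = x' := hom_ext_of_cover (fun _ => c) hJ fun _ => by
      apply (sheafToPresheaf (J S) (Type (u + 1))).map_injective
      change (pyon S).map c ≫ a ≫ η = (pyon S).map c ≫ x
      rw [← Category.assoc, ha, Category.assoc, hw]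
    exact congrArg (sheafToPresheaf (J S) (Type (u + 1))).map this
  have : IsIso η := by
    have : ∀ T, IsIso (η.app T) := fun T => by
      rw [isIso_iff_bijective]
      refine ⟨fun a b e => ?_, fun x => ?_⟩
      · refine uliftYonedaEquiv.{u + 1}.symm.injective (hmono T.unop _ _ ?_)
        apply uliftYonedaEquiv.{u + 1}.injective
        rw [uliftYonedaEquiv_comp, uliftYonedaEquiv_comp, Equiv.apply_symm_apply, Equiv.apply_symm_apply]
        exact e
      · obtain ⟨a, ha⟩ := hlift' T.unop (uliftYonedaEquiv.{u + 1}.symm x)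
        refine ⟨uliftYonedaEquiv.{u + 1} a, ?_⟩
        rw [← uliftYonedaEquiv_comp, ha, Equiv.apply_symm_apply]
    exact NatIso.isIso_of_isIso_app η
  exact ((isAlgSpaceP_obj_iff X).2 hX).of_iso (asIso η).symm

/-- An etale sheaf with representable diagonal and an etale chart is an algebraic space. -/
theorem isAlgSpaceP_of_etale_chart (h1 : Presheaf.IsSheaf (QuotSh.J Scheme.etalePrecoverage S) F)
    {U : Over S} (p : (pyon S).obj U ⟶ F)
    (he : (MorphismProperty.inverseImage @Etale (Over.forget S)).relative (pyon S) p)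
    (hs : (MorphismProperty.inverseImage @Surjective (Over.forget S)).relative (pyon S) p) :
    IsAlgSpaceP F := by
  obtain ⟨R, s, t', sq⟩ := he.rep p
  obtain ⟨t, rfl⟩ := (pyon S).map_surjective t'
  have : Etale s.left := he.property _ _ s sq
  have : Etale t.left := he.property _ _ t sq.flip
  refine isAlgSpaceP_of_etale_sheaf h1 p t s sq fun T y => ?_
  obtain ⟨T', c, u', sqT⟩ := he.rep y
  obtain ⟨u, rfl⟩ := (pyon S).map_surjective u'
  exact ⟨T', c, u, he.property _ _ c sqT, hs.property _ _ c sqT, sqT.w⟩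

/-- An etale sheaf covered by an algebraic space through a surjective etale map representable by algebraic spaces
is an algebraic space. -/
theorem isAlgSpaceP_of_etale_repBySp (h1 : Presheaf.IsSheaf (QuotSh.J Scheme.etalePrecoverage S) F) {X : Sp S}
    (hX : IsAlgSpace X) (f : X.obj ⟶ F) (hf : RepBySpWith (IsSurjectiveMor ⊓ IsEtaleMor) f) : IsAlgSpaceP F := by
  obtain ⟨U, d, hd, hds⟩ := hX.atlas
  let p : (pyon S).obj U ⟶ F := d.hom ≫ f
  obtain ⟨hQs, hQ, -, hQe⟩ := hf p _ _ (IsPullback.of_hasPullback f p)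
  let Q : Sp S := ⟨pullback f p, hQs⟩
  let q₁ : Q ⟶ X := ObjectProperty.homMk (pullback.fst f p)
  let q₂ : Q ⟶ (yon S).obj U := ObjectProperty.homMk (pullback.snd f p)
  let P := pullback d q₁
  have hP : IsAlgSpace P := isAlgSpace_pullback hX.diag (IsAlgSpace.yon_obj U) hQ _ _
  have sqd := IsPullback.of_hasPullback d q₁
  let a : P ⟶ (yon S).obj U := pullback.fst d q₁
  let b : P ⟶ (yon S).obj U := pullback.snd d q₁ ≫ q₂
  have sq : IsPullback a.hom b.hom p p :=
    (sqd.map (sheafToPresheaf (J S) (Type (u + 1)))).paste_vert (IsPullback.of_hasPullback f p)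
  have hb : LocP @Etale b :=
    locP_etale_precomp (repWith_of_isPullback sqd hd) (locP_etale_of_isEtaleMor hQe)
  obtain ⟨R, μ, t, s, hμ, ht, hs, hse⟩ := exists_scheme_etale_mono hP a b
    (fun x y h₁ h₂ => (sheafToPresheaf (J S) (Type (u + 1))).map_injective (sq.hom_ext
      (congrArg (sheafToPresheaf (J S) (Type (u + 1))).map h₁)
      (congrArg (sheafToPresheaf (J S) (Type (u + 1))).map h₂))) hb
  have : IsIso μ.hom := inferInstanceAs (IsIso ((sheafToPresheaf (J S) (Type (u + 1))).map μ))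
  have sqR : IsPullback ((pyon S).map t) ((pyon S).map s) p p :=
    sq.of_iso (asIso μ.hom).symm (Iso.refl _) (Iso.refl _) (Iso.refl _)
      ((Category.comp_id a.hom).trans ((IsIso.eq_inv_comp μ.hom).2
        (congrArg (sheafToPresheaf (J S) (Type (u + 1))).map ht).symm))
      ((Category.comp_id b.hom).trans ((IsIso.eq_inv_comp μ.hom).2
        (congrArg (sheafToPresheaf (J S) (Type (u + 1))).map hs).symm))
      (by change p ≫ 𝟙 _ = 𝟙 _ ≫ p; rw [Category.comp_id, Category.id_comp])
      (by change p ≫ 𝟙 _ = 𝟙 _ ≫ p; rw [Category.comp_id, Category.id_comp])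
  have : Etale s.left := hse
  obtain ⟨σ, hσ⟩ := (pyon S).map_surjective (sqR.flip.isoIsPullback _ _ sqR).hom
  have : IsIso σ := by
    have : IsIso ((pyon S).map σ) := by rw [hσ]; infer_instance
    exact isIso_of_fully_faithful (pyon S) σ
  have : Etale t.left := by
    have e : σ ≫ s = t := (pyon S).map_injective (by
      rw [Functor.map_comp, hσ]; exact sqR.flip.isoIsPullback_hom_snd _ _ sqR)
    rw [← e]
    have : IsIso σ.left := inferInstanceAs (IsIso ((Over.forget S).map σ))
    exact inferInstanceAs (Etale (σ.left ≫ s.left))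
  refine isAlgSpaceP_of_etale_sheaf h1 p t s sqR fun T y => ?_
  obtain ⟨hWs, hW, hWsur, hWe⟩ := hf y _ _ (IsPullback.of_hasPullback f y)
  let W : Sp S := ⟨pullback f y, hWs⟩
  let w₁ : W ⟶ X := ObjectProperty.homMk (pullback.fst f y)
  let w₂ : W ⟶ (yon S).obj T := ObjectProperty.homMk (pullback.snd f y)
  obtain ⟨V, e, he, hes⟩ := hW.atlas
  obtain ⟨V', z, u', sqV⟩ := hd.rep (e ≫ w₁)
  obtain ⟨u, rfl⟩ := (yon S).map_surjective u'
  have hz : RepWith @Etale ((yon S).map z) := (repWith_yon_map_iff _ _).2 (hd.property _ _ z sqV)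
  have hzs : RepWith @Surjective ((yon S).map z) := (repWith_yon_map_iff _ _).2 (hds.property _ _ z sqV)
  let e' : (yon S).obj V' ⟶ W := (yon S).map z ≫ e
  obtain ⟨c, hc⟩ := (yon S).map_surjective (e' ≫ w₂)
  have hce : Etale c.left :=
    (locP_etale_of_isEtaleMor hWe) e' (𝟙 _) c (repWith_comp hz he) (repWith_of_isIso _)
      (by rw [Category.comp_id, hc])
  refine ⟨V', c, u, hce, surjective_left_of_map c ?_, ?_⟩
  · rw [hc, show Points.map (e' ≫ w₂) = Points.map w₂ ∘ Points.map e' from funext fun x => Points.map_comp _ _ x]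
    exact hWsur.comp (surjective_map_of_repWith le_rfl (repWith_comp hzs hes))
  · have h₁ : (yon S).map u ≫ d = e' ≫ w₁ := by rw [sqV.w, Category.assoc]
    have h₁' : (pyon S).map u ≫ d.hom = e'.hom ≫ pullback.fst f y :=
      congrArg (sheafToPresheaf (J S) (Type (u + 1))).map h₁
    have h₂' : (pyon S).map c = e'.hom ≫ pullback.snd f y :=
      congrArg (sheafToPresheaf (J S) (Type (u + 1))).map hc
    exact ((Category.assoc ((pyon S).map u) d.hom f).symm.trans (h₁' =≫ f)).trans
      ((Category.assoc _ _ _).trans ((e'.hom ≫= pullback.condition).trans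
        ((Category.assoc _ _ _).symm.trans (h₂'.symm =≫ y))))

end Groth.Agent.H12AlgSp
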