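import Groth.Agent.H12AlgSp.ShrSiteModules
import Groth.Agent.H12AlgSp.Approx.Descend
import Groth.Agent.H12AlgSp.Approx.RelBase
import Groth.Agent.H13AlgSp.PullFP

/-!
# Quasi-coherent modules on qcqs spaces are colimits of finitely presented ones
-/

set_option autoImplicit false
set_option linter.style.haveILetI false
set_option maxHeartbeats 1600000
set_option backward.isDefEq.respectTransparency false
set_option backward.isDefEq.respectTransparency.types false
universe u

open CategoryTheory CategoryTheory.Limits AlgebraicGeometry Opposite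
open AlgSp Groth.Agent.H12AlgSp Groth.Agent.H12AlgSp.Shriek

namespace Groth.Agent.H12AlgSp.FPColimit

variable {S : Scheme.{u}}

/-- Any quasi-coherent module on a qcqs space is a filtered colimit of finitely presented modules. -/
theorem exists_fp_colimit [QuasiSeparatedSpace S] {X : Sp S} (hX : IsAlgSpace X) (hqc : IsQuasiCompactSp X)
    (hqs : IsQuasiSeparatedSp X) (M : ModEt X) [M.IsQuasicoherent] :
    ∃ (J : Type (u + 1)) (_ : SmallCategory J) (_ : IsFiltered J) (D : J ⥤ ModEt X)
      (ι : D ⟶ (Functor.const J).obj M),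
      (∀ j, (D.obj j).IsFinitePresentation) ∧ Nonempty (IsColimit (Cocone.mk M ι)) := by
  let S₀ : Scheme.{u} := Spec (CommRingCat.of (ULift.{u} ℤ))
  let g : S ⟶ S₀ := specULiftZIsTerminal.from S
  haveI : QuasiSeparatedSpace S₀ := inferInstance
  obtain ⟨τ⟩ := Approx.exists_sys (S := S₀) specULiftZIsTerminal (isAlgSpace_shr (g := g) hX)
    (Approx.isQuasiCompactSp_shr g hqc) (Approx.isQuasiSeparatedSp_shr g hX hqc hqs)
  obtain ⟨i⟩ : Nonempty τ.Iᵒᵖ := inferInstance
  let X' : Space S₀ := ⟨(shr g).obj X, isAlgSpace_shr hX⟩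
  let Y : Space S₀ := ⟨τ.D.obj i, τ.alg i⟩
  let f : X' ⟶ Y := ObjectProperty.homMk (τ.π.app i)
  haveI : ((ShrSite.modShr g X).inverse.obj M).IsQuasicoherent := ShrSite.isQuasicoherent_inverse g M
  obtain ⟨J, _, _, D, ι, hfp, ⟨hl⟩⟩ := H13AlgSp.PullFP.exists_fp_colimit f
    ((isAlgSpace_limit_and_affine τ.affine τ.isLimit τ.alg).2 i) (τ.qc i) (τ.qs i)
    (Approx.Sys.isLocNoethSp specULiftZIsTerminal τ i) ((ShrSite.modShr g X).inverse.obj M)
  let F := (ShrSite.modShr g X).functor
  let c' : Cocone (D ⋙ F) := (Cocone.extend (F.mapCocone (Cocone.mk _ ι)) ((ShrSite.modShr g X).counitIso.app M).hom)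
  refine ⟨J, inferInstance, inferInstance, D ⋙ F, c'.ι, fun j => ?_, ⟨?_⟩⟩
  · haveI := hfp j
    exact ShrSite.isFinitePresentation_functor g (D.obj j)
  · exact IsColimit.extendIso _ (isColimitOfPreserves F hl)

end Groth.Agent.H12AlgSp.FPColimit
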