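import Groth.Agent.H12AlgSp.FPColimit

/-!
# Finite type quasi-coherent modules are colimits of fp modules along epimorphisms
-/

set_option autoImplicit false
set_option linter.style.haveILetI false
set_option maxHeartbeats 1600000
set_option backward.isDefEq.respectTransparency false
set_option backward.isDefEq.respectTransparency.types false
universe u

open CategoryTheory CategoryTheory.Limits AlgebraicGeometry Opposite
open AlgSp Groth.Agent.H12AlgSp Groth.Agent.H12AlgSp.BCMod Groth.Agent.H13EtMod Groth.Agent.H13AlgSp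

namespace Groth.Agent.H12AlgSp.FTQuot

variable {S : Scheme.{u}} {X : Sp S}

/-- Sections over affines of a filtered colimit of quasi-coherent modules come from a stage. -/
theorem exists_stage_sec {J : Type (u + 1)} [SmallCategory J] [IsFiltered J] {D : J ⥤ ModEt X} {M : ModEt X}
    (ι : D ⟶ (Functor.const J).obj M) (hl : IsColimit (Cocone.mk M ι)) (hD : ∀ j, (D.obj j).IsQuasicoherent)
    (E : EtOver X) (hE : IsAffine E.obj.left.left) (x : (pm M).obj (op E)) :
    ∃ j y, appE (ι.app j) E y = x := by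
  let cp := colimit.cocone (D ⋙ fgt (OEt X))
  have hP : AllBC (etAff X) cp.pt := fun Z E' g hZ hE' =>
    isBC_of_isColimit g _ (colimit.isColimit _) fun j =>
      allBC_iso (A := etAff X) (resId (Rsh := OEt X) (toPM (Rsh := OEt X) (D.obj j))).symm
        ((isQuasicoherent_iff_isBCEt _).1 (hD j)) g hZ hE'
  obtain ⟨z, hz⟩ := (comparison_app_bijective (A := etAff X) (Cocone.mk M ι) cp (colimit.isColimit _) hl hP hE).2 x
  let ev := PresheafOfModules.evaluation ((OEt X).obj ⋙ forget₂ CommRingCat.{u + 1} RingCat.{u + 1}) (op E)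
  obtain ⟨j, y, hy⟩ := Types.jointly_surjective_of_isColimit
    (isColimitOfPreserves (ev ⋙ forget (ModuleCat _)) (colimit.isColimit (D ⋙ fgt (OEt X)))) z
  refine ⟨j, y, ?_⟩
  have h := congrArg (fun m => (PresheafOfModules.Hom.app m (op E)).hom y)
    ((colimit.isColimit (D ⋙ fgt (OEt X))).fac ((fgt (OEt X)).mapCocone (Cocone.mk M ι)) j)
  refine Eq.trans ?_ hz
  rw [← hy]
  exact h.symm

/-- A finite type quasi-coherent module is the colimit of fp modules along epimorphisms. -/
theorem exists_epi_system [QuasiSeparatedSpace S] (hX : IsAlgSpace X) (hqc : IsQuasiCompactSp X)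
    (hqs : IsQuasiSeparatedSp X) (M : ModEt X) [M.IsQuasicoherent] [M.IsFiniteType] :
    ∃ (J : Type (u + 1)) (_ : PartialOrder J) (_ : IsDirected J (· ≤ ·)) (_ : Nonempty J)
      (D : J ⥤ ModEt X) (ι : D ⟶ (Functor.const J).obj M),
      Nonempty (IsColimit (Cocone.mk M ι)) ∧ (∀ j, (D.obj j).IsFinitePresentation) ∧
        ∀ (j j' : J) (h : j ⟶ j'), Epi (D.map h) := by
  classical
  obtain ⟨J, _, _, D, ι, hfp, ⟨hl⟩⟩ := FPColimit.exists_fp_colimit hX hqc hqs M
  obtain ⟨T, a, hT, ha, hs⟩ := exists_affine_chart hX isOpen_univ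
    (isCompact_univ_iff.2 ((isQuasiCompactSp_iff hX).1 hqc))
  let B : EtOver X := EtOver.mk a ha
  haveI : IsAffine B.obj.left.left := hT
  have hB : (etTop X).CoversTop fun _ : Unit => B := PullFP.coversTop_of_range B hs
  have hqD : ∀ j, (D.obj j).IsQuasicoherent := fun j => haveI := hfp j; inferInstance
  obtain ⟨s, hs'⟩ := Module.finite_def.1 ((isFiniteType_iff (M := M) inferInstance).1 inferInstance B hT)
  choose i y hy using fun x : s => exists_stage_sec ι hl hqD B hT x.1
  obtain ⟨k, hk⟩ := IsFiltered.sup_objs_exists (Finset.univ.image i)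
  haveI := hfp k
  let fk : D.obj k ⟶ M := ι.app k
  have hsurj : ∀ x : (pm M).obj (op B), x ∈ LinearMap.range (appE fk B) := by
    intro x
    have hle : Submodule.span _ (s : Set _) ≤ LinearMap.range (appE fk B) := by
      refine Submodule.span_le.2 fun x hx => ?_
      obtain ⟨φ⟩ := hk (Finset.mem_image_of_mem i (Finset.mem_univ (⟨x, hx⟩ : s)))
      refine ⟨appE (D.map φ) B (y ⟨x, hx⟩), ?_⟩
      exact (congrArg (fun m => appE m B (y ⟨x, hx⟩)) ((ι.naturality φ).trans (Category.comp_id _))).trans (hy ⟨x, hx⟩)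
    exact hle (hs'.ge Submodule.mem_top)
  haveI hepi : Epi fk := Preadditive.epi_of_cancel_zero _ fun {P} ψ hψ => by
    refine PullFP.zero_of_chart hB ψ fun x => ?_
    obtain ⟨z, rfl⟩ := hsurj x
    exact congrArg (fun m => appE m B z) hψ
  let K := kernel fk
  haveI : K.IsQuasicoherent := PullFP.isQuasicoherent_ker fk (hqD k) ‹M.IsQuasicoherent›
  obtain ⟨J', _, _, D', ι', hfp', ⟨hl'⟩⟩ := FPColimit.exists_fp_colimit hX hqc hqs K
  obtain ⟨A, _, hA, hA', F, hF⟩ := IsFiltered.exists_directed J'
  haveI := hF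
  let r : ∀ a : A, D'.obj (F.obj a) ⟶ D.obj k := fun a => ι'.app (F.obj a) ≫ kernel.ι fk
  have hr : ∀ {a b : A} (h : a ⟶ b), r a = D'.map (F.map h) ≫ r b := fun {a b} h => by
    rw [show D'.map (F.map h) ≫ r b = (D'.map (F.map h) ≫ ι'.app (F.obj b)) ≫ kernel.ι fk from
      (Category.assoc _ _ _).symm, ι'.naturality]
    exact congrArg (· ≫ kernel.ι fk) (Category.comp_id _).symm
  have hrι : ∀ a, r a ≫ fk = 0 := fun a =>
    (Category.assoc _ _ _).trans ((congrArg (ι'.app (F.obj a) ≫ ·) (kernel.condition _)).trans comp_zero)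
  let Q : A ⥤ ModEt X :=
    { obj := fun a => cokernel (r a)
      map := fun {a b} h => cokernel.desc (r a) (cokernel.π (r b))
        (by rw [hr h, Category.assoc, cokernel.condition, comp_zero])
      map_id := fun a => coequalizer.hom_ext ((cokernel.π_desc _ _ _).trans (Category.comp_id _).symm)
      map_comp := fun {a b c} h h' => coequalizer.hom_ext ((cokernel.π_desc _ _ _).trans
        ((cokernel.π_desc_assoc _ _ _ _).trans (cokernel.π_desc _ _ _)).symm) }
  let τ : Q ⟶ (Functor.const A).obj M :=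
    { app := fun a => cokernel.desc (r a) fk (hrι a)
      naturality := fun a b h => coequalizer.hom_ext
        (((cokernel.π_desc_assoc _ _ _ _).trans (cokernel.π_desc _ _ _)).trans
          ((congrArg (cokernel.π (r a) ≫ ·) (Category.comp_id _)).trans (cokernel.π_desc _ _ _)).symm) }
  have hjoint : ∀ {P : ModEt X} (f : K ⟶ P), (∀ a, ι'.app (F.obj a) ≫ f = 0) → f = 0 := fun f h =>
    (((Functor.Final.isColimitWhiskerEquiv F (Cocone.mk K ι')).symm hl').hom_ext fun a =>
      (h a).trans comp_zero.symm)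
  have hφ : ∀ (c : Cocone Q) (a b : A), cokernel.π (r a) ≫ c.ι.app a = cokernel.π (r b) ≫ c.ι.app b := by
    intro c a b
    obtain ⟨e, hae, hbe⟩ := directed_of (α := A) (· ≤ ·) a b
    rw [← c.w (homOfLE hae), ← c.w (homOfLE hbe), cokernel.π_desc_assoc, cokernel.π_desc_assoc]
  obtain ⟨a₀⟩ := hA'
  have hker : ∀ c : Cocone Q, kernel.ι fk ≫ cokernel.π (r a₀) ≫ c.ι.app a₀ = 0 := fun c =>
    hjoint _ fun a => by
      rw [hφ c a₀ a, ← Category.assoc, ← Category.assoc]
      exact (congrArg (· ≫ c.ι.app a) (cokernel.condition (r a))).trans zero_comp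
  refine ⟨A, inferInstance, hA, ⟨a₀⟩, Q, τ, ⟨?_⟩, fun a => ?_, fun a b h => ?_⟩
  · exact
    { desc := fun c => Abelian.epiDesc fk (cokernel.π (r a₀) ≫ c.ι.app a₀) (hker c)
      fac := fun c a => coequalizer.hom_ext (by
        refine (cokernel.π_desc_assoc _ _ _ _).trans ?_
        rw [Abelian.comp_epiDesc]
        exact hφ c a₀ a)
      uniq := fun c m hm => by
        rw [← cancel_epi fk, Abelian.comp_epiDesc, ← hm a₀]
        exact (cokernel.π_desc_assoc _ _ _ _).symm }
  · haveI := hfp' (F.obj a)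
    exact PullFP.isFinitePresentation_coker (r a)
  · haveI : Epi (cokernel.π (r a) ≫ Q.map h) := by
      rw [show cokernel.π (r a) ≫ Q.map h = cokernel.π (r b) from cokernel.π_desc _ _ _]
      infer_instance
    exact epi_of_epi (cokernel.π (r a)) (Q.map h)

end Groth.Agent.H12AlgSp.FTQuot
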