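import Groth.Agent.H12AlgSp.Codim
import Groth.Agent.H12AlgSp.UnivInj
import Groth.Agent.H13Desc.Flat

/-!
Algebraic spaces with a flat surjective map from the spectrum of a field.
-/

universe u

open CategoryTheory CategoryTheory.Limits AlgebraicGeometry Topology
open AlgSp

namespace Groth.Agent.H12AlgSp

variable {S : Scheme.{u}}

theorem flat_surjective_fieldPt {Z : Sp S} (hZ : IsAlgSpace Z) {k : Type u} [Field k]
    {str : Spec (CommRingCat.of k) ⟶ S} {p : (yon S).obj (Over.mk str) ⟶ Z}
    (hpf : LocP @Flat p) (hps : IsSurjectiveMor p) {k' : Type u} [Field k']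
    {str' : Spec (CommRingCat.of k') ⟶ S} (q : (yon S).obj (Over.mk str') ⟶ Z) :
    LocP @Flat q ∧ IsSurjectiveMor q := by
  have : Subsingleton (Over.mk str).left := inferInstanceAs (Subsingleton (Spec (CommRingCat.of k)))
  have : Subsingleton (Points ((yon S).obj (Over.mk str))) := (Points.schemeEquiv _).symm.subsingleton
  have : Subsingleton (Points Z) := Function.Surjective.subsingleton (f := Points.map p) hps
  refine ⟨fun U V a b h ha hb e => ?_,
    fun z => ⟨Points.ofScheme _ (IsLocalRing.closedPoint k'), Subsingleton.elim _ _⟩⟩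
  have rp := hZ.representable_from_yon p
  have rq := hZ.representable_from_yon q
  obtain ⟨W, w, fst, sqW⟩ := rp b
  obtain ⟨W', w', fst', sqW'⟩ := rq b
  obtain ⟨f, rfl⟩ := (yon S).map_surjective fst
  obtain ⟨f', rfl⟩ := (yon S).map_surjective fst'
  obtain ⟨E, e2, e1, sqE⟩ := rq p
  have hf : RepWith @Etale ((yon S).map f) := repWith_of_isPullback sqW.flip hb
  have hf' : RepWith @Etale ((yon S).map f') := repWith_of_isPullback sqW'.flip hb
  have hwf : Flat w.left := hpf _ b w hf hb sqW.w
  have hws : Surjective w.left := ⟨fun v => by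
    obtain ⟨z, -, hz⟩ := exists_point_of_isPullback sqW
      (Points.ofScheme _ (IsLocalRing.closedPoint k)) (Points.ofScheme V v) (Subsingleton.elim _ _)
    obtain ⟨z, rfl⟩ := (Points.schemeEquiv W).surjective z
    refine ⟨z, (Points.schemeEquiv V).injective (Eq.trans ?_ hz)⟩
    change Points.ofScheme _ _ = Points.map _ (Points.ofScheme _ _)
    rw [← Points.ofPt_eq_map_ofScheme, ← Category.comp_id ((yon S).map w), ofPt_map]⟩
  let d' : pullback w' w ⟶ W' := pullback.fst w' w
  let d : pullback w' w ⟶ W := pullback.snd w' w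
  have sqD := (IsPullback.of_hasPullback w' w).map (yon S)
  have big : IsPullback ((yon S).map d' ≫ (yon S).map f') ((yon S).map d) q ((yon S).map f ≫ p) := by
    rw [sqW.w]
    exact sqD.paste_horiz sqW'
  let m := sqE.lift ((yon S).map d' ≫ (yon S).map f') ((yon S).map d ≫ (yon S).map f)
    (by rw [big.w, Category.assoc])
  have sqm : IsPullback m ((yon S).map d) ((yon S).map e2) ((yon S).map f) :=
    IsPullback.of_right (by rw [sqE.lift_fst]; exact big) (sqE.lift_snd _ _ _) sqE
  have hd : Flat d.left := (repWith_yon_map_iff @Flat d).1 (repWith_of_isPullback sqm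
    ((repWith_yon_map_iff @Flat e2).2 (flat_to_field (K := k) e2.left)))
  have sqL : IsPullback d'.left d.left w'.left w.left :=
    (IsPullback.of_hasPullback w' w).map (Over.forget S)
  have : Flat d'.left := MorphismProperty.of_isPullback sqL.flip hwf
  have : Surjective d'.left := MorphismProperty.of_isPullback sqL.flip hws
  have : Flat (d'.left ≫ w'.left) := by rw [sqL.w]; infer_instance
  have hd'' : Flat (𝟙 _ ≫ d'.left) := by rwa [Category.id_comp]
  have hd''' : Surjective (𝟙 _ ≫ d'.left) := by rwa [Category.id_comp]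
  have : Flat w'.left := Groth.Agent.H13Desc.flat_of_refinement d'.left w'.left (𝟙 _)
  obtain ⟨c, hc⟩ := (yon S).map_surjective (sqW'.lift a ((yon S).map h) e)
  have hcw : c ≫ w' = h := (yon S).map_injective (by rw [Functor.map_comp, hc, sqW'.lift_snd])
  have hce : Etale c.left := etale_of_repWith c hf' (by rw [hc, sqW'.lift_fst]; exact ha)
  rw [← hcw]
  exact inferInstanceAs (Flat (c.left ≫ w'.left))

end Groth.Agent.H12AlgSp
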