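import Groth.Agent.H12AlgSp.Basic
import Groth.Prelude.Def_AlgSpGpd

/-!
Formal facts on groupoids in fppf sheaves.
-/

universe u

open CategoryTheory CategoryTheory.Limits AlgebraicGeometry Opposite
open AlgSp

namespace Groth.Agent.H12AlgSp.Gpd

variable {S : Scheme.{u}} {B : Sp S} (G : GroupoidSp B)

/-- composition of composable arrows -/
noncomputable def mul {T : Sp S} (α β : T ⟶ G.R) (h : α ≫ G.s = β ≫ G.t) : T ⟶ G.R :=
  pullback.lift α β h ≫ G.c

variable {G} {T T' : Sp S}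

theorem mul_congr {α α' β β' : T ⟶ G.R} (hα : α = α') (hβ : β = β') (h : α ≫ G.s = β ≫ G.t) :
    mul G α β h = mul G α' β' (hα ▸ hβ ▸ h) := by subst hα; subst hβ; rfl

theorem comp_mul (x : T' ⟶ T) (α β : T ⟶ G.R) (h : α ≫ G.s = β ≫ G.t) :
    x ≫ mul G α β h = mul G (x ≫ α) (x ≫ β) (by rw [Category.assoc, Category.assoc, h]) := by
  rw [mul, mul, ← Category.assoc]
  congr 1
  apply pullback.hom_ext <;> simp only [Category.assoc, pullback.lift_fst, pullback.lift_snd, pullback.lift_fst_assoc, pullback.lift_snd_assoc]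

theorem mul_s (α β : T ⟶ G.R) (h : α ≫ G.s = β ≫ G.t) : mul G α β h ≫ G.s = β ≫ G.s := G.comp_s α β h

theorem mul_t (α β : T ⟶ G.R) (h : α ≫ G.s = β ≫ G.t) : mul G α β h ≫ G.t = α ≫ G.t := G.comp_t α β h

theorem mul_assoc (α β γ : T ⟶ G.R) (h₁ : α ≫ G.s = β ≫ G.t) (h₂ : β ≫ G.s = γ ≫ G.t) :
    mul G (mul G α β h₁) γ ((mul_s α β h₁).trans h₂) = mul G α (mul G β γ h₂) (h₁.trans (mul_t β γ h₂).symm) :=
  G.assoc α β γ h₁ h₂

theorem mul_one (α ε : T ⟶ G.R) (hε : ε = α ≫ G.s ≫ G.e) (h : α ≫ G.s = ε ≫ G.t) : mul G α ε h = α := by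
  subst hε; exact G.comp_e α

theorem one_mul (α ε : T ⟶ G.R) (hε : ε = α ≫ G.t ≫ G.e) (h : ε ≫ G.s = α ≫ G.t) : mul G ε α h = α := by
  subst hε; exact G.e_comp α

theorem inv_s (α : T ⟶ G.R) : (α ≫ G.i) ≫ G.s = α ≫ G.t := by rw [Category.assoc, G.i_s]

theorem inv_t (α : T ⟶ G.R) : (α ≫ G.i) ≫ G.t = α ≫ G.s := by rw [Category.assoc, G.i_t]

theorem mul_inv (α : T ⟶ G.R) : mul G α (α ≫ G.i) (inv_t α).symm = α ≫ G.t ≫ G.e := G.comp_i α

theorem inv_mul (α : T ⟶ G.R) : mul G (α ≫ G.i) α (inv_s α) = α ≫ G.s ≫ G.e := G.i_comp α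

theorem inv_mul_cancel_left (α β : T ⟶ G.R) (h : α ≫ G.s = β ≫ G.t) :
    mul G (α ≫ G.i) (mul G α β h) ((inv_s α).trans (mul_t α β h).symm) = β := by
  rw [← mul_assoc (α ≫ G.i) α β (inv_s α) h]
  exact one_mul β _ (by rw [inv_mul, ← Category.assoc α, h, Category.assoc]) _

theorem mul_inv_cancel_left (α β : T ⟶ G.R) (h : α ≫ G.t = β ≫ G.t) :
    mul G α (mul G (α ≫ G.i) β ((inv_s α).trans h)) ((inv_t α).symm.trans (mul_t _ _ _).symm) = β := by
  rw [← mul_assoc α (α ≫ G.i) β (inv_t α).symm ((inv_s α).trans h)]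
  exact one_mul β _ (by rw [mul_inv, ← Category.assoc α, h, Category.assoc]) _

theorem mul_inv_cancel_right (α β : T ⟶ G.R) (h : α ≫ G.s = β ≫ G.t) :
    mul G (mul G α β h) (β ≫ G.i) ((mul_s α β h).trans (inv_t β).symm) = α := by
  rw [mul_assoc α β (β ≫ G.i) h (inv_t β).symm]
  exact mul_one α _ (by rw [mul_inv, ← Category.assoc β, ← h, Category.assoc]) _

theorem inv_mul_cancel_right (α β : T ⟶ G.R) (h : α ≫ G.s = β ≫ G.s) :
    mul G (mul G α (β ≫ G.i) (h.trans (inv_t β).symm)) β ((mul_s _ _ _).trans (inv_s β)) = α := by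
  rw [mul_assoc α (β ≫ G.i) β (h.trans (inv_t β).symm) (inv_s β)]
  exact mul_one α _ (by rw [inv_mul, ← Category.assoc β, ← h, Category.assoc]) _

variable (G)

theorem isPreEqvRelSp : IsPreEqvRelSp G.s G.t := fun T =>
  ⟨fun a => ⟨a ≫ G.e, by rw [Category.assoc, G.e_t, Category.comp_id], by rw [Category.assoc, G.e_s, Category.comp_id]⟩,
    fun {a b} ⟨r, ht, hs⟩ => ⟨r ≫ G.i, (inv_t r).trans hs, (inv_s r).trans ht⟩,
    fun {a b c} ⟨r, ht, hs⟩ ⟨r', ht', hs'⟩ =>
      ⟨mul G r r' (hs.trans ht'.symm), (mul_t _ _ _).trans ht, (mul_s _ _ _).trans hs'⟩⟩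

theorem isPullback_c : IsPullback G.c (pullback.snd G.s G.t) G.s G.s := by
  have hc : ∀ {T : Sp S} (x : T ⟶ pullback G.s G.t), x ≫ G.c =
      mul G (x ≫ pullback.fst G.s G.t) (x ≫ pullback.snd G.s G.t)
        (by rw [Category.assoc, Category.assoc, pullback.condition]) := fun x => by
    rw [mul]; congr 1; apply pullback.hom_ext <;> simp only [Category.assoc, pullback.lift_fst, pullback.lift_snd, pullback.lift_fst_assoc, pullback.lift_snd_assoc]
  refine ⟨⟨?_⟩, ⟨PullbackCone.isLimitAux' _ fun s => ?_⟩⟩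
  · have := (congrArg (· ≫ G.s) (hc (𝟙 _))).trans (mul_s _ _ _)
    simpa using this
  have hs : s.fst ≫ G.s = s.snd ≫ G.s := s.condition
  let α := mul G s.fst (s.snd ≫ G.i) (hs.trans (inv_t _).symm)
  have hα : α ≫ G.s = s.snd ≫ G.t := (mul_s _ _ _).trans (inv_s _)
  refine ⟨pullback.lift α s.snd hα, ?_, pullback.lift_snd _ _ _, fun {m : s.pt ⟶ pullback G.s G.t}
    (hm₁ : m ≫ G.c = s.fst) (hm₂ : m ≫ pullback.snd G.s G.t = s.snd) => ?_⟩
  · exact inv_mul_cancel_right s.fst s.snd hs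
  · rw [hc m] at hm₁
    apply pullback.hom_ext
    · rw [pullback.lift_fst]
      have := mul_inv_cancel_right (m ≫ pullback.fst G.s G.t) (m ≫ pullback.snd G.s G.t)
        (by rw [Category.assoc, Category.assoc, pullback.condition])
      rw [← this]
      exact mul_congr hm₁ (by rw [hm₂]) _
    · rw [pullback.lift_snd, hm₂]

theorem shear (φ : pullback G.t G.t ⟶ pullback G.s G.t)
    (h₁ : φ ≫ pullback.fst G.s G.t = pullback.fst G.t G.t)
    (h₂ : φ ≫ pullback.snd G.s G.t = mul G (pullback.fst G.t G.t ≫ G.i) (pullback.snd G.t G.t)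
      ((inv_s _).trans pullback.condition)) :
    IsIso φ ∧ φ ≫ G.c = pullback.snd G.t G.t := by
  have key : ∀ {T : Sp S} (x : T ⟶ pullback G.t G.t), x ≫ φ ≫ G.c = x ≫ pullback.snd G.t G.t := by
    intro T x
    have e : x ≫ φ ≫ G.c = mul G (x ≫ pullback.fst G.t G.t)
        (mul G ((x ≫ pullback.fst G.t G.t) ≫ G.i) (x ≫ pullback.snd G.t G.t)
          ((inv_s _).trans (by rw [Category.assoc, Category.assoc, pullback.condition])))
        ((inv_t _).symm.trans (mul_t _ _ _).symm) := by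
      conv_rhs => rw [mul]
      rw [← Category.assoc x φ]
      congr 1
      apply pullback.hom_ext
      · rw [Category.assoc, h₁, pullback.lift_fst]
      · rw [Category.assoc, h₂, pullback.lift_snd, comp_mul]
        exact mul_congr (Category.assoc _ _ _).symm rfl _
    rw [e]
    exact mul_inv_cancel_left _ _ (by rw [Category.assoc, Category.assoc, pullback.condition])
  refine ⟨?_, by simpa using key (𝟙 _)⟩
  let ψ : pullback G.s G.t ⟶ pullback G.t G.t := pullback.lift (pullback.fst G.s G.t)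
    (mul G (pullback.fst G.s G.t) (pullback.snd G.s G.t) pullback.condition) (mul_t _ _ _).symm
  refine ⟨ψ, ?_, ?_⟩
  · apply pullback.hom_ext
    · rw [Category.assoc, Category.id_comp, pullback.lift_fst, h₁]
    · rw [Category.assoc, Category.id_comp, pullback.lift_snd, comp_mul]
      refine Eq.trans ?_ (by simpa using key (𝟙 _) : φ ≫ G.c = pullback.snd G.t G.t)
      rw [mul]; congr 1; apply pullback.hom_ext <;> simp only [Category.assoc, pullback.lift_fst, pullback.lift_snd, pullback.lift_fst_assoc, pullback.lift_snd_assoc]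
  · apply pullback.hom_ext
    · rw [Category.assoc, Category.id_comp, h₁, pullback.lift_fst]
    · rw [Category.assoc, Category.id_comp, h₂, comp_mul]
      refine Eq.trans ?_ (inv_mul_cancel_left (pullback.fst G.s G.t) (pullback.snd G.s G.t) pullback.condition)
      exact mul_congr (by rw [← Category.assoc, pullback.lift_fst]) (pullback.lift_snd _ _ _) _

/-- Translation by an arrow identifies the fibres of the source map. -/
noncomputable def fibreIso {T : Sp S} (r : T ⟶ G.R) :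
    Over.mk (pullback.fst (r ≫ G.t) G.s) ≅ Over.mk (pullback.fst (r ≫ G.s) G.s) :=
  let a : pullback (r ≫ G.t) G.s ⟶ pullback (r ≫ G.s) G.s :=
    pullback.lift (pullback.fst _ _) (mul G (pullback.snd (r ≫ G.t) G.s) (pullback.fst _ _ ≫ r)
      (by rw [← pullback.condition, Category.assoc]))
      (by rw [mul_s, Category.assoc])
  let b : pullback (r ≫ G.s) G.s ⟶ pullback (r ≫ G.t) G.s :=
    pullback.lift (pullback.fst _ _) (mul G (pullback.snd (r ≫ G.s) G.s) ((pullback.fst _ _ ≫ r) ≫ G.i)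
      (by rw [inv_t, Category.assoc, pullback.condition]))
      (by rw [mul_s, inv_s, Category.assoc])
  Over.isoMk
    { hom := a
      inv := b
      hom_inv_id := by
        apply pullback.hom_ext
        · rw [Category.assoc, Category.id_comp, pullback.lift_fst, pullback.lift_fst]
        · rw [Category.assoc, Category.id_comp, pullback.lift_snd, comp_mul]
          refine Eq.trans ?_ (mul_inv_cancel_right (pullback.snd (r ≫ G.t) G.s) (pullback.fst _ _ ≫ r)
            (by rw [← pullback.condition, Category.assoc]))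
          exact mul_congr (pullback.lift_snd _ _ _)
            (by simp only [a, ← Category.assoc, pullback.lift_fst]) _
      inv_hom_id := by
        apply pullback.hom_ext
        · rw [Category.assoc, Category.id_comp, pullback.lift_fst, pullback.lift_fst]
        · rw [Category.assoc, Category.id_comp, pullback.lift_snd, comp_mul]
          refine Eq.trans ?_ (inv_mul_cancel_right (pullback.snd (r ≫ G.s) G.s) (pullback.fst _ _ ≫ r)
            (by rw [← pullback.condition, Category.assoc]))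
          exact mul_congr (pullback.lift_snd _ _ _)
            (by simp only [b, ← Category.assoc, pullback.lift_fst]) _ }
    (pullback.lift_fst _ _ _)

theorem fibres_iso {T : Sp S} (r r' : T ⟶ G.R) (h : r ≫ G.t = r' ≫ G.t) :
    Nonempty (Over.mk (pullback.fst (r ≫ G.s) G.s) ≅ Over.mk (pullback.fst (r' ≫ G.s) G.s)) := by
  have e : Over.mk (pullback.fst (r ≫ G.t) G.s) ≅ Over.mk (pullback.fst (r' ≫ G.t) G.s) :=
    Over.isoMk (pullback.congrHom h rfl) ((pullback.lift_fst _ _ _).trans (Category.comp_id _))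
  exact ⟨(fibreIso G r).symm ≪≫ e ≪≫ fibreIso G r'⟩

theorem translation (a : G.U ⟶ G.R) (ha : a ≫ G.s = 𝟙 G.U) [IsIso (a ≫ G.t)] (h) :
    IsIso (pullback.lift (G.t ≫ a) (𝟙 G.R) h ≫ G.c) ∧
      G.e ≫ (pullback.lift (G.t ≫ a) (𝟙 G.R) h ≫ G.c) = a := by
  let ψ := mul G (G.t ≫ a) (𝟙 G.R) h
  let σ := G.t ≫ CategoryTheory.inv (a ≫ G.t) ≫ a
  have hσt : σ ≫ G.t = G.t := by simp [σ]
  have hσs : σ ≫ G.s = G.t ≫ CategoryTheory.inv (a ≫ G.t) := by simp [σ, ha]
  let χ := mul G (σ ≫ G.i) (𝟙 G.R) ((inv_s σ).trans (hσt.trans (Category.id_comp _).symm))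
  have hψt : ψ ≫ G.t = G.t ≫ a ≫ G.t := (mul_t _ _ _).trans (Category.assoc _ _ _)
  have hχt : χ ≫ G.t = G.t ≫ CategoryTheory.inv (a ≫ G.t) := (mul_t _ _ _).trans ((inv_t σ).trans hσs)
  change IsIso ψ ∧ G.e ≫ ψ = a
  refine ⟨⟨χ, ?_, ?_⟩, ?_⟩
  · rw [comp_mul]
    have h' : (G.t ≫ a) ≫ G.s = 𝟙 G.R ≫ G.t := h
    refine Eq.trans ?_ (inv_mul_cancel_left (G.t ≫ a) (𝟙 G.R) h')
    refine mul_congr ?_ (Category.comp_id _) _
    rw [← Category.assoc]
    congr 1
    simp only [σ, reassoc_of% hψt]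
    rw [← Category.assoc a G.t, IsIso.hom_inv_id_assoc]
  · rw [comp_mul]
    refine Eq.trans ?_ (mul_inv_cancel_left σ (𝟙 G.R) (hσt.trans (Category.id_comp _).symm))
    refine mul_congr ?_ (Category.comp_id _) _
    rw [← Category.assoc, hχt, Category.assoc]
  · rw [comp_mul]
    have h₂ : a ≫ G.s = (G.e ≫ 𝟙 G.R) ≫ G.t := by rw [ha, Category.comp_id, G.e_t]
    refine (mul_congr (by rw [← Category.assoc, G.e_t, Category.id_comp]) rfl _).trans (mul_one a _ ?_ h₂)
    rw [Category.comp_id, ← Category.assoc, ha, Category.id_comp]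

end Groth.Agent.H12AlgSp.Gpd
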