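import Groth.Agent.H12AlgSp.QCFlat
import Groth.Agent.H12AlgSp.UnivInj
import Groth.Agent.H12AlgSp.GroupoidFormal
import Groth.Agent.H12AlgSp.GroupObj
import Groth.Agent.H13AlgSp.AffineLocal

/-!
Groupoids and group spaces over a field: flatness and universal openness.
-/

set_option backward.isDefEq.respectTransparency false

universe u

open CategoryTheory CategoryTheory.Limits AlgebraicGeometry MonoidalCategory MonObj CartesianMonoidalCategory
open AlgSp

namespace Groth.Agent.H12AlgSp

variable {S : Scheme.{u}}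

theorem locP_flat_to_field {X : Sp S} {k : Type u} [Field k] {str : Spec (CommRingCat.of k) ⟶ S}
    (p : X ⟶ (yon S).obj (Over.mk str)) : LocP @Flat p := by
  intro U V a b h ha hb w
  obtain ⟨v, hv⟩ := (yon S).map_surjective b
  have he : Etale v.left := (repWith_yon_map_iff _ v).1 (hv ▸ hb)
  exact etLocal_flat.of_postcomp h.left v.left he (flat_to_field _)

/-- Maps to a space isomorphic to the spectrum of a field are flat and universally open. -/
theorem flat_univOpen_to_field {X U : Sp S} (hX : IsAlgSpace X) {k : Type u} [Field k]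
    {str : Spec (CommRingCat.of k) ⟶ S} (e : U ≅ (yon S).obj (Over.mk str)) (f : X ⟶ U) :
    LocP @Flat f ∧ IsUnivOpenMor f := by
  have hU : IsAlgSpace U := (IsAlgSpace.yon_obj _).of_iso e.symm
  have sq : IsPullback (𝟙 X) f (f ≫ e.hom) e.hom := IsPullback.of_horiz_isIso ⟨by simp⟩
  exact ⟨locP_of_isPullback etLocal_flat sq hX (IsAlgSpace.yon_obj _) hU (locP_flat_to_field _),
    univSp_of_isPullback sq (isUnivOpenMor_to_field hX _)⟩

theorem surjective_map_of_section {X U : Sp S} {f : X ⟶ U} {e : U ⟶ X} (h : e ≫ f = 𝟙 U) :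
    Function.Surjective (Points.map f) :=
  fun z => ⟨Points.map e z, by rw [← Points.map_comp, h, Points.map_id]⟩

/-- A map on the fibre square is a base change of the map. -/
theorem isPullback_map_left {U' U B : Sp S} (p : U ⟶ B) (p' : U' ⟶ B) (f : U' ⟶ U) (hf : f ≫ p = p')
    {Z : Sp S} (q : Z ⟶ B) :
    IsPullback (pullback.fst p' q) (pullback.lift (pullback.fst p' q ≫ f) (pullback.snd p' q)
      (by rw [Category.assoc, hf, pullback.condition])) f (pullback.fst p q) := by
  refine IsPullback.of_bot ?_ (pullback.lift_fst _ _ _).symm (IsPullback.of_hasPullback p q)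
  rw [pullback.lift_snd, hf]
  exact IsPullback.of_hasPullback p' q

theorem isPullback_map_right {U' U B : Sp S} (p : U ⟶ B) (p' : U' ⟶ B) (f : U' ⟶ U) (hf : f ≫ p = p')
    {Z : Sp S} (q : Z ⟶ B) :
    IsPullback (pullback.snd q p') (pullback.lift (pullback.fst q p') (pullback.snd q p' ≫ f)
      (by rw [Category.assoc, hf, pullback.condition])) f (pullback.snd q p) := by
  refine IsPullback.of_bot ?_ (pullback.lift_snd _ _ _).symm (IsPullback.of_hasPullback q p).flip
  rw [pullback.lift_fst, hf]
  exact (IsPullback.of_hasPullback q p').flip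

theorem repWith_hom_prodMap {P : MorphismProperty Scheme.{u}} [P.IsStableUnderBaseChange]
    [P.IsStableUnderComposition] {B : Sp S} {G G' : GroupoidSp B} (φ : GroupoidSp.Hom G' G)
    (h : RepWith P φ.fU) : RepWith P φ.prodMap := by
  have e : φ.prodMap =
      pullback.lift (pullback.fst G'.pU G'.pU ≫ φ.fU) (pullback.snd G'.pU G'.pU)
          (by rw [Category.assoc, φ.fU_over, pullback.condition]) ≫
        pullback.lift (pullback.fst G.pU G'.pU) (pullback.snd G.pU G'.pU ≫ φ.fU)
          (by rw [Category.assoc, φ.fU_over, pullback.condition]) := by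
    apply pullback.hom_ext <;> simp [GroupoidSp.Hom.prodMap, pullback.map]
  rw [e]
  exact repWith_comp (repWith_of_isPullback (isPullback_map_left _ _ _ φ.fU_over G'.pU) h)
    (repWith_of_isPullback (isPullback_map_right _ _ _ φ.fU_over G.pU) h)

/-- The multiplication of a group object is a base change of the structure map. -/
theorem isPullback_mul {B : Sp S} (G : Over B) [GrpObj G] :
    IsPullback (μ[G]) (CartesianMonoidalCategory.snd G G) (toUnit G) (toUnit G) := by
  refine ⟨⟨toUnit_unique _ _⟩, ⟨PullbackCone.isLimitAux' _ fun s => ?_⟩⟩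
  refine ⟨lift (s.fst * s.snd⁻¹) s.snd, ?_, lift_snd _ _, fun {m : s.pt ⟶ G ⊗ G} hm₁ hm₂ => ?_⟩
  · change lift (s.fst * s.snd⁻¹) s.snd ≫ μ[G] = s.fst
    rw [← Hom.mul_def, inv_mul_cancel_right]
  · change m ≫ μ[G] = s.fst at hm₁
    change m ≫ CartesianMonoidalCategory.snd G G = s.snd at hm₂
    have hm : (m ≫ CartesianMonoidalCategory.fst G G) * (m ≫ CartesianMonoidalCategory.snd G G) = s.fst := by
      rw [Hom.mul_def, ← hm₁]
      congr 1
      ext <;> simp
    refine CartesianMonoidalCategory.hom_ext _ _ ?_ ?_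
    · rw [lift_fst, ← hm, hm₂, mul_inv_cancel_right]
    · rw [lift_snd, hm₂]

end Groth.Agent.H12AlgSp
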