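import Groth.Prelude.Def_AlgSpDec
import Groth.Prelude.Def_AlgSpGpd
import Groth.Agent.H12AlgSp.Points
import Mathlib.FieldTheory.IsAlgClosed.Classification
import Mathlib.FieldTheory.IsAlgClosed.AlgebraicClosure
import Mathlib.RingTheory.MvPolynomial.Basic
import Mathlib.RingTheory.Localization.FractionRing

/-!
Points of groupoids over fields, seen over large algebraically closed fields.
-/

universe u

open CategoryTheory CategoryTheory.Limits AlgebraicGeometry Opposite Cardinal
open AlgSp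

set_option backward.isDefEq.respectTransparency false

namespace Groth.Agent.H12AlgSp

theorem mk_basis_eq {k K : Type u} [Field k] [Field K] [Algebra k K] [IsAlgClosed K] {s : Set K}
    (hs : IsTranscendenceBasis k ((↑) : s → K)) (h₁ : #k < #K) (h₂ : ℵ₀ < #K) : #s = #K :=
  le_antisymm (mk_set_le s) (not_lt.1 fun h => not_lt.2 (IsAlgClosed.cardinal_le_max_transcendence_basis' _ hs)
    (max_lt (max_lt h₁ h) h₂))

/-- Large algebraically closed extensions of the same cardinality are isomorphic over the ground field. -/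
theorem exists_ringEquiv_commutes {k K L : Type u} [Field k] [Field K] [Field L] [IsAlgClosed K] [IsAlgClosed L]
    [Algebra k K] [Algebra k L] (h₁ : #k < #K) (h₂ : ℵ₀ < #K) (h : #K = #L) :
    ∃ e : K ≃+* L, ∀ r, e (algebraMap k K r) = algebraMap k L r := by
  obtain ⟨s, hs⟩ := exists_isTranscendenceBasis k K
  obtain ⟨t, ht⟩ := exists_isTranscendenceBasis k L
  have hst : #s = #t := by
    rw [mk_basis_eq hs h₁ h₂, mk_basis_eq ht (h ▸ h₁) (h ▸ h₂), h]
  obtain ⟨q⟩ := Cardinal.eq.1 hst
  let e₀ := hs.1.aevalEquiv.symm.trans ((MvPolynomial.renameEquiv k q).trans ht.1.aevalEquiv)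
  have hK := IsAlgClosed.isAlgClosure_of_transcendence_basis _ hs
  have hL := IsAlgClosed.isAlgClosure_of_transcendence_basis _ ht
  refine ⟨IsAlgClosure.equivOfEquiv K L e₀.toRingEquiv, fun r => ?_⟩
  rw [IsScalarTower.algebraMap_apply k (Algebra.adjoin k (Set.range ((↑) : s → K))) K,
    IsAlgClosure.equivOfEquiv_algebraMap]
  change algebraMap _ L (e₀ (algebraMap k _ r)) = _
  rw [e₀.commutes, ← IsScalarTower.algebraMap_apply]

/-- Two embeddings of a field differ by an automorphism of a large algebraically closed field. -/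
theorem exists_field_auto {k K : Type u} [Field k] [Field K] (a b : k →+* K) :
    ∃ (k' : Type u) (_ : Field k') (_ : Algebra k k') (j : K →+* k') (θ : k' ≃+* k'),
      IsAlgClosed k' ∧ j.comp a = algebraMap k k' ∧ j.comp b = θ.toRingHom.comp (algebraMap k k') := by
  let P := MvPolynomial (Set (K ⊕ ULift.{u} ℕ)) K
  let k' := AlgebraicClosure (FractionRing P)
  let j : K →+* k' := (algebraMap (FractionRing P) k').comp ((algebraMap P (FractionRing P)).comp MvPolynomial.C)
  have hinj : Function.Injective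
      fun x : Set (K ⊕ ULift.{u} ℕ) => algebraMap (FractionRing P) k' (algebraMap P (FractionRing P) (MvPolynomial.X x)) :=
    (algebraMap (FractionRing P) k').injective.comp ((IsFractionRing.injective P (FractionRing P)).comp
      MvPolynomial.X_injective)
  have hbig : #(K ⊕ ULift.{u} ℕ) < #k' :=
    lt_of_lt_of_le (by rw [mk_set]; exact cantor _) (mk_le_of_injective hinj)
  have h₂ : ℵ₀ < #k' := lt_of_le_of_lt (aleph0_le_mk _) hbig
  have h₁ : #k < #k' := lt_of_le_of_lt (mk_le_of_injective (Sum.inl_injective.comp a.injective)) hbig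
  obtain ⟨θ, hθ⟩ := @exists_ringEquiv_commutes k k' k' _ _ _ _ _ (j.comp a).toAlgebra (j.comp b).toAlgebra h₁ h₂ rfl
  exact ⟨k', inferInstance, (j.comp a).toAlgebra, j, θ, inferInstance, rfl, RingHom.ext fun r => (hθ r).symm⟩

variable {S : Scheme.{u}}

/-- Every arrow of a groupoid over a field is an arrow between automorphisms of a large algebraically closed
extension. -/
theorem exists_algClosed_restrict_point {B : Sp S} (G : GroupoidSp B) {k : Type u} [Field k]
    (σ : Spec (CommRingCat.of k) ⟶ S) (eU : G.U ≅ (yon S).obj (Over.mk σ)) (r : Points G.R) :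
    ∃ (k' : Type u) (_ : Field k') (_ : Algebra k k'), IsAlgClosed k' ∧
      ∀ (G' : GroupoidSp B) (φ : GroupoidSp.Hom G' G), φ.IsRestriction →
        ∀ (eU' : G'.U ≅ (yon S).obj (Over.mk (Spec.map (CommRingCat.ofHom (algebraMap k k')) ≫ σ))),
          φ.fU = eU'.hom ≫ (yon S).map (Over.homMk (Spec.map (CommRingCat.ofHom (algebraMap k k'))) rfl :
            Over.mk (Spec.map (CommRingCat.ofHom (algebraMap k k')) ≫ σ) ⟶ Over.mk σ) ≫ eU.inv →
          ∃ r' : G'.U ⟶ G'.R, (∀ x : Points G'.U, Points.map (r' ≫ φ.fR) x = r) ∧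
            IsIso (r' ≫ G'.s) ∧ IsIso (r' ≫ G'.t) := by
  induction r using Points.ind with | h p => ?_
  obtain ⟨s₀, hs₀⟩ := (yon S).map_surjective (p.toHom ≫ G.s ≫ eU.hom)
  obtain ⟨t₀, ht₀⟩ := (yon S).map_surjective (p.toHom ≫ G.t ≫ eU.hom)
  have hsσ : s₀.left ≫ σ = p.str := Over.w s₀
  have htσ : t₀.left ≫ σ = p.str := Over.w t₀
  obtain ⟨k', _, _, j, θ, hk', ha, hb⟩ :=
    exists_field_auto (k := k) (K := p.K) (Spec.preimage s₀.left).hom (Spec.preimage t₀.left).hom
  refine ⟨k', inferInstance, inferInstance, hk', fun G' φ hφ eU' hU => ?_⟩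
  let π : Spec (CommRingCat.of k') ⟶ Spec (CommRingCat.of k) := Spec.map (CommRingCat.ofHom (algebraMap k k'))
  let ρ₀ : Spec (CommRingCat.of k') ⟶ Spec (CommRingCat.of p.K) := Spec.map (CommRingCat.ofHom j)
  let θ₀ : Spec (CommRingCat.of k') ⟶ Spec (CommRingCat.of k') := Spec.map (CommRingCat.ofHom θ.toRingHom)
  have hρs : ρ₀ ≫ s₀.left = π := by
    rw [← Spec.map_preimage s₀.left, ← Spec.map_comp]
    exact congrArg Spec.map (CommRingCat.hom_ext ha)
  have hρt : ρ₀ ≫ t₀.left = θ₀ ≫ π := by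
    rw [← Spec.map_preimage t₀.left, ← Spec.map_comp, ← Spec.map_comp]
    exact congrArg Spec.map (CommRingCat.hom_ext hb)
  let T' : Over S := Over.mk (π ≫ σ)
  let π' : T' ⟶ Over.mk σ := Over.homMk π rfl
  let ρ : T' ⟶ p.pt := Over.homMk ρ₀ (by
    change ρ₀ ≫ p.str = π ≫ σ
    rw [← hsσ, ← Category.assoc, hρs])
  have : IsIso θ₀ := by
    have : IsIso (CommRingCat.ofHom θ.toRingHom) := inferInstanceAs (IsIso θ.toCommRingCatIso.hom)
    infer_instance
  let θ' : T' ⟶ T' := Over.homMk θ₀ (by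
    change θ₀ ≫ π ≫ σ = π ≫ σ
    rw [← Category.assoc, ← hρt, Category.assoc, htσ, ← hsσ, ← Category.assoc, hρs])
  have : IsIso ((Over.forget S).map θ') := ‹IsIso θ₀›
  have : IsIso θ' := isIso_of_reflects_iso θ' (Over.forget S)
  have es : ρ ≫ s₀ = π' := Over.OverMorphism.ext hρs
  have et : ρ ≫ t₀ = θ' ≫ π' := Over.OverMorphism.ext hρt
  let x : G'.U ⟶ G'.U := eU'.hom ≫ (yon S).map θ' ≫ eU'.inv
  let q : G'.U ⟶ G.R := eU'.hom ≫ (yon S).map ρ ≫ p.toHom
  have hq_s : q ≫ G.s = φ.fU := by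
    rw [hU, ← cancel_mono eU.hom]
    simp only [q, Category.assoc, Iso.inv_hom_id, Category.comp_id]
    rw [← hs₀, ← Functor.map_comp, es]
  have hq_t : q ≫ G.t = x ≫ φ.fU := by
    rw [hU, ← cancel_mono eU.hom]
    simp only [q, x, Category.assoc, Iso.inv_hom_id, Category.comp_id, Iso.inv_hom_id_assoc]
    rw [← ht₀, ← Functor.map_comp, et, Functor.map_comp]
  have hxy : x ≫ G'.pU = 𝟙 _ ≫ G'.pU := by
    rw [← φ.fU_over, Category.id_comp, ← Category.assoc, ← hq_t, ← hq_s]
    simp only [Category.assoc, G.t_over, G.s_over]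
  obtain ⟨r', hr₁, hr₂⟩ := hφ.exists_lift q (pullback.lift x (𝟙 _) hxy) (by
    apply pullback.hom_ext
    · simp only [Category.assoc, GroupoidSp.j_fst, GroupoidSp.Hom.prodMap, pullback.map, pullback.lift_fst,
        pullback.lift_fst_assoc]
      exact hq_t
    · simp only [Category.assoc, GroupoidSp.j_snd, GroupoidSp.Hom.prodMap, pullback.map, pullback.lift_snd,
        pullback.lift_snd_assoc]
      exact hq_s.trans (Category.id_comp _).symm)
  have ht' : r' ≫ G'.t = x := by rw [← G'.j_fst, reassoc_of% hr₂, pullback.lift_fst]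
  have hs' : r' ≫ G'.s = 𝟙 _ := by rw [← G'.j_snd, reassoc_of% hr₂, pullback.lift_snd]
  refine ⟨r', fun z => ?_, by rw [hs']; infer_instance, by rw [ht']; infer_instance⟩
  rw [hr₁]
  simp only [q, Points.map_comp]
  obtain ⟨w, hw⟩ := (Points.schemeHomeo p.pt).surjective (Points.map ((yon S).map ρ) (Points.map eU'.hom z))
  rw [← hw]
  exact (Points.ofPt_eq_map_ofScheme _ _).symm.trans (Points.ofPt_toHom p w)

end Groth.Agent.H12AlgSp
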