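import Groth.Agent.H13Grpd.Quot
import Groth.Agent.H13Grpd.Coeq
import Groth.Agent.H20GQ.Fppf
import Groth.Prelude.Def_AlgSp

/-!
Quotients of schemes by finite locally free equivalence relations.
-/

universe u

open CategoryTheory CategoryTheory.Limits AlgebraicGeometry Opposite Topology TopologicalSpace
open Groth.Agent.H13Grpd

set_option backward.isDefEq.respectTransparency false

namespace Groth.Agent.H12AlgSp

variable {S : Scheme.{u}}

/-- An fppf covering with cartesian kernel pair is the quotient of its kernel pair. -/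
theorem isQuotient_of_isPullback {R U M : Over S} (s t : R ⟶ U) (q : U ⟶ M) [Flat q.left] [Surjective q.left]
    [LocallyOfFinitePresentation q.left] (sq : IsPullback t.left s.left q.left q.left) :
    QuotSh.IsQuotient Scheme.fppfPrecoverage s t q := by
  refine Groth.Agent.S7490.result _ s t q (Over.OverMorphism.ext sq.w.symm) sq.w (epi_repMap q) ?_
  let e : R ⟶ Over.mk (pullback.fst q.left q.left ≫ U.hom) := Over.homMk (pullback.lift t.left s.left sq.w)
    ((pullback.lift_fst_assoc t.left s.left sq.w U.hom).trans (Over.w t))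
  have hi : IsIso (pullback.lift t.left s.left sq.w) := by
    rw [show pullback.lift t.left s.left sq.w = sq.isoPullback.hom by
      exact pullback.hom_ext ((pullback.lift_fst _ _ _).trans sq.isoPullback_hom_fst.symm)
        ((pullback.lift_snd _ _ _).trans sq.isoPullback_hom_snd.symm)]
    infer_instance
  have : IsIso ((Over.forget S).map e) := hi
  have : IsIso e := isIso_of_reflects_iso e (Over.forget S)
  change Epi (QuotSh.repMap Scheme.fppfPrecoverage e)
  infer_instance

/-- The map to an fppf quotient scheme is surjective. -/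
theorem surjective_of_isQuotient {R U M : Over S} {s t : R ⟶ U} {q : U ⟶ M}
    (hq : QuotSh.IsQuotient Scheme.fppfPrecoverage s t q) : Surjective q.left := by
  obtain ⟨w, hiso⟩ := hq
  let J := QuotSh.J Scheme.fppfPrecoverage S
  have hπq : QuotSh.quotπ Scheme.fppfPrecoverage s t ≫ QuotSh.quotDesc Scheme.fppfPrecoverage q w =
      QuotSh.repMap Scheme.fppfPrecoverage q := coequalizer.π_desc _ _
  have he : Epi (QuotSh.repMap Scheme.fppfPrecoverage q) := by
    rw [← hπq]
    haveI : Epi (QuotSh.quotπ Scheme.fppfPrecoverage s t) := coequalizer.π_epi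
    exact epi_comp _ _
  have h1 : Sheaf.IsLocallySurjective (QuotSh.repMap Scheme.fppfPrecoverage q) :=
    (Sheaf.isLocallySurjective_iff_epi' (Type (u + 1)) _).2 he
  have h2 : Presheaf.IsLocallySurjective J
      (Functor.whiskerRight (yoneda.map q) uliftFunctor.{u + 1, u}) :=
    (Presheaf.isLocallySurjective_presheafToSheaf_map_iff _ _).1 h1
  refine ⟨fun y => ?_⟩
  obtain ⟨V, i, v, ⟨⟨x⟩, hx⟩, -, -, hv⟩ :=
    Groth.Agent.H20GQ.exists_cover (h2.imageSieve_mem (U := M) (ULift.up (𝟙 M))) y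
  have hx' : x ≫ q = i ≫ 𝟙 M := congrArg ULift.down hx
  refine ⟨x.left v, ?_⟩
  rw [← hv, ← Scheme.Hom.comp_apply, ← Over.comp_left, hx', Category.comp_id]

variable (G : Grpd.GroupoidScheme S)

theorem mono_j_of_isEqvRel
    (heq : AlgSp.IsEqvRel (Over.homMk G.s G.s_over : Over.mk G.pR ⟶ Over.mk G.pU)
      (Over.homMk G.t G.t_over : Over.mk G.pR ⟶ Over.mk G.pU)) : Mono G.j := ⟨fun {Z} r r' e => by
  have et : r ≫ G.t = r' ≫ G.t := by simpa [Grpd.GroupoidScheme.j] using e =≫ pullback.fst _ _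
  have es : r ≫ G.s = r' ≫ G.s := by simpa [Grpd.GroupoidScheme.j] using e =≫ pullback.snd _ _
  have hr : r' ≫ G.pR = r ≫ G.pR := by rw [← G.s_over, ← Category.assoc, ← es, Category.assoc]
  let a : Over.mk (r ≫ G.pR) ⟶ Over.mk G.pR := Over.homMk r rfl
  let b : Over.mk (r ≫ G.pR) ⟶ Over.mk G.pR := Over.homMk r' hr
  exact congrArg (fun m : Over.mk (r ≫ G.pR) ⟶ Over.mk G.pR => m.left)
    (heq.injective _ a b (Over.OverMorphism.ext et) (Over.OverMorphism.ext es))⟩

/-- If every closed set has a point with orbit in an affine open, every orbit lies in an affine open. -/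
theorem orbits_in_affines [IsFinite G.s] [Flat G.s] [LocallyOfFinitePresentation G.s]
    (h3 : ∀ Z : Set ↥G.U, IsClosed Z → Z.Nonempty →
      ∃ u ∈ Z, ∃ W : G.U.Opens, IsAffineOpen W ∧ ∀ r : ↥G.R, G.s r = u → G.t r ∈ W) (x : G.U) :
    ∃ V : G.U.Opens, IsAffineOpen V ∧ G.t.base '' (G.s.base ⁻¹' {x}) ⊆ (V : Set G.U) := by
  let Z : Set G.U := (⋃ W : InvAff G, (W.opens : Set G.U))ᶜ
  by_cases hx : x ∈ Z
  · obtain ⟨u, huZ, W, hW, huW⟩ := h3 Z (isOpen_iUnion fun W => W.opens.2).isClosed_compl ⟨x, hx⟩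
    obtain ⟨W', hW', hu, -, hinv⟩ := exists_invariant_affine G u hW huW
    exact (huZ (Set.mem_iUnion.2 ⟨⟨W', hW', hinv⟩, hu⟩)).elim
  · obtain ⟨W, hxW⟩ := Set.mem_iUnion.1 (not_not.1 hx)
    refine ⟨W.opens, W.affine, ?_⟩
    rintro _ ⟨r, hr, rfl⟩
    exact (W.mem_iff r).1 (by rw [show G.s r = x from hr]; exact hxW)

/-- The quotient of a scheme by a finite locally free equivalence relation. -/
theorem exists_finLocFree_quotient [IsFinite G.s] [Flat G.s] [LocallyOfFinitePresentation G.s] [Mono G.j]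
    (hb : ∀ x : G.U, ∃ V : G.U.Opens, IsAffineOpen V ∧ G.t.base '' (G.s.base ⁻¹' {x}) ⊆ (V : Set G.U)) :
    ∃ (M : Over S) (m : Over.mk G.pU ⟶ M), IsFinite m.left ∧ Flat m.left ∧ LocallyOfFinitePresentation m.left ∧
      IsPullback G.t G.s m.left m.left ∧
      QuotSh.IsQuotient Scheme.fppfPrecoverage (Over.homMk G.s G.s_over : Over.mk G.pR ⟶ Over.mk G.pU)
        (Over.homMk G.t G.t_over : Over.mk G.pR ⟶ Over.mk G.pU) m := by
  obtain ⟨sq, h1, h2, h3⟩ := isPullback_and_finLocFree (G := G) hb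
  obtain ⟨hcol⟩ := nonempty_isColimit_proj (G := G) hb
  obtain ⟨p, hp⟩ := Cofork.IsColimit.desc' hcol G.pU (G.t_over.trans G.s_over.symm)
  let m : Over.mk G.pU ⟶ Over.mk p := Over.homMk (proj hb) hp
  haveI : Flat m.left := h2
  haveI : LocallyOfFinitePresentation m.left := h3
  haveI : Surjective m.left := ⟨surjective_proj hb⟩
  exact ⟨Over.mk p, m, h1, h2, h3, sq, isQuotient_of_isPullback _ _ m sq⟩

end Groth.Agent.H12AlgSp
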