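import Groth.Agent.H12AlgSp.Bootstrap
import Groth.Agent.H7Weight.Chart

/-!
Open subschemes of a separated locally quasi-finite flat scheme which are finite and surjective over the base.
-/

set_option linter.unusedVariables false
set_option backward.isDefEq.respectTransparency false

universe u

open CategoryTheory CategoryTheory.Limits AlgebraicGeometry Opposite TopologicalSpace
open Groth.Agent.H7Weight

namespace Groth.Agent.H12AlgSp

variable {Y T Y' T' : Scheme.{u}} {f : Y ⟶ T} {f' : Y' ⟶ T'} {g : Y' ⟶ Y} {q : T' ⟶ T}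

/-- An open which is finite and surjective over the base. -/
def IsFinOpen (f : Y ⟶ T) (O : Y.Opens) : Prop := IsFinite (O.ι ≫ f) ∧ Surjective (O.ι ≫ f)

theorem exists_point_over (sq : IsPullback g f' f q) (y : Y) (t' : T') (h : f y = q t') :
    ∃ y', g y' = y ∧ f' y' = t' := by
  obtain ⟨z, h1, h2⟩ := Scheme.Pullback.exists_preimage_pullback y t' h
  refine ⟨sq.isoPullback.inv z, ?_, ?_⟩
  · rw [← Scheme.Hom.comp_apply, sq.isoPullback_inv_fst]; exact h1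
  · rw [← Scheme.Hom.comp_apply, sq.isoPullback_inv_snd]; exact h2

theorem IsFinOpen.baseChange (sq : IsPullback g f' f q) {O : Y.Opens} (h : IsFinOpen f O) :
    IsFinOpen f' (g ⁻¹ᵁ O) := by
  have sqO : IsPullback (g ∣_ O) ((g ⁻¹ᵁ O).ι ≫ f') (O.ι ≫ f) q :=
    (isPullback_morphismRestrict g O).paste_vert sq
  exact ⟨MorphismProperty.of_isPullback sqO h.1, MorphismProperty.of_isPullback sqO h.2⟩

theorem IsFinOpen.isClosed [IsSeparated f] {O : Y.Opens} (h : IsFinOpen f O) : IsClosed (O : Set Y) := by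
  have := h.1
  have : IsFinite O.ι := .of_comp _ f
  simpa using O.ι.isClosedMap.isClosed_range

/-- The locus of the base over which two opens agree. -/
def eqLocus (f : Y ⟶ T) (O₁ O₂ : Y.Opens) : Set T := {t | ∀ y, f y = t → (y ∈ O₁ ↔ y ∈ O₂)}

theorem compl_eqLocus (O₁ O₂ : Y.Opens) :
    (eqLocus f O₁ O₂)ᶜ = f '' ((O₁ : Set Y) \ O₂ ∪ (O₂ : Set Y) \ O₁) := by
  ext t
  simp only [eqLocus, Set.mem_compl_iff, Set.mem_setOf_eq, Set.mem_image, Set.mem_union, Set.mem_diff,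
    SetLike.mem_coe, not_forall]
  constructor
  · rintro ⟨y, hy, hne⟩
    exact ⟨y, by tauto, hy⟩
  · rintro ⟨y, hne, hy⟩
    exact ⟨y, hy, by tauto⟩

theorem isOpen_eqLocus {O₁ O₂ : Y.Opens} (h₁ : IsFinOpen f O₁) (h₂ : IsFinOpen f O₂) :
    IsOpen (eqLocus f O₁ O₂) := by
  rw [← isClosed_compl_iff, compl_eqLocus, Set.image_union]
  have key : ∀ (A B : Y.Opens), IsFinOpen f A → IsClosed (f '' ((A : Set Y) \ B)) := fun A B hA => by
    have := hA.1
    have := (A.ι ≫ f).isClosedMap _ ((B.isOpen.preimage A.ι.continuous).isClosed_compl)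
    convert! this using 1
    ext t
    constructor
    · rintro ⟨y, ⟨hA', hB'⟩, rfl⟩; exact ⟨⟨y, hA'⟩, hB', rfl⟩
    · rintro ⟨⟨y, hA'⟩, hB', rfl⟩; exact ⟨y, ⟨hA', hB'⟩, rfl⟩
  exact (key _ _ h₁).union (key _ _ h₂)

theorem isClosed_eqLocus [IsSeparated f] (hf : IsOpenMap f) {O₁ O₂ : Y.Opens} (h₁ : IsFinOpen f O₁)
    (h₂ : IsFinOpen f O₂) : IsClosed (eqLocus f O₁ O₂) := by
  rw [← isOpen_compl_iff, compl_eqLocus]
  exact hf _ ((O₁.isOpen.sdiff h₂.isClosed).union (O₂.isOpen.sdiff h₁.isClosed))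

theorem range_subset_eqLocus_iff (sq : IsPullback g f' f q) (O₁ O₂ : Y.Opens) :
    Set.range q ⊆ eqLocus f O₁ O₂ ↔ g ⁻¹ᵁ O₁ = g ⁻¹ᵁ O₂ := by
  constructor
  · intro h
    ext y'
    exact h ⟨f' y', rfl⟩ (g y') (by rw [← Scheme.Hom.comp_apply, sq.w, Scheme.Hom.comp_apply])
  · rintro h _ ⟨t', rfl⟩ y hy
    obtain ⟨y', rfl, -⟩ := exists_point_over sq y t' hy
    exact SetLike.ext_iff.1 h y'

theorem universallyClosed_sup (O₁ O₂ : Y.Opens) [UniversallyClosed (O₁.ι ≫ f)] [UniversallyClosed (O₂.ι ≫ f)] :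
    UniversallyClosed ((O₁ ⊔ O₂).ι ≫ f) := by
  refine ⟨fun A B b a c sq C hC => ?_⟩
  have key : ∀ (O : Y.Opens) (hle : O ≤ O₁ ⊔ O₂), UniversallyClosed (O.ι ≫ f) →
      IsClosed (c '' (C ∩ ((b ≫ (O₁ ⊔ O₂).ι) ⁻¹ᵁ O : A.Opens))) := by
    intro O hle hO
    let e : O.toScheme ⟶ (O₁ ⊔ O₂).toScheme := Y.homOfLE hle
    have he : e ≫ (O₁ ⊔ O₂).ι = O.ι := Y.homOfLE_ι hle
    have sq' := ((IsPullback.of_hasPullback e b).paste_vert sq.flip).flip
    rw [show e ≫ (O₁ ⊔ O₂).ι ≫ f = O.ι ≫ f by rw [← Category.assoc, he]] at sq'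
    have hr : Set.range (pullback.snd e b) = ((b ≫ (O₁ ⊔ O₂).ι) ⁻¹ᵁ O : A.Opens) := by
      rw [IsOpenImmersion.range_pullbackSnd, Scheme.Hom.comp_preimage]
      ext z
      simp only [Set.mem_preimage, Scheme.Hom.coe_preimage, Set.mem_range]
      constructor
      · rintro ⟨w, hw⟩
        rw [← hw, ← Scheme.Hom.comp_apply, he]
        exact w.2
      · intro hz
        exact ⟨⟨_, hz⟩, (O₁ ⊔ O₂).ι.isOpenEmbedding.injective (by
          rw [← Scheme.Hom.comp_apply, he]; rfl)⟩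
    have := hO.out _ _ _ sq' (pullback.snd e b ⁻¹' C) (hC.preimage (pullback.snd e b).continuous)
    rw [← hr, ← Set.image_preimage_eq_inter_range, Set.image_image]
    exact this
  have h : c '' C = c '' (C ∩ ((b ≫ (O₁ ⊔ O₂).ι) ⁻¹ᵁ O₁ : A.Opens)) ∪
      c '' (C ∩ ((b ≫ (O₁ ⊔ O₂).ι) ⁻¹ᵁ O₂ : A.Opens)) := by
    rw [← Set.image_union, ← Set.inter_union_distrib_left, Set.inter_eq_left.2]
    intro z _
    exact (b z).2
  rw [h]
  exact (key _ le_sup_left ‹_›).union (key _ le_sup_right ‹_›)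

theorem isFinite_sup [IsSeparated f] [LocallyQuasiFinite f] [LocallyOfFiniteType f] (O₁ O₂ : Y.Opens)
    (h₁ : IsFinite (O₁.ι ≫ f)) (h₂ : IsFinite (O₂.ι ≫ f)) : IsFinite ((O₁ ⊔ O₂).ι ≫ f) := by
  have := universallyClosed_sup (f := f) O₁ O₂
  rw [IsFinite.iff_isProper_and_locallyQuasiFinite]
  exact ⟨⟨⟩, inferInstance⟩

/-- Opens finite and surjective over the base descend along an fppf family. -/
theorem exists_finOpen_descend {S : Scheme.{u}} {Y T : Over S} (f : Y ⟶ T) {κ : Type u} {C : κ → Over S}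
    (c : ∀ i, C i ⟶ T) (hfl : ∀ i, Flat (c i).left) (hfp : ∀ i, LocallyOfFinitePresentation (c i).left)
    (hs : ∀ t : T.left, ∃ i, t ∈ Set.range (c i).left) (P : κ → Scheme.{u}) (g : ∀ i, P i ⟶ Y.left)
    (a : ∀ i, P i ⟶ (C i).left) (sq : ∀ i, IsPullback (g i) (a i) f.left (c i).left)
    (O : ∀ i, (P i).Opens) (hO : ∀ i, IsFinOpen (a i) (O i))
    (hc : ∀ i j (y : P i) (y' : P j), g i y = g j y' → (y ∈ O i ↔ y' ∈ O j)) :
    ∃ O₀ : Y.left.Opens, IsFinOpen f.left O₀ ∧ ∀ i, g i ⁻¹ᵁ O₀ = O i := by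
  have hopen : ∀ i, IsOpenMap (g i) := fun i => by
    have : Flat (g i) := MorphismProperty.of_isPullback (sq i).flip (hfl i)
    have : LocallyOfFinitePresentation (g i) := MorphismProperty.of_isPullback (sq i).flip (hfp i)
    exact (g i).isOpenMap
  let O₀ : Y.left.Opens := ⨆ i, ⟨g i '' O i, hopen i _ (O i).isOpen⟩
  have hpre : ∀ i, g i ⁻¹ᵁ O₀ = O i := fun i => by
    ext y
    change g i y ∈ O₀ ↔ y ∈ O i
    simp only [O₀, Opens.mem_iSup]
    exact ⟨fun ⟨j, y', hy', e⟩ => (hc i j y y' e.symm).2 hy', fun hy => ⟨i, y, hy, rfl⟩⟩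
  refine ⟨O₀, ⟨?_, ⟨fun t => ?_⟩⟩, hpre⟩
  · let Z : Over S := Over.mk (O₀.ι ≫ Y.hom)
    let h : Z ⟶ T := Over.homMk (O₀.ι ≫ f.left) (by simp [Z])
    refine of_fppf_family (P := @IsFinite) h c hfl hfp hs fun i => ?_
    have sqO := (isPullback_morphismRestrict (g i) O₀).paste_vert (sq i)
    have h0 := (hO i).1
    rw [← hpre i] at h0
    change IsFinite (pullback.snd (O₀.ι ≫ f.left) (c i).left)
    rw [← (IsPullback.of_hasPullback (O₀.ι ≫ f.left) (c i).left).isoIsPullback_hom_snd _ _ sqO]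
    exact (MorphismProperty.cancel_left_of_respectsIso @IsFinite _ _).2 h0
  · obtain ⟨i, t', rfl⟩ := hs t
    obtain ⟨⟨y, hy⟩, he⟩ := (hO i).2.surj t'
    refine ⟨⟨g i y, by rw [← hpre i] at hy; exact hy⟩, ?_⟩
    change f.left (g i y) = (c i).left t'
    rw [← Scheme.Hom.comp_apply, (sq i).w, Scheme.Hom.comp_apply]
    exact congrArg _ he

section Geometric

variable {Ω : Type u} [Field Ω]

/-- A field valued point in an open lifts to it. -/
theorem exists_lift_open' {U Y : Scheme.{u}} (j : U ⟶ Y) [IsOpenImmersion j] (s : Spec (CommRingCat.of Ω) ⟶ Y)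
    (h : pt s ∈ Set.range j) : ∃ s', s' ≫ j = s :=
  ⟨IsOpenImmersion.lift j s (by
    rintro _ ⟨x, rfl⟩
    rwa [Subsingleton.elim x (IsLocalRing.closedPoint Ω)]), IsOpenImmersion.lift_fac _ _ _⟩

/-- Finitely many geometric points of a fibre are, etale locally, exactly the points of a finite open. -/
theorem exists_etale_finOpen [IsAlgClosed Ω] (f : Y ⟶ T) [LocallyQuasiFinite f] [IsSeparated f] [Flat f]
    [LocallyOfFinitePresentation f] (η : Spec (CommRingCat.of Ω) ⟶ T) (S : Finset (Pts f η)) (hS : S.Nonempty) :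
    ∃ (V : Scheme.{u}) (g : V ⟶ T) (_ : Etale g) (η' : Spec (CommRingCat.of Ω) ⟶ V) (_ : η' ≫ g = η)
      (O : (pullback f g).Opens), IsFinOpen (pullback.snd f g) O ∧
      ∀ s' : Pts (pullback.snd f g) η', pt s'.1 ∈ O ↔ ∃ s ∈ S, s'.1 ≫ pullback.fst f g = s.1 := by
  classical
  obtain ⟨V, g, hg, η', hη', hD⟩ := exists_singles f η S
  let D := fun s : S => (hD s.1 s.2).some
  let O : (pullback f g).Opens := ⨆ s : S, (D s).C.lift.opensRange
  have hfin : IsFinite (O.ι ≫ pullback.snd f g) := by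
    have h1 : ∀ s : S, IsFinite ((D s).C.lift.opensRange.ι ≫ pullback.snd f g) := fun s => by
      rw [← MorphismProperty.cancel_left_of_respectsIso @IsFinite (D s).C.lift.isoOpensRange.hom,
        Scheme.Hom.isoOpensRange_hom_ι_assoc, Chart.lift_snd]
      exact (D s).C.finite
    have : Nonempty S := hS.to_subtype
    have e : O = Finset.univ.sup' Finset.univ_nonempty fun s : S => (D s).C.lift.opensRange := by
      rw [Finset.sup'_eq_sup, Finset.sup_univ_eq_iSup]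
    rw [e]
    exact Finset.sup'_induction _ _ (p := fun O => IsFinite (Scheme.Opens.ι O ≫ pullback.snd f g))
      (fun a ha b hb => isFinite_sup a b ha hb) fun s _ => h1 s
  -- shrink `V`
  let V₀ : V.Opens := ⟨Set.range (O.ι ≫ pullback.snd f g), (O.ι ≫ pullback.snd f g).isOpenMap.isOpen_range⟩
  have hmem : pt η' ∈ V₀ := by
    obtain ⟨s, hs⟩ := hS
    have hw : pt ((D ⟨s, hs⟩).p.1 ≫ (D ⟨s, hs⟩).C.lift) ∈ O := Opens.mem_iSup.2 ⟨⟨s, hs⟩, ⟨_, rfl⟩⟩
    refine ⟨⟨_, hw⟩, ?_⟩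
    change pullback.snd f g (pt ((D ⟨s, hs⟩).p.1 ≫ (D ⟨s, hs⟩).C.lift)) = pt η'
    rw [← pt_comp, Category.assoc, Chart.lift_snd, (D ⟨s, hs⟩).p.2]
  obtain ⟨η₀, hη₀⟩ := exists_lift_open' V₀.ι η' (by rwa [Scheme.Opens.range_ι])
  let m : pullback f (V₀.ι ≫ g) ⟶ pullback f g :=
    pullback.lift (pullback.fst _ _) (pullback.snd _ _ ≫ V₀.ι) (by rw [pullback.condition, Category.assoc])
  have sqm : IsPullback m (pullback.snd f (V₀.ι ≫ g)) (pullback.snd f g) V₀.ι := by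
    refine IsPullback.of_right ?_ (pullback.lift_snd _ _ _) (IsPullback.of_hasPullback f g)
    rw [pullback.lift_fst]
    exact IsPullback.of_hasPullback f (V₀.ι ≫ g)
  have sqO : IsPullback (m ∣_ O) ((m ⁻¹ᵁ O).ι ≫ pullback.snd f (V₀.ι ≫ g)) (O.ι ≫ pullback.snd f g) V₀.ι :=
    (isPullback_morphismRestrict m O).paste_vert sqm
  refine ⟨V₀, V₀.ι ≫ g, inferInstance, η₀, by rw [← Category.assoc, hη₀, hη'], m ⁻¹ᵁ O,
    ⟨MorphismProperty.of_isPullback sqO hfin, ⟨fun v => ?_⟩⟩, fun s' => ?_⟩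
  · obtain ⟨w, hw⟩ := v.2
    obtain ⟨z, -, hz⟩ := exists_point_over sqO w v hw
    exact ⟨z, hz⟩
  let t : Pts (pullback.snd f g) η' := ⟨s'.1 ≫ m, by
    rw [Category.assoc, sqm.w, ← Category.assoc, s'.2, hη₀]⟩
  have ht : t.1 ≫ pullback.fst f g = s'.1 ≫ pullback.fst f (V₀.ι ≫ g) := by
    change (s'.1 ≫ m) ≫ _ = _
    rw [Category.assoc, pullback.lift_fst]
  change pt t.1 ∈ O ↔ _
  rw [← ht]
  constructor
  · intro h
    obtain ⟨s, hs⟩ := Opens.mem_iSup.1 h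
    obtain ⟨a, ha⟩ := exists_lift_open' (D s).C.lift t.1 hs
    have e := (D s).unique ⟨a, by rw [← Chart.lift_snd (D s).C, ← Category.assoc, ha, t.2]⟩
    refine ⟨s.1, s.2, ?_⟩
    rw [← ha, Category.assoc, Chart.lift_fst, ← (D s).p_a, ← e]
  · rintro ⟨s, hs, e⟩
    have e' : t.1 = (D ⟨s, hs⟩).p.1 ≫ (D ⟨s, hs⟩).C.lift := pullback.hom_ext
      (by rw [e, Category.assoc, Chart.lift_fst, (D ⟨s, hs⟩).p_a])
      (by rw [t.2, Category.assoc, Chart.lift_snd, (D ⟨s, hs⟩).p.2])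
    rw [e']
    exact Opens.mem_iSup.2 ⟨⟨s, hs⟩, ⟨_, rfl⟩⟩

end Geometric

end Groth.Agent.H12AlgSp
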