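import Groth.Agent.H13AlgSp.DecentCriteria
import Groth.Agent.H13AlgSp.DecentDense
import Groth.Agent.H13AlgSp.CodimZeroScheme

/-!
Algebraic spaces with a finite etale cover by a scheme are decent.
-/

universe u

open CategoryTheory CategoryTheory.Limits AlgebraicGeometry Opposite MorphismProperty
open AlgSp Groth.Agent.H13AlgSp

namespace Groth.Agent.H12AlgSp

/-- A locally quasi-finite morphism out of a quasi-compact scheme has finite fibres. -/
theorem finite_preimage_of_compactSpace {P U : Scheme.{u}} (f : P ⟶ U) [CompactSpace P]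
    [LocallyQuasiFinite f] (u : U) : (f ⁻¹' {u}).Finite := by
  have h : ∀ p : P, ∃ W : P.Opens, p ∈ W ∧ ((W : Set P) ∩ f ⁻¹' {u}).Finite := by
    intro p
    obtain ⟨O, hO, hpO, -⟩ := exists_isAffineOpen_mem_and_subset (U := (⊤ : U.Opens)) (x := f p) trivial
    obtain ⟨W, hW, hpW, hWO⟩ := exists_isAffineOpen_mem_and_subset (U := f ⁻¹ᵁ O) (x := p) hpO
    have : IsAffine (W : Scheme.{u}) := hW
    have : IsAffine (O : Scheme.{u}) := hO
    let g := f.resLE O W hWO
    refine ⟨W, hpW, ?_⟩
    have hg : QuasiCompact g := inferInstance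
    have hfin : ((g ≫ O.ι) ⁻¹' {u}).Finite := by
      rw [Scheme.Hom.comp_base, TopCat.coe_comp, Set.preimage_comp]
      exact Set.Finite.preimage' ((Set.finite_singleton u).preimage O.ι.injective.injOn)
        fun y _ => g.finite_preimage_singleton y
    rw [Scheme.Hom.resLE_comp_ι] at hfin
    refine (hfin.image W.ι).subset ?_
    rintro q ⟨hqW, hq⟩
    exact ⟨⟨q, hqW⟩, hq, rfl⟩
  choose W hW hfin using h
  obtain ⟨t, ht⟩ := isCompact_univ.elim_finite_subcover (fun p => (W p : Set P)) (fun p => (W p).2)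
    (fun q _ => Set.mem_iUnion.2 ⟨q, hW q⟩)
  refine (t.finite_toSet.biUnion fun p _ => hfin p).subset fun q hq => ?_
  obtain ⟨p, hp, hqp⟩ := Set.mem_iUnion₂.1 (ht (Set.mem_univ q))
  exact Set.mem_biUnion hp ⟨hqp, hq⟩

variable {S : Scheme.{u}}

/-- An algebraic space with a finite etale surjection from a scheme is decent. -/
theorem isDecent_of_finite_etale_cover {X : Sp S} (hX : IsAlgSpace X) {U : Over S}
    {a : (yon S).obj U ⟶ X} (hf : RepWith @IsFinite a) (he : RepWith @Etale a) (hs : RepWith @Surjective a) :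
    IsDecent X := by
  intro x
  obtain ⟨u, rfl⟩ := surjective_ofPt_of_repWith le_rfl hs x
  refine exists_mono_qc_of_qc hX (FieldPt.ofPt a u) ?_
  rw [toHom_ofPt_chartPt]
  refine repWith_qc_of_finite_charts hX _ fun V b hV hb W fst w sq => ?_
  obtain ⟨f, rfl⟩ := (yon S).map_surjective fst
  obtain ⟨P, snd, fst', sqP⟩ := hf.1 b
  obtain ⟨g, rfl⟩ := (yon S).map_surjective fst'
  have : IsFinite snd.left := hf.2 _ _ _ sqP
  have : IsAffine V.left := hV
  have : IsAffine P.left := isAffine_of_isAffineHom snd.left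
  have : Etale g.left := hb.2 a _ _ sqP.flip
  have : LocallyQuasiFinite g.left := lqf_of_etale g.left
  let iu : Over.mk (U.left.fromSpecResidueField u ≫ U.hom) ⟶ U :=
    Over.homMk (U.left.fromSpecResidueField u) rfl
  let l := sqP.flip.lift ((yon S).map f) ((yon S).map w ≫ (yon S).map iu) (by
    rw [Category.assoc]; exact sq.w)
  obtain ⟨l', hl⟩ := (yon S).map_surjective l
  have h1 : l' ≫ snd = f := (yon S).map_injective (by
    rw [Functor.map_comp, hl]; exact sqP.flip.lift_fst _ _ _)
  have h2 : l' ≫ g = w ≫ iu := (yon S).map_injective (by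
    rw [Functor.map_comp, hl, Functor.map_comp]; exact sqP.flip.lift_snd _ _ _)
  have sq2 : IsPullback ((yon S).map l') ((yon S).map w) ((yon S).map g) ((yon S).map iu) :=
    IsPullback.of_right (by rw [← Functor.map_comp, h1]; exact sq)
      (by rw [← Functor.map_comp, ← Functor.map_comp, h2]) sqP.flip
  have sq3 := (IsPullback.of_map (yon S) ((yon S).map_injective (by simpa using sq2.w)) sq2).map (Over.forget S)
  have : IsPreimmersion iu.left := inferInstanceAs (IsPreimmersion (U.left.fromSpecResidueField u))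
  have : IsPreimmersion l'.left := MorphismProperty.of_isPullback (P := @IsPreimmersion) sq3.flip this
  have hsub : Set.range l'.left ⊆ g.left ⁻¹' {u} := by
    rintro _ ⟨z, rfl⟩
    show g.left (l'.left z) = u
    rw [← Scheme.Hom.comp_apply]
    rw [show l'.left ≫ g.left = w.left ≫ iu.left from congrArg (fun t => Over.Hom.left t) h2,
      Scheme.Hom.comp_apply]
    exact Scheme.fromSpecResidueField_apply _ _
  have hfin := (finite_preimage_of_compactSpace g.left u).subset hsub
  have := hfin.to_subtype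
  exact Finite.of_injective _ (Set.rangeFactorization_injective.2 l'.left.isEmbedding.injective)

/-- The open subscheme of a space with a finite etale cover by a quasi-separated scheme. -/
theorem exists_dense_open_subscheme_finite_etale (X : Space S) {U : Over S} (a : (yon S).obj U ⟶ X.obj)
    (hf : RepWith @IsFinite a) (he : RepWith @Etale a) (hs : RepWith @Surjective a)
    [QuasiSeparatedSpace U.left] :
    ∃ (X' : Space S) (j : X' ⟶ X), RepWith @IsOpenImmersion j.hom ∧ X'.obj.obj.IsRepresentable ∧
      Dense (Set.range (Points.map j.hom)) ∧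
      ∀ x : Points X.obj, HasAt (fun U u => ringKrullDim ↥(U.presheaf.stalk u) = 0) X.obj x →
        x ∈ Set.range (Points.map j.hom) := by
  obtain ⟨X', j, hj, hrep, hmax⟩ := exists_largest_open_subscheme X
  have hle : ∀ (X'' : Space S) (j'' : X'' ⟶ X), RepWith @IsOpenImmersion j''.hom →
      X''.obj.obj.IsRepresentable → Set.range (Points.map j''.hom) ⊆ Set.range (Points.map j.hom) := by
    intro X'' j'' hj'' hrep''
    obtain ⟨k, hk⟩ := hmax X'' j'' hj'' hrep''
    rintro _ ⟨z, rfl⟩
    refine ⟨Points.map k.hom z, ?_⟩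
    rw [← Points.map_comp]
    exact congrArg (fun g => Points.map g z) (congrArg InducedCategory.Hom.hom hk)
  refine ⟨X', j, hj, hrep, ?_, fun x hx => ?_⟩
  · obtain ⟨X'', j'', hj'', hrep'', hd⟩ :=
      exists_dense_open_subscheme X (isDecent_of_finite_etale_cover X.property hf he hs)
    exact hd.mono (hle X'' j'' hj'' hrep'')
  obtain ⟨u₀, rfl⟩ := surjective_ofPt_of_repWith le_rfl hs x
  obtain ⟨O, hO, hu, -⟩ := exists_isAffineOpen_mem_and_subset (U := (⊤ : U.left.Opens)) (x := u₀) trivial
  let V : Over S := Over.mk (O.ι ≫ U.hom)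
  have : IsAffine V.left := hO
  let jO : V ⟶ U := Over.homMk O.ι
  have hjE : Etale jO.left := inferInstanceAs (Etale O.ι)
  have hjQ : QuasiCompact jO.left := by
    change QuasiCompact O.ι
    refine quasiCompact_iff_forall_isAffineOpen.2 fun W hW => ?_
    rw [O.ι.isOpenEmbedding.isInducing.isCompact_iff]
    change IsCompact (O.ι '' (O.ι ⁻¹' (W : Set U.left)))
    rw [Set.image_preimage_eq_inter_range, O.range_ι]
    exact hW.isCompact.inter_of_isOpen hO.isCompact W.2 O.2
  let b : (yon S).obj V ⟶ X.obj := (yon S).map jO ≫ a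
  have hb : RepWith @Etale b := MorphismProperty.comp_mem _ _ _ ((repWith_yon_map_iff _ _).2 hjE) he
  have hbq : RepWith @QuasiCompact b := MorphismProperty.comp_mem _ _ _ ((repWith_yon_map_iff _ _).2 hjQ)
    (repWith_le (Q := @QuasiCompact) (fun _ _ k (_ : IsFinite k) => inferInstance) hf)
  obtain ⟨R, s, t', sq⟩ := hb.1 b
  obtain ⟨t, rfl⟩ := (yon S).map_surjective t'
  have hc : QuasiCompact s.left := hbq.2 b _ s sq
  have hux : Points.ofPt b (⟨u₀, hu⟩ : V.left) = Points.ofPt a u₀ := ofPt_map jO a _
  obtain ⟨W, Y, μ, hμ, hW, hmem⟩ := exists_open_scheme_at_generic X.property hb sq hc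
    ((codimZero_iff_mem_genericPoints X.property hb _).1 (hux.symm ▸ hx))
  obtain ⟨X'', j'', hj'', hrep'', hr⟩ := exists_subspace_of_open_scheme X hW μ
  exact hle X'' j'' hj'' hrep'' (hr ▸ hux ▸ hmem)

end Groth.Agent.H12AlgSp
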