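import Groth.Agent.H12AlgSp.Descend
import Mathlib.RingTheory.Etale.Field
import Mathlib.AlgebraicGeometry.Morphisms.Etale

/-!
Lifts in the valuative criterion after finite separable extensions.
-/

set_option linter.unusedVariables false

universe u

open CategoryTheory CategoryTheory.Limits AlgebraicGeometry Opposite Topology IsLocalRing
open AlgSp

namespace Groth.Agent.H12AlgSp

open RPt

/-- A point of an etale algebra over a field factors through a finite separable extension. -/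
theorem exists_finite_separable_factor {K L Γ : Type u} [Field K] [Field L] [CommRing Γ] (ρ : K →+* Γ)
    (hρ : ρ.Etale) (γ : Γ →+* L) :
    ∃ (F : Type u) (_ : Field F) (γF : Γ →+* F) (i : F →+* L), i.comp γF = γ ∧
      (letI := (γF.comp ρ).toAlgebra; Module.Finite K F ∧ Algebra.IsSeparable K F) := by
  let := ρ.toAlgebra
  let := (γ.comp ρ).toAlgebra
  have : Algebra.Etale K Γ := hρ
  have : Module.Finite K Γ := Algebra.FormallyUnramified.finite_of_free K Γ
  let g : Γ →ₐ[K] L := ⟨γ, fun _ => rfl⟩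
  have : Module.Finite K g.range := Module.Finite.of_surjective g.rangeRestrict.toLinearMap g.rangeRestrict_surjective
  have hfield : IsField g.range := by
    exact isField_of_isIntegral_of_isField' (R := K) (Field.toIsField K)
  let := hfield.toField
  have : Algebra.FormallyUnramified K g.range :=
    Algebra.FormallyUnramified.of_surjective g.rangeRestrict g.rangeRestrict_surjective
  refine ⟨g.range, hfield.toField, g.rangeRestrict.toRingHom, g.range.val.toRingHom, rfl, ?_⟩
  have halg : (g.rangeRestrict.toRingHom.comp ρ).toAlgebra = (inferInstance : Algebra K g.range) :=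
    Algebra.algebra_ext _ _ fun k => g.rangeRestrict.commutes k
  rw [halg]
  exact ⟨inferInstance, Algebra.FormallyUnramified.isSeparable K g.range⟩

variable {S : Scheme.{u}} {X Y : Sp S}

theorem exists_lift_of_pullback {R : Type u} [CommRing R] {P A B C : Sp S} {k₂ : P ⟶ A} {k₁ : P ⟶ B}
    {f : A ⟶ C} {g : B ⟶ C} (sq : IsPullback k₂ k₁ f g) (p : RPt A R) (q : RPt B R)
    (e : post f p = post g q) : ∃ r : RPt P R, post k₂ r = p ∧ post k₁ r = q := by
  obtain ⟨s, x⟩ := p
  obtain ⟨s', y⟩ := q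
  simp only [post] at e
  injection e with e₁ e₂
  subst e₁
  obtain ⟨r, h₁, h₂⟩ := sq.exists_lift x y (eq_of_heq e₂)
  exact ⟨⟨s, r⟩, congrArg (RPt.mk s) h₁, congrArg (RPt.mk s) h₂⟩

theorem eq_post_top {f : X ⟶ Y} (v : ValSq f) :
    (⟨_, v.top⟩ : RPt X v.K) = post v.top (ofSch (O := v.ptK) (R := v.K) (𝟙 _)) := by
  refine RPt.ext' (Category.id_comp _).symm ?_
  simp only [post, ofSch]
  rw [← Functor.map_comp_assoc]
  refine Eq.trans (congrArg (· ≫ v.top) (congrArg (yon S).map
    (show _ = 𝟙 v.ptK from Over.OverMorphism.ext (Category.id_comp _)))) ?_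
  exact (congrArg (· ≫ v.top) ((yon S).map_id _)).trans (Category.id_comp _)

theorem eq_post_bot {f : X ⟶ Y} (v : ValSq f) :
    (⟨_, v.bot⟩ : RPt Y v.A) = post v.bot (ofSch (O := v.ptA) (R := v.A) (𝟙 _)) := by
  refine RPt.ext' (Category.id_comp _).symm ?_
  simp only [post, ofSch]
  rw [← Functor.map_comp_assoc]
  refine Eq.trans (congrArg (· ≫ v.bot) (congrArg (yon S).map
    (show _ = 𝟙 v.ptA from Over.OverMorphism.ext (Category.id_comp _)))) ?_
  exact (congrArg (· ≫ v.bot) ((yon S).map_id _)).trans (Category.id_comp _)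

/-- A lift after an extension lifts to an affine chart after a further extension. -/
theorem exists_chart_lift (hX : IsAlgSpace X) {f : X ⟶ Y} (v : ValSq f) (e : v.DomExt) (he : e.HasLift) :
    ∃ (O : Over S) (ao : (yon S).obj O ⟶ X) (_ : IsAffine O.left) (e' : v.DomExt)
      (q : RPt ((yon S).obj O) e'.A'), RepWith @Etale ao ∧
        post ao (res (algebraMap e'.A' e'.K') q) = res e'.ψ ⟨_, v.top⟩ ∧
        post f (post ao q) = res e'.φ ⟨_, v.bot⟩ := by
  obtain ⟨l, hl₁, hl₂⟩ := (domExt_hasLift_iff e).1 he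
  obtain ⟨ι₀, T, a, hT, hae, hao, hac⟩ := exists_affine_family hX
  obtain ⟨i₀, hi₀⟩ := hac (Points.ofPt l.hom (closedPoint e.A' : ↥(Spec (CommRingCat.of e.A'))))
  have hfl : LocP @Flat (a i₀) := locP_of_repWith etLocal_flat
    (repWith_le (fun _ _ k (_ : Etale k) => inferInstanceAs (Flat k)) (hae i₀))
  obtain ⟨A'', _, _, _, φ', hφinj, hφloc, l'', hl''⟩ :=
    exists_lift_valuation_of_flat (IsAlgSpace.yon_obj _) hX hfl e.A' l.str l.hom hi₀
  let q : RPt ((yon S).obj (T i₀)) A'' := ⟨_, l''⟩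
  have hq : post (a i₀) q = res φ' l := congrArg (RPt.mk _) hl''
  have hinj : Function.Injective ((algebraMap A'' (FractionRing A'')).comp φ') :=
    (IsFractionRing.injective A'' (FractionRing A'')).comp hφinj
  obtain ⟨ψ', hψ'⟩ : ∃ ψ' : e.K' →+* FractionRing A'',
      (algebraMap A'' (FractionRing A'')).comp φ' = ψ'.comp (algebraMap e.A' e.K') := by
    refine ⟨IsFractionRing.lift (A := e.A') (K := e.K') hinj, RingHom.ext fun x => ?_⟩
    rw [RingHom.comp_apply, RingHom.comp_apply, IsFractionRing.lift_algebraMap]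
    rfl
  have := e.isLocalHom
  let e' : v.DomExt :=
    { A' := A'', K' := FractionRing A'', φ := φ'.comp e.φ, ψ := ψ'.comp e.ψ
      comm := by rw [← RingHom.comp_assoc, hψ', RingHom.comp_assoc, e.comm, RingHom.comp_assoc]
      isLocalHom := RingHom.isLocalHom_comp φ' e.φ }
  refine ⟨T i₀, a i₀, hT i₀, e', q, hae i₀, ?_, ?_⟩
  · change post (a i₀) (res (algebraMap A'' (FractionRing A'')) q) = res (ψ'.comp e.ψ) _
    rw [post_res, hq, res_res, hψ', ← res_res, hl₁, res_res]
  · change post f (post (a i₀) q) = res (φ'.comp e.φ) _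
    rw [hq, post_res, hl₂, res_res]

/-- A field-valued point of a chart over a point of the space descends to a finite separable extension. -/
theorem exists_separable_point (hX : IsAlgSpace X) {f : X ⟶ Y} (v : ValSq f) {O : Over S}
    {ao : (yon S).obj O ⟶ X} (hoe : RepWith @Etale ao) {L : Type u} [Field L] (ψ : v.K →+* L)
    (p : RPt ((yon S).obj O) L) (hp : post ao p = res ψ ⟨_, v.top⟩) :
    ∃ (F : Type u) (_ : Field F) (ψ₁ : v.K →+* F) (iF : F →+* L) (pF : RPt ((yon S).obj O) F),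
      iF.comp ψ₁ = ψ ∧ res iF pF = p ∧ post ao pF = res ψ₁ ⟨_, v.top⟩ ∧
      (letI := ψ₁.toAlgebra; Module.Finite v.K F ∧ Algebra.IsSeparable v.K F) := by
  obtain ⟨W', k₁, k₂, sqW⟩ := (hX.representable_from_yon ao) v.top
  obtain ⟨k₂, rfl⟩ := (yon S).map_surjective k₂
  have hWe : Etale k₁.left := hoe.property _ _ k₁ sqW
  obtain ⟨r, hr₂, hr₁⟩ := exists_lift_of_pullback sqW p (res ψ (ofSch (O := v.ptK) (R := v.K) (𝟙 _))) (by
    rw [hp, eq_post_top, post_res])
  obtain ⟨x, rfl⟩ := exists_eq_ofSch r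
  obtain ⟨U', hU', hxU⟩ : ∃ U' : W'.left.Opens, IsAffineOpen U' ∧ x (closedPoint L) ∈ U' :=
    let ⟨U, hU, hx, _⟩ := TopologicalSpace.Opens.isBasis_iff_nbhd.mp W'.left.isBasis_affineOpens
      (TopologicalSpace.Opens.mem_top (x (closedPoint L)))
    ⟨U, hU, hx⟩
  have : IsAffine U'.toScheme := hU'
  obtain ⟨y, hy⟩ : ∃ y : Spec (CommRingCat.of L) ⟶ U'.toScheme, y ≫ U'.ι = x := by
    refine ⟨IsOpenImmersion.lift U'.ι x ?_, IsOpenImmersion.lift_fac _ _ _⟩
    rintro _ ⟨z, rfl⟩
    have : z = closedPoint L := Subsingleton.elim _ _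
    rw [this]
    simpa using hxU
  obtain ⟨ρ, hρ⟩ := Spec.map_surjective (R := CommRingCat.of v.K) (S := Γ(U'.toScheme, ⊤))
    (U'.toScheme.isoSpec.inv ≫ U'.ι ≫ k₁.left)
  have hρe : ρ.hom.Etale := by
    refine (HasRingHomProperty.Spec_iff (P := @Etale)).1 ?_
    rw [hρ]
    exact inferInstanceAs (Etale (U'.toScheme.isoSpec.inv ≫ U'.ι ≫ k₁.left))
  obtain ⟨F, _, γF, iF, hγ, hfin⟩ := exists_finite_separable_factor ρ.hom hρe (rmap y)
  let uF : RPt ((yon S).obj W') F := ofSch (ofRmap γF ≫ U'.ι)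
  have e0 : Spec.map (CommRingCat.ofHom iF) ≫ ofRmap γF ≫ U'.ι = x := by
    have e1 : Spec.map (CommRingCat.ofHom iF) ≫ ofRmap γF = y := by
      refine rmap_ext ?_
      rw [rmap_comp, rmap_ofRmap, hγ]
    rw [reassoc_of% e1, hy]
  have e2 : (ofRmap γF ≫ U'.ι) ≫ k₁.left = Spec.map (CommRingCat.ofHom (γF.comp ρ.hom)) := by
    rw [specMap_comp, CommRingCat.ofHom_hom, hρ]
    simp only [ofRmap, Category.assoc]
  refine ⟨F, inferInstance, γF.comp ρ.hom, iF, post ((yon S).map k₂) uF, ?_, ?_, ?_, hfin⟩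
  · have h1 : Spec.map (CommRingCat.ofHom ψ) = x ≫ k₁.left := by
      refine ofSch_injective (O := v.ptK) ?_
      rw [res_ofSch, Category.comp_id] at hr₁
      rw [← hr₁, post_ofSch]
    have h2 : Spec.map (CommRingCat.ofHom (iF.comp (γF.comp ρ.hom))) = x ≫ k₁.left := by
      rw [specMap_comp, ← e2, ← e0]
      simp only [Category.assoc]
    exact congrArg CommRingCat.Hom.hom (Spec.map_injective (h2.trans h1.symm))
  · rw [← post_res, res_ofSch, e0, hr₂]
  · rw [eq_post_top, ← post_res, res_ofSch, Category.comp_id, post_post, sqW.w, ← post_post, post_ofSch, e2]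

theorem isLocalHom_comap_inclusion {F L : Type u} [Field F] [Field L] (i : F →+* L) (C : ValuationSubring L) :
    IsLocalHom ((i.comp (C.comap i).subtype).codRestrict C.toSubring fun z => z.2) := by
  refine ⟨fun z hz => ?_⟩
  obtain ⟨w, hw⟩ := hz
  have he := congrArg (fun t : C => (t : L)) w.mul_inv
  simp only [MulMemClass.coe_mul, hw, OneMemClass.coe_one] at he
  change i (z : F) * _ = 1 at he
  have h2 : i ((z : F)⁻¹) ∈ C := by
    rw [map_inv₀]
    exact (eq_inv_of_mul_eq_one_right he).symm ▸ SetLike.coe_mem _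
  have h3 : (z : F) ≠ 0 := fun h0 => by
    rw [h0, map_zero, zero_mul] at he
    exact zero_ne_one he
  exact IsUnit.of_mul_eq_one (⟨(z : F)⁻¹, h2⟩ : C.comap i) (Subtype.ext (mul_inv_cancel₀ h3))

/-- A lift after an extension gives a lift after a finite separable extension. -/
theorem exists_finite_separable_lift (hX : IsAlgSpace X) (hY : IsAlgSpace Y) {f : X ⟶ Y} (v : ValSq f)
    (e : v.DomExt) (he : e.HasLift) :
    ∃ e' : v.DomExt, (letI := e'.ψ.toAlgebra; Module.Finite v.K e'.K' ∧ Algebra.IsSeparable v.K e'.K') ∧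
      e'.HasLift := by
  obtain ⟨O, ao, hO, e₀, q, hoe, hgen, hq⟩ := exists_chart_lift hX v e he
  have := e₀.isLocalHom
  obtain ⟨F, _, ψ₁, iF, pF, hψ, hpF, hpF₀, hfin⟩ :=
    exists_separable_point hX v hoe e₀.ψ (res (algebraMap e₀.A' e₀.K') q) hgen
  let C := rangeValuationSubring e₀.A' e₀.K'
  let A₁ : ValuationSubring F := C.comap iF
  have hA₁ : ∀ z, ψ₁ z ∈ A₁ ↔ z ∈ rangeValuationSubring v.A v.K := fun z => by
    change iF (ψ₁ z) ∈ C ↔ _
    rw [show iF (ψ₁ z) = e₀.ψ z from RingHom.congr_fun hψ z]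
    exact mem_rangeValuationSubring_iff_of_isLocalHom e₀.φ e₀.ψ e₀.comm z
  let φ₁ : v.A →+* A₁ := (ψ₁.comp (algebraMap v.A v.K)).codRestrict A₁.toSubring fun z => (hA₁ _).2 ⟨z, rfl⟩
  have hρ₁ : ∀ r, vr pF r ∈ A₁ := fun r => by
    change iF (vr pF r) ∈ C
    rw [← RingHom.comp_apply, ← vr_res, hpF, vr_res]
    exact ⟨_, rfl⟩
  obtain ⟨q₁, hq₁⟩ : ∃ q₁ : RPt ((yon S).obj O) A₁, res (algebraMap A₁ F) q₁ = pF := by
    refine ⟨ofSch (ofRmap ((vr pF).codRestrict A₁.toSubring hρ₁)), vr_ext ?_⟩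
    rw [vr_res]
    simp only [vr, toSch_ofSch, rmap_ofRmap]
    rfl
  let e' : v.DomExt :=
    { A' := A₁, K' := F, φ := φ₁, ψ := ψ₁, comm := rfl, isLocalHom := isLocalHom_codRestrict A₁ ψ₁ hA₁ _ }
  refine ⟨e', hfin, (domExt_hasLift_iff e').2 ⟨post ao q₁, ?_, ?_⟩⟩
  · change res (algebraMap A₁ F) (post ao q₁) = res ψ₁ _
    rw [← post_res, hq₁, hpF₀]
  · let j : A₁ →+* C := (iF.comp A₁.subtype).codRestrict C.toSubring fun z => z.2
    have : IsLocalHom j := isLocalHom_comap_inclusion iF C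
    refine eq_of_res_faithfullyFlat hY (faithfullyFlat_of_isLocalHom j
      (fun z w hzw => Subtype.ext (iF.injective (congrArg (fun t : C => (t : e₀.K')) hzw)))) ?_
    let E : e₀.A' →+* C := (algebraMap e₀.A' e₀.K').codRestrict C.toSubring fun z => ⟨z, rfl⟩
    have hE : res j q₁ = res E q := by
      refine eq_of_res_injective (g := algebraMap C e₀.K') Subtype.val_injective ?_
      rw [res_res, res_res, show (algebraMap C e₀.K').comp j = iF.comp (algebraMap A₁ F) from rfl,
        show (algebraMap C e₀.K').comp E = algebraMap e₀.A' e₀.K' from rfl, ← res_res, hq₁, hpF]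
    change res j (post f (post ao q₁)) = res j (res φ₁ _)
    rw [← post_res, ← post_res, hE, post_res, post_res, hq, res_res, res_res]
    congr 1
    exact RingHom.ext fun z => Subtype.ext
      ((RingHom.congr_fun e₀.comm z).trans (RingHom.congr_fun hψ (algebraMap v.A v.K z)).symm)

end Groth.Agent.H12AlgSp
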