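import Groth.Agent.H12AlgSp.DecentField
import Groth.Agent.H13AlgSp.EtaleLocally
import Groth.Agent.H17.FieldFiniteType
import Mathlib.AlgebraicGeometry.Morphisms.FiniteType

/-!
Finite type points of algebraic spaces.
-/

universe u

open CategoryTheory CategoryTheory.Limits AlgebraicGeometry Opposite Topology
open AlgSp Groth.Agent.H13AlgSp

namespace Groth.Agent.H12AlgSp

/-- The kernel of a finite type map to a field is maximal away from one element. -/
theorem exists_away_maximal {A K : Type*} [CommRing A] [Field K] (φ : A →+* K) (hφ : φ.FiniteType) :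
    ∃ c : A, φ c ≠ 0 ∧ ∀ Q : Ideal A, Q.IsPrime → RingHom.ker φ ≤ Q → c ∉ Q → Q = RingHom.ker φ := by
  obtain ⟨c, hc, hint⟩ := Groth.Agent.H17.exists_notMem_ker_forall_isIntegralElem φ hφ
  refine ⟨c, hc, fun Q hQ hle hcQ => le_antisymm (fun a ha => ?_) hle⟩
  by_contra hna
  let l : Localization.Away c →+* K := IsLocalization.Away.lift c (g := φ) (Ne.isUnit hc)
  have hl : ∀ a, l (algebraMap A _ a) = φ a := fun a => IsLocalization.Away.lift_eq c (Ne.isUnit hc) a
  let R : Subring K := l.range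
  have hmem : ∀ a, φ a ∈ R := fun a => ⟨algebraMap A _ a, hl a⟩
  have : Algebra.IsIntegral R K := ⟨fun z => by
    obtain ⟨n, hn⟩ := hint z
    have hcom : (algebraMap R K).comp (φ.codRestrict R hmem) = φ := rfl
    have h1 : IsIntegral R (φ c ^ n * z) := by
      have hn' : ((algebraMap R K).comp (φ.codRestrict R hmem)).IsIntegralElem (φ c ^ n * z) := by
        rw [hcom]; exact hn
      exact RingHom.IsIntegralElem.of_comp hn'
    have hinv : (φ c ^ n)⁻¹ ∈ R := ⟨IsLocalization.Away.invSelf c ^ n, by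
      refine eq_inv_of_mul_eq_one_left ?_
      rw [map_pow, ← hl c, ← mul_pow, ← map_mul, mul_comm, IsLocalization.Away.mul_invSelf, map_one, one_pow]⟩
    have h2 := (isIntegral_algebraMap (R := R) (A := K) (x := ⟨_, hinv⟩)).mul h1
    change IsIntegral R ((φ c ^ n)⁻¹ * (φ c ^ n * z)) at h2
    rwa [inv_mul_cancel_left₀ (pow_ne_zero n hc)] at h2⟩
  have hF : IsField R := isField_of_isIntegral_of_isField (R := R) (S := K) Subtype.val_injective
    (Field.toIsField K)
  have hne : (⟨φ a, hmem a⟩ : R) ≠ 0 := fun h => hna (congrArg Subtype.val h)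
  obtain ⟨⟨_, w, rfl⟩, hb⟩ := hF.mul_inv_cancel hne
  obtain ⟨n, b, hw⟩ := IsLocalization.Away.surj c w
  have h3 : φ a * φ b = φ c ^ n := by
    have := congrArg l hw
    rw [map_mul, map_pow, hl, hl] at this
    have hb' : φ a * l w = 1 := congrArg Subtype.val hb
    rw [← this, ← mul_assoc, hb', one_mul]
  have h4 : a * b - c ^ n ∈ Q := hle (by rw [RingHom.mem_ker, map_sub, map_mul, map_pow, h3, sub_self])
  exact hcQ (hQ.mem_of_pow_mem n ((Submodule.sub_mem_iff_right Q (Q.mul_mem_right b ha)).1 h4))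

/-- The image of a finite type map from the spectrum of a field is closed in a neighbourhood. -/
theorem exists_open_closed_of_lft {U : Scheme.{u}} {K : Type u} [Field K] (g : Spec (CommRingCat.of K) ⟶ U)
    [LocallyOfFiniteType g] (z : Spec (CommRingCat.of K)) :
    ∃ O : U.Opens, g z ∈ O ∧ ∀ v ∈ O, g z ⤳ v → v = g z := by
  obtain ⟨A, hA, hzA, -⟩ := TopologicalSpace.Opens.isBasis_iff_nbhd.mp U.isBasis_affineOpens
    (TopologicalSpace.Opens.mem_top (g z))
  have hg : Set.range g ⊆ Set.range hA.fromSpec := by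
    rw [hA.range_fromSpec]
    rintro _ ⟨y, rfl⟩
    rw [Subsingleton.elim (α := ↥(Spec (CommRingCat.of K))) y z]
    exact hzA
  let h := IsOpenImmersion.lift hA.fromSpec g hg
  have hh : h ≫ hA.fromSpec = g := IsOpenImmersion.lift_fac _ _ _
  have : LocallyOfFiniteType (h ≫ hA.fromSpec) := by rw [hh]; infer_instance
  have hl : LocallyOfFiniteType h := locallyOfFiniteType_of_comp h hA.fromSpec
  let φ := Spec.preimage h
  have hφ : φ.hom.FiniteType :=
    (HasRingHomProperty.Spec_iff (P := @LocallyOfFiniteType)).mp (by rw [Spec.map_preimage]; exact hl)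
  obtain ⟨c, hc, hmax⟩ := exists_away_maximal φ.hom hφ
  have hz : (h z).asIdeal = RingHom.ker φ.hom := by
    have hbot : z.asIdeal = ⊥ := (Ideal.eq_bot_or_top z.asIdeal).resolve_right z.2.ne_top
    rw [← Spec.map_preimage h]
    change z.asIdeal.comap φ.hom = _
    rw [hbot]
    rfl
  let D : (Spec Γ(U, A)).Opens := PrimeSpectrum.basicOpen c
  have hzD : h z ∈ D := show c ∉ (h z).asIdeal by rw [hz]; exact hc
  refine ⟨hA.fromSpec ''ᵁ D, ⟨h z, hzD, congr($hh z)⟩, ?_⟩
  rintro _ ⟨q, hqD, rfl⟩ hs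
  rw [← hh, Scheme.Hom.comp_apply] at hs ⊢
  have hs' : h z ⤳ q := hA.fromSpec.isEmbedding.toIsInducing.specializes_iff.1 hs
  have hle : (h z).asIdeal ≤ q.asIdeal := (PrimeSpectrum.le_iff_specializes _ _).2 hs'
  exact congrArg _ (PrimeSpectrum.ext ((hmax q.asIdeal q.2 (hz ▸ hle) hqD).trans hz.symm))

variable {S : Scheme.{u}}

/-- A point closed in an open of an etale chart gives a finite type point. -/
theorem exists_lft_fieldPt_of_closed {X : Sp S} (hX : IsAlgSpace X) {U : Over S} {φ : (yon S).obj U ⟶ X}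
    (hφ : RepWith @Etale φ) {O : U.left.Opens} {u : U.left} (huO : u ∈ O) (hu : ∀ v ∈ O, u ⤳ v → v = u) :
    ∃ (k : Type u) (_ : Field k) (str : Spec (CommRingCat.of k) ⟶ S)
      (ξ : (yon S).obj (Over.mk str) ⟶ X), LocP @LocallyOfFiniteType ξ ∧
        Points.ofPt ξ (IsLocalRing.closedPoint k) = Points.ofPt φ u := by
  let u' : O.toScheme := ⟨u, huO⟩
  have hcl : IsClosed ({u'} : Set O.toScheme) := by
    refine closure_subset_iff_isClosed.1 fun v hv => Set.mem_singleton_iff.2 (Subtype.ext ?_)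
    exact hu v.1 v.2 ((specializes_iff_mem_closure.2 hv).map continuous_subtype_val)
  let g₀ := O.toScheme.fromSpecResidueField u'
  have : IsClosedImmersion g₀ :=
    isClosed_singleton_iff_isClosedImmersion.1 hcl
  let V := openOver U O
  let j : Over.mk (g₀ ≫ V.hom) ⟶ V := Over.homMk g₀ rfl
  refine ⟨O.toScheme.residueField u', inferInstance, g₀ ≫ V.hom,
    (yon S).map j ≫ (yon S).map (openIncl U O) ≫ φ, ?_, ?_⟩
  · refine locP_comp etLocal_lft (IsAlgSpace.yon_obj _) (IsAlgSpace.yon_obj _) hX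
      (locP_of_repWith etLocal_lft ((repWith_yon_map_iff _ _).2 (inferInstanceAs (LocallyOfFiniteType g₀)))) ?_
    exact locP_of_repWith etLocal_lft (repWith_le (fun _ _ f (_ : Etale f) => inferInstanceAs (LocallyOfFiniteType f))
      (repWith_etale_openIncl hφ O))
  · rw [ofPt_map, ofPt_map]
    exact congrArg _ (congrArg Subtype.val (Scheme.fromSpecResidueField_apply (X := O.toScheme) u' _))

/-- Nonempty closed subsets of etale charts contain finite type points. -/
theorem exists_finiteTypePoint_of_locallyClosed_chart {X : Sp S} (hX : IsAlgSpace X) {U : Over S}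
    {φ : (yon S).obj U ⟶ X} (hφ : RepWith @Etale φ) {T : Set U.left} (hT : IsLocallyClosed T) (hne : T.Nonempty) :
    ∃ u ∈ T, ∃ (k : Type u) (_ : Field k) (str : Spec (CommRingCat.of k) ⟶ S)
      (ξ : (yon S).obj (Over.mk str) ⟶ X), LocP @LocallyOfFiniteType ξ ∧
        Points.ofPt ξ (IsLocalRing.closedPoint k) = Points.ofPt φ u := by
  obtain ⟨W, C, hW, hC, rfl⟩ := hT
  obtain ⟨u₀, hu₀W, hu₀C⟩ := hne
  obtain ⟨B, hB, huB, hBW⟩ := TopologicalSpace.Opens.isBasis_iff_nbhd.mp U.left.isBasis_affineOpens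
    (show u₀ ∈ (⟨W, hW⟩ : U.left.Opens) from hu₀W)
  have : IsAffine (openOver U B).left := hB
  obtain ⟨u, hu, hcl⟩ := (hC.preimage (openIncl U B).left.continuous).exists_closed_singleton
    ⟨(⟨u₀, huB⟩ : (openOver U B).left), hu₀C⟩
  refine ⟨u.1, ⟨hBW u.2, hu⟩, exists_lft_fieldPt_of_closed hX hφ u.2 fun v hv h => ?_⟩
  have h' : u ⤳ (⟨v, hv⟩ : (openOver U B).left) := (subtype_specializes_iff u ⟨v, hv⟩).2 h
  exact congrArg Subtype.val (hcl.closure_eq ▸ specializes_iff_mem_closure.1 h' :)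

/-- A finite type point is a closed point of an open of an etale chart. -/
theorem exists_closed_chart_of_lft_fieldPt {X : Sp S} (hX : IsAlgSpace X) {k : Type u} [Field k]
    {str : Spec (CommRingCat.of k) ⟶ S} {ξ : (yon S).obj (Over.mk str) ⟶ X} (hξ : LocP @LocallyOfFiniteType ξ) :
    ∃ (U : Over S) (φ : (yon S).obj U ⟶ X) (u : U.left), RepWith @Etale φ ∧
      IsClosed ({u} : Set U.left) ∧ Points.ofPt φ u = Points.ofPt ξ (IsLocalRing.closedPoint k) := by
  obtain ⟨V, a, ha, has⟩ := hX.atlas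
  obtain ⟨W, w, f', sq⟩ := ha.1 ξ
  obtain ⟨f, rfl⟩ := (yon S).map_surjective f'
  let w' : W.left ⟶ Spec (CommRingCat.of k) := w.left
  have : Etale w' := ha.2 ξ _ w sq
  have := lqf_of_etale w'
  obtain ⟨v₀, hv₀⟩ := surjective_ofPt_of_repWith le_rfl has (Points.ofPt ξ (IsLocalRing.closedPoint k))
  obtain ⟨z, hz, -⟩ := exists_point_of_isPullback sq (Points.ofScheme V v₀)
    (Points.ofScheme (Over.mk str) (IsLocalRing.closedPoint k))
    (by rw [← Points.ofPt_eq_map_ofScheme, ← Points.ofPt_eq_map_ofScheme, hv₀])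
  obtain ⟨z, rfl⟩ := (Points.schemeEquiv W).surjective z
  have hfz : f.left z = v₀ := by
    apply (Points.schemeEquiv V).injective
    refine Eq.trans ?_ hz
    change Points.ofScheme _ _ = Points.map _ (Points.ofScheme _ _)
    rw [← Points.ofPt_eq_map_ofScheme, ← Category.comp_id ((yon S).map f), ofPt_map]
  have hlf : LocallyOfFiniteType f.left :=
    hξ ((yon S).map w) a f ((repWith_yon_map_iff @Etale w).2 ‹Etale w'›) ha sq.w.symm
  have : IsLocallyArtinian W.left := IsLocallyArtinian.of_locallyQuasiFinite w'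
  have : IsClosedImmersion (W.left.fromSpecResidueField z) :=
    isClosed_singleton_iff_isClosedImmersion.1 (isClosed_discrete _)
  obtain ⟨O, hO, hmax⟩ := exists_open_closed_of_lft (K := W.left.residueField z)
    (W.left.fromSpecResidueField z ≫ f.left) (IsLocalRing.closedPoint _)
  rw [Scheme.Hom.comp_apply, Scheme.fromSpecResidueField_apply, hfz] at hO hmax
  refine ⟨openOver V O, (yon S).map (openIncl V O) ≫ a, ⟨v₀, hO⟩, repWith_etale_openIncl ha O, ?_, ?_⟩
  · refine closure_subset_iff_isClosed.1 fun v hv => Set.mem_singleton_iff.2 (Subtype.ext ?_)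
    exact hmax v.1 v.2 ((specializes_iff_mem_closure.2 hv).map continuous_subtype_val)
  · exact (ofPt_map (openIncl V O) a _).trans hv₀

theorem exists_finiteTypePoint_lift {X Y : Sp S} (hX : IsAlgSpace X) (hY : IsAlgSpace Y) {f : X ⟶ Y}
    (hs : IsSurjectiveMor f) {k : Type u} [Field k]
    {str : Spec (CommRingCat.of k) ⟶ S} {ξ : (yon S).obj (Over.mk str) ⟶ Y} (hξ : LocP @LocallyOfFiniteType ξ) :
    ∃ x : Points X, Points.map f x = Points.ofPt ξ (IsLocalRing.closedPoint k) ∧
      ∃ (k : Type u) (_ : Field k) (str : Spec (CommRingCat.of k) ⟶ S) (η : (yon S).obj (Over.mk str) ⟶ X),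
        LocP @LocallyOfFiniteType η ∧ Points.ofPt η (IsLocalRing.closedPoint k) = x := by
  obtain ⟨U, φ, u, hφ, hu, hux⟩ := exists_closed_chart_of_lft_fieldPt hY hξ
  obtain ⟨T, d, hde, hds⟩ := (isAlgSpace_pullback hY.diag hX (IsAlgSpace.yon_obj U) f φ).atlas
  obtain ⟨q, hq⟩ := (yon S).map_surjective (d ≫ pullback.snd f φ)
  obtain ⟨y, hy⟩ := hs (Points.ofPt φ u)
  obtain ⟨r, -, hr₂⟩ := exists_point_of_isPullback (IsPullback.of_hasPullback f φ) y (Points.ofScheme U u)
    (by rw [hy, ← Points.ofPt_eq_map_ofScheme])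
  obtain ⟨t, rfl⟩ := surjective_ofPt_of_repWith le_rfl hds r
  have htu : q.left t = u := by
    refine (Points.schemeEquiv U).injective (Eq.trans ?_ hr₂)
    rw [Points.map_ofPt, ← hq, ← Category.comp_id ((yon S).map q), ofPt_map]
    rfl
  have hd : RepWith @Etale (d ≫ pullback.fst f φ) :=
    repWith_comp hde (repWith_of_isPullback (IsPullback.of_hasPullback f φ).flip hφ)
  obtain ⟨w, hw, η⟩ := exists_finiteTypePoint_of_locallyClosed_chart hX hd
    ((hu.preimage q.left.continuous).isLocallyClosed) ⟨t, htu⟩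
  refine ⟨Points.ofPt (d ≫ pullback.fst f φ) w, ?_, η⟩
  rw [Points.map_ofPt, Category.assoc, pullback.condition, ← Category.assoc, ← hq, ofPt_map,
    show q.left w = u from hw, hux]

end Groth.Agent.H12AlgSp
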