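import Groth.Agent.H12AlgSp.Residual
import Groth.Agent.H12AlgSp.FiniteTypePoints
import Groth.Agent.H13AlgSp.FppfSource

/-!
Finite type points and monomorphisms from quotients of spectra of fields.
-/

universe u

open CategoryTheory CategoryTheory.Limits AlgebraicGeometry Opposite Topology
open AlgSp Groth.Agent.H13AlgSp Groth.Agent.H12AlgSp.Residual

set_option backward.isDefEq.respectTransparency false

namespace Groth.Agent.H12AlgSp

variable {S : Scheme.{u}}

theorem subsingleton_points_spec {k : Type u} [Field k] (str : Spec (CommRingCat.of k) ⟶ S) :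
    Subsingleton (Points ((yon S).obj (Over.mk str))) :=
  have : Subsingleton (Over.mk str).left := inferInstanceAs (Subsingleton (Spec (CommRingCat.of k)))
  (Points.schemeEquiv _).symm.subsingleton

/-- A finite type point is the image of a monomorphism, locally of finite type, from a quotient of the
spectrum of a field. -/
theorem exists_mono_etale_quotient {X : Space S} {k : Type u} [Field k] {str : Spec (CommRingCat.of k) ⟶ S}
    {ξ : (yon S).obj (Over.mk str) ⟶ X.obj} (hξ : LocP @LocallyOfFiniteType ξ) :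
    ∃ (Z : Space S) (f : Z ⟶ X) (k' : Type u) (_ : Field k') (str' : Spec (CommRingCat.of k') ⟶ S)
      (z : (yon S).obj (Over.mk str') ⟶ Z.obj), RepWith @Etale z ∧ RepWith @Surjective z ∧
      LocP @LocallyOfFiniteType f.hom ∧ Mono f.hom ∧
      Points.ofPt (z ≫ f.hom) (IsLocalRing.closedPoint k') = Points.ofPt ξ (IsLocalRing.closedPoint k) := by
  obtain ⟨U, φ, u, hφ, hu, hux⟩ := exists_closed_chart_of_lft_fieldPt X.property hξ
  obtain ⟨Z, i, p, hZ, hi, hr, hpi, hpl, hpf, hps⟩ := exists_residual_chart X.property hφ u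
  have hc : IsClosedImmersion (U.left.fromSpecResidueField u) :=
    isClosed_singleton_iff_isClosedImmersion.1 hu
  have hpil : LocP @LocallyOfFiniteType (p ≫ i) := by
    rw [hpi]
    exact locP_of_repWith etLocal_lft (repWith_comp
      ((repWith_yon_map_iff _ _).2 (inferInstanceAs (LocallyOfFiniteType (U.left.fromSpecResidueField u))))
      (repWith_le (fun _ _ g (_ : Etale g) => inferInstanceAs (LocallyOfFiniteType g)) hφ))
  obtain ⟨hn, hsub⟩ := subsingleton_points hps
  have hlft : LocP @LocallyOfFiniteType i :=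
    (isLocalOnSource_fppf_lft (ι := PUnit.{u + 1}) (fun _ => _) (fun _ => p) hZ
      (fun _ => IsAlgSpace.yon_obj _) ⟨fun _ => ⟨hpf, hpl⟩, fun x => ⟨⟨⟩, hps x⟩⟩ i X.property).2 fun _ => hpil
  obtain ⟨V, a, ha, has⟩ := hZ.atlas
  have hf := isField_stalk_chart hZ hpf hps ha
  have hdisc := discrete_chart hZ hpl hpf hps ha
  obtain ⟨v, -⟩ := surjective_ofPt_of_repWith le_rfl has hn.some
  have ho := isOpenImmersion_fromSpecResidueField v (isOpen_discrete _) (hf v)
  let ιv : Over.mk (V.left.fromSpecResidueField v ≫ V.hom) ⟶ V :=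
    Over.homMk (V.left.fromSpecResidueField v) rfl
  have hz : RepWith @Etale ((yon S).map ιv ≫ a) :=
    repWith_comp ((repWith_yon_map_iff _ _).2 (inferInstanceAs (Etale (V.left.fromSpecResidueField v)))) ha
  refine ⟨⟨Z, hZ⟩, ObjectProperty.homMk i, V.left.residueField v, inferInstance, _, (yon S).map ιv ≫ a, hz,
    repWith_surjective_of_map hz.1 (fun z => ⟨Points.ofScheme _ (IsLocalRing.closedPoint _),
      Subsingleton.elim _ _⟩), hlft, hi, ?_⟩
  rw [← hux, ← Points.map_ofPt]
  have h2 : Points.map i (Points.ofPt ((yon S).map ιv ≫ a) (IsLocalRing.closedPoint (V.left.residueField v))) ∈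
      ({Points.ofPt φ u} : Set (Points X.obj)) := hr ▸ ⟨_, rfl⟩
  exact h2

theorem finiteTypePoint_iff (X : Space S) (x : Points X.obj) :
    ((∃ (k : Type u) (_ : Field k) (str : Spec (CommRingCat.of k) ⟶ S) (ξ : (yon S).obj (Over.mk str) ⟶ X.obj),
        LocP @LocallyOfFiniteType ξ ∧ Points.ofPt ξ (IsLocalRing.closedPoint k) = x) ↔
      ∃ (Z : Space S) (f : Z ⟶ X), Nonempty (Unique (Points Z.obj)) ∧
        LocP @LocallyOfFiniteType f.hom ∧ Set.range (Points.map f.hom) = {x}) ∧
    ((∃ (k : Type u) (_ : Field k) (str : Spec (CommRingCat.of k) ⟶ S) (ξ : (yon S).obj (Over.mk str) ⟶ X.obj),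
        LocP @LocallyOfFiniteType ξ ∧ Points.ofPt ξ (IsLocalRing.closedPoint k) = x) ↔
      ∃ (Z : Space S) (f : Z ⟶ X) (k : Type u) (_ : Field k) (str : Spec (CommRingCat.of k) ⟶ S)
        (z : (yon S).obj (Over.mk str) ⟶ Z.obj), RepWith @Etale z ∧ RepWith @Surjective z ∧
        LocP @LocallyOfFiniteType f.hom ∧ Mono f.hom ∧
        Points.ofPt (z ≫ f.hom) (IsLocalRing.closedPoint k) = x) := by
  refine ⟨⟨?_, ?_⟩, ⟨?_, ?_⟩⟩
  · rintro ⟨k, _, str, ξ, hξ, rfl⟩
    obtain ⟨Z, f, k', _, str', z, -, hzs, hl, -, hx⟩ := exists_mono_etale_quotient hξ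
    have := subsingleton_points_spec str'
    have hsurj := surjective_map_of_repWith le_rfl hzs
    have : Subsingleton (Points Z.obj) := hsurj.subsingleton
    let y := Points.ofPt z (IsLocalRing.closedPoint k')
    refine ⟨Z, f, ⟨⟨⟨y⟩, fun w => Subsingleton.elim w y⟩⟩, hl, Set.eq_singleton_iff_unique_mem.2
      ⟨⟨y, (Points.map_ofPt _ _ _).trans hx⟩, ?_⟩⟩
    rintro _ ⟨w, rfl⟩
    rw [Subsingleton.elim w y]
    exact (Points.map_ofPt _ _ _).trans hx
  · rintro ⟨Z, f, ⟨hu⟩, hl, hr⟩
    obtain ⟨U, a, ha, has⟩ := Z.property.atlas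
    obtain ⟨u₀, -⟩ := surjective_ofPt_of_repWith le_rfl has hu.default
    obtain ⟨u, -, k, _, str, η, hη, -⟩ := exists_finiteTypePoint_of_locallyClosed_chart Z.property ha
      (T := Set.univ) isOpen_univ.isLocallyClosed ⟨u₀, trivial⟩
    refine ⟨k, inferInstance, str, η ≫ f.hom,
      locP_comp etLocal_lft (IsAlgSpace.yon_obj _) Z.property X.property hη hl, ?_⟩
    exact hr.le ⟨_, Points.map_ofPt _ _ _⟩
  · rintro ⟨k, _, str, ξ, hξ, rfl⟩
    exact exists_mono_etale_quotient hξ
  · rintro ⟨Z, f, k, _, str, z, hz, -, hl, -, hx⟩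
    exact ⟨k, inferInstance, str, z ≫ f.hom, locP_comp etLocal_lft (IsAlgSpace.yon_obj _) Z.property X.property
      (locP_of_repWith etLocal_lft
        (repWith_le (fun _ _ g (_ : Etale g) => inferInstanceAs (LocallyOfFiniteType g)) hz)) hl, hx⟩

end Groth.Agent.H12AlgSp
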