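import Groth.Agent.H12AlgSp.FppfBootstrap
import Groth.Agent.H12AlgSp.OpenCover
import Groth.Prelude.Def_AlgSpCov

/-!
Sheaves covered by a family of flat, lfp maps from algebraic spaces; fppf descent of algebraic spaces.
-/

set_option linter.unusedVariables false
set_option backward.isDefEq.respectTransparency false

universe u

open CategoryTheory CategoryTheory.Limits AlgebraicGeometry Opposite
open AlgSp Groth.Agent.H13AlgSp

namespace Groth.Agent.H12AlgSp

variable {S : Scheme.{u}} {F : Sp S}

/-- A jointly surjective family of flat, lfp, representable maps from schemes makes a sheaf an algebraic space. -/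
theorem isAlgSpace_of_flat_family {κ : Type u} (C : κ → Over S) (a : ∀ i, (yon S).obj (C i) ⟶ F)
    (ha : ∀ i, RepWith (@Flat ⊓ @LocallyOfFinitePresentation) (a i))
    (hs : ∀ x : Points F, ∃ i, x ∈ Set.range (Points.map (a i))) : IsAlgSpace F := by
  obtain ⟨T, inc, l, ho, hcov, hl, -⟩ := exists_sigma_lift C a
  have key : ∀ ⦃A : Over S⦄ (g : (yon S).obj A ⟶ F), ∃ (P : Over S) (μ : (yon S).obj P ⟶ pullback l g)
      (snd : P ⟶ A), IsIso μ ∧ (yon S).map snd = μ ≫ pullback.snd l g := by
    intro A g
    choose P π b sqP using fun i => (ha i).rep g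
    have hc : ∀ i, (b i ≫ (yon S).map (inc i)) ≫ l = (yon S).map (π i) ≫ g := fun i => by
      rw [Category.assoc, hl, (sqP i).w]
    let j : ∀ i, (yon S).obj (P i) ⟶ pullback l g := fun i => pullback.lift _ _ (hc i)
    have sqj : ∀ i, IsPullback (b i) (j i) ((yon S).map (inc i)) (pullback.fst l g) := fun i =>
      IsPullback.of_bot (by rw [pullback.lift_snd, hl]; exact sqP i) (pullback.lift_fst _ _ _).symm
        (IsPullback.of_hasPullback l g)
    obtain ⟨R, μ, hμ⟩ := exists_iso_of_openCover P j
      (fun i => repWith_of_isPullback (sqj i) ((repWith_yon_map_iff _ (inc i)).2 (ho i)))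
      fun W y w => by
        obtain ⟨v, hv⟩ := (Points.schemeEquiv T).surjective (Points.map (pullback.fst l g) (Points.ofPt y w))
        obtain ⟨i, z, hz⟩ := hcov v
        refine ⟨i, (range_snd_of_isPullback (sqj i)).ge ⟨Points.ofScheme (C i) z, ?_⟩⟩
        rw [← hv, ← hz]
        exact Points.map_yon_map_apply (inc i) z
    obtain ⟨snd, hsnd⟩ := (yon S).map_surjective (μ ≫ pullback.snd l g)
    exact ⟨R, μ, snd, hμ, hsnd⟩
  have hrep : Representable l := fun A g => by
    obtain ⟨P, μ, snd, hμ, hsnd⟩ := key g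
    refine ⟨P, snd, μ ≫ pullback.fst l g, IsPullback.of_iso_pullback ⟨?_⟩ (asIso μ) rfl hsnd.symm⟩
    rw [Category.assoc, pullback.condition, hsnd, Category.assoc]
  refine Slice.isAlgSpace_of_fppf_chart (p := l) (repWith_inf_iff.2 ⟨repWith_inf_iff.2 ⟨?_, ?_⟩, ?_⟩)
  · refine repWith_surjective_of_map hrep fun x => ?_
    obtain ⟨i, y, rfl⟩ := hs x
    exact ⟨Points.map ((yon S).map (inc i)) y, by rw [← Points.map_comp, hl]⟩
  all_goals
    refine ⟨hrep, fun A V g fst snd sq => ?_⟩
    obtain ⟨fst, rfl⟩ := (yon S).map_surjective fst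
    have hcovV : ∀ v : V.left, ∃ i, v ∈ Set.range (pullback.snd (inc i) fst).left := fun v => by
      obtain ⟨i, z, hz⟩ := hcov (fst.left v)
      obtain ⟨w, -, hw⟩ := Scheme.exists_preimage_of_isPullback
        ((IsPullback.of_hasPullback (inc i) fst).map (Over.forget S)) z v hz
      exact ⟨i, w, hw⟩
    have hop : ∀ i, IsOpenImmersion (pullback.snd (inc i) fst).left := fun i =>
      MorphismProperty.of_isPullback ((IsPullback.of_hasPullback (inc i) fst).map (Over.forget S)) (ho i)
    have hpr : ∀ i, (@Flat ⊓ @LocallyOfFinitePresentation : MorphismProperty Scheme.{u})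
        ((pullback.snd (inc i) fst).left ≫ snd.left) := fun i => by
      refine (ha i).property g ((yon S).map (pullback.fst (inc i) fst)) (pullback.snd (inc i) fst ≫ snd) ?_
      rw [← hl i, Functor.map_comp]
      exact ((IsPullback.of_hasPullback (inc i) fst).map (yon S)).paste_vert sq
    let 𝒰 : V.left.OpenCover := Scheme.Cover.mkOfCovers (P := @IsOpenImmersion) κ _
      (fun i => (pullback.snd (inc i) fst).left) hcovV hop
    first
      | exact IsZariskiLocalAtSource.of_openCover (P := @Flat) 𝒰 fun i => (hpr i).1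
      | exact IsZariskiLocalAtSource.of_openCover (P := @LocallyOfFinitePresentation) 𝒰 fun i => (hpr i).2

/-- A jointly surjective family of flat, lfp, representable maps from algebraic spaces makes a sheaf an algebraic
space. -/
theorem isAlgSpace_of_flat_family_space {κ : Type u} (X : κ → Sp S) (hX : ∀ i, IsAlgSpace (X i))
    (f : ∀ i, X i ⟶ F) (hf : ∀ i, RepWith (@Flat ⊓ @LocallyOfFinitePresentation) (f i))
    (hs : ∀ x : Points F, ∃ i, x ∈ Set.range (Points.map (f i))) : IsAlgSpace F := by
  choose U d hd hds using fun i => (hX i).atlas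
  refine isAlgSpace_of_flat_family U (fun i => d i ≫ f i) (fun i => repWith_comp
    (repWith_le (fun _ _ k (_ : Etale k) => ⟨inferInstance, inferInstance⟩) (hd i)) (hf i)) fun x => ?_
  obtain ⟨i, y, rfl⟩ := hs x
  obtain ⟨z, rfl⟩ := surjective_map_of_repWith le_rfl (hds i) y
  exact ⟨i, z, Points.map_comp _ _ z⟩

/-- fppf descent: a sheaf over an algebraic space which becomes an algebraic space after each base change along a
flat, lfp, jointly surjective family is an algebraic space. -/
theorem isAlgSpace_of_fppf_local {X : Sp S} (hX : IsAlgSpace X) {κ : Type u} {Xi : κ → Sp S}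
    (hXi : ∀ i, IsAlgSpace (Xi i)) {g : ∀ i, Xi i ⟶ X} (hcov : IsFppfCover Xi g) (p : F ⟶ X)
    (h : ∀ i, IsAlgSpace (pullback p (g i))) : IsAlgSpace F := by
  choose U d hd hds using fun i => (hXi i).atlas
  let c := fun i => d i ≫ g i
  have hc : ∀ i, RepWith (@Flat ⊓ @LocallyOfFinitePresentation) (c i) := fun i =>
    repWith_inf_iff.2 ⟨repWith_of_locP etLocal_flat hX (hX.representable_from_yon _)
        (locP_etale_precomp (hd i) (hcov.1 i).1),
      repWith_of_locP etLocal_lfp hX (hX.representable_from_yon _) (locP_etale_precomp (hd i) (hcov.1 i).2)⟩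
  refine isAlgSpace_of_flat_family_space (fun i => pullback p (c i)) (fun i => ?_) (fun i => pullback.fst p (c i))
    (fun i => repWith_of_isPullback (IsPullback.of_hasPullback p (c i)).flip (hc i)) fun x => ?_
  · let m : pullback p (c i) ⟶ pullback p (g i) := pullback.lift (pullback.fst p (c i))
      (pullback.snd p (c i) ≫ d i) (by rw [Category.assoc]; exact pullback.condition)
    refine isAlgSpace_of_representable m (representable_of_isPullback
      (IsPullback.of_bot (h₁₁ := pullback.snd p (c i)) (v₁₁ := m) ?_ (pullback.lift_snd _ _ _).symm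
        (IsPullback.of_hasPullback p (g i)).flip) (hd i).1) (h i)
    rw [pullback.lift_fst]
    exact (IsPullback.of_hasPullback p (c i)).flip
  · obtain ⟨i, y, hy⟩ := hcov.2 (Points.map p x)
    obtain ⟨z, rfl⟩ := surjective_map_of_repWith le_rfl (hds i) y
    obtain ⟨w, hw, -⟩ := exists_point_of_isPullback (IsPullback.of_hasPullback p (c i)) x z
      (by rw [Points.map_comp, hy])
    exact ⟨i, w, hw⟩

/-- Being an algebraic space is fppf local on the base scheme. -/
theorem isAlgSpace_of_base_cover {κ : Type u} (Si : κ → Over S) (hfl : ∀ i, Flat (Si i).hom)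
    (hfp : ∀ i, LocallyOfFinitePresentation (Si i).hom)
    (hsurj : ∀ x : S, ∃ (i : κ) (y : (Si i).left), (Si i).hom.base y = x)
    (h : ∀ i, IsAlgSpace ((yon S).obj (Si i) ⨯ F)) : IsAlgSpace F := by
  let T₀ : Over S := Over.mk (𝟙 S)
  have hterm : IsTerminal ((yon S).obj T₀) := IsTerminal.isTerminalObj (yon S) _ Over.mkIdTerminal
  let e := fun i : κ => (yon S).map (Over.mkIdTerminal.from (Si i))
  have sq : ∀ i, IsPullback (prod.fst : (yon S).obj (Si i) ⨯ F ⟶ _) prod.snd (e i) (hterm.from F) := fun i =>
    hterm.hom_ext (hterm.from _) (e i) ▸ IsPullback.of_is_product (prodIsProd ((yon S).obj (Si i)) F) hterm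
  have he : ∀ i, RepWith (@Flat ⊓ @LocallyOfFinitePresentation) (e i) := fun i => by
    refine (repWith_yon_map_iff _ _).2 ?_
    have : (Over.mkIdTerminal.from (Si i)).left = (Si i).hom :=
      (Category.comp_id _).symm.trans (Over.w (Over.mkIdTerminal.from (Si i)))
    rw [this]
    exact ⟨hfl i, hfp i⟩
  refine isAlgSpace_of_flat_family_space _ h (fun i => prod.snd)
    (fun i => repWith_of_isPullback (sq i) (he i)) fun x => ?_
  obtain ⟨s, hs⟩ := (Points.schemeEquiv T₀).surjective (Points.map (hterm.from F) x)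
  obtain ⟨i, y, hy⟩ := hsurj s
  obtain ⟨w, -, hw⟩ := exists_point_of_isPullback (sq i) (Points.ofScheme (Si i) y) x (by
    rw [← hs, ← hy]
    refine (Points.map_yon_map_apply _ y).trans (congrArg (Points.ofScheme T₀) ?_)
    exact congrArg (fun f : (Si i).left ⟶ S => f y)
      ((Category.comp_id _).symm.trans (Over.w (Over.mkIdTerminal.from (Si i)))))
  exact ⟨i, w, hw⟩

end Groth.Agent.H12AlgSp
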