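import Groth.Agent.H12AlgSp.HilbQuot
import Groth.Agent.H13Desc.Flat
import Groth.Agent.H8Props.FieldDimFibre
import Groth.Agent.H8Props.FibreDimSemicont
import Groth.Agent.H22Alg.FibreDimBound
import Groth.Agent.H8Props.FibreCriterion

/-!
Points where a map `h_W ⟶ F` is flat or quasi-finite, tested after a flat chart.
-/

set_option linter.unusedVariables false
set_option backward.isDefEq.respectTransparency false

universe u

open CategoryTheory CategoryTheory.Limits AlgebraicGeometry Opposite TopologicalSpace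
open AlgSp Groth.Agent.H13AlgSp

namespace Groth.Agent.H12AlgSp.Slice

variable {S : Scheme.{u}} {F : Sp S} {U W R : Over S} {p : (yon S).obj U ⟶ F} {w : (yon S).obj W ⟶ F}
  {t : R ⟶ U} {s : R ⟶ W}

/-- Two points of the base change of `h_W` with the same image in `W` are dominated by a common point. -/
theorem exists_common (hp : RepWith @Flat p) (sq : IsPullback ((yon S).map s) ((yon S).map t) w p)
    (r r' : R.left) (h : s.left r = s.left r') :
    ∃ (T D : Over S) (π₁ π₂ : T ⟶ R) (τ : T ⟶ D) (a b : D ⟶ U) (q : T.left),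
      IsPullback π₁.left τ.left t.left a.left ∧ IsPullback π₂.left τ.left t.left b.left ∧
        Flat π₂.left ∧ Flat b.left ∧ π₁.left q = r ∧ π₂.left q = r' := by
  obtain ⟨D, a, b', sqD⟩ := hp.rep p
  obtain ⟨b, rfl⟩ := (yon S).map_surjective b'
  obtain ⟨q, hq₁, hq₂⟩ := exists_point_over ((IsPullback.of_hasPullback s s).map (Over.forget S)) r r' h
  let π₁ : pullback s s ⟶ R := pullback.fst s s
  let π₂ : pullback s s ⟶ R := pullback.snd s s
  have hπ : π₁ ≫ s = π₂ ≫ s := pullback.condition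
  have hc : (yon S).map (π₁ ≫ t) ≫ p = (yon S).map (π₂ ≫ t) ≫ p := by
    rw [Functor.map_comp, Functor.map_comp, Category.assoc, Category.assoc, ← sq.w, ← Category.assoc,
      ← Category.assoc, ← Functor.map_comp, ← Functor.map_comp, hπ]
  obtain ⟨τ', hτb, hτa⟩ := sqD.exists_lift ((yon S).map (π₂ ≫ t)) ((yon S).map (π₁ ≫ t)) hc.symm
  obtain ⟨τ, rfl⟩ := (yon S).map_surjective τ'
  have hτb' : τ ≫ b = π₂ ≫ t := (yon S).map_injective (by rw [Functor.map_comp, hτb])
  have hτa' : τ ≫ a = π₁ ≫ t := (yon S).map_injective (by rw [Functor.map_comp, hτa])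
  have huniq : ∀ {V : Over S} (x y : V ⟶ R), x ≫ s = y ≫ s → x ≫ t = y ≫ t → x = y := fun x y h₁ h₂ =>
    (yon S).map_injective (sq.hom_ext (by rw [← Functor.map_comp, ← Functor.map_comp, h₁])
      (by rw [← Functor.map_comp, ← Functor.map_comp, h₂]))
  have key : ∀ {V : Over S} (x : V ⟶ R) (d : V ⟶ D), ((yon S).map (x ≫ s) ≫ w = (yon S).map (d ≫ a) ≫ p ∨
      (yon S).map (x ≫ s) ≫ w = (yon S).map (d ≫ b) ≫ p) →
      (∃ y : V ⟶ R, y ≫ s = x ≫ s ∧ y ≫ t = d ≫ a) ∧ (∃ y : V ⟶ R, y ≫ s = x ≫ s ∧ y ≫ t = d ≫ b) := by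
    intro V x d hd
    have hab : (yon S).map (d ≫ a) ≫ p = (yon S).map (d ≫ b) ≫ p := by
      rw [Functor.map_comp, Functor.map_comp, Category.assoc, Category.assoc, ← sqD.w]
    have hd' : (yon S).map (x ≫ s) ≫ w = (yon S).map (d ≫ a) ≫ p := hd.elim id fun h => h.trans hab.symm
    constructor
    · obtain ⟨y, h1, h2⟩ := sq.exists_lift _ _ hd'
      obtain ⟨y, rfl⟩ := (yon S).map_surjective y
      exact ⟨y, (yon S).map_injective (by rw [Functor.map_comp, h1]), (yon S).map_injective (by rw [Functor.map_comp, h2])⟩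
    · obtain ⟨y, h1, h2⟩ := sq.exists_lift _ _ (hd'.trans hab)
      obtain ⟨y, rfl⟩ := (yon S).map_surjective y
      exact ⟨y, (yon S).map_injective (by rw [Functor.map_comp, h1]), (yon S).map_injective (by rw [Functor.map_comp, h2])⟩
  have hDuniq : ∀ {V : Over S} (x y : V ⟶ D), x ≫ a = y ≫ a → x ≫ b = y ≫ b → x = y := fun x y h₁ h₂ =>
    (yon S).map_injective (sqD.hom_ext (by rw [← Functor.map_comp, ← Functor.map_comp, h₂])
      (by rw [← Functor.map_comp, ← Functor.map_comp, h₁]))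
  have hst : ∀ {V : Over S} (x : V ⟶ R), (yon S).map (x ≫ s) ≫ w = (yon S).map (x ≫ t) ≫ p := fun x => by
    rw [Functor.map_comp, Functor.map_comp, Category.assoc, Category.assoc, sq.w]
  have sqP₁ : IsPullback π₁ τ t a := by
    refine ⟨⟨hτa'.symm⟩, ⟨PullbackCone.isLimitAux' _ fun c => ?_⟩⟩
    have hy := (key c.fst c.snd (Or.inl (by rw [hst, c.condition]))).2
    let y := hy.choose
    have hy₁ : y ≫ s = c.fst ≫ s := hy.choose_spec.1
    have hy₂ : y ≫ t = c.snd ≫ b := hy.choose_spec.2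
    let l : c.pt ⟶ pullback s s := pullback.lift c.fst y hy₁.symm
    have l₁ : l ≫ π₁ = c.fst := pullback.lift_fst _ _ _
    have l₂ : l ≫ π₂ = y := pullback.lift_snd _ _ _
    refine ⟨l, l₁, hDuniq _ _ (show (l ≫ τ) ≫ a = c.snd ≫ a by rw [Category.assoc, hτa', ← Category.assoc, l₁, c.condition])
      (show (l ≫ τ) ≫ b = c.snd ≫ b by rw [Category.assoc, hτb', ← Category.assoc, l₂, hy₂]), fun {m} hm₁ hm₂ => ?_⟩
    have hm₁' : m ≫ π₁ = c.fst := hm₁
    have hm₂' : m ≫ τ = c.snd := hm₂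
    show (m : c.pt ⟶ pullback s s) = l
    refine pullback.hom_ext (f := s) (g := s) (k := (m : c.pt ⟶ pullback s s)) (l := l) ?_ ?_
    · exact hm₁'.trans l₁.symm
    · refine (huniq (m ≫ π₂) y ?_ ?_).trans l₂.symm
      · rw [Category.assoc, ← hπ, ← Category.assoc, hm₁', hy₁]
      · rw [Category.assoc, ← hτb', ← Category.assoc, hm₂', hy₂]
  have sqP₂ : IsPullback π₂ τ t b := by
    refine ⟨⟨hτb'.symm⟩, ⟨PullbackCone.isLimitAux' _ fun c => ?_⟩⟩
    have hy := (key c.fst c.snd (Or.inr (by rw [hst, c.condition]))).1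
    let y := hy.choose
    have hy₁ : y ≫ s = c.fst ≫ s := hy.choose_spec.1
    have hy₂ : y ≫ t = c.snd ≫ a := hy.choose_spec.2
    let l : c.pt ⟶ pullback s s := pullback.lift y c.fst hy₁
    have l₁ : l ≫ π₁ = y := pullback.lift_fst _ _ _
    have l₂ : l ≫ π₂ = c.fst := pullback.lift_snd _ _ _
    refine ⟨l, l₂, hDuniq _ _ (show (l ≫ τ) ≫ a = c.snd ≫ a by rw [Category.assoc, hτa', ← Category.assoc, l₁, hy₂])
      (show (l ≫ τ) ≫ b = c.snd ≫ b by rw [Category.assoc, hτb', ← Category.assoc, l₂, c.condition]), fun {m} hm₁ hm₂ => ?_⟩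
    have hm₁' : m ≫ π₂ = c.fst := hm₁
    have hm₂' : m ≫ τ = c.snd := hm₂
    show (m : c.pt ⟶ pullback s s) = l
    refine pullback.hom_ext (f := s) (g := s) (k := (m : c.pt ⟶ pullback s s)) (l := l) ?_ ?_
    · refine (huniq (m ≫ π₁) y ?_ ?_).trans l₁.symm
      · rw [Category.assoc, hπ, ← Category.assoc, hm₁', hy₁]
      · rw [Category.assoc, ← hτa', ← Category.assoc, hm₂', hy₂]
    · exact hm₁'.trans l₂.symm
  have hsfl : Flat s.left := hp.property _ _ s sq.flip
  have hb : Flat b.left := hp.property p ((yon S).map a) b sqD.flip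
  exact ⟨_, D, π₁, π₂, τ, a, b, q, sqP₁.map (Over.forget S), sqP₂.map (Over.forget S),
    MorphismProperty.of_isPullback ((IsPullback.of_hasPullback s s).map (Over.forget S)) hsfl, hb, hq₁, hq₂⟩

theorem flat_saturated (hp : RepWith @Flat p) (sq : IsPullback ((yon S).map s) ((yon S).map t) w p)
    {r r' : R.left} (h : s.left r = s.left r') (hr : (t.left.stalkMap r).hom.Flat) :
    (t.left.stalkMap r').hom.Flat := by
  obtain ⟨T, D, π₁, π₂, τ, a, b, q, sq₁, sq₂, hπ, hb, rfl, rfl⟩ := exists_common hp sq r r' h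
  have h1 := H8Props.FibreCriterion.flat_stalkMap_baseChange sq₁ q hr
  have h2 : ((τ.left ≫ b.left).stalkMap q).hom.Flat := by
    rw [Scheme.Hom.stalkMap_comp]
    exact RingHom.Flat.comp (Flat.stalkMap b.left (τ.left q)) h1
  have h3 : ((π₂.left ≫ t.left).stalkMap q).hom.Flat := by rw [sq₂.w]; exact h2
  rw [Scheme.Hom.stalkMap_comp] at h3
  exact H13Desc.ringHom_flat_of_refinement _ (π₂.left.stalkMap q).hom (RingHom.id _) h3
    (by rw [RingHom.id_comp]; exact H13Desc.faithfullyFlat_stalkMap π₂.left q)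

theorem qf_saturated (hp : RepWith @Flat p) [LocallyOfFiniteType t.left]
    (sq : IsPullback ((yon S).map s) ((yon S).map t) w p)
    {r r' : R.left} (h : s.left r = s.left r') (hr : t.left.QuasiFiniteAt r) : t.left.QuasiFiniteAt r' := by
  obtain ⟨T, D, π₁, π₂, τ, a, b, q, sq₁, sq₂, -, -, rfl, rfl⟩ := exists_common hp sq r r' h
  refine H22Alg.quasiFiniteAt_of_fibreDimAt_le_zero t.left _ ?_
  rw [← H8Props.FieldDim.fibreDimAt_baseChange t.left sq₂ q, H8Props.FieldDim.fibreDimAt_baseChange t.left sq₁ q]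
  exact H8Props.FieldDim.fibreDimAt_le_zero_of_quasiFiniteAt t.left hr

/-- The base change to an open subscheme. -/
theorem exists_restrict (sq : IsPullback ((yon S).map s) ((yon S).map t) w p) (O : W.left.Opens) :
    ∃ s' : openOver R (s.left ⁻¹ᵁ O) ⟶ openOver W O, s' ≫ openIncl W O = openIncl R (s.left ⁻¹ᵁ O) ≫ s ∧
      IsPullback ((yon S).map s') ((yon S).map (openIncl R (s.left ⁻¹ᵁ O) ≫ t))
        ((yon S).map (openIncl W O) ≫ w) p := by
  let s' : openOver R (s.left ⁻¹ᵁ O) ⟶ openOver W O := Over.homMk (s.left ∣_ O) (by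
    change (s.left ∣_ O) ≫ O.ι ≫ W.hom = (s.left ⁻¹ᵁ O).ι ≫ R.hom
    rw [morphismRestrict_ι_assoc, Over.w s])
  have sq' : IsPullback s' (openIncl R (s.left ⁻¹ᵁ O)) (openIncl W O) s :=
    IsPullback.of_map_of_faithful (Over.forget S) (isPullback_morphismRestrict s.left O)
  refine ⟨s', sq'.w, ?_⟩
  rw [Functor.map_comp]
  exact (sq'.map (yon S)).paste_vert sq

/-- A map which is flat, lfp and quasi-finite near a point after a flat chart is so on a neighbourhood. -/
theorem repWith_of_saturated (hrep : Representable w)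
    (hp : RepWith fppfMor p) (sq : IsPullback ((yon S).map s) ((yon S).map t) w p)
    (P : MorphismProperty Scheme.{u}) [P.IsStableUnderBaseChange] [IsZariskiLocalAtTarget P]
    [P.DescendsAlong fppfMor.{u}] (h : P t.left) : RepWith P w :=
  repWith_of_fppf_base (Qc := fppfMor.{u}) hrep hp sq ((repWith_yon_map_iff P t).2 h)

end Groth.Agent.H12AlgSp.Slice
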