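import Groth.Agent.H12AlgSp.FppfBootstrap
import Groth.Agent.H12AlgSp.QuotSheaf
import Groth.Agent.H12AlgSp.Sep
import Groth.Agent.H12AlgSp.OpenCover

/-!
Quotients of schemes by free actions of abstract groups.
-/

set_option linter.unusedVariables false
set_option backward.isDefEq.respectTransparency false

universe u

open CategoryTheory CategoryTheory.Limits AlgebraicGeometry Opposite Topology
open AlgSp Groth.Agent.H13AlgSp

namespace Groth.Agent.H12AlgSp

variable {S : Scheme.{u}} {U : Over S} {G : Type u} [Group G] {ρ : G →* Aut U}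

/-- The coproduct of copies of `U` over `S` has open, jointly surjective injections. -/
theorem cofan_inj_props {κ : Type u} {C : κ → Over S} (c : Cofan C) (hc : IsColimit c) :
    (∀ i, IsOpenImmersion (c.inj i).left) ∧ (∀ x : c.pt.left, ∃ i, x ∈ Set.range (c.inj i).left) := by
  obtain ⟨T, inc, -, ho, hs, -, hu⟩ := exists_sigma_lift (X := (yon S).obj c.pt) C fun i => (yon S).map (c.inj i)
  obtain ⟨g, hg⟩ := hu c.pt fun i => c.inj i
  let d : c.pt ⟶ T := Cofan.IsColimit.desc hc inc
  have hd : ∀ i, c.inj i ≫ d = inc i := fun i => Cofan.IsColimit.fac hc _ i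
  have h1 : d ≫ g = 𝟙 c.pt := Cofan.IsColimit.hom_ext hc _ _ fun i => by
    rw [reassoc_of% hd, hg, Category.comp_id]
  have h2 : g ≫ d = 𝟙 T := (yon S).map_injective (hom_ext_of_cover inc (ofArrows_mem_J _
      (fun i => have := ho i; inferInstance) (fun i => have := ho i; inferInstance) hs) fun i => by
    rw [← Functor.map_comp, ← Functor.map_comp, reassoc_of% hg, hd, Category.comp_id])
  have : IsIso g := ⟨d, h2, h1⟩
  refine ⟨fun i => ?_, fun x => ?_⟩
  · have := ho i
    rw [← hg i, Over.comp_left]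
    infer_instance
  · obtain ⟨i, z, hz⟩ := hs (d.left x)
    refine ⟨i, z, ?_⟩
    rw [← hg i, Over.comp_left, Scheme.Hom.comp_apply, hz, ← Scheme.Hom.comp_apply, ← Over.comp_left, h1]
    rfl

theorem epi_field_extension {K L : Type u} [Field K] [Field L] (f : Spec (CommRingCat.of L) ⟶ Spec (CommRingCat.of K))
    {Z : Scheme.{u}} {a b : Spec (CommRingCat.of K) ⟶ Z} (h : f ≫ a = f ≫ b) : a = b := by
  have : Flat f := flat_to_field (K := K) f
  have : Surjective f := ⟨fun x => ⟨IsLocalRing.closedPoint L, Subsingleton.elim _ _⟩⟩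
  have : QuasiCompact f := inferInstance
  exact (cancel_epi f).1 h

theorem fromSpecResidueField_eq {T : Scheme.{u}} {Z : Scheme.{u}} (τ : T) (a : T ⟶ Z) {x : Z} (hx : a τ = x) :
    ∃ j : Spec (T.residueField τ) ⟶ Spec (Z.residueField x),
      j ≫ Z.fromSpecResidueField x = T.fromSpecResidueField τ ≫ a := by
  subst hx
  exact ⟨_, a.SpecMap_residueFieldMap_fromSpecResidueField τ⟩

variable (hfree : ∀ (g : G) (x : U.left), g ≠ 1 →
      U.left.fromSpecResidueField x ≫ (ρ g).hom.left ≠ U.left.fromSpecResidueField x)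

include hfree in
theorem index_eq {T : Over S} (τ : T.left) (a : T ⟶ U) (g g' : G)
    (h : T.left.fromSpecResidueField τ ≫ a.left ≫ (ρ g).hom.left =
      T.left.fromSpecResidueField τ ≫ a.left ≫ (ρ g').hom.left) : g = g' := by
  by_contra hne
  have hmul : ∀ p q : G, (ρ (p * q)).hom = (ρ q).hom ≫ (ρ p).hom := fun p q => by rw [map_mul]; rfl
  refine hfree (g'⁻¹ * g) (a.left τ) (fun e => hne (inv_mul_eq_one.1 e).symm) ?_
  obtain ⟨j, hj⟩ := fromSpecResidueField_eq τ a.left (rfl : a.left τ = a.left τ)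
  refine epi_field_extension (K := U.left.residueField (a.left τ)) (L := T.left.residueField τ) j ?_
  rw [← Category.assoc, hj, hmul, Over.comp_left]
  have h' := h =≫ (ρ g'⁻¹).hom.left
  simp only [Category.assoc] at h' ⊢
  rw [h', ← Over.comp_left, ← hmul, inv_mul_cancel, map_one]
  exact congrArg (T.left.fromSpecResidueField τ ≫ ·) (Category.comp_id a.left)

variable (c : Cofan (fun _ : G => U)) (hc : IsColimit c) (s t : c.pt ⟶ U)
    (hs : ∀ g, c.inj g ≫ s = 𝟙 U) (ht : ∀ g, c.inj g ≫ t = (ρ g).hom)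

/-- Lifts of a point into one summand. -/
theorem exists_summand_piece {κ : Type u} {C : κ → Over S} (d : Cofan C) (hd : IsColimit d) {T : Over S} (r : T ⟶ d.pt)
    (τ : T.left) :
    ∃ (i : κ) (A : T.left.Opens) (a : openOver T A ⟶ C i), τ ∈ A ∧ a ≫ d.inj i = openIncl T A ≫ r := by
  obtain ⟨ho, hcov⟩ := cofan_inj_props d hd
  obtain ⟨i, hi⟩ := hcov (r.left τ)
  have := ho i
  let A : T.left.Opens := r.left ⁻¹ᵁ (d.inj i).left.opensRange
  have hr : Set.range (openIncl T A ≫ r).left ⊆ Set.range (d.inj i).left := by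
    rintro _ ⟨z, rfl⟩
    exact z.2
  refine ⟨i, A, Over.homMk (IsOpenImmersion.lift (d.inj i).left (openIncl T A ≫ r).left hr) ?_, hi, ?_⟩
  · rw [← Over.w (d.inj i), ← Category.assoc, IsOpenImmersion.lift_fac, Over.w]
  · exact Over.OverMorphism.ext (IsOpenImmersion.lift_fac _ _ _)

include hfree hc hs ht in
theorem rel_injective {T : Over S} (r r' : T ⟶ c.pt) (h₁ : r ≫ t = r' ≫ t) (h₂ : r ≫ s = r' ≫ s) : r = r' := by
  choose g A a hA ha using fun τ => exists_summand_piece c hc r τ
  choose g' A' a' hA' ha' using fun τ => exists_summand_piece c hc r' τ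
  let V : T.left → T.left.Opens := fun τ => A τ ⊓ A' τ
  refine (yon S).map_injective (hom_ext_of_cover (fun τ => openIncl T (V τ)) (ofArrows_mem_J _
    (fun τ => inferInstanceAs (Flat (V τ).ι)) (fun τ => inferInstanceAs (LocallyOfFinitePresentation (V τ).ι))
    fun τ => ⟨τ, ⟨τ, hA τ, hA' τ⟩, rfl⟩) fun τ => ?_)
  rw [← Functor.map_comp, ← Functor.map_comp]
  refine congrArg (yon S).map ?_
  let l := openLE T (inf_le_left : V τ ≤ A τ)
  let l' := openLE T (inf_le_right : V τ ≤ A' τ)
  have e : openIncl T (V τ) ≫ r = (l ≫ a τ) ≫ c.inj (g τ) := by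
    rw [Category.assoc, ha, ← Category.assoc, openLE_incl]
  have e' : openIncl T (V τ) ≫ r' = (l' ≫ a' τ) ≫ c.inj (g' τ) := by
    rw [Category.assoc, ha', ← Category.assoc, openLE_incl]
  have k₂ : l ≫ a τ = l' ≫ a' τ := by
    have h := congrArg (openIncl T (V τ) ≫ ·) h₂
    simp only [← Category.assoc, e, e'] at h
    simp only [Category.assoc, hs, Category.comp_id] at h
    exact h
  have k₁ : (l ≫ a τ) ≫ (ρ (g τ)).hom = (l ≫ a τ) ≫ (ρ (g' τ)).hom := by
    have := congrArg (openIncl T (V τ) ≫ ·) h₁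
    simp only [← Category.assoc, e, e'] at this
    simp only [Category.assoc, ht] at this
    rw [← Category.assoc, ← Category.assoc l', ← k₂] at this
    exact this
  have hg : g τ = g' τ := index_eq hfree (T := openOver T (V τ)) ⟨τ, hA τ, hA' τ⟩ (l ≫ a τ) _ _
    (congrArg ((openOver T (V τ)).left.fromSpecResidueField ⟨τ, hA τ, hA' τ⟩ ≫ ·)
      (congrArg (fun f : openOver T (V τ) ⟶ U => f.left) k₁))
  rw [e, e', k₂, hg]

include hfree hc hs ht in
theorem isEtaleEqvRel_of_free : IsEtaleEqvRel s t := by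
  obtain ⟨ho, hcov⟩ := cofan_inj_props c hc
  have hmul : ∀ p q : G, (ρ (p * q)).hom = (ρ q).hom ≫ (ρ p).hom := fun p q => by rw [map_mul]; rfl
  let cov : c.pt.left.OpenCover := Scheme.Cover.mkOfCovers G (fun _ => U.left) (fun g => (c.inj g).left)
    (fun x => by obtain ⟨i, hi⟩ := hcov x; exact ⟨i, hi⟩) ho
  have hse : Etale s.left := IsZariskiLocalAtSource.of_openCover (P := @Etale) cov fun g => by
    change Etale ((c.inj g).left ≫ s.left)
    rw [← Over.comp_left, hs]
    exact inferInstanceAs (Etale (𝟙 U.left))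
  have hte : Etale t.left := IsZariskiLocalAtSource.of_openCover (P := @Etale) cov fun g => by
    change Etale ((c.inj g).left ≫ t.left)
    rw [← Over.comp_left, ht]
    infer_instance
  refine ⟨⟨fun T r r' h₁ h₂ => rel_injective hfree c hc s t hs ht r r' h₁ h₂, fun T => ⟨fun a => ?_, fun {a b} h => ?_, fun {a b d} h h' => ?_⟩⟩, hse, hte⟩
  · exact ⟨a ≫ c.inj 1, by rw [Category.assoc, ht, map_one]; exact Category.comp_id a,
      by rw [Category.assoc, hs, Category.comp_id]⟩
  · obtain ⟨r, rfl, rfl⟩ := h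
    let i : c.pt ⟶ c.pt := Cofan.IsColimit.desc hc fun g => (ρ g).hom ≫ c.inj g⁻¹
    have hi : ∀ g, c.inj g ≫ i = (ρ g).hom ≫ c.inj g⁻¹ := fun g => Cofan.IsColimit.fac hc _ g
    have his : i ≫ s = t := Cofan.IsColimit.hom_ext hc _ _ fun g => by
      rw [reassoc_of% hi, hs, Category.comp_id, ht]
    have hit : i ≫ t = s := Cofan.IsColimit.hom_ext hc _ _ fun g => by
      rw [reassoc_of% hi, ht, ← hmul, inv_mul_cancel, map_one, hs]; rfl
    exact ⟨r ≫ i, by rw [Category.assoc, hit], by rw [Category.assoc, his]⟩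
  · obtain ⟨r, rfl, rfl⟩ := h
    obtain ⟨r', hr', rfl⟩ := h'
    choose g A u hA hu using fun τ => exists_summand_piece c hc r τ
    choose g' A' u' hA' hu' using fun τ => exists_summand_piece c hc r' τ
    let V : T.left → T.left.Opens := fun τ => A τ ⊓ A' τ
    let l := fun τ => openLE T (inf_le_left : V τ ≤ A τ)
    let l' := fun τ => openLE T (inf_le_right : V τ ≤ A' τ)
    let f : ∀ τ, openOver T (V τ) ⟶ c.pt := fun τ => (l' τ ≫ u' τ) ≫ c.inj (g τ * g' τ)
    have hfs : ∀ τ, f τ ≫ s = openIncl T (V τ) ≫ r' ≫ s := fun τ => by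
      simp only [f, Category.assoc]
      rw [hs, ← Category.assoc (openIncl T (V τ)), ← openLE_incl T (inf_le_right : V τ ≤ A' τ), Category.assoc,
        Category.assoc, ← reassoc_of% hu', hs]
    have hft : ∀ τ, f τ ≫ t = openIncl T (V τ) ≫ r ≫ t := fun τ => by
      have e : openIncl T (V τ) ≫ r = (l τ ≫ u τ) ≫ c.inj (g τ) := by
        rw [Category.assoc, hu, ← Category.assoc, openLE_incl]
      have e' : openIncl T (V τ) ≫ r' = (l' τ ≫ u' τ) ≫ c.inj (g' τ) := by
        rw [Category.assoc, hu', ← Category.assoc, openLE_incl]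
      have k := congrArg (openIncl T (V τ) ≫ ·) hr'
      simp only [← Category.assoc, e, e'] at k
      simp only [Category.assoc, hs, ht, Category.comp_id] at k
      rw [← Category.assoc (openIncl T (V τ)), e]
      simp only [f, Category.assoc, ht]
      rw [hmul, ← Category.assoc (u' τ), ← Category.assoc (l' τ), k, Category.assoc]
    obtain ⟨y, hy⟩ := exists_glue (G := (yon S).obj c.pt) (fun τ => openIncl T (V τ))
      (ofArrows_mem_J _ (fun τ => inferInstanceAs (Flat (V τ).ι))
        (fun τ => inferInstanceAs (LocallyOfFinitePresentation (V τ).ι)) fun τ => ⟨τ, ⟨τ, hA τ, hA' τ⟩, rfl⟩)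
      (fun τ => (yon S).map (f τ)) (fun τ τ' W p q e => by
        rw [← Functor.map_comp, ← Functor.map_comp]
        refine congrArg (yon S).map (rel_injective hfree c hc s t hs ht (p ≫ f τ) (q ≫ f τ') ?_ ?_)
        · rw [Category.assoc p (f τ) t, Category.assoc q (f τ') t, hft, hft, reassoc_of% e]
        · rw [Category.assoc p (f τ) s, Category.assoc q (f τ') s, hfs, hfs, reassoc_of% e])
    obtain ⟨y, rfl⟩ := (yon S).map_surjective y
    have hy' : ∀ τ, openIncl T (V τ) ≫ y = f τ := fun τ =>
      (yon S).map_injective (by rw [Functor.map_comp, hy])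
    have hJ : Sieve.ofArrows _ (fun τ => openIncl T (V τ)) ∈ J S T := ofArrows_mem_J _
      (fun τ => inferInstanceAs (Flat (V τ).ι))
      (fun τ => inferInstanceAs (LocallyOfFinitePresentation (V τ).ι)) fun τ => ⟨τ, ⟨τ, hA τ, hA' τ⟩, rfl⟩
    refine ⟨y, (yon S).map_injective (hom_ext_of_cover _ hJ fun τ => ?_),
      (yon S).map_injective (hom_ext_of_cover _ hJ fun τ => ?_)⟩
    · rw [← Functor.map_comp, ← Functor.map_comp, reassoc_of% hy', hft]
    · rw [← Functor.map_comp, ← Functor.map_comp, reassoc_of% hy', hfs]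

/-- The diagonal of the quotient has `P` when the relation has. -/
theorem repWith_diag_quot {R : Over S} {s t : R ⟶ U} (h : IsEtaleEqvRel s t) (P : MorphismProperty Scheme.{u})
    [P.IsStableUnderBaseChange] [P.DescendsAlong fppfMor.{u}] (hP : P (prod.lift t s).left) :
    RepWith P (Limits.diag (QuotSh.quot Scheme.fppfPrecoverage s t)) := by
  obtain ⟨hA, hp⟩ := isAlgSpace_quot s t h
  have sq := hp.isPullback
  exact repWith_of_fppf_base (Qc := fppfMor.{u}) hA.diag
    (repWith_fppf_of_etale (MorphismProperty.RespectsIso.precomp _ _ _ (repWith_prodMap hp.etale hp.etale))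
      (MorphismProperty.RespectsIso.precomp _ _ _ (repWith_prodMap hp.surjective hp.surjective)))
    (isPullback_diag_prodHom sq) ((repWith_yon_map_iff P _).2 hP)

include hfree hc hs ht in
theorem separation_quot_free [Finite G] :
    (QuasiSeparated U.hom → IsQuasiSeparatedSp (QuotSh.quot Scheme.fppfPrecoverage s t)) ∧
      (IsSeparated U.hom → IsSeparatedSp (QuotSh.quot Scheme.fppfPrecoverage s t)) := by
  have h := isEtaleEqvRel_of_free hfree c hc s t hs ht
  obtain ⟨ho, hcov⟩ := cofan_inj_props c hc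
  let j := (prod.lift t s).left
  let δ : G → (U ⟶ U ⨯ U) := fun g => prod.lift (ρ g).hom (𝟙 U)
  have hj : ∀ g, (c.inj g).left ≫ j = (δ g).left := fun g => by
    rw [← Over.comp_left, prod.comp_lift, hs, ht]
  have hfac : ∀ g, δ g = Limits.diag U ≫ prod.map (ρ g).hom (𝟙 U) := fun g => by
    rw [prod.lift_map, Category.id_comp, Category.id_comp]
  have hdiag : ∀ (P : MorphismProperty Scheme.{u}) [P.RespectsIso], P (pullback.diagonal U.hom) → ∀ g, P (δ g).left := by
    intro P _ hd g
    have e := diag_left_comp_prodLeftIsoPullback U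
    rw [hfac, Over.comp_left]
    have : IsIso (prod.map (ρ g).hom (𝟙 U)).left := inferInstance
    rw [P.cancel_right_of_respectsIso]
    rw [← e] at hd
    exact (P.cancel_right_of_respectsIso _ _).1 hd
  have : Finite G := ‹_›
  let cov : c.pt.left.OpenCover := Scheme.Cover.mkOfCovers G (fun _ => U.left) (fun g => (c.inj g).left)
    (fun x => by obtain ⟨i, hi⟩ := hcov x; exact ⟨i, hi⟩) ho
  refine ⟨fun hU => repWith_diag_quot h _ ?_, fun hU => repWith_diag_quot h _ ?_⟩
  · refine (quasiCompact_iff_forall_isAffineOpen).2 fun A hA => ?_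
    have hq := hdiag @QuasiCompact hU.quasiCompact_diagonal
    rw [show (j ⁻¹ᵁ A : Set c.pt.left) = ⋃ g, (c.inj g).left '' ((δ g).left ⁻¹' (A : Set _)) from ?_]
    · exact isCompact_iUnion fun g => by
        have := hq g
        exact ((δ g).left.isCompact_preimage hA.isCompact).image (c.inj g).left.continuous
    · ext x
      constructor
      · intro hx
        obtain ⟨g, y, rfl⟩ := hcov x
        exact Set.mem_iUnion.2 ⟨g, y, by rw [Set.mem_preimage, ← hj, Scheme.Hom.comp_apply]; exact hx, rfl⟩
      · intro hx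
        obtain ⟨g, y, hy, rfl⟩ := Set.mem_iUnion.1 hx
        rw [Set.mem_preimage, ← hj, Scheme.Hom.comp_apply] at hy
        exact hy
  · change IsClosedImmersion j
    have hcl := hdiag @IsClosedImmersion IsSeparated.isClosedImmersion_diagonal
    have hm : Mono (prod.lift t s) := ⟨fun r r' e => h.injective _ r r'
      (by simpa using e =≫ prod.fst) (by simpa using e =≫ prod.snd)⟩
    have : Mono j := (Over.forget S).map_mono (prod.lift t s)
    have hclm : IsClosedMap j := fun Z hZ => by
      rw [show j '' Z = ⋃ g, (δ g).left '' ((c.inj g).left ⁻¹' Z) from ?_]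
      · exact isClosed_iUnion_of_finite fun g => by
          have := hcl g
          exact (δ g).left.isClosedEmbedding.isClosedMap _ (hZ.preimage (c.inj g).left.continuous)
      · ext y
        constructor
        · rintro ⟨x, hx, rfl⟩
          obtain ⟨g, z, rfl⟩ := hcov x
          exact Set.mem_iUnion.2 ⟨g, z, hx, by rw [← hj, Scheme.Hom.comp_apply]⟩
        · intro hy
          obtain ⟨g, z, hz, rfl⟩ := Set.mem_iUnion.1 hy
          exact ⟨_, hz, by rw [← hj, Scheme.Hom.comp_apply]⟩
    have hinj : Function.Injective j := by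
      have : UniversallyInjective j := inferInstance
      exact j.injective
    have hst : ∀ x, Function.Surjective (j.stalkMap x) := fun x => by
      obtain ⟨g, z, rfl⟩ := hcov x
      have := hcl g
      have hs' : Function.Surjective (((c.inj g).left ≫ j).stalkMap z) := by
        rw [hj]; exact (δ g).left.stalkMap_surjective z
      rw [Scheme.Hom.stalkMap_comp] at hs'
      have := ho g
      intro y
      obtain ⟨w, hw⟩ := hs' ((c.inj g).left.stalkMap z y)
      exact ⟨w, (ConcreteCategory.bijective_of_isIso ((c.inj g).left.stalkMap z)).1 hw⟩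
    have : SurjectiveOnStalks j := ⟨hst⟩
    have : IsPreimmersion j :=
      ⟨(IsClosedEmbedding.of_continuous_injective_isClosedMap j.continuous hinj hclm).isEmbedding⟩
    exact IsClosedImmersion.of_isPreimmersion j (by rw [← Set.image_univ]; exact hclm _ isClosed_univ)

end Groth.Agent.H12AlgSp
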