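import Groth.Agent.H12AlgSp.FppfBootstrap
import Groth.Agent.H12AlgSp.GroupObj

/-!
Quotients of free actions of flat group spaces.
-/

set_option linter.unusedVariables false
set_option backward.isDefEq.respectTransparency false

universe u

open CategoryTheory CategoryTheory.Limits AlgebraicGeometry MonoidalCategory MonObj CartesianMonoidalCategory
open AlgSp

namespace Groth.Agent.H12AlgSp

variable {S : Scheme.{u}} {B : Sp S} {G X : Over B} [GrpObj G]

theorem act_mul (a : GAction G X) {Z : Over B} (p q : Z ⟶ G) (y : Z ⟶ X) :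
    lift (p * q) y ≫ a.act = lift p (lift q y ≫ a.act) ≫ a.act := by
  have := lift (lift p q) y ≫= a.mul_act
  rw [← Category.assoc, lift_whiskerRight, ← Category.assoc, lift_lift_associator_hom,
    ← Category.assoc, lift_whiskerLeft] at this
  exact this

theorem act_one (a : GAction G X) {Z : Over B} (y : Z ⟶ X) : lift (1 : Z ⟶ G) y ≫ a.act = y := by
  have := lift (toUnit Z) y ≫= a.one_act
  rw [← Category.assoc, lift_whiskerRight, lift_leftUnitor_hom] at this
  exact this

theorem isEqvRelSp_of_isFree (a : GAction G X) (ha : a.IsFree) :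
    IsEqvRelSp (CartesianMonoidalCategory.snd G X).left a.act.left := by
  let σ := CartesianMonoidalCategory.snd G X
  have hm := mono_shear_of_isFree G a ha
  refine ⟨fun T r r' h₁ h₂ => ?_, fun T => ⟨fun x => ?_, fun {x y} h => ?_, fun {x y z} h h' => ?_⟩⟩
  · rw [← cancel_mono (lift a.act σ).left]
    apply pullback.hom_ext
    · have e : (lift a.act σ).left ≫ pullback.fst X.hom X.hom = a.act.left :=
        congrArg (fun f : G ⊗ X ⟶ X => f.left) (lift_fst a.act σ)
      rw [Category.assoc, Category.assoc, e, h₁]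
    · have e : (lift a.act σ).left ≫ pullback.snd X.hom X.hom = σ.left :=
        congrArg (fun f : G ⊗ X ⟶ X => f.left) (lift_snd a.act σ)
      rw [Category.assoc, Category.assoc, e, h₂]
  · let x' : Over.mk (x ≫ X.hom) ⟶ X := Over.homMk x rfl
    let r' := lift (1 : Over.mk (x ≫ X.hom) ⟶ G) x'
    exact ⟨r'.left, congrArg (fun f : Over.mk (x ≫ X.hom) ⟶ X => f.left) (act_one a x'),
      congrArg (fun f : Over.mk (x ≫ X.hom) ⟶ X => f.left) (lift_snd _ _)⟩
  · obtain ⟨r, rfl, rfl⟩ := h
    let ro : Over.mk (r ≫ (G ⊗ X).hom) ⟶ G ⊗ X := Over.homMk r rfl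
    let g := ro ≫ CartesianMonoidalCategory.fst G X
    let y' := ro ≫ σ
    have hr : ro = lift g y' := by ext <;> simp [g, y', σ]
    refine ⟨(lift g⁻¹ (ro ≫ a.act)).left, ?_, congrArg (fun f : Over.mk (r ≫ (G ⊗ X).hom) ⟶ X => f.left) (lift_snd _ _)⟩
    refine congrArg (fun f : Over.mk (r ≫ (G ⊗ X).hom) ⟶ X => f.left) (?_ : lift g⁻¹ (ro ≫ a.act) ≫ a.act = y')
    rw [hr, ← act_mul, inv_mul_cancel, act_one]
  · obtain ⟨r, rfl, hy⟩ := h
    obtain ⟨r', hy', rfl⟩ := h'
    let Z := Over.mk (r ≫ (G ⊗ X).hom)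
    have hb : r' ≫ (G ⊗ X).hom = r ≫ (G ⊗ X).hom :=
      (congrArg (r' ≫ ·) (Over.w a.act)).symm.trans (((Category.assoc _ _ _).symm.trans
        (congrArg (· ≫ X.hom) (hy'.trans hy.symm))).trans ((Category.assoc _ _ _).trans (congrArg (r ≫ ·) (Over.w σ))))
    let ro : Z ⟶ G ⊗ X := Over.homMk r rfl
    let ro' : Z ⟶ G ⊗ X := Over.homMk r' hb
    let g := ro ≫ CartesianMonoidalCategory.fst G X
    let g' := ro' ≫ CartesianMonoidalCategory.fst G X
    let z' := ro' ≫ σ
    have hmid : ro ≫ σ = ro' ≫ a.act := Over.OverMorphism.ext (hy.trans hy'.symm)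
    have hr : ro = lift g (ro ≫ σ) := by ext <;> simp [g, σ]
    have hr' : ro' = lift g' z' := by ext <;> simp [g', z', σ]
    refine ⟨(lift (g * g') z').left, ?_, congrArg (fun f : Z ⟶ X => f.left) (lift_snd _ _)⟩
    refine congrArg (fun f : Z ⟶ X => f.left) (?_ : lift (g * g') z' ≫ a.act = ro ≫ a.act)
    rw [act_mul, ← hr', ← hmid, ← hr]

/-- The quotient of a free action of a flat, lfp group space is a space, and `X` is a torsor over it. -/
theorem free_quot (hB : IsAlgSpace B) (hG : IsAlgSpace G.left) (hX : IsAlgSpace X.left) (a : GAction G X)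
    (ha : a.IsFree) (hfl : LocP @Flat G.hom ∧ LocP @LocallyOfFinitePresentation G.hom) :
    IsAlgSpace a.quot ∧
      (IsSurjectiveMor a.quotπ ∧ LocP @Flat a.quotπ ∧ LocP @LocallyOfFinitePresentation a.quotπ) ∧
      IsIso (pullback.lift a.act.left (CartesianMonoidalCategory.snd G X).left
        (quotSp_condition (CartesianMonoidalCategory.snd G X).left a.act.left).symm :
          (G ⊗ X).left ⟶ pullback a.quotπ a.quotπ) := by
  have hR : IsAlgSpace (G ⊗ X).left := isAlgSpace_pullback hB.diag hG hX G.hom X.hom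
  have sqR : IsPullback (CartesianMonoidalCategory.fst G X).left (CartesianMonoidalCategory.snd G X).left G.hom X.hom :=
    IsPullback.of_hasPullback G.hom X.hom
  have hsf := locP_of_isPullback etLocal_flat sqR hG hB hX hfl.1
  have hsp := locP_of_isPullback etLocal_lfp sqR hG hB hX hfl.2
  have hj := isEqvRelSp_of_isFree a ha
  have hF : IsAlgSpace a.quot := isAlgSpace_quotSp hR hX hj hsf hsp
  have key := quot_repBySp hR hX hj hsf hsp
  have sq := isPullback_quotSpπ hj
  refine ⟨hF, ?_, ?_⟩
  · obtain ⟨V, d, hd, hds⟩ := hF.atlas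
    obtain ⟨-, hsur, hflat, hfp⟩ := key d _ _ (IsPullback.of_hasPullback (quotSpπ _ _) d)
    refine ⟨fun y => ?_, locP_of_target_cover etLocal_flat hX hF hd hds (IsPullback.of_hasPullback _ d) hflat,
      locP_of_target_cover etLocal_lfp hX hF hd hds (IsPullback.of_hasPullback _ d) hfp⟩
    obtain ⟨v, rfl⟩ := surjective_map_of_repWith le_rfl hds y
    obtain ⟨w, rfl⟩ := hsur v
    refine ⟨Points.map (pullback.fst _ d) w, ?_⟩
    rw [← Points.map_comp, ← Points.map_comp]
    exact congrArg (fun f => Points.map f w) pullback.condition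
  · rw [show pullback.lift a.act.left (CartesianMonoidalCategory.snd G X).left _ = sq.isoPullback.hom from
      pullback.hom_ext ((pullback.lift_fst _ _ _).trans sq.isoPullback_hom_fst.symm)
        ((pullback.lift_snd _ _ _).trans sq.isoPullback_hom_snd.symm)]
    infer_instance

end Groth.Agent.H12AlgSp
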