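import Groth.Agent.H12AlgSp.Bootstrap
import Groth.Agent.H12AlgSp.FreeGroupQuot
import Mathlib.RingTheory.Etale.Field
import Mathlib.FieldTheory.Galois.Basic

/-!
Field valued points of the quotient of a scheme by a free action of an abstract group.
-/

set_option backward.isDefEq.respectTransparency false

universe u

open CategoryTheory CategoryTheory.Limits AlgebraicGeometry Opposite
open AlgSp Groth.Agent.H13AlgSp

namespace Groth.Agent.H12AlgSp.GaloisData

variable {S : Scheme.{u}}

/-- A surjective étale scheme over a field has a point in a finite separable extension. -/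
theorem exists_separable_point {k : Type u} [Field k] {W : Scheme.{u}} (q : W ⟶ Spec (CommRingCat.of k))
    [Etale q] [Surjective q] :
    ∃ (L : Type u) (_ : Field L) (_ : Algebra k L) (_ : FiniteDimensional k L) (_ : Algebra.IsSeparable k L)
      (w : Spec (CommRingCat.of L) ⟶ W), w ≫ q = Spec.map (CommRingCat.ofHom (algebraMap k L)) := by
  obtain ⟨z, -⟩ := q.surjective (IsLocalRing.closedPoint k)
  obtain ⟨_, ⟨V, hV, rfl⟩, hz, -⟩ :=
    W.isBasis_affineOpens.exists_subset_of_mem_open (Set.mem_univ z) isOpen_univ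
  obtain ⟨ψ, hψ⟩ := Spec.map_surjective (hV.fromSpec ≫ q)
  have hE : Etale (Spec.map ψ) := by
    rw [hψ]
    infer_instance
  have hE' : ψ.hom.Etale := (HasRingHomProperty.Spec_iff (P := @Etale)).1 hE
  algebraize [ψ.hom]
  obtain ⟨I, hI, A, hAf, hAa, e, hA⟩ := (Algebra.Etale.iff_exists_algEquiv_prod k Γ(W, V)).1 inferInstance
  have : Nonempty I := by
    by_contra hne
    rw [not_nonempty_iff] at hne
    have : Subsingleton Γ(W, V) := e.toEquiv.subsingleton
    have : Nontrivial Γ(W, V) := PrimeSpectrum.nonempty_iff_nontrivial.1 ⟨hV.primeIdealOf ⟨z, hz⟩⟩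
    exact false_of_nontrivial_of_subsingleton Γ(W, V)
  obtain ⟨i⟩ := this
  let π : Γ(W, V) →ₐ[k] A i := (Pi.evalAlgHom k A i).comp e.toAlgHom
  refine ⟨A i, hAf i, hAa i, (hA i).1, (hA i).2, Spec.map (CommRingCat.ofHom π.toRingHom) ≫ hV.fromSpec, ?_⟩
  rw [Category.assoc, ← hψ, ← Spec.map_comp]
  congr 1
  ext a
  exact π.commutes a

variable {U : Over S} {G : Type u} [Group G] {ρ : G →* Aut U}
  (hfree : ∀ (g : G) (x : U.left), g ≠ 1 →
      U.left.fromSpecResidueField x ≫ (ρ g).hom.left ≠ U.left.fromSpecResidueField x)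
  {c : Cofan (fun _ : G => U)} (hc : IsColimit c) {s t : c.pt ⟶ U}
  (hs : ∀ g, c.inj g ≫ s = 𝟙 U) (ht : ∀ g, c.inj g ≫ t = (ρ g).hom)

theorem hom_left_mul (p q : G) : (ρ (p * q)).hom = (ρ q).hom ≫ (ρ p).hom := by rw [map_mul]; rfl

include hfree in
theorem act_injective {T : Over S} (τ : T.left) (x : T ⟶ U) {g g' : G}
    (h : x ≫ (ρ g).hom = x ≫ (ρ g').hom) : g = g' :=
  index_eq hfree τ x g g'
    (congrArg (fun f : T ⟶ U => T.left.fromSpecResidueField τ ≫ f.left) h)

include hfree hc hs ht in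
theorem exists_translate {T : Over S} [Subsingleton T.left] (τ : T.left) (x y : T ⟶ U)
    (h : (yon S).map x ≫ quotMap s t = (yon S).map y ≫ quotMap s t) :
    ∃ g : G, x = y ≫ (ρ g).hom := by
  obtain ⟨sq, -⟩ := isPullback_quotMap (isEtaleEqvRel_of_free hfree c hc s t hs ht).toIsEqvRel
  obtain ⟨r, hr⟩ := (yon S).map_surjective (sq.lift ((yon S).map x) ((yon S).map y) h)
  have hx : r ≫ t = x := (yon S).map_injective (by rw [Functor.map_comp, hr, sq.lift_fst])
  have hy : r ≫ s = y := (yon S).map_injective (by rw [Functor.map_comp, hr, sq.lift_snd])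
  obtain ⟨g, A, a, hA, ha⟩ := exists_summand_piece c hc r τ
  have : IsIso A.ι := by
    have : Surjective A.ι := ⟨fun z => ⟨⟨τ, hA⟩, Subsingleton.elim _ _⟩⟩
    have : Epi A.ι.base := (TopCat.epi_iff_surjective _).2 A.ι.surjective
    exact IsOpenImmersion.isIso _
  have : IsIso (openIncl T A) := by
    have : IsIso ((Over.forget S).map (openIncl T A)) := ‹IsIso A.ι›
    exact isIso_of_reflects_iso _ (Over.forget S)
  refine ⟨g, (cancel_epi (openIncl T A)).1 ?_⟩
  rw [← hx, ← hy]
  simp only [Category.assoc]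
  rw [← reassoc_of% ha, ← reassoc_of% ha, ht, reassoc_of% hs g]

/-- The object of `Over S` attached to a field over a base field. -/
noncomputable abbrev fldOver {k : Type u} [Field k] (σ : Spec (CommRingCat.of k) ⟶ S) (M : Type u) [Field M]
    [Algebra k M] : Over S :=
  Over.mk (Spec.map (CommRingCat.ofHom (algebraMap k M)) ≫ σ)

noncomputable abbrev fldMap {k : Type u} [Field k] (σ : Spec (CommRingCat.of k) ⟶ S) {M M' : Type u} [Field M]
    [Algebra k M] [Field M'] [Algebra k M'] (j : M →ₐ[k] M') : fldOver σ M' ⟶ fldOver σ M :=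
  Over.homMk (Spec.map (CommRingCat.ofHom j.toRingHom)) (by
    change Spec.map _ ≫ Spec.map _ ≫ σ = Spec.map _ ≫ σ
    rw [← Category.assoc, ← Spec.map_comp, ← CommRingCat.ofHom_comp]
    congr 3
    exact j.comp_algebraMap)

noncomputable abbrev fldStr {k : Type u} [Field k] (σ : Spec (CommRingCat.of k) ⟶ S) (M : Type u) [Field M]
    [Algebra k M] : fldOver σ M ⟶ Over.mk σ :=
  Over.homMk (Spec.map (CommRingCat.ofHom (algebraMap k M)))

theorem fldMap_comp {k : Type u} [Field k] (σ : Spec (CommRingCat.of k) ⟶ S) {M M' M'' : Type u} [Field M]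
    [Algebra k M] [Field M'] [Algebra k M'] [Field M''] [Algebra k M''] (j : M →ₐ[k] M') (j' : M' →ₐ[k] M'') :
    fldMap σ j' ≫ fldMap σ j = fldMap σ (j'.comp j) :=
  Over.OverMorphism.ext ((Spec.map_comp _ _).symm.trans rfl)

theorem fldMap_id {k : Type u} [Field k] (σ : Spec (CommRingCat.of k) ⟶ S) (M : Type u) [Field M] [Algebra k M] :
    fldMap σ (AlgHom.id k M) = 𝟙 _ :=
  Over.OverMorphism.ext (Spec.map_id _)

theorem fldMap_str {k : Type u} [Field k] (σ : Spec (CommRingCat.of k) ⟶ S) {M M' : Type u} [Field M]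
    [Algebra k M] [Field M'] [Algebra k M'] (j : M →ₐ[k] M') :
    fldMap σ j ≫ fldStr σ M = fldStr σ M' :=
  Over.OverMorphism.ext (by
    refine (Spec.map_comp _ _).symm.trans ?_
    congr 1
    ext a
    exact j.commutes a)

include hfree hc hs ht in
theorem exists_galois_point {k : Type u} [Field k] {σ : Spec (CommRingCat.of k) ⟶ S}
    (ξ : (yon S).obj (Over.mk σ) ⟶ QuotSh.quot Scheme.fppfPrecoverage s t) :
    ∃ (M : Type u) (_ : Field M) (_ : Algebra k M) (_ : FiniteDimensional k M) (_ : IsGalois k M)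
      (x : fldOver σ M ⟶ U), (yon S).map x ≫ quotMap s t = (yon S).map (fldStr σ M) ≫ ξ := by
  obtain ⟨-, hp⟩ := isAlgSpace_quot s t (isEtaleEqvRel_of_free hfree c hc s t hs ht)
  obtain ⟨W, snd, fst, sq⟩ := hp.etale.1 ξ
  have : Etale snd.left := hp.etale.2 ξ fst snd sq
  have : Surjective snd.left := hp.surjective.2 ξ fst snd sq
  obtain ⟨L, _, _, _, _, w, hw⟩ := exists_separable_point snd.left
  let wL : fldOver σ L ⟶ W := Over.homMk w (by
    change w ≫ W.hom = _
    rw [← Over.w snd, ← Category.assoc, hw]; rfl)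
  have hwL : wL ≫ snd = fldStr σ L := Over.OverMorphism.ext hw
  obtain ⟨x₀, hx₀⟩ := (yon S).map_surjective ((yon S).map wL ≫ fst)
  let Ksep := SeparableClosure k
  have : Nonempty (L →ₐ[k] Ksep) := ⟨IsSepClosed.lift⟩
  let M := IntermediateField.normalClosure k L Ksep
  refine ⟨M, inferInstance, inferInstance, inferInstance, ⟨?_, ?_⟩⟩
  · let f : L →ₐ[k] Ksep := IsSepClosed.lift
    let : Algebra L Ksep := f.toRingHom.toAlgebra
    have : IsScalarTower k L Ksep := IsScalarTower.of_algHom f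
    exact IsGalois.normalClosure k L Ksep
  · let j : L →ₐ[k] M := (IntermediateField.inclusion
      (AlgHom.fieldRange_le_normalClosure (IsSepClosed.lift : L →ₐ[k] Ksep))).comp
        (IsSepClosed.lift : L →ₐ[k] Ksep).rangeRestrict
    refine ⟨fldMap σ j ≫ x₀, ?_⟩
    rw [Functor.map_comp, Category.assoc, hx₀, Category.assoc, sq.w, ← Category.assoc ((yon S).map wL),
      ← Functor.map_comp, hwL, ← Category.assoc, ← Functor.map_comp, fldMap_str]

theorem field_cancel {M M' : Type u} [Field M] [Field M'] (f : M →+* M') {Z : Scheme.{u}}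
    {a b : Spec (CommRingCat.of M) ⟶ Z}
    (h : Spec.map (CommRingCat.ofHom f) ≫ a = Spec.map (CommRingCat.ofHom f) ≫ b) : a = b :=
  epi_field_extension (Spec.map (CommRingCat.ofHom f)) h

include hfree hc hs ht in
theorem main {k : Type u} [Field k] {σ : Spec (CommRingCat.of k) ⟶ S}
    (ξ : (yon S).obj (Over.mk σ) ⟶ QuotSh.quot Scheme.fppfPrecoverage s t) :
    ∃ (k' : Type u) (_ : Field k') (_ : Algebra k k') (_ : FiniteDimensional k k') (_ : IsGalois k k')
      (H : Subgroup G) (_ : Finite H) (e : H ≃* (k' ≃ₐ[k] k')) (x' : fldOver σ k' ⟶ U),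
      (∀ h : H, Spec.map (CommRingCat.ofHom (e h).symm.toRingEquiv.toRingHom) ≫ x'.left =
        x'.left ≫ (ρ (h : G)).hom.left) ∧
      (yon S).map x' ≫ quotMap s t = (yon S).map (fldStr σ k') ≫ ξ := by
  obtain ⟨M, _, _, _, _, x, hx⟩ := exists_galois_point hfree hc hs ht ξ
  let τ : Spec (CommRingCat.of M) := IsLocalRing.closedPoint M
  have : Subsingleton (fldOver σ M).left := inferInstanceAs (Subsingleton (PrimeSpectrum M))
  have hg : ∀ γ : M ≃ₐ[k] M, ∃ g : G, fldMap σ (γ.symm : M →ₐ[k] M) ≫ x = x ≫ (ρ g).hom := fun γ =>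
    exists_translate hfree hc hs ht τ _ _ (by
      rw [Functor.map_comp, Category.assoc, hx, ← Category.assoc, ← Functor.map_comp, fldMap_str])
  choose g hg using hg
  let f : (M ≃ₐ[k] M) →* G := MonoidHom.mk' g fun γ δ => by
    refine act_injective hfree (T := fldOver σ M) τ x ?_
    rw [hom_left_mul, ← hg, show ((γ * δ).symm : M →ₐ[k] M) = (δ.symm : M →ₐ[k] M).comp (γ.symm : M →ₐ[k] M)
      from rfl, ← fldMap_comp, Category.assoc, hg γ, reassoc_of% hg δ]
  let K := IntermediateField.fixedField f.ker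
  have hGal : IsGalois k K := IsGalois.of_fixedField_normal_subgroup f.ker
  obtain ⟨⟨u, φ⟩, hφ⟩ : ∃ p : Σ u : U.left, U.left.residueField u ⟶ CommRingCat.of M,
      Spec.map p.2 ≫ U.left.fromSpecResidueField p.1 = x.left :=
    ⟨Scheme.SpecToEquivOfField M U.left x.left, (Scheme.SpecToEquivOfField M U.left).symm_apply_apply x.left⟩
  have hfix : ∀ a, φ a ∈ K := fun a => by
    rintro ⟨γ, hγ⟩
    have h1 : fldMap σ (γ : M →ₐ[k] M) ≫ x = x := by
      have h2 := hg γ⁻¹
      rw [show g γ⁻¹ = 1 from f.ker.inv_mem hγ, map_one] at h2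
      exact h2.trans (Category.comp_id x)
    have h3 : Spec.map (CommRingCat.ofHom (γ : M →ₐ[k] M).toRingHom) ≫ x.left = x.left :=
      congrArg (fun m : fldOver σ M ⟶ U => m.left) h1
    rw [← hφ, ← Category.assoc, ← Spec.map_comp] at h3
    exact congrArg (fun m : U.left.residueField u ⟶ CommRingCat.of M => m a)
      (Spec.map_injective ((cancel_mono _).1 h3))
  let φ' : U.left.residueField u ⟶ CommRingCat.of K := CommRingCat.ofHom (φ.hom.codRestrict K hfix)
  have hφ' : φ' ≫ CommRingCat.ofHom (K.val.toRingHom) = φ := by ext a; rfl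
  have hw : (Spec.map φ' ≫ U.left.fromSpecResidueField u) ≫ U.hom = (fldOver σ K).hom := by
    refine field_cancel K.val.toRingHom ?_
    rw [← Category.assoc, ← Category.assoc, ← Spec.map_comp, hφ', hφ, Over.w x]
    exact (Over.w (fldMap σ K.val)).symm
  let x' : fldOver σ K ⟶ U := Over.homMk (Spec.map φ' ≫ U.left.fromSpecResidueField u) hw
  have hx' : fldMap σ K.val ≫ x' = x := Over.OverMorphism.ext (by
    change Spec.map _ ≫ Spec.map _ ≫ _ = x.left
    rw [← Category.assoc, ← Spec.map_comp, hφ', hφ])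
  have hxK : (yon S).map x' ≫ quotMap s t = (yon S).map (fldStr σ K) ≫ ξ := by
    have : Flat (fldMap σ K.val).left := flat_to_field (K := K) _
    have : LocallyOfFinitePresentation (fldMap σ K.val).left := by
      change LocallyOfFinitePresentation (Spec.map _)
      rw [HasRingHomProperty.Spec_iff (P := @LocallyOfFinitePresentation)]
      have : Module.Finite K M := Module.Finite.of_restrictScalars_finite k K M
      exact (RingHom.finitePresentation_algebraMap).2 (Algebra.FinitePresentation.of_finiteType.1 inferInstance)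
    refine hom_ext_of_cover (fun _ : PUnit.{u + 1} => fldMap σ K.val) (ofArrows_mem_J _
      (fun _ => inferInstance) (fun _ => inferInstance) fun z =>
        ⟨⟨⟩, τ, (inferInstance : Subsingleton (PrimeSpectrum K)).elim _ _⟩) fun _ => ?_
    rw [← Category.assoc, ← Functor.map_comp, hx', hx, ← Category.assoc, ← Functor.map_comp, fldMap_str]
  let rK : (M ≃ₐ[k] M) →* (K ≃ₐ[k] K) := AlgEquiv.restrictNormalHom K
  have hrK : ∀ γ : M ≃ₐ[k] M, K.val.comp ((rK γ).symm : K →ₐ[k] K) = (γ.symm : M →ₐ[k] M).comp K.val := fun γ => by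
    ext a
    change algebraMap K M ((rK γ)⁻¹ a) = γ⁻¹ (algebraMap K M a)
    rw [← map_inv]
    exact AlgEquiv.restrictNormal_commutes γ⁻¹ K a
  have hact : ∀ γ, fldMap σ ((rK γ).symm : K →ₐ[k] K) ≫ x' = x' ≫ (ρ (f γ)).hom := fun γ => by
    refine Over.OverMorphism.ext (field_cancel K.val.toRingHom ?_)
    refine congrArg (fun m : fldOver σ M ⟶ U => m.left)
      (?_ : fldMap σ K.val ≫ fldMap σ ((rK γ).symm : K →ₐ[k] K) ≫ x' = fldMap σ K.val ≫ x' ≫ (ρ (f γ)).hom)
    rw [← Category.assoc, fldMap_comp, hrK, ← fldMap_comp, Category.assoc, hx', reassoc_of% hx']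
    exact hg γ
  have hker : f.ker ≤ rK.ker := fun γ hγ => by
    refine AlgEquiv.ext fun a => Subtype.ext ?_
    exact (AlgEquiv.restrictNormal_commutes γ K a).trans (a.2 ⟨γ, hγ⟩)
  have hker' : rK.ker ≤ f.ker := fun γ hγ => by
    refine act_injective hfree (T := fldOver σ M) τ x (?_ : x ≫ (ρ (f γ)).hom = x ≫ (ρ 1).hom)
    have h0 := hact γ
    rw [show rK γ = 1 from hγ, show ((1 : K ≃ₐ[k] K).symm : K →ₐ[k] K) = AlgHom.id k K from rfl, fldMap_id,
      Category.id_comp] at h0
    rw [← hx', Category.assoc, ← h0, map_one]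
    exact (Category.comp_id _).symm
  let e₁ := QuotientGroup.quotientKerEquivRange f
  let e₂ := QuotientGroup.quotientKerEquivOfSurjective rK (AlgEquiv.restrictNormalHom_surjective M)
  let e₀ : (M ≃ₐ[k] M) ⧸ f.ker ≃* (M ≃ₐ[k] M) ⧸ rK.ker :=
    QuotientGroup.quotientMulEquivOfEq (le_antisymm hker hker')
  let e : f.range ≃* (K ≃ₐ[k] K) := (e₁.symm.trans e₀).trans e₂
  refine ⟨K, inferInstance, inferInstance, inferInstance, hGal, f.range,
    Finite.of_equiv _ e₁.toEquiv, e, x', ?_, hxK⟩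
  rintro ⟨_, γ, rfl⟩
  have he : e ⟨f γ, γ, rfl⟩ = rK γ := by
    have h1 : e₁.symm ⟨f γ, γ, rfl⟩ = (γ : (M ≃ₐ[k] M) ⧸ f.ker) := by
      rw [MulEquiv.symm_apply_eq]; rfl
    change e₂ (e₀ (e₁.symm _)) = _
    rw [h1]; rfl
  rw [he]
  exact congrArg (fun m : fldOver σ K ⟶ U => m.left) (hact γ)

end Groth.Agent.H12AlgSp.GaloisData
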