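import Groth.Agent.H12AlgSp.FiniteEtaleCover
import Groth.Agent.H12AlgSp.DecentLocal
import Groth.Agent.H12AlgSp.QSPullback
import Groth.Agent.H13AlgSp.DenseFinite

/-!
Zariski locally quasi-separated spaces have a dense open subscheme containing all codimension zero points.
-/

universe u

open CategoryTheory CategoryTheory.Limits AlgebraicGeometry Opposite Topology TopologicalSpace
open AlgSp Groth.Agent.H13AlgSp

namespace Groth.Agent.H12AlgSp

variable {S : Scheme.{u}}

/-- Codimension zero points of quasi-separated spaces lie in open subschemes, over any base. -/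
theorem exists_open_scheme_of_codimZero' {X : Sp S} (hX : IsAlgSpace X) (hqs : IsQuasiSeparatedSp X)
    {x : Points X} (hx : HasAt (fun U u => ringKrullDim ↥(U.presheaf.stalk u) = 0) X x) :
    ∃ (W : Set (Points X)) (Y : Over S) (μ : (yon S).obj Y ⟶ openSub W), IsIso μ ∧ IsOpen W ∧ x ∈ W := by
  obtain ⟨ι, T, a, hT, ha, hS, hcov⟩ := exists_affine_family_over hX
  obtain ⟨i, u, rfl⟩ := hcov x
  obtain ⟨W, hW, hTW⟩ := hS i
  have := hT i
  obtain ⟨R, s, t', sq⟩ := (ha i).1 (a i)
  obtain ⟨t, rfl⟩ := (yon S).map_surjective t'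
  have : CompactSpace ↥(pullback (T i).hom (T i).hom) :=
    compactSpace_pullback_of_small W hW (by rintro _ ⟨v, rfl⟩; exact hTW v) (by rintro _ ⟨v, rfl⟩; exact hTW v)
  have : CompactSpace R.left := compactSpace_of_isPullback hqs sq
  exact exists_open_scheme_at_generic hX (ha i) sq ((quasiCompact_iff_compactSpace _).2 inferInstance)
    ((codimZero_iff_mem_genericPoints hX (ha i) u).1 hx)

/-- Codimension zero can be detected in an open subspace. -/
theorem codimZero_of_openImmersion {X' X : Sp S} {j : X' ⟶ X} (hj : RepWith @IsOpenImmersion j)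
    {z : Points X'} (hz : CodimZero X (Points.map j z)) : CodimZero X' z := by
  obtain ⟨U, a, u, ha, hau, hu⟩ := hz
  obtain ⟨V, v, b, sq⟩ := hj.1 a
  have : IsOpenImmersion v.left := hj.2 _ _ _ sq
  obtain ⟨w, hw⟩ := (preimage_ofPt_range sq).le (show u ∈ Points.ofPt a ⁻¹' Set.range (Points.map j) from
    ⟨z, hau.symm⟩)
  have := mono_of_openImmersion hj
  refine ⟨V, b, w, repWith_of_isPullback sq.flip ha, ?_, ?_⟩
  · apply injective_map_of_mono j
    rw [Points.map_ofPt, sq.w, ofPt_map, hw]; exact hau
  · subst hw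
    exact (ringKrullDim_eq_of_ringEquiv
      (CategoryTheory.asIso (v.left.stalkMap w)).commRingCatIsoToRingEquiv).symm.trans hu

/-- A Zariski locally quasi-separated space has a dense open subscheme containing the codimension zero points. -/
theorem exists_dense_open_subscheme_zarQS (X : Space S) {ι : Type u} (Xi : ι → Space S) (j : ∀ i, Xi i ⟶ X)
    (hj : IsZarCover (fun i => (Xi i).obj) (fun i => (j i).hom)) (hq : ∀ i, IsQuasiSeparatedSp (Xi i).obj) :
    ∃ (X' : Space S) (j : X' ⟶ X), RepWith @IsOpenImmersion j.hom ∧ X'.obj.obj.IsRepresentable ∧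
      Dense (Set.range (Points.map j.hom)) ∧
      ∀ x : Points X.obj, HasAt (fun U u => ringKrullDim ↥(U.presheaf.stalk u) = 0) X.obj x →
        x ∈ Set.range (Points.map j.hom) := by
  obtain ⟨X', j', hj', hrep, hmax⟩ := exists_largest_open_subscheme X
  have hsub : ∀ x : Points X.obj, HasAt (fun U u => ringKrullDim ↥(U.presheaf.stalk u) = 0) X.obj x →
      x ∈ Set.range (Points.map j'.hom) := by
    intro x hx
    obtain ⟨i, z, rfl⟩ := hj.2 x
    obtain ⟨W, Y, μ, hμ, hW, hzW⟩ := exists_open_scheme_of_codimZero' (Xi i).property (hq i)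
      (codimZero_of_openImmersion (hj.1 i) hx)
    obtain ⟨X'', j'', hj'', hrep'', hr⟩ := exists_subspace_of_open_scheme (Xi i) hW μ
    obtain ⟨k, hk⟩ := hmax X'' (j'' ≫ j i) (repWith_comp hj'' (hj.1 i)) hrep''
    obtain ⟨y, rfl⟩ := hr.ge hzW
    refine ⟨Points.map k.hom y, ?_⟩
    rw [← Points.map_comp, ← Points.map_comp]
    exact congrArg (fun g => Points.map g y) (congrArg InducedCategory.Hom.hom hk)
  exact ⟨X', j', hj', hrep, (dense_codimZero X.property).mono hsub, hsub⟩

end Groth.Agent.H12AlgSp
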