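import Groth.Agent.H12AlgSp.LargeFieldPoints
import Groth.Agent.H12AlgSp.GroupObj
import Groth.Agent.H12AlgSp.LocQSScheme
import Groth.Agent.H13AlgSp.ExtRep
import Groth.Agent.H13AlgSp.ProdConn
import Groth.Agent.H13AlgSp.FieldExtConn
import Groth.Agent.H12AlgSp.FiniteTypeCriteria

/-!
Separated group spaces over fields become schemes over large algebraically closed fields.
-/

set_option backward.isDefEq.respectTransparency false

universe u

open CategoryTheory CategoryTheory.Limits AlgebraicGeometry MonoidalCategory MonObj CartesianMonoidalCategory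
  Topology
open AlgSp Groth.Agent.H13AlgSp

namespace Groth.Agent.H12AlgSp

open scoped TensorProduct

variable {k : Type u} [Field k]

/-- The spectrum of a tensor product is the product of spectra as sheaves. -/
theorem exists_iso_prod_algObj (A B : Type u) [CommRing A] [CommRing B] [Algebra k A] [Algebra k B] :
    ∃ e : (yon _).obj (algObj k (B ⊗[k] A)) ≅ (yon _).obj (algObj k A) ⨯ (yon _).obj (algObj k B),
      e.hom ≫ prod.fst = (yon _).map (algHomOver Algebra.TensorProduct.includeRight) ∧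
        e.hom ≫ prod.snd = (yon _).map (algHomOver Algebra.TensorProduct.includeLeft) := by
  let i : algObj k (B ⊗[k] A) ⟶ algObj k A := algHomOver Algebra.TensorProduct.includeRight
  let j : algObj k (B ⊗[k] A) ⟶ algObj k B := algHomOver Algebra.TensorProduct.includeLeft
  have hT : IsTerminal ((yon (Spec (CommRingCat.of k))).obj (Over.mk (𝟙 _))) :=
    IsTerminal.isTerminalObj (yon _) _ Over.mkIdTerminal
  have hA : (Over.mkIdTerminal.from (algObj k A)).left = Spec.map (CommRingCat.ofHom (algebraMap k A)) :=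
    (Category.comp_id _).symm.trans (Over.w (Over.mkIdTerminal.from (algObj k A)))
  have hB : (Over.mkIdTerminal.from (algObj k B)).left = Spec.map (CommRingCat.ofHom (algebraMap k B)) :=
    (Category.comp_id _).symm.trans (Over.w (Over.mkIdTerminal.from (algObj k B)))
  have hsch : IsPullback i.left j.left (Over.mkIdTerminal.from (algObj k A)).left
      (Over.mkIdTerminal.from (algObj k B)).left := by
    rw [hA, hB]
    exact ((IsPullback.of_hasPullback (Spec.map (CommRingCat.ofHom (algebraMap k B)))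
      (Spec.map (CommRingCat.ofHom (algebraMap k A)))).of_iso (pullbackSpecIso k B A) (Iso.refl _) (Iso.refl _)
        (Iso.refl _) ((Category.comp_id _).trans (pullbackSpecIso_hom_fst k B A).symm)
        ((Category.comp_id _).trans (pullbackSpecIso_hom_snd k B A).symm)
        ((Category.comp_id _).trans (Category.id_comp _).symm) ((Category.comp_id _).trans (Category.id_comp _).symm)).flip
  have sq := (IsPullback.of_map (Over.forget _) (f := i) (g := j) (h := Over.mkIdTerminal.from (algObj k A))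
    (i := Over.mkIdTerminal.from (algObj k B)) (Over.mkIdTerminal.hom_ext _ _) hsch).map
      (yon (Spec (CommRingCat.of k)))
  rw [hT.hom_ext ((yon _).map (Over.mkIdTerminal.from (algObj k A))) (hT.from _),
    hT.hom_ext ((yon _).map (Over.mkIdTerminal.from (algObj k B))) (hT.from _)] at sq
  have sqP := IsPullback.of_is_product (prodIsProd ((yon _).obj (algObj k A)) ((yon _).obj (algObj k B))) hT
  exact ⟨sq.isoIsPullback _ _ sqP, sq.isoIsPullback_hom_fst _ _ sqP, sq.isoIsPullback_hom_snd _ _ sqP⟩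

/-- The translation of a base change of a group space by a section. -/
theorem exists_translation
    (G : Over ((yon (Spec (CommRingCat.of k))).obj (Over.mk (𝟙 _)))) [GrpObj G]
    (T : Sp (Spec (CommRingCat.of k))) (sec sec' : T ⟶ G.left ⨯ T) (hsec : sec ≫ prod.snd = 𝟙 T)
    (hsec' : sec' ≫ prod.snd = 𝟙 T) : ∃ φ : G.left ⨯ T ≅ G.left ⨯ T, sec' ≫ φ.hom = sec := by
  let B := (yon (Spec (CommRingCat.of k))).obj (Over.mk (𝟙 _))
  have hT : IsTerminal B := IsTerminal.isTerminalObj (yon _) _ Over.mkIdTerminal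
  let X' : Over B := Over.mk (hT.from (G.left ⨯ T))
  let E : Over B := Over.mk (hT.from T)
  let π₁ : X' ⟶ G := Over.homMk (prod.fst : G.left ⨯ T ⟶ G.left) (hT.hom_ext _ _)
  let π₂ : X' ⟶ E := Over.homMk (prod.snd : G.left ⨯ T ⟶ T) (hT.hom_ext _ _)
  let g : E ⟶ G := Over.homMk (sec ≫ prod.fst) (hT.hom_ext _ _)
  let g' : E ⟶ G := Over.homMk (sec' ≫ prod.fst) (hT.hom_ext _ _)
  let A : (E ⟶ G) → (X' ⟶ X') := fun h =>
    Over.homMk (prod.lift ((π₂ ≫ h) * π₁).left prod.snd) (hT.hom_ext _ _)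
  have hA₁ : ∀ h, A h ≫ π₁ = (π₂ ≫ h) * π₁ := fun h => Over.OverMorphism.ext (prod.lift_fst _ _)
  have hA₂ : ∀ h, A h ≫ π₂ = π₂ := fun h => Over.OverMorphism.ext (prod.lift_snd _ _)
  have hext : ∀ (Y : Over B) (a b : Y ⟶ X'), a ≫ π₁ = b ≫ π₁ → a ≫ π₂ = b ≫ π₂ → a = b := fun Y a b e₁ e₂ =>
    Over.OverMorphism.ext (prod.hom_ext (congrArg CommaMorphism.left e₁) (congrArg CommaMorphism.left e₂))
  have hcomp : ∀ h h', A h ≫ A h' = A (h' * h) := fun h h' => hext _ _ _
    (by rw [Category.assoc, hA₁, MonObj.comp_mul, ← Category.assoc, hA₂, hA₁, hA₁, MonObj.comp_mul, _root_.mul_assoc])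
    (by rw [Category.assoc, hA₂, hA₂, hA₂])
  have hone : A 1 = 𝟙 X' := hext _ _ _
    (by rw [hA₁, MonObj.comp_one, _root_.one_mul, Category.id_comp]) (by rw [hA₂, Category.id_comp])
  let c : E ⟶ X' := Over.homMk sec' (hT.hom_ext _ _)
  let c₀ : E ⟶ X' := Over.homMk sec (hT.hom_ext _ _)
  have hc₂ : c ≫ π₂ = 𝟙 E := Over.OverMorphism.ext hsec'
  have key : c ≫ A (g * g'⁻¹) = c₀ := hext _ _ _
    (by
      rw [Category.assoc, hA₁, MonObj.comp_mul, ← Category.assoc, hc₂, Category.id_comp,
        show c ≫ π₁ = g' from rfl, inv_mul_cancel_right]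
      rfl)
    (by rw [Category.assoc, hA₂, hc₂]; exact (Over.OverMorphism.ext hsec).symm)
  let φ : X' ≅ X' :=
    { hom := A (g * g'⁻¹)
      inv := A (g * g'⁻¹)⁻¹
      hom_inv_id := by rw [hcomp, inv_mul_cancel, hone]
      inv_hom_id := by rw [hcomp, mul_inv_cancel, hone] }
  exact ⟨(Over.forget B).mapIso φ, congrArg CommaMorphism.left key⟩

/-- The base change of an affine chart. -/
theorem exists_ratPoint_of_chart {G : Sp (Spec (CommRingCat.of k))} {K A : Type u} [Field K] [Algebra k K]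
    [IsAlgClosed K] [CommRing A] [Algebra k A] (hA : Cardinal.mk A < Cardinal.mk K)
    (hK : Cardinal.aleph0 < Cardinal.mk K)
    (a : (yon _).obj (algObj k A) ⟶ G) (x : Points (bcSp G K))
    (hx : Points.map prod.fst x ∈ Set.range (Points.ofPt a)) (O : Set (Points (bcSp G K))) (hO : IsOpen O)
    (hxO : x ∈ O) :
    ∃ sec : (yon _).obj (extObj k K) ⟶ bcSp G K, sec ≫ prod.snd = 𝟙 _ ∧
      ∀ t, Points.ofPt sec t ∈ O ∧ Points.ofPt sec t ∈ closure {x} := by
  obtain ⟨e, -, he⟩ := exists_iso_prod_algObj (k := k) A K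
  obtain ⟨a₀, ha₀⟩ := hx
  obtain ⟨z, hz, -⟩ := exists_point_of_isPullback
    (isPullback_prod_map_fst' (Y := (yon _).obj (extObj k K)) a) x _ (ha₀.symm.trans (Points.ofPt_eq_map_ofScheme a a₀))
  let q := e.hom ≫ prod.map a (𝟙 _)
  obtain ⟨u, hu⟩ : ∃ u, Points.ofPt q u = x := by
    rw [← Set.mem_range, ← range_map_yon]
    exact ⟨Points.map e.inv z, by simp only [q, ← Points.map_comp, Iso.inv_hom_id_assoc, hz]⟩
  obtain ⟨D, hDb, hu', hD⟩ := PrimeSpectrum.isTopologicalBasis_basic_opens.exists_subset_of_mem_open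
    (show u ∈ Points.ofPt q ⁻¹' O by rw [Set.mem_preimage, hu]; exact hxO)
    (hO.preimage (Points.continuous_ofPt q))
  obtain ⟨f, rfl⟩ := hDb
  obtain ⟨φ, hφu, hφf⟩ := exists_algHom_baseChange hA hK u.asIdeal f hu'
  let σ : extObj k K ⟶ algObj k (K ⊗[k] A) := algHomOver (φ.restrictScalars k)
  refine ⟨(yon _).map σ ≫ q, ?_, fun t => ?_⟩
  · have h1 : q ≫ prod.snd = (yon _).map (algHomOver Algebra.TensorProduct.includeLeft) := by
      simp only [q, Category.assoc, prod.map_snd, Category.comp_id, he]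
    rw [Category.assoc, h1, ← Functor.map_comp, ← (yon (Spec (CommRingCat.of k))).map_id]
    congr 1
    refine Over.OverMorphism.ext ?_
    change Spec.map _ ≫ Spec.map _ = 𝟙 _
    rw [← Spec.map_comp, ← Spec.map_id]
    congr 1
    exact CommRingCat.hom_ext (RingHom.ext fun c => φ.commutes c)
  · have hv : (σ.left t).asIdeal = RingHom.ker φ := by
      change Ideal.comap φ t.asIdeal = Ideal.comap φ ⊥
      rw [Ideal.eq_bot_of_prime t.asIdeal]
    rw [ofPt_map]
    refine ⟨hD fun h => hφf (RingHom.mem_ker.1 (hv ▸ h)), ?_⟩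
    rw [← hu]
    exact specializes_iff_mem_closure.1
      (((PrimeSpectrum.le_iff_specializes u (σ.left t)).1 (hv ▸ hφu : u.asIdeal ≤ (σ.left t).asIdeal)).map
        (Points.continuous_ofPt q))

/-- Points having an open neighbourhood which is a scheme. -/
theorem mem_range_openImm_comp {X : Sp (Spec (CommRingCat.of k))} (φ : X ≅ X) {x : Points X}
    (h : ∃ (Z : Over (Spec (CommRingCat.of k))) (j : (yon _).obj Z ⟶ X),
      RepWith @IsOpenImmersion j ∧ x ∈ Set.range (Points.map j)) :
    ∃ (Z : Over (Spec (CommRingCat.of k))) (j : (yon _).obj Z ⟶ X),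
      RepWith @IsOpenImmersion j ∧ Points.map φ.hom x ∈ Set.range (Points.map j) := by
  obtain ⟨Z, j, hj, z, rfl⟩ := h
  exact ⟨Z, j ≫ φ.hom, repWith_comp hj (repWith_of_isIso _), z, by rw [← Points.map_comp]⟩

/-- A separated group space over a field is a scheme over some algebraically closed extension. -/
theorem exists_isRepresentable_bc_groupSpace
    (G : Over ((yon (Spec (CommRingCat.of k))).obj (Over.mk (𝟙 _)))) [GrpObj G]
    (hG : IsAlgSpace G.left) (hsep : IsSeparatedSp G.left) :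
    ∃ (K : Type u) (_ : Field K) (_ : Algebra k K), IsAlgClosed K ∧ (bcSp G.left K).obj.IsRepresentable := by
  classical
  obtain ⟨U, p, -, hps⟩ := hG.atlas
  obtain ⟨K, _, _, hcl, hcard, hK⟩ := exists_isAlgClosed_extension_mk_gt k
    (Σ B : U.left.affineOpens, Γ(U.left, B.1))
  refine ⟨K, inferInstance, inferInstance, hcl, ?_⟩
  let X := bcSp G.left K
  let T := (yon (Spec (CommRingCat.of k))).obj (extObj k K)
  let W : Set (Points X) := {x | ∃ (Z : Over (Spec (CommRingCat.of k))) (j : (yon _).obj Z ⟶ X),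
    RepWith @IsOpenImmersion j ∧ x ∈ Set.range (Points.map j)}
  have hW : IsOpen W := isOpen_iff_mem_nhds.2 fun x ⟨Z, j, hj, hx⟩ => Filter.mem_of_superset
    ((isOpenMap_map_of_repWith (fun _ _ k (_ : IsOpenImmersion k) => inferInstance) hj).isOpen_range.mem_nhds hx)
    fun y hy => ⟨Z, j, hj, hy⟩
  have key : ∀ (x : Points X) (O : Set (Points X)), IsOpen O → x ∈ O →
      ∃ sec : T ⟶ X, sec ≫ prod.snd = 𝟙 _ ∧ ∀ t, Points.ofPt sec t ∈ O ∧ Points.ofPt sec t ∈ closure {x} := by
    intro x O hO hxO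
    obtain ⟨u, hu⟩ := surjective_ofPt_of_repWith le_rfl hps (Points.map prod.fst x)
    obtain ⟨B, hB, huB, -⟩ := exists_isAffineOpen_mem_and_subset (TopologicalSpace.Opens.mem_top u)
    let ψ := Spec.preimage (hB.fromSpec ≫ U.hom)
    let _ : Algebra k Γ(U.left, B) := ψ.hom.toAlgebra
    let b : algObj k Γ(U.left, B) ⟶ U := Over.homMk hB.fromSpec
      ((Spec.map_preimage (hB.fromSpec ≫ U.hom)).symm)
    refine exists_ratPoint_of_chart
      ((Cardinal.mk_le_of_injective (sigma_mk_injective (i := (⟨B, hB⟩ : U.left.affineOpens)))).trans_lt hcard) hK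
      ((yon _).map b ≫ p) x ?_ O hO hxO
    obtain ⟨v, hv⟩ : u ∈ Set.range hB.fromSpec := hB.range_fromSpec ▸ huB
    exact ⟨v, by rw [ofPt_map]; exact (congrArg (Points.ofPt p) hv).trans hu⟩
  have hall : ∀ x : Points X, x ∈ W := by
    intro x
    by_contra hx
    obtain ⟨s, hs, hsx⟩ := key x Set.univ isOpen_univ trivial
    let t : ↥(extObj k K).left := IsLocalRing.closedPoint K
    have hsW : Points.ofPt s t ∉ W := fun h =>
      (hW.isClosed_compl.closure_subset_iff.2 (Set.singleton_subset_iff.2 hx) (hsx t).2) h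
    have hqs : IsQuasiSeparatedSp G.left := ⟨hsep.1, fun _ _ _ _ m sq =>
      have : IsClosedImmersion m.left := hsep.2 _ _ m sq
      (inferInstance : QuasiCompact m.left)⟩
    have : IsZarCover (fun _ : PUnit.{u + 1} => G.left) fun _ => 𝟙 G.left :=
      ⟨fun _ => repWith_of_isIso _, fun y => ⟨PUnit.unit, y, Points.map_id y⟩⟩
    obtain ⟨G', j, hj, hrep, hdense, -⟩ := exists_dense_open_subscheme_zarQS
      (⟨G.left, hG⟩ : Space (Spec (CommRingCat.of k))) (fun _ : PUnit.{u + 1} => ⟨G.left, hG⟩)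
      (fun _ => 𝟙 _) this (fun _ => hqs)
    obtain ⟨_, ⟨w, rfl⟩, -⟩ := hdense.exists_mem_open isOpen_univ ⟨Points.map prod.fst x, trivial⟩
    obtain ⟨Z₀, ⟨ν⟩⟩ := isRepresentable_iff_exists_iso.1 hrep
    obtain ⟨r, sqB⟩ := exists_bcSp_square G.left K
    have : Subsingleton (Points ((yon (Spec (CommRingCat.of k))).obj (Over.mk (𝟙 _)))) :=
      subsingleton_points_spec _
    have : Nonempty (Points T) := ⟨Points.ofScheme _ t⟩
    obtain ⟨x₁, hx₁, -⟩ := exists_point_of_isPullback sqB (Points.map j.hom w) (Classical.arbitrary _)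
      (Subsingleton.elim _ _)
    have hx₁W : x₁ ∈ W := by
      obtain ⟨z, -, hz'⟩ := exists_point_of_isPullback (isPullback_prod_map_fst' (Y := T) j.hom).flip w x₁ hx₁.symm
      refine ⟨Z₀ ⨯ extObj k K,
        (PreservesLimitPair.iso (yon _) Z₀ (extObj k K)).hom ≫ prod.map ν.hom (𝟙 _) ≫ prod.map j.hom (𝟙 _),
        repWith_comp (repWith_of_isIso _) (repWith_comp (repWith_of_isIso _)
          (repWith_of_isPullback (isPullback_prod_map_fst' (Y := T) j.hom).flip hj)),
        Points.map (inv ((PreservesLimitPair.iso (yon _) Z₀ (extObj k K)).hom ≫ prod.map ν.hom (𝟙 _))) z, ?_⟩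
      rw [← Points.map_comp, ← Category.assoc ((PreservesLimitPair.iso (yon _) Z₀ (extObj k K)).hom),
        IsIso.inv_hom_id_assoc]
      exact hz'
    obtain ⟨s', hs', hs'W⟩ := key x₁ W hW hx₁W
    obtain ⟨φ, hφ⟩ := exists_translation G T s s' hs hs'
    refine hsW ?_
    have := mem_range_openImm_comp φ (hs'W t).1
    rwa [Points.map_ofPt, hφ] at this
  let π : (yon _).obj (U ⨯ extObj k K) ⟶ X :=
    (PreservesLimitPair.iso (yon _) U (extObj k K)).hom ≫ prod.map p (𝟙 _)
  have hπ : ∀ x : Points X, ∃ v, Points.ofPt π v = x := by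
    intro x
    obtain ⟨u, hu⟩ := surjective_ofPt_of_repWith le_rfl hps (Points.map prod.fst x)
    obtain ⟨z, hz, -⟩ := exists_point_of_isPullback (isPullback_prod_map_fst' (Y := T) p) x _
      (hu.symm.trans (Points.ofPt_eq_map_ofScheme p u))
    rw [← Set.mem_range, ← range_map_yon]
    exact ⟨Points.map (PreservesLimitPair.iso (yon _) U (extObj k K)).inv z,
      by simp only [π, ← Points.map_comp, Iso.inv_hom_id_assoc]; exact hz⟩
  choose Z j hj hjm using fun v => hall (Points.ofPt π v)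
  obtain ⟨M, e, he⟩ := exists_iso_of_openCover Z j hj fun T' y t => by
    obtain ⟨v, hv⟩ := hπ (Points.ofPt y t)
    exact ⟨v, hv ▸ hjm v⟩
  exact isRepresentable_iff_exists_iso.2 ⟨M, ⟨asIso e⟩⟩

end Groth.Agent.H12AlgSp
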