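import Groth.Agent.H12AlgSp.OpenLoci
import Groth.Agent.H12AlgSp.FieldGroupoid

/-!
Loci of group spaces: homogeneity along the fibres.
-/

set_option backward.isDefEq.respectTransparency false

universe u

open CategoryTheory CategoryTheory.Limits AlgebraicGeometry MonoidalCategory MonObj CartesianMonoidalCategory Topology
open AlgSp

namespace Groth.Agent.H12AlgSp

variable {S : Scheme.{u}}

/-- Being in a locus `L` is invariant under base change. -/
def LocusBC (L : ∀ X Y : Sp S, (X ⟶ Y) → Points X → Prop) : Prop :=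
  ∀ {X Y Y' X' : Sp S} {f : X ⟶ Y} {g : Y' ⟶ Y} {fst : X' ⟶ X} {f' : X' ⟶ Y'},
    IsPullback fst f' f g → IsAlgSpace X → IsAlgSpace Y → IsAlgSpace Y' → LocP @LocallyOfFiniteType f →
      ∀ x' : Points X', L _ _ f' x' ↔ L _ _ f (Points.map fst x')

variable {L : ∀ X Y : Sp S, (X ⟶ Y) → Points X → Prop} {B : Sp S} (G : Over B) [GrpObj G]

theorem locus_eq_on_fibres (hL : LocusBC L) (hB : IsAlgSpace B) (hG : IsAlgSpace G.left)
    (hlft : LocP @LocallyOfFiniteType G.hom) (a b : Points G.left)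
    (hab : Points.map G.hom a = Points.map G.hom b) (ha : L _ _ G.hom a) : L _ _ G.hom b := by
  obtain ⟨w, hw₁, hw₂⟩ := exists_point_of_isPullback (IsPullback.of_hasPullback G.hom G.hom) a b hab
  let p₁ : G ⊗ G ⟶ G := CartesianMonoidalCategory.fst G G
  let p₂ : G ⊗ G ⟶ G := CartesianMonoidalCategory.snd G G
  let φ : G ⊗ G ⟶ G ⊗ G := CartesianMonoidalCategory.lift p₁ (p₁⁻¹ * p₂)
  have e1 : φ ≫ p₁ = p₁ := CartesianMonoidalCategory.lift_fst _ _
  have e2 : φ ≫ μ[G] = p₂ := by
    show CartesianMonoidalCategory.lift p₁ (p₁⁻¹ * p₂) ≫ μ[G] = p₂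
    rw [← Hom.mul_def, mul_inv_cancel_left]
  have sq₁ : IsPullback p₁.left p₂.left G.hom G.hom := IsPullback.of_hasPullback G.hom G.hom
  have sq₂ : IsPullback (μ[G]).left p₂.left G.hom G.hom := (isPullback_mul G).map (Over.forget B)
  have hp : Points.map p₁.left (Points.map φ.left w) = a := by
    refine (Points.map_comp _ _ _).symm.trans ?_
    rw [← Over.comp_left, e1]
    exact hw₁
  have hq : Points.map (μ[G]).left (Points.map φ.left w) = b := by
    refine (Points.map_comp _ _ _).symm.trans ?_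
    rw [← Over.comp_left, e2]
    exact hw₂
  rw [← hp, ← hL sq₁ hG hB hG hlft] at ha
  rw [← hq, ← hL sq₂ hG hB hG hlft]
  exact ha

theorem map_unit_surj (b : Points B) :
    Points.map G.hom (Points.map (η[G]).left b) = b := by
  rw [← Points.map_comp, Over.w (η[G])]
  exact Points.map_id b

theorem locus_everywhere_iff (hL : LocusBC L) (hB : IsAlgSpace B) (hG : IsAlgSpace G.left)
    (hlft : LocP @LocallyOfFiniteType G.hom) {T P : Sp S} (hT : IsAlgSpace T) {g : T ⟶ B} {fst : P ⟶ G.left}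
    {f' : P ⟶ T} (sq : IsPullback fst f' G.hom g) :
    (∀ z, L _ _ f' z) ↔ Set.range (Points.map g) ⊆ {b | L _ _ G.hom (Points.map (η[G]).left b)} := by
  constructor
  · rintro h _ ⟨t, rfl⟩
    obtain ⟨z, hz, -⟩ := exists_point_of_isPullback sq (Points.map (η[G]).left (Points.map g t)) t
      (map_unit_surj G _)
    show L _ _ G.hom _
    rw [← hz, ← hL sq hG hB hT hlft]
    exact h z
  · intro h z
    rw [hL sq hG hB hT hlft]
    refine locus_eq_on_fibres G hL hB hG hlft _ _ (map_unit_surj G _) (h ⟨Points.map f' z, ?_⟩)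
    rw [← Points.map_comp, ← sq.w, Points.map_comp]

/-- The largest open of the base over which a group space is everywhere in a locus. -/
theorem exists_largest_open (hL : LocusBC L) (hopen : ∀ {X Y : Sp S} (f : X ⟶ Y), IsOpen {x | L _ _ f x})
    {P : MorphismProperty Scheme.{u}}
    (hP : ∀ {X Y : Sp S} (f : X ⟶ Y), IsAlgSpace X → IsAlgSpace Y → (LocP P f ↔ ∀ x, L _ _ f x))
    (hB : IsAlgSpace B) (hG : IsAlgSpace G.left) (hlft : LocP @LocallyOfFiniteType G.hom) :
    ∃ (W : Sp S) (w : W ⟶ B), RepWith @IsOpenImmersion w ∧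
      (∀ (W' : Sp S) (w' : W' ⟶ B), RepWith @IsOpenImmersion w' →
        (LocP P (pullback.snd G.hom w') ↔ ∃ k : W' ⟶ W, k ≫ w = w')) ∧
      (∀ (B' : Sp S), IsAlgSpace B' → ∀ (f : B' ⟶ B) (W'' : Sp S) (w'' : W'' ⟶ B'),
        RepWith @IsOpenImmersion w'' →
        (LocP P (pullback.snd (pullback.snd G.hom f) w'') ↔
          ∃ k : W'' ⟶ pullback w f, k ≫ pullback.snd w f = w'')) := by
  obtain ⟨W, w, -, hw, hr⟩ := exists_open_subspace hB
    ((hopen G.hom).preimage (Points.continuous_map (η[G]).left))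
  have key : ∀ {T Q : Sp S}, IsAlgSpace T → IsAlgSpace Q → ∀ {g : T ⟶ B} {p : Q ⟶ G.left} {f' : Q ⟶ T},
      IsPullback p f' G.hom g → (LocP P f' ↔ ∃ k : T ⟶ W, k ≫ w = g) := fun {T Q} hT hQ {g p f'} sq => by
    rw [hP f' hQ hT, locus_everywhere_iff G hL hB hG hlft hT sq]
    exact ⟨fun h => exists_factor_open hw g (h.trans hr.superset),
      fun ⟨k, hk⟩ => (range_map_subset_of_factor hk).trans hr.subset⟩
  refine ⟨W, w, hw, fun W' w' hw' => ?_, fun B' hB' f W'' w'' hw'' => ?_⟩
  · have hW' := isAlgSpace_of_representable _ hw'.1 hB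
    exact key hW' (isAlgSpace_pullback hB.diag hG hW' G.hom w') (IsPullback.of_hasPullback _ _)
  · have hW'' := isAlgSpace_of_representable _ hw''.1 hB'
    have hQ := isAlgSpace_pullback hB'.diag (isAlgSpace_pullback hB.diag hG hB' G.hom f) hW''
      (pullback.snd G.hom f) w''
    refine (key hW'' hQ ((IsPullback.of_hasPullback (pullback.snd G.hom f) w'').paste_horiz
      (IsPullback.of_hasPullback G.hom f))).trans ⟨fun ⟨k, hk⟩ => ?_, fun ⟨k, hk⟩ => ?_⟩
    · exact ⟨pullback.lift k w'' hk, pullback.lift_snd _ _ _⟩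
    · exact ⟨k ≫ pullback.fst w f, by rw [Category.assoc, pullback.condition, reassoc_of% hk]⟩

theorem locus_of_pseudoTorsor (hL : LocusBC L) (hB : IsAlgSpace B) (hG : IsAlgSpace G.left) {X : Over B}
    (hX : IsAlgSpace X.left) (hGt : LocP @LocallyOfFiniteType G.hom) (hXt : LocP @LocallyOfFiniteType X.hom)
    (a : GAction G X) (ha : a.IsPseudoTorsor) (h : ∀ x, L _ _ G.hom x) (x : Points X.left) : L _ _ X.hom x := by
  have hi : IsIso (CartesianMonoidalCategory.lift a.act (CartesianMonoidalCategory.snd G X)) := ha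
  let e := (Over.forget B).mapIso (asIso (CartesianMonoidalCategory.lift a.act (CartesianMonoidalCategory.snd G X)))
  have he : e.inv ≫ (CartesianMonoidalCategory.snd G X).left = (CartesianMonoidalCategory.snd X X).left := by
    rw [Iso.inv_comp_eq]
    exact congrArg (fun q : G ⊗ X ⟶ X => q.left)
      (CartesianMonoidalCategory.lift_snd a.act (CartesianMonoidalCategory.snd G X)).symm
  have sq₁ : IsPullback (e.inv ≫ (CartesianMonoidalCategory.fst G X).left)
      (CartesianMonoidalCategory.snd X X).left G.hom X.hom := by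
    refine (IsPullback.of_hasPullback G.hom X.hom).of_iso e (Iso.refl _) (Iso.refl _) (Iso.refl _) ?_ ?_ ?_ ?_
    · simp
    · change _ ≫ 𝟙 _ = e.hom ≫ (CartesianMonoidalCategory.snd X X).left
      rw [← he, e.hom_inv_id_assoc, Category.comp_id]
      rfl
    · simp
    · simp
  have sq₂ : IsPullback (CartesianMonoidalCategory.fst X X).left
      (CartesianMonoidalCategory.snd X X).left X.hom X.hom := IsPullback.of_hasPullback X.hom X.hom
  obtain ⟨z, hz, -⟩ := exists_point_of_isPullback sq₂ x x rfl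
  rw [← hz, ← hL sq₂ hX hB hX hXt]
  exact (hL sq₁ hG hB hX hGt z).2 (h _)

end Groth.Agent.H12AlgSp
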