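import Groth.Agent.H12AlgSp.HilbOpen
import Groth.Agent.H12AlgSp.SourceDescent
import Groth.Agent.H12AlgSp.LQFScheme2

/-!
The sheaf of finite opens is representable, etale, separated and surjective over `F`.
-/

set_option linter.unusedVariables false
set_option backward.isDefEq.respectTransparency false

universe u

open CategoryTheory CategoryTheory.Limits AlgebraicGeometry Opposite TopologicalSpace
open AlgSp Groth.Agent.H13AlgSp Groth.Agent.H7Weight

namespace Groth.Agent.H12AlgSp.Hilb

variable {S : Scheme.{u}} {F : Sp S} {U : Over S} {p : (yon S).obj U ⟶ F}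

/-- A square with a scheme corner is cartesian when it is so on points. -/
theorem isPullback_of_points {A B C : Sp S} {W : Over S} {a : (yon S).obj W ⟶ A} {b : (yon S).obj W ⟶ B}
    {f : A ⟶ C} {g : B ⟶ C} (w : a ≫ f = b ≫ g)
    (huniq : ∀ (T : Over S) (x y : T ⟶ W), (yon S).map x ≫ a = (yon S).map y ≫ a →
      (yon S).map x ≫ b = (yon S).map y ≫ b → x = y)
    (hex : ∀ (T : Over S) (x : (yon S).obj T ⟶ A) (y : (yon S).obj T ⟶ B), x ≫ f = y ≫ g →
      ∃ l : T ⟶ W, (yon S).map l ≫ a = x ∧ (yon S).map l ≫ b = y) : IsPullback a b f g := by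
  let L : (yon S).obj W ⟶ pullback f g := pullback.lift a b w
  have : Mono L := mono_of_yon fun T x y e => by
    obtain ⟨x, rfl⟩ := (yon S).map_surjective x
    obtain ⟨y, rfl⟩ := (yon S).map_surjective y
    rw [huniq T x y]
    · simpa [L] using e =≫ pullback.fst f g
    · simpa [L] using e =≫ pullback.snd f g
  have : IsIso L := isIso_of_mono_of_local_lifts L fun T y => by
    obtain ⟨l, h1, h2⟩ := hex T (y ≫ pullback.fst f g) (y ≫ pullback.snd f g)
      (by rw [Category.assoc, Category.assoc, pullback.condition])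
    refine ⟨PUnit.{u + 1}, fun _ => T, fun _ => 𝟙 T, ofArrows_mem_J _
      (fun _ => inferInstanceAs (Flat (𝟙 T.left))) (fun _ => inferInstanceAs (LocallyOfFinitePresentation (𝟙 T.left)))
      (fun t => ⟨⟨⟩, t, rfl⟩), fun _ => ⟨(yon S).map l, ?_⟩⟩
    rw [CategoryTheory.Functor.map_id, Category.id_comp]
    apply pullback.hom_ext
    · rw [Category.assoc, pullback.lift_fst, h1]
    · rw [Category.assoc, pullback.lift_snd, h2]
  exact IsPullback.of_iso_pullback ⟨w⟩ (asIso L) (pullback.lift_fst _ _ _) (pullback.lift_snd _ _ _)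

/-- The properties required of `h_U ⟶ F`. -/
abbrev goodMor : MorphismProperty Scheme.{u} :=
  ((@Flat ⊓ @LocallyOfFinitePresentation : MorphismProperty Scheme.{u}) ⊓ @LocallyQuasiFinite) ⊓ @IsSeparated

theorem good_of_square (hp : RepWith goodMor p) {T Y : Over S} {a : Y ⟶ T} {b : Y ⟶ U} {ξ : (yon S).obj T ⟶ F}
    (sq : IsPullback ((yon S).map b) ((yon S).map a) p ξ) :
    Flat a.left ∧ LocallyOfFinitePresentation a.left ∧ LocallyQuasiFinite a.left ∧ IsSeparated a.left := by
  obtain ⟨⟨⟨h1, h2⟩, h3⟩, h4⟩ := hp.property _ _ a sq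
  exact ⟨h1, h2, h3, h4⟩

variable (hp : RepWith goodMor p)

/-- The fibre of the sheaf of finite opens over a point of `F`. -/
noncomputable abbrev fibre {T : Over S} (ξ : (yon S).obj T ⟶ F) : Sp S := pullback (toBase hp.1) ξ

theorem exists_locus {T T' : Over S} {ξ : (yon S).obj T ⟶ F}
    (x x' : (yon S).obj T' ⟶ fibre hp ξ) (e : x ≫ pullback.snd _ _ = x' ≫ pullback.snd _ _) :
    ∃ E : T'.left.Opens, IsClosed (E : Set T'.left) ∧ ∀ (V : Over S) (v : V ⟶ T'),
      (yon S).map v ≫ x = (yon S).map v ≫ x' ↔ Set.range v.left ⊆ E := by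
  let z := point hp.1 (x ≫ pullback.fst _ _)
  let z' := point hp.1 (x' ≫ pullback.fst _ _)
  have hξ : z.ξ = z'.ξ := by
    rw [← comp_toBase, ← comp_toBase, Category.assoc, Category.assoc, pullback.condition, ← Category.assoc, e,
      Category.assoc]
  obtain ⟨Y, a, b, sq⟩ := exists_square hp.1 z.ξ
  obtain ⟨hfl, hfp, hqf, hsep⟩ := good_of_square hp sq
  let O := z.openIn sq
  let O' := z'.openIn (hξ ▸ sq)
  refine ⟨⟨eqLocus a.left O O', isOpen_eqLocus (z.openIn_finOpen sq) (z'.openIn_finOpen _)⟩,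
    isClosed_eqLocus a.left.isOpenMap (z.openIn_finOpen sq) (z'.openIn_finOpen _), fun V v => ?_⟩
  change _ ↔ Set.range v.left ⊆ eqLocus a.left O O'
  refine Iff.trans ?_ (range_subset_eqLocus_iff ((IsPullback.of_hasPullback a v).map (Over.forget S)) O O').symm
  have sv : IsPullback _ _ p (z.map v).ξ := isPullback_map sq v
  have sv' : IsPullback _ _ p (z'.map v).ξ := isPullback_map (hξ ▸ sq) v
  have h₁ := z.openIn_map sq sv (IsPullback.of_hasPullback a v) rfl
  have h₂ := z'.openIn_map (hξ ▸ sq) sv' (IsPullback.of_hasPullback a v) rfl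
  have key : (yon S).map v ≫ x = (yon S).map v ≫ x' ↔ z.map v = z'.map v := by
    rw [← point_comp, ← point_comp, (point hp.1).injective.eq_iff, ← Category.assoc, ← Category.assoc]
    refine ⟨fun h => by rw [h], fun h => pullback.hom_ext h ?_⟩
    rw [Category.assoc, Category.assoc, e]
  rw [key]
  constructor
  · intro h
    refine (h₁.symm.trans ?_).trans h₂
    refine Pt.openIn_eq _ sv ?_
    rw [h]
    exact Pt.openIn_Z _ sv'
  · intro h
    refine Pt.ext_openIn (congrArg ((yon S).map v ≫ ·) hξ) sv ?_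
    rw [h₁, h₂]
    exact h

theorem isSeparatedMor_fibre {T : Over S} (ξ : (yon S).obj T ⟶ F) :
    IsSeparatedMor (pullback.snd (toBase hp.1) ξ) := by
  let q := pullback.snd (toBase hp.1) ξ
  refine MorphismProperty.relative.of_exists fun T' ψ => ?_
  obtain ⟨x, hx⟩ : ∃ x, x = ψ ≫ pullback.fst q q := ⟨_, rfl⟩
  obtain ⟨x', hx'⟩ : ∃ x', x' = ψ ≫ pullback.snd q q := ⟨_, rfl⟩
  obtain ⟨E, hE, hEv⟩ := exists_locus hp x x' (by rw [hx, hx', Category.assoc, Category.assoc, pullback.condition])
  have he := (hEv _ (openIncl T' E)).2 (Scheme.Opens.range_ι E).le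
  refine ⟨openOver T' E, (yon S).map (openIncl T' E) ≫ x, openIncl T' E, ?_, ?_⟩
  · refine isPullback_of_points ?_ (fun V a b _ h => ?_) fun V a b h => ?_
    · apply pullback.hom_ext
      · rw [Category.assoc, pullback.diagonal_fst, Category.comp_id]
        exact (congrArg (_ ≫ ·) hx).trans (Category.assoc _ _ _).symm
      · rw [Category.assoc, pullback.diagonal_snd, Category.comp_id]
        exact he.trans ((congrArg (_ ≫ ·) hx').trans (Category.assoc _ _ _).symm)
    · have := (yon S).map_injective (((yon S).map_comp a _).trans (h.trans ((yon S).map_comp b _).symm))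
      apply Over.OverMorphism.ext
      rw [← cancel_mono E.ι]
      exact congrArg (fun k => k.left) this
    · obtain ⟨v, rfl⟩ := (yon S).map_surjective b
      have h1 : a = (yon S).map v ≫ x := by
        have := h =≫ pullback.fst q q
        rw [Category.assoc, pullback.diagonal_fst, Category.comp_id, Category.assoc] at this
        exact this.trans (congrArg (_ ≫ ·) hx).symm
      have h2 : a = (yon S).map v ≫ x' := by
        have := h =≫ pullback.snd q q
        rw [Category.assoc, pullback.diagonal_snd, Category.comp_id, Category.assoc] at this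
        exact this.trans (congrArg (_ ≫ ·) hx').symm
      have hr : Set.range v.left ⊆ Set.range E.ι := by
        rw [Scheme.Opens.range_ι]; exact (hEv _ v).1 (h1.symm.trans h2)
      let k : V ⟶ openOver T' E := Over.homMk (IsOpenImmersion.lift E.ι v.left hr) (by
        change IsOpenImmersion.lift E.ι v.left hr ≫ E.ι ≫ T'.hom = V.hom
        rw [IsOpenImmersion.lift_fac_assoc]
        exact Over.w v)
      have hk : k ≫ openIncl T' E = v := Over.OverMorphism.ext (IsOpenImmersion.lift_fac _ _ _)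
      exact ⟨k, by rw [← Category.assoc, ← Functor.map_comp, hk, ← h1], by rw [← Functor.map_comp, hk]⟩
  · change IsClosedImmersion E.ι
    exact .of_isPreimmersion _ (by rwa [Scheme.Opens.range_ι])

theorem exists_pullback_chart {T V : Over S} {ξ : (yon S).obj T ⟶ F} {g : V ⟶ T}
    (e : (yon S).obj V ⟶ fibre hp ξ) (he : e ≫ pullback.snd _ _ = (yon S).map g)
    {T' : Over S} (x : (yon S).obj T' ⟶ fibre hp ξ) {q : T' ⟶ T} (hq : x ≫ pullback.snd _ _ = (yon S).map q) :
    ∃ E : (pullback g q).left.Opens,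
      IsPullback ((yon S).map (openIncl (pullback g q) E ≫ pullback.fst g q))
        ((yon S).map (openIncl (pullback g q) E ≫ pullback.snd g q)) e x ∧
      ∀ (W : Over S) (w : W ⟶ pullback g q),
        ((yon S).map (w ≫ pullback.fst g q) ≫ e = (yon S).map (w ≫ pullback.snd g q) ≫ x ↔
          Set.range w.left ⊆ E) := by
  obtain ⟨E, -, hE⟩ := exists_locus hp ((yon S).map (pullback.fst g q) ≫ e) ((yon S).map (pullback.snd g q) ≫ x)
    (by rw [Category.assoc, Category.assoc, he, hq, ← Functor.map_comp, ← Functor.map_comp, pullback.condition])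
  have hE' : ∀ (W : Over S) (w : W ⟶ pullback g q),
      ((yon S).map (w ≫ pullback.fst g q) ≫ e = (yon S).map (w ≫ pullback.snd g q) ≫ x ↔
        Set.range w.left ⊆ E) := fun W w => by
    rw [← hE W w, Functor.map_comp, Functor.map_comp, Category.assoc, Category.assoc]
  refine ⟨E, isPullback_of_points ((hE' _ _).2 (Scheme.Opens.range_ι E).le) (fun W a b h₁ h₂ => ?_)
    fun W a b h => ?_, hE'⟩
  · rw [← Functor.map_comp, ← Functor.map_comp] at h₁ h₂
    have e₁ := (yon S).map_injective h₁
    have e₂ := (yon S).map_injective h₂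
    simp only [← Category.assoc] at e₁ e₂
    have := pullback.hom_ext e₁ e₂
    apply Over.OverMorphism.ext
    rw [← cancel_mono E.ι]
    exact congrArg (fun k => k.left) this
  · obtain ⟨a, rfl⟩ := (yon S).map_surjective a
    obtain ⟨b, rfl⟩ := (yon S).map_surjective b
    have hab : a ≫ g = b ≫ q := (yon S).map_injective (by
      rw [Functor.map_comp, Functor.map_comp, ← he, ← hq, ← Category.assoc, ← Category.assoc, h])
    let w : W ⟶ pullback g q := pullback.lift a b hab
    have hw := (hE' W w).1 (by rw [pullback.lift_fst, pullback.lift_snd, h])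
    have hr : Set.range w.left ⊆ Set.range E.ι := by rwa [Scheme.Opens.range_ι]
    let k : W ⟶ openOver (pullback g q) E := Over.homMk (IsOpenImmersion.lift E.ι w.left hr) (by
      change IsOpenImmersion.lift E.ι w.left hr ≫ E.ι ≫ (pullback g q).hom = W.hom
      rw [IsOpenImmersion.lift_fac_assoc]
      exact Over.w w)
    have hk : k ≫ openIncl _ E = w := Over.OverMorphism.ext (IsOpenImmersion.lift_fac _ _ _)
    refine ⟨k, ?_, ?_⟩
    · rw [← Functor.map_comp, reassoc_of% hk, pullback.lift_fst]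
    · rw [← Functor.map_comp, reassoc_of% hk, pullback.lift_snd]

omit hp in
theorem exists_extend_pts {Y T : Scheme.{u}} (f : Y ⟶ T) [LocallyQuasiFinite f] [LocallyOfFiniteType f]
    {Ω Ω' : Type u} [Field Ω] [Field Ω'] [IsAlgClosed Ω] [IsAlgClosed Ω'] (τ : CommRingCat.of Ω ⟶ CommRingCat.of Ω')
    (η : Spec (CommRingCat.of Ω) ⟶ T) (η' : Spec (CommRingCat.of Ω') ⟶ T) (h : Spec.map τ ≫ η = η')
    (s' : Pts f η') : ∃ s : Pts f η, Spec.map τ ≫ s.1 = s'.1 := by
  have hpt : ∀ {X : Scheme.{u}} (s : Spec (CommRingCat.of Ω) ⟶ X), pt (Spec.map τ ≫ s) = pt s := fun s => by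
    rw [pt_comp]; exact congrArg s (Subsingleton.elim _ _)
  let y := pt s'.1
  let Φ : {s : Pts f η // pt s.1 = y} → {s : Pts f η' // pt s.1 = y} := fun s =>
    ⟨⟨Spec.map τ ≫ s.1.1, by rw [Category.assoc, s.1.2, h]⟩, (hpt _).trans s.2⟩
  have hinj : Function.Injective Φ := by
    rintro ⟨⟨s₁, _⟩, h₁⟩ ⟨⟨s₂, _⟩, h₂⟩ e
    obtain ⟨σ₁, e₁⟩ := exists_residue_hom s₁ h₁
    obtain ⟨σ₂, e₂⟩ := exists_residue_hom s₂ h₂
    have e' : Spec.map τ ≫ s₁ = Spec.map τ ≫ s₂ := congr($(e).1.1)
    rw [← e₁, ← e₂, ← Category.assoc, ← Category.assoc, ← Spec.map_comp, ← Spec.map_comp, cancel_mono,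
      Spec.map_inj] at e'
    refine Subtype.ext (Subtype.ext ?_)
    change s₁ = s₂
    rw [← e₁, ← e₂, show σ₁ = σ₂ from CommRingCat.hom_ext (RingHom.ext fun x =>
      RingHom.injective τ.hom (congr($e' x)))]
  have hy : f y = pt η' := s'.map_pt
  obtain ⟨hf, -, hc⟩ := card_pts_at f η y (by rw [hy, ← h, hpt])
  obtain ⟨hf', -, hc'⟩ := card_pts_at f η' y hy
  obtain ⟨s, hs⟩ := (hinj.bijective_of_nat_card_le (hc'.trans hc.symm).le).2 ⟨s', rfl⟩
  exact ⟨s.1, congr($(hs).1.1)⟩

omit hp in
/-- A geometric point over a point of the base. -/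
noncomputable def geomPt {T : Scheme.{u}} (t : T) :
    Spec (CommRingCat.of (AlgebraicClosure (T.residueField t))) ⟶ T :=
  Spec.map (CommRingCat.ofHom (algebraMap (T.residueField t) (AlgebraicClosure (T.residueField t)))) ≫
    T.fromSpecResidueField t

omit hp in
theorem pt_geomPt {T : Scheme.{u}} (t : T) : pt (geomPt t) = t := pt_specMap _

/-- An etale surjective chart of a fibre of the sheaf of finite opens. -/
theorem exists_chart {T : Over S} (ξ : (yon S).obj T ⟶ F) :
    ∃ (V : Over S) (g : V ⟶ T) (e : (yon S).obj V ⟶ fibre hp ξ), e ≫ pullback.snd _ _ = (yon S).map g ∧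
      Etale g.left ∧ ∀ (T' : Over S) (x : (yon S).obj T' ⟶ fibre hp ξ) (t' : T'.left),
        ∃ (W : Over S) (v : W ⟶ V) (q : W ⟶ T') (w : W.left),
          (yon S).map v ≫ e = (yon S).map q ≫ x ∧ q.left w = t' := by
  classical
  obtain ⟨Y, a, b, sq⟩ := exists_square hp.1 ξ
  obtain ⟨hfl, hfp, hqf, hsep⟩ := good_of_square hp sq
  let κ := {x : Σ t : T.left, Finset (Pts a.left (geomPt t)) // x.2.Nonempty}
  choose V g hg η' hη' O hO hOs using fun x : κ => exists_etale_finOpen a.left (geomPt x.1.1) x.1.2 x.2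
  let Vo : κ → Over S := fun x => Over.mk (g x ≫ T.hom)
  let c : ∀ x, Vo x ⟶ T := fun x => Over.homMk (g x)
  let P : κ → Over S := fun x => Over.mk (pullback.fst a.left (g x) ≫ Y.hom)
  let g₀ : ∀ x, P x ⟶ Y := fun x => Over.homMk (pullback.fst a.left (g x))
  let a₀ : ∀ x, P x ⟶ Vo x := fun x => Over.homMk (pullback.snd a.left (g x)) (by
    change pullback.snd a.left (g x) ≫ g x ≫ T.hom = pullback.fst a.left (g x) ≫ Y.hom
    rw [← pullback.condition_assoc, Over.w a])
  have sq₀ : ∀ x, IsPullback (g₀ x) (a₀ x) a (c x) := fun x =>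
    IsPullback.of_map_of_faithful (Over.forget S) (IsPullback.of_hasPullback a.left (g x))
  have sqp : ∀ x, IsPullback ((yon S).map (g₀ x ≫ b)) ((yon S).map (a₀ x)) p ((yon S).map (c x) ≫ ξ) := fun x => by
    rw [Functor.map_comp]
    exact ((sq₀ x).map (yon S)).paste_horiz sq
  let z : ∀ x, Pt p (Vo x) := fun x => Pt.mkOpen (sqp x) (hO x)
  let Vc : Over S := Over.mk (Sigma.desc fun x => g x ≫ T.hom)
  let gc : Vc ⟶ T := Over.homMk (Sigma.desc g) (by
    apply Sigma.hom_ext
    intro x
    change Sigma.ι V x ≫ Sigma.desc g ≫ T.hom = Sigma.ι V x ≫ Sigma.desc _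
    rw [Sigma.ι_desc_assoc, Sigma.ι_desc])
  let ι : ∀ x, Vo x ⟶ Vc := fun x => Over.homMk (Sigma.ι V x) (Sigma.ι_desc _ _)
  have hι : ∀ x, ι x ≫ gc = c x := fun x => Over.OverMorphism.ext (Sigma.ι_desc _ _)
  have hoι : ∀ x, IsOpenImmersion (ι x).left := fun x => inferInstanceAs (IsOpenImmersion (Sigma.ι V x))
  have hcov : ∀ v : Vc.left, ∃ x, v ∈ Set.range (ι x).left := fun v => by
    obtain ⟨i, y, hy⟩ := (sigmaOpenCover V).exists_eq v
    exact ⟨i, y, hy⟩
  obtain ⟨zc, hzc⟩ := exists_glue hp.1 ι (fun x => have := hoι x; inferInstance)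
    (fun x => have := hoι x; inferInstance) hcov z (fun i j W u v e => by
      by_cases hij : i = j
      · subst hij
        have := hoι i
        rw [show u = v from Over.OverMorphism.ext ((cancel_mono (ι i).left).1 (congrArg (fun k : _ ⟶ Vc => k.left) e))]
      · have : IsEmpty W.left := ⟨fun w => by
          have hd := disjoint_opensRange_sigmaι V i j hij
          have h1 : (Sigma.ι V i) (u.left w) ∈ (Sigma.ι V i).opensRange := ⟨_, rfl⟩
          have h2 : (Sigma.ι V i) (u.left w) ∈ (Sigma.ι V j).opensRange :=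
            ⟨v.left w, (congr($(congrArg (fun k : _ ⟶ Vc => k.left) e) w)).symm⟩
          exact (hd.le_bot ⟨h1, h2⟩ :)⟩
        exact ext_of_cover hp.1 (fun k : PEmpty.{u + 1} => (k.elim : W ⟶ W))
          (ofArrows_mem_J _ (fun k => k.elim) (fun k => k.elim) fun w => isEmptyElim w) (fun w => isEmptyElim w)
          (fun k => k.elim))
  have hξc : zc.ξ = (yon S).map gc ≫ ξ := by
    refine hom_ext_of_cover ι (ofArrows_mem_J ι (fun x => have := hoι x; inferInstance)
      (fun x => have := hoι x; inferInstance) hcov) fun x => ?_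
    rw [← Category.assoc, ← Functor.map_comp, hι]
    exact congrArg Pt.ξ (hzc x)
  let e : (yon S).obj Vc ⟶ fibre hp ξ := pullback.lift ((point hp.1).symm zc) ((yon S).map gc)
    (by rw [comp_toBase, Equiv.apply_symm_apply, hξc])
  refine ⟨Vc, gc, e, pullback.lift_snd _ _ _, ?_, fun T' x t' => ?_⟩
  · exact IsZariskiLocalAtSource.of_openCover (P := @Etale) (sigmaOpenCover V) fun i => by
      change Etale (Sigma.ι V i ≫ Sigma.desc g)
      rw [Sigma.ι_desc]; exact hg i
  obtain ⟨q, hq⟩ := (yon S).map_surjective (x ≫ pullback.snd _ _)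
  let z' := point hp.1 (x ≫ pullback.fst _ _)
  have hz' : z'.ξ = (yon S).map q ≫ ξ := by
    rw [← comp_toBase, Category.assoc, pullback.condition, ← Category.assoc, hq]
  -- compatible geometric points
  let t := q.left t'
  obtain ⟨w₀, hw₁, hw₂⟩ := Scheme.Pullback.exists_preimage_pullback (f := geomPt t) (g := q.left)
    (IsLocalRing.closedPoint _) t' (pt_geomPt t)
  let L := (pullback (geomPt t) q.left).residueField w₀
  let Ω' := AlgebraicClosure L
  let j₀ : Spec (CommRingCat.of Ω') ⟶ pullback (geomPt t) q.left := geomPt w₀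
  let τ := Spec.preimage (j₀ ≫ pullback.fst _ _)
  have hτ : Spec.map τ = j₀ ≫ pullback.fst _ _ := Spec.map_preimage _
  let η : Spec (CommRingCat.of Ω') ⟶ T'.left := j₀ ≫ pullback.snd _ _
  have hητ : Spec.map τ ≫ geomPt t = η ≫ q.left := by
    rw [hτ, Category.assoc, Category.assoc, pullback.condition]
  have hη : pt η = t' := by rw [pt_comp, pt_geomPt, hw₂]
  -- the fibre
  let O' := z'.openIn (hz' ▸ isPullback_map sq q)
  have hO' : IsFinOpen (pullback.snd a q).left O' := z'.openIn_finOpen _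
  have sqY : IsPullback (pullback.fst a q).left (pullback.snd a q).left a.left q.left :=
    (IsPullback.of_hasPullback a q).map (Over.forget S)
  have : LocallyQuasiFinite (pullback.snd a q).left := MorphismProperty.of_isPullback sqY hqf
  have : LocallyOfFiniteType (pullback.snd a q).left := MorphismProperty.of_isPullback sqY
    (inferInstanceAs (LocallyOfFiniteType a.left))
  let lift' : Pts a.left (geomPt t) → Pts (pullback.snd a q).left η := fun s =>
    ⟨sqY.lift (Spec.map τ ≫ s.1) η (by rw [Category.assoc, s.2, hητ]), sqY.lift_snd _ _ _⟩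
  have hfin : {s : Pts a.left (geomPt t) | pt (lift' s).1 ∈ O'}.Finite := by
    have hF : Finite (Pts (O'.ι ≫ (pullback.snd a q).left) η) := by
      have := hO'.1
      exact H7Weight.finite_pts _ η ((O'.ι ≫ (pullback.snd a q).left).finite_preimage_singleton _)
    let B := {r : Pts (pullback.snd a q).left η // pt r.1 ∈ O'}
    have hB : Finite B := Finite.of_surjective
      (fun r : Pts (O'.ι ≫ (pullback.snd a q).left) η =>
        (⟨⟨r.1 ≫ O'.ι, by rw [Category.assoc, r.2]⟩, (pt r.1).2⟩ : B)) fun r => by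
      obtain ⟨s', hs'⟩ := exists_lift_open' O'.ι r.1.1 (by rw [Scheme.Opens.range_ι]; exact r.2)
      exact ⟨⟨s', by rw [← Category.assoc, hs', r.1.2]⟩, Subtype.ext (Subtype.ext hs')⟩
    refine Set.finite_coe_iff.1 (Finite.of_injective (β := B) (fun s => ⟨lift' s.1, s.2⟩) ?_)
    rintro ⟨s₁, h₁⟩ ⟨s₂, h₂⟩ e
    have e₁ := congr($(e).1.1 ≫ (pullback.fst a q).left)
    simp only [lift', IsPullback.lift_fst] at e₁
    obtain ⟨σ₁, hσ₁⟩ := exists_residue_hom s₁.1 rfl
    have hpt : pt s₁.1 = pt s₂.1 := by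
      have := congrArg pt e₁
      rwa [pt_comp, pt_comp, Subsingleton.elim (pt (Spec.map τ)) (IsLocalRing.closedPoint _)] at this
    obtain ⟨σ₂, hσ₂⟩ := exists_residue_hom s₂.1 hpt.symm
    rw [← hσ₁, ← hσ₂, ← Category.assoc, ← Category.assoc, ← Spec.map_comp, ← Spec.map_comp, cancel_mono,
      Spec.map_inj] at e₁
    refine Subtype.ext (Subtype.ext ?_)
    change s₁.1 = s₂.1
    rw [← hσ₁, ← hσ₂, show σ₁ = σ₂ from CommRingCat.hom_ext (RingHom.ext fun r =>
      RingHom.injective τ.hom (congr($e₁ r)))]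
  have hne : hfin.toFinset.Nonempty := by
    obtain ⟨y, hy⟩ := hO'.2.surj t'
    obtain ⟨s', hs'⟩ := exists_pts (pullback.snd a q).left η y.1 (by rw [hη]; exact hy)
    obtain ⟨s, hs⟩ := exists_extend_pts a.left τ (geomPt t) _ hητ
      ⟨s'.1 ≫ (pullback.fst a q).left, by rw [Category.assoc, sqY.w, ← Category.assoc, s'.2]⟩
    refine ⟨s, (Set.Finite.mem_toFinset _).2 ?_⟩
    have : (lift' s).1 = s'.1 := sqY.hom_ext (by rw [sqY.lift_fst, hs]) (by rw [sqY.lift_snd, s'.2])
    change pt (lift' s).1 ∈ O'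
    rw [this, hs']
    exact y.2
  let i : κ := ⟨⟨t, hfin.toFinset⟩, hne⟩
  let W : Over S := pullback (c i) q
  let π₁ : W ⟶ Vo i := pullback.fst (c i) q
  let π₂ : W ⟶ T' := pullback.snd (c i) q
  have sqW : IsPullback π₁.left π₂.left (g i) q.left :=
    (IsPullback.of_hasPullback (c i) q).map (Over.forget S)
  let ω : Spec (CommRingCat.of Ω') ⟶ W.left := sqW.lift (Spec.map τ ≫ η' i) η
    (by rw [Category.assoc, hη' i, hητ])
  let zi := (z i).map π₁
  let zq := z'.map π₂
  have hξW : zi.ξ = zq.ξ := by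
    change (yon S).map π₁ ≫ ((yon S).map (c i) ≫ ξ) = (yon S).map π₂ ≫ z'.ξ
    rw [hz', ← Category.assoc, ← Category.assoc, ← Functor.map_comp, ← Functor.map_comp,
      show π₁ ≫ c i = π₂ ≫ q from pullback.condition]
  let m := π₂ ≫ q
  have hm : π₁ ≫ c i = m := pullback.condition
  let l₁ : pullback a m ⟶ P i := (sq₀ i).lift (pullback.fst a m) (pullback.snd a m ≫ π₁)
    (by rw [pullback.condition, Category.assoc, hm])
  let l₂ : pullback a m ⟶ pullback a q :=
    pullback.lift (pullback.fst a m) (pullback.snd a m ≫ π₂) (by rw [pullback.condition, Category.assoc])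
  have sl₁ : IsPullback l₁ (pullback.snd a m) (a₀ i) π₁ :=
    IsPullback.of_right (by rw [IsPullback.lift_fst, hm]; exact IsPullback.of_hasPullback a m)
      ((sq₀ i).lift_snd _ _ _) (sq₀ i)
  have sl₂ : IsPullback l₂ (pullback.snd a m) (pullback.snd a q) π₂ :=
    IsPullback.of_right (by rw [pullback.lift_fst]; exact IsPullback.of_hasPullback a m)
      (pullback.lift_snd _ _ _) (IsPullback.of_hasPullback a q)
  have smi : IsPullback ((yon S).map (pullback.fst a m ≫ b)) ((yon S).map (pullback.snd a m)) p zi.ξ := by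
    have := isPullback_map sq m
    change IsPullback _ _ p ((yon S).map π₁ ≫ (yon S).map (c i) ≫ ξ)
    rwa [← Category.assoc, ← Functor.map_comp, hm]
  have smq : IsPullback ((yon S).map (pullback.fst a m ≫ b)) ((yon S).map (pullback.snd a m)) p zq.ξ := hξW ▸ smi
  have hi : zi.openIn smi = l₁.left ⁻¹ᵁ O i := by
    rw [Pt.openIn_map (z i) (sqp i) smi sl₁ (by rw [← Category.assoc, IsPullback.lift_fst]),
      Pt.openIn_mkOpen]
  have hzq : zq.openIn smq = l₂.left ⁻¹ᵁ O' :=
    Pt.openIn_map z' (hz' ▸ isPullback_map sq q) smq sl₂ (by rw [← Category.assoc, pullback.lift_fst])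
  have sqm : IsPullback (pullback.fst a m).left (pullback.snd a m).left a.left m.left :=
    (IsPullback.of_hasPullback a m).map (Over.forget S)
  have : LocallyQuasiFinite (pullback.snd a m).left := MorphismProperty.of_isPullback sqm hqf
  have : LocallyOfFiniteType (pullback.snd a m).left := MorphismProperty.of_isPullback sqm
    (inferInstanceAs (LocallyOfFiniteType a.left))
  have hmem : pt ω ∈ eqLocus (pullback.snd a m).left (zi.openIn smi) (zq.openIn smq) := by
    intro y hy
    obtain ⟨r, hr⟩ := exists_pts (pullback.snd a m).left ω y hy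
    have hωm : ω ≫ m.left = η ≫ q.left := by
      change ω ≫ π₂.left ≫ q.left = _
      rw [← Category.assoc, sqW.lift_snd]
    obtain ⟨s, hs⟩ := exists_extend_pts a.left τ (geomPt t) _ hητ
      ⟨r.1 ≫ (pullback.fst a m).left, (by rw [Category.assoc, sqm.w, ← Category.assoc, r.2]; exact hωm)⟩
    let s₀ : Pts a.left (geomPt t) := s
    have h2 : r.1 ≫ l₂.left = (lift' s₀).1 := by
      apply sqY.hom_ext
      · rw [sqY.lift_fst, hs, Category.assoc, ← Over.comp_left, pullback.lift_fst]
      · rw [sqY.lift_snd, Category.assoc, ← Over.comp_left, pullback.lift_snd, Over.comp_left, ← Category.assoc,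
          r.2, sqW.lift_snd]
    -- the point of the chart
    let r₁ : Spec (CommRingCat.of (AlgebraicClosure (T.left.residueField t))) ⟶ pullback a.left (g i) :=
      pullback.lift s₀.1 (η' i) (by rw [s₀.2, hη' i])
    have h1 : Spec.map τ ≫ r₁ = r.1 ≫ l₁.left := by
      apply pullback.hom_ext
      · rw [Category.assoc, pullback.lift_fst]
        exact hs.trans ((congrArg (r.1 ≫ ·) (congrArg (fun k : _ ⟶ Y => k.left) ((sq₀ i).lift_fst _ _ _)).symm).trans
          (Category.assoc _ _ _).symm)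
      · rw [Category.assoc, pullback.lift_snd, Category.assoc]
        refine Eq.trans ?_ (congrArg (r.1 ≫ ·) (congrArg (fun k => k.left) ((sq₀ i).lift_snd _ _ _))).symm
        rw [Over.comp_left, ← Category.assoc, r.2, sqW.lift_fst]
    have h1' : l₁.left y = pt r₁ := by
      rw [← hr, ← pt_comp, ← h1, pt_comp]
      exact congrArg r₁ (Subsingleton.elim _ _)
    rw [hi, hzq, Scheme.Hom.mem_preimage, Scheme.Hom.mem_preimage, h1',
      show l₂.left y = pt (r.1 ≫ l₂.left) by rw [pt_comp, hr], h2]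
    refine (hOs i ⟨r₁, pullback.lift_snd _ _ _⟩).trans ⟨?_, fun h => ⟨s₀, hfin.mem_toFinset.2 h, pullback.lift_fst _ _ _⟩⟩
    rintro ⟨s₁, hs₁, e₁⟩
    rw [show s₀ = s₁ from Subtype.ext ((pullback.lift_fst _ _ _).symm.trans e₁)]
    exact hfin.mem_toFinset.1 hs₁
  let E : W.left.Opens := ⟨_, isOpen_eqLocus (f := (pullback.snd a m).left) (zi.openIn_finOpen smi)
    (zq.openIn_finOpen smq)⟩
  refine ⟨openOver W E, openIncl W E ≫ π₁ ≫ ι i, openIncl W E ≫ π₂, ⟨pt ω, hmem⟩, ?_, ?_⟩
  · have key : zi.map (openIncl W E) = zq.map (openIncl W E) := by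
      have sv : IsPullback _ _ p (zi.map (openIncl W E)).ξ := isPullback_map smi (openIncl W E)
      have sv' : IsPullback _ _ p (zq.map (openIncl W E)).ξ := isPullback_map smq (openIncl W E)
      refine Pt.ext_openIn (congrArg ((yon S).map (openIncl W E) ≫ ·) hξW) sv ?_
      rw [zi.openIn_map smi sv (IsPullback.of_hasPullback _ _) rfl,
        zq.openIn_map smq sv' (IsPullback.of_hasPullback _ _) rfl]
      exact (range_subset_eqLocus_iff ((IsPullback.of_hasPullback (pullback.snd a m) (openIncl W E)).map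
        (Over.forget S)) _ _).1 (Scheme.Opens.range_ι E).le
    apply pullback.hom_ext
    · rw [Category.assoc, pullback.lift_fst, Category.assoc]
      apply (point hp.1).injective
      rw [point_comp, point_comp, Equiv.apply_symm_apply, ← Category.assoc, Pt.map_comp, hzc, Pt.map_comp,
        Pt.map_comp]
      exact key
    · rw [Category.assoc, pullback.lift_snd, Category.assoc, ← hq, ← Functor.map_comp, ← Functor.map_comp,
        Category.assoc, Category.assoc, hι, hm, Category.assoc]
  · change π₂.left (pt ω) = t'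
    rw [← pt_comp, sqW.lift_snd, hη]

end Groth.Agent.H12AlgSp.Hilb

namespace Groth.Agent.H12AlgSp.Hilb

variable {S : Scheme.{u}} {F : Sp S} {U : Over S} {p : (yon S).obj U ⟶ F} (hp : RepWith goodMor p)

theorem exists_scheme_fibre {T : Over S} (ξ : (yon S).obj T ⟶ F) :
    ∃ (W : Over S) (γ : W ⟶ T) (μ : (yon S).obj W ⟶ fibre hp ξ), IsIso μ ∧
      μ ≫ pullback.snd _ _ = (yon S).map γ ∧ Etale γ.left ∧ IsSeparated γ.left := by
  obtain ⟨V, g, e, he, hg, hlift⟩ := exists_chart hp ξ
  have key : ∀ {T' : Over S} (x : (yon S).obj T' ⟶ fibre hp ξ), ∃ (W : Over S) (v : (yon S).obj W ⟶ (yon S).obj V)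
      (s : W ⟶ T'), IsPullback v ((yon S).map s) e x ∧ Etale s.left ∧ Surjective s.left := by
    intro T' x
    obtain ⟨q, hq⟩ := (yon S).map_surjective (x ≫ pullback.snd _ _)
    obtain ⟨E, sqE, hE⟩ := exists_pullback_chart hp e he x hq.symm
    have : Etale (pullback.snd g q).left := MorphismProperty.of_isPullback
      ((IsPullback.of_hasPullback g q).map (Over.forget S)) hg
    refine ⟨_, _, openIncl (pullback g q) E ≫ pullback.snd g q, sqE,
      inferInstanceAs (Etale (E.ι ≫ (pullback.snd g q).left)), ⟨fun t' => ?_⟩⟩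
    obtain ⟨W, v, q', w, hw, rfl⟩ := hlift T' x t'
    have hab : v ≫ g = q' ≫ q := (yon S).map_injective (by
      rw [Functor.map_comp, Functor.map_comp, ← he, hq, ← Category.assoc, ← Category.assoc, hw])
    let l : W ⟶ pullback g q := pullback.lift v q' hab
    have hr := (hE W l).1 (by rw [pullback.lift_fst, pullback.lift_snd, hw])
    refine ⟨⟨l.left w, hr ⟨w, rfl⟩⟩, ?_⟩
    change (pullback.snd g q).left (l.left w) = q'.left w
    rw [← Scheme.Hom.comp_apply, ← Over.comp_left, pullback.lift_snd]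
  have hee : RepWith @Etale e := MorphismProperty.relative.of_exists fun T' x => by
    obtain ⟨W, v, s, sq, h1, -⟩ := key x; exact ⟨W, v, s, sq, h1⟩
  have hes : RepWith @Surjective e := MorphismProperty.relative.of_exists fun T' x => by
    obtain ⟨W, v, s, sq, -, h2⟩ := key x; exact ⟨W, v, s, sq, h2⟩
  have hA : IsAlgSpace (fibre hp ξ) := isAlgSpace_of_repWith_etale_surjective (IsAlgSpace.yon_obj V) e hee hes
  have hqf : LocP (@LocallyQuasiFinite ⊓ @LocallyOfFiniteType) (pullback.snd (toBase hp.1) ξ) := by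
    refine locP_of_one_chart (etLocal_inf etLocal_lqf etLocal_lft) g hee hes (repWith_of_isIso (𝟙 _))
      (by rw [he, Category.comp_id]) ?_
    exact ⟨lqf_of_etale g.left, inferInstance⟩
  have hsep := isSeparatedMor_fibre hp ξ
  obtain ⟨W, γ, μ, hμ, hγ⟩ := exists_iso_of_lqf_separated hA hsep hqf
  obtain ⟨-, -, h3⟩ := scheme_props_of_space hA hsep hqf μ (repWith_of_isIso μ) (isSeparatedMor_of_mono μ) γ hγ
  obtain ⟨k, hk⟩ := (yon S).map_surjective (e ≫ inv μ)
  have hkγ : k ≫ γ = g := (yon S).map_injective (by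
    rw [Functor.map_comp, hk, ← hγ, Category.assoc, IsIso.inv_hom_id_assoc, he])
  have : Etale k.left := (repWith_yon_map_iff @Etale k).1 (hk ▸ repWith_comp hee (repWith_of_isIso _))
  have : Surjective k.left := (repWith_yon_map_iff @Surjective k).1 (hk ▸ repWith_comp hes (repWith_of_isIso _))
  refine ⟨W, γ, μ, hμ, hγ, ?_, h3⟩
  have : Etale (k.left ≫ γ.left) := by rw [← Over.comp_left, hkγ]; exact hg
  exact EtaleSource.etale' k.left γ.left

theorem repWith_etale_toBase : RepWith @Etale (toBase hp.1) :=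
  MorphismProperty.relative.of_exists fun T ξ => by
    obtain ⟨W, γ, μ, hμ, hγ, h1, -⟩ := exists_scheme_fibre hp ξ
    exact ⟨W, μ ≫ pullback.fst _ _, γ, IsPullback.of_iso_pullback
      ⟨by rw [Category.assoc, pullback.condition, ← Category.assoc, hγ]⟩ (asIso μ) rfl hγ, h1⟩

theorem repWith_surjective_toBase (hps : RepWith @Surjective p) : RepWith @Surjective (toBase hp.1) :=
  MorphismProperty.relative.of_exists fun T ξ => by
    classical
    obtain ⟨W, γ, μ, hμ, hγ, -, -⟩ := exists_scheme_fibre hp ξ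
    refine ⟨W, μ ≫ pullback.fst _ _, γ, IsPullback.of_iso_pullback
      ⟨by rw [Category.assoc, pullback.condition, ← Category.assoc, hγ]⟩ (asIso μ) rfl hγ, ⟨fun (t : T.left) => ?_⟩⟩
    obtain ⟨Y, a, b, sq⟩ := exists_square hp.1 ξ
    obtain ⟨hfl, hfp, hqf, hsep⟩ := good_of_square hp sq
    obtain ⟨y, hy⟩ := (hps.property ξ _ a sq).surj t
    obtain ⟨s, -⟩ := exists_pts a.left (geomPt t) y (hy.trans (pt_geomPt t).symm)
    obtain ⟨V, g, hg, η', hη', O, hO, -⟩ := exists_etale_finOpen a.left (geomPt t) {s} (by simp)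
    let Vo : Over S := Over.mk (g ≫ T.hom)
    let c : Vo ⟶ T := Over.homMk g
    let P : Over S := Over.mk (pullback.fst a.left g ≫ Y.hom)
    let g₀ : P ⟶ Y := Over.homMk (pullback.fst a.left g)
    let a₀ : P ⟶ Vo := Over.homMk (pullback.snd a.left g) (by
      change pullback.snd a.left g ≫ g ≫ T.hom = pullback.fst a.left g ≫ Y.hom
      rw [← pullback.condition_assoc, Over.w a])
    have sq₀ : IsPullback g₀ a₀ a c :=
      IsPullback.of_map_of_faithful (Over.forget S) (IsPullback.of_hasPullback a.left g)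
    have sqp : IsPullback ((yon S).map (g₀ ≫ b)) ((yon S).map a₀) p ((yon S).map c ≫ ξ) := by
      rw [Functor.map_comp]
      exact (sq₀.map (yon S)).paste_horiz sq
    let x : (yon S).obj Vo ⟶ fibre hp ξ := pullback.lift ((point hp.1).symm (Pt.mkOpen sqp hO)) ((yon S).map c)
      (by rw [comp_toBase, Equiv.apply_symm_apply]; rfl)
    obtain ⟨k, hk⟩ := (yon S).map_surjective (x ≫ inv μ)
    have hkc : k ≫ γ = c := (yon S).map_injective (by
      rw [Functor.map_comp, hk, ← hγ, Category.assoc, IsIso.inv_hom_id_assoc, pullback.lift_snd])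
    refine ⟨k.left (pt η'), ?_⟩
    refine (congr($(congrArg (fun f : Vo ⟶ T => f.left) hkc) (pt η'))).trans ?_
    exact ((pt_comp η' g).symm.trans (congrArg pt hη')).trans (pt_geomPt t)

end Groth.Agent.H12AlgSp.Hilb
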