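import Groth.Agent.H12AlgSp.FinOpen
import Groth.Agent.H12AlgSp.EtaleSheaf
import Groth.Agent.H12AlgSp.RepBySp2
import Groth.Agent.H13AlgSp.Refinement

/-!
The sheaf of open subschemes, finite and surjective over the base, of the fibres of a map `h_U ⟶ F`.
-/

set_option linter.unusedVariables false
set_option backward.isDefEq.respectTransparency false

universe u

open CategoryTheory CategoryTheory.Limits AlgebraicGeometry Opposite TopologicalSpace
open AlgSp Groth.Agent.H13AlgSp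

namespace Groth.Agent.H12AlgSp.Hilb

variable {S : Scheme.{u}} {F : Sp S} {U : Over S} {p : (yon S).obj U ⟶ F}

/-- The pairs of maps which factor through an open of `Y`. -/
def memSet {T Y : Over S} (a : Y ⟶ T) (b : Y ⟶ U) (O : Y.left.Opens) :
    ∀ V : Over S, Set ((V ⟶ T) × (V ⟶ U)) :=
  fun V => {x | ∃ l : V ⟶ Y, l ≫ a = x.1 ∧ l ≫ b = x.2 ∧ Set.range l.left ⊆ O}

theorem hom_ext_square {T Y : Over S} {a : Y ⟶ T} {b : Y ⟶ U} {ξ : (yon S).obj T ⟶ F}
    (sq : IsPullback ((yon S).map b) ((yon S).map a) p ξ) {V : Over S} {l l' : V ⟶ Y}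
    (ha : l ≫ a = l' ≫ a) (hb : l ≫ b = l' ≫ b) : l = l' :=
  (yon S).map_injective (sq.hom_ext (by rw [← Functor.map_comp, ← Functor.map_comp, hb])
    (by rw [← Functor.map_comp, ← Functor.map_comp, ha]))

theorem memSet_injective {T Y : Over S} {a : Y ⟶ T} {b : Y ⟶ U} {ξ : (yon S).obj T ⟶ F}
    (sq : IsPullback ((yon S).map b) ((yon S).map a) p ξ) {O₁ O₂ : Y.left.Opens}
    (h : memSet a b O₁ = memSet a b O₂) : O₁ = O₂ := by
  have key : ∀ O O' : Y.left.Opens, memSet a b O = memSet a b O' → O ≤ O' := by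
    intro O O' h y hy
    have hm : (openIncl Y O ≫ a, openIncl Y O ≫ b) ∈ memSet a b O (openOver Y O) :=
      ⟨openIncl Y O, rfl, rfl, (Scheme.Opens.range_ι O).le⟩
    rw [h] at hm
    obtain ⟨l, h1, h2, hr⟩ := hm
    rw [hom_ext_square sq h1 h2] at hr
    exact hr ⟨⟨y, hy⟩, rfl⟩
  exact le_antisymm (key _ _ h) (key _ _ h.symm)

theorem memSet_preimage {T T' Y Y' : Over S} {a : Y ⟶ T} {b : Y ⟶ U} {a' : Y' ⟶ T'} {h : T' ⟶ T}
    {g : Y' ⟶ Y} (sq : IsPullback g a' a h) (O : Y.left.Opens) (V : Over S) (x : (V ⟶ T') × (V ⟶ U)) :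
    x ∈ memSet a' (g ≫ b) (g.left ⁻¹ᵁ O) V ↔ (x.1 ≫ h, x.2) ∈ memSet a b O V := by
  constructor
  · rintro ⟨l, h1, h2, hr⟩
    refine ⟨l ≫ g, by rw [Category.assoc, sq.w, ← Category.assoc, h1], by rw [Category.assoc, h2], ?_⟩
    rintro _ ⟨v, rfl⟩
    exact hr ⟨v, rfl⟩
  · rintro ⟨l, h1, h2, hr⟩
    refine ⟨sq.lift l x.1 h1, sq.lift_snd _ _ _, by rw [← Category.assoc, sq.lift_fst, h2], ?_⟩
    rintro _ ⟨v, rfl⟩
    change g.left ((sq.lift l x.1 h1).left v) ∈ O
    rw [← Scheme.Hom.comp_apply, ← Over.comp_left, sq.lift_fst]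
    exact hr ⟨v, rfl⟩

variable (p) in
/-- A point of the sheaf of finite opens. -/
structure Pt (T : Over S) where
  ξ : (yon S).obj T ⟶ F
  Z : ∀ V : Over S, Set ((V ⟶ T) × (V ⟶ U))
  spec : ∃ (Y : Over S) (a : Y ⟶ T) (b : Y ⟶ U) (O : Y.left.Opens),
    IsPullback ((yon S).map b) ((yon S).map a) p ξ ∧ IsFinOpen a.left O ∧ Z = memSet a b O

theorem Pt.ext' {T : Over S} {z z' : Pt p T} (h₁ : z.ξ = z'.ξ) (h₂ : z.Z = z'.Z) : z = z' := by
  cases z; cases z'; cases h₁; cases h₂; rfl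

theorem exists_iso_square {T Y Y' : Over S} {a : Y ⟶ T} {b : Y ⟶ U} {a' : Y' ⟶ T} {b' : Y' ⟶ U}
    {ξ : (yon S).obj T ⟶ F} (sq : IsPullback ((yon S).map b) ((yon S).map a) p ξ)
    (sq' : IsPullback ((yon S).map b') ((yon S).map a') p ξ) :
    ∃ g : Y' ⟶ Y, g ≫ a = a' ∧ g ≫ b = b' ∧ IsPullback g a' a (𝟙 T) := by
  let e := (yon S).preimageIso (sq'.isoIsPullback _ _ sq)
  have h1 : e.hom ≫ a = a' := (yon S).map_injective (by
    rw [Functor.map_comp, Functor.preimageIso_hom, Functor.map_preimage, sq'.isoIsPullback_hom_snd])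
  refine ⟨e.hom, h1, (yon S).map_injective (by
    rw [Functor.map_comp, Functor.preimageIso_hom, Functor.map_preimage, sq'.isoIsPullback_hom_fst]), ?_⟩
  exact IsPullback.of_horiz_isIso ⟨by rw [h1, Category.comp_id]⟩

theorem Pt.exists_open {T Y : Over S} (z : Pt p T) {a : Y ⟶ T} {b : Y ⟶ U}
    (sq : IsPullback ((yon S).map b) ((yon S).map a) p z.ξ) :
    ∃ O : Y.left.Opens, IsFinOpen a.left O ∧ z.Z = memSet a b O := by
  obtain ⟨Y₀, a₀, b₀, O₀, sq₀, hO₀, hZ⟩ := z.spec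
  obtain ⟨g, ha, rfl, sqg⟩ := exists_iso_square sq₀ sq
  refine ⟨g.left ⁻¹ᵁ O₀, hO₀.baseChange (sqg.map (Over.forget S)), hZ.trans (funext fun V => Set.ext fun x => ?_)⟩
  rw [memSet_preimage sqg]
  simp

/-- The open of a point in a chosen fibre. -/
noncomputable def Pt.openIn {T Y : Over S} (z : Pt p T) {a : Y ⟶ T} {b : Y ⟶ U}
    (sq : IsPullback ((yon S).map b) ((yon S).map a) p z.ξ) : Y.left.Opens :=
  (z.exists_open sq).choose

theorem Pt.openIn_finOpen {T Y : Over S} (z : Pt p T) {a : Y ⟶ T} {b : Y ⟶ U}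
    (sq : IsPullback ((yon S).map b) ((yon S).map a) p z.ξ) : IsFinOpen a.left (z.openIn sq) :=
  (z.exists_open sq).choose_spec.1

theorem Pt.openIn_Z {T Y : Over S} (z : Pt p T) {a : Y ⟶ T} {b : Y ⟶ U}
    (sq : IsPullback ((yon S).map b) ((yon S).map a) p z.ξ) : z.Z = memSet a b (z.openIn sq) :=
  (z.exists_open sq).choose_spec.2

theorem Pt.openIn_eq {T Y : Over S} (z : Pt p T) {a : Y ⟶ T} {b : Y ⟶ U}
    (sq : IsPullback ((yon S).map b) ((yon S).map a) p z.ξ) {O : Y.left.Opens} (h : z.Z = memSet a b O) :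
    z.openIn sq = O :=
  memSet_injective sq ((z.openIn_Z sq).symm.trans h)

theorem Pt.ext_openIn {T Y : Over S} {z z' : Pt p T} {a : Y ⟶ T} {b : Y ⟶ U} (h : z.ξ = z'.ξ)
    (sq : IsPullback ((yon S).map b) ((yon S).map a) p z.ξ)
    (e : z.openIn sq = z'.openIn (h ▸ sq)) : z = z' :=
  Pt.ext' h (by rw [z.openIn_Z sq, z'.openIn_Z (h ▸ sq), e])

/-- The point given by an open. -/
def Pt.mkOpen {T Y : Over S} {ξ : (yon S).obj T ⟶ F} {a : Y ⟶ T} {b : Y ⟶ U}
    (sq : IsPullback ((yon S).map b) ((yon S).map a) p ξ) {O : Y.left.Opens} (hO : IsFinOpen a.left O) :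
    Pt p T :=
  ⟨ξ, memSet a b O, Y, a, b, O, sq, hO, rfl⟩

theorem Pt.openIn_mkOpen {T Y : Over S} {ξ : (yon S).obj T ⟶ F} {a : Y ⟶ T} {b : Y ⟶ U}
    (sq : IsPullback ((yon S).map b) ((yon S).map a) p ξ) {O : Y.left.Opens} (hO : IsFinOpen a.left O) :
    (Pt.mkOpen sq hO).openIn sq = O :=
  Pt.openIn_eq _ sq rfl

theorem isPullback_map {T T' Y : Over S} {a : Y ⟶ T} {b : Y ⟶ U} {ξ : (yon S).obj T ⟶ F}
    (sq : IsPullback ((yon S).map b) ((yon S).map a) p ξ) (h : T' ⟶ T) :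
    IsPullback ((yon S).map (pullback.fst a h ≫ b)) ((yon S).map (pullback.snd a h)) p ((yon S).map h ≫ ξ) := by
  rw [Functor.map_comp]
  exact ((IsPullback.of_hasPullback a h).map (yon S)).paste_horiz sq

/-- The pullback of a point. -/
def Pt.map {T T' : Over S} (z : Pt p T) (h : T' ⟶ T) : Pt p T' where
  ξ := (yon S).map h ≫ z.ξ
  Z V := {x | (x.1 ≫ h, x.2) ∈ z.Z V}
  spec := by
    obtain ⟨Y, a, b, O, sq, hO, hZ⟩ := z.spec
    refine ⟨pullback a h, pullback.snd a h, pullback.fst a h ≫ b, (pullback.fst a h).left ⁻¹ᵁ O,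
      isPullback_map sq h, hO.baseChange ((IsPullback.of_hasPullback a h).map (Over.forget S)), ?_⟩
    funext V
    ext x
    rw [memSet_preimage (IsPullback.of_hasPullback a h), hZ]
    rfl

theorem Pt.map_id {T : Over S} (z : Pt p T) : z.map (𝟙 T) = z :=
  Pt.ext' (by simp [Pt.map]) (funext fun V => Set.ext fun x => by simp [Pt.map])

theorem Pt.map_comp {T T' T'' : Over S} (z : Pt p T) (h : T' ⟶ T) (h' : T'' ⟶ T') :
    z.map (h' ≫ h) = (z.map h).map h' :=
  Pt.ext' (by simp [Pt.map]) (funext fun V => Set.ext fun x => by simp [Pt.map])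

theorem Pt.openIn_map {T T' Y Y' : Over S} (z : Pt p T) {h : T' ⟶ T} {a : Y ⟶ T} {b : Y ⟶ U}
    (sq : IsPullback ((yon S).map b) ((yon S).map a) p z.ξ) {a' : Y' ⟶ T'} {b' : Y' ⟶ U} {g : Y' ⟶ Y}
    (sq' : IsPullback ((yon S).map b') ((yon S).map a') p (z.map h).ξ) (sqg : IsPullback g a' a h)
    (hb : g ≫ b = b') : (z.map h).openIn sq' = g.left ⁻¹ᵁ z.openIn sq := by
  refine Pt.openIn_eq _ sq' (funext fun V => Set.ext fun x => ?_)
  subst hb
  rw [memSet_preimage sqg, ← z.openIn_Z sq]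
  rfl

theorem exists_square (hp : Representable p) {T : Over S} (ξ : (yon S).obj T ⟶ F) :
    ∃ (Y : Over S) (a : Y ⟶ T) (b : Y ⟶ U), IsPullback ((yon S).map b) ((yon S).map a) p ξ := by
  obtain ⟨Y, a, b', sq⟩ := hp ξ
  obtain ⟨b, rfl⟩ := (yon S).map_surjective b'
  exact ⟨Y, a, b, sq⟩

variable (p) in
/-- The presheaf of finite opens. -/
def psh : (Over S)ᵒᵖ ⥤ Type (u + 1) where
  obj T := Pt p T.unop
  map h := ↾fun z => z.map h.unop
  map_id T := by ext z; exact z.map_id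
  map_comp h h' := by ext z; exact z.map_comp h.unop h'.unop

theorem psh_map {T T' : Over S} (z : Pt p T) (h : T' ⟶ T) : (psh p).map h.op z = z.map h := rfl

theorem mem_iff_of_common {T Y : Over S} {a : Y ⟶ T} {b : Y ⟶ U} {ξ : (yon S).obj T ⟶ F}
    (sq : IsPullback ((yon S).map b) ((yon S).map a) p ξ) {T₁ T₂ : Over S} {c₁ : T₁ ⟶ T} {c₂ : T₂ ⟶ T}
    (z₁ : Pt p T₁) (z₂ : Pt p T₂) (e₁ : z₁.ξ = (yon S).map c₁ ≫ ξ) (e₂ : z₂.ξ = (yon S).map c₂ ≫ ξ)
    (hz : z₁.map (pullback.fst c₁ c₂) = z₂.map (pullback.snd c₁ c₂))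
    (y : ↥(pullback a c₁).left) (y' : ↥(pullback a c₂).left)
    (hy : (pullback.fst a c₁).left y = (pullback.fst a c₂).left y') :
    y ∈ z₁.openIn (e₁ ▸ isPullback_map sq c₁) ↔ y' ∈ z₂.openIn (e₂ ▸ isPullback_map sq c₂) := by
  have s₁ : IsPullback ((yon S).map (pullback.fst a c₁ ≫ b)) ((yon S).map (pullback.snd a c₁)) p z₁.ξ :=
    e₁ ▸ isPullback_map sq c₁
  have s₂ : IsPullback ((yon S).map (pullback.fst a c₂ ≫ b)) ((yon S).map (pullback.snd a c₂)) p z₂.ξ :=
    e₂ ▸ isPullback_map sq c₂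
  let π₁ : pullback c₁ c₂ ⟶ T₁ := pullback.fst c₁ c₂
  let π₂ : pullback c₁ c₂ ⟶ T₂ := pullback.snd c₁ c₂
  let m := π₁ ≫ c₁
  have hm : m = π₂ ≫ c₂ := pullback.condition
  let g₁ : pullback a m ⟶ pullback a c₁ :=
    pullback.lift (pullback.fst a m) (pullback.snd a m ≫ π₁) (by rw [pullback.condition, Category.assoc])
  let g₂ : pullback a m ⟶ pullback a c₂ :=
    pullback.lift (pullback.fst a m) (pullback.snd a m ≫ π₂) (by
      rw [pullback.condition, Category.assoc, ← hm])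
  have sg₁ : IsPullback g₁ (pullback.snd a m) (pullback.snd a c₁) π₁ :=
    IsPullback.of_right (by rw [pullback.lift_fst]; exact IsPullback.of_hasPullback a m)
      (pullback.lift_snd _ _ _) (IsPullback.of_hasPullback a c₁)
  have sg₂ : IsPullback g₂ (pullback.snd a m) (pullback.snd a c₂) π₂ :=
    IsPullback.of_right (by
      rw [pullback.lift_fst, ← hm]
      exact IsPullback.of_hasPullback a m) (pullback.lift_snd _ _ _) (IsPullback.of_hasPullback a c₂)
  have sm₁ : IsPullback ((yon S).map (pullback.fst a m ≫ b)) ((yon S).map (pullback.snd a m)) p (z₁.map π₁).ξ := by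
    have := isPullback_map sq m
    rwa [(yon S).map_comp π₁ c₁, Category.assoc, ← e₁] at this
  have sm₂ : IsPullback ((yon S).map (pullback.fst a m ≫ b)) ((yon S).map (pullback.snd a m)) p (z₂.map π₂).ξ :=
    hz ▸ sm₁
  have h₁ := z₁.openIn_map s₁ sm₁ sg₁ (by rw [← Category.assoc, pullback.lift_fst])
  have h₂ := z₂.openIn_map s₂ sm₂ sg₂ (by rw [← Category.assoc, pullback.lift_fst])
  have he : (z₁.map π₁).openIn sm₁ = (z₂.map π₂).openIn sm₂ := by
    refine Pt.openIn_eq _ sm₁ ?_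
    rw [hz]
    exact Pt.openIn_Z _ sm₂
  rw [h₁, h₂] at he
  -- a common point
  have sqY := (IsPullback.of_hasPullback (pullback.fst a c₁) (pullback.fst a c₂)).map (Over.forget S)
  obtain ⟨w, hw₁, hw₂⟩ := exists_point_over sqY y y' hy
  let l : pullback (pullback.fst a c₁) (pullback.fst a c₂) ⟶ pullback a m :=
    pullback.lift (pullback.fst _ _ ≫ pullback.fst a c₁)
      (pullback.lift (pullback.fst _ _ ≫ pullback.snd a c₁) (pullback.snd _ _ ≫ pullback.snd a c₂) (by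
        rw [Category.assoc, Category.assoc, ← pullback.condition, ← pullback.condition,
          ← Category.assoc, pullback.condition, Category.assoc]))
      (by rw [pullback.lift_fst_assoc, Category.assoc, Category.assoc, pullback.condition])
  have hl₁ : l ≫ g₁ = pullback.fst _ _ := by
    apply pullback.hom_ext
    · simp [l, g₁]
    · simp [l, g₁, π₁]
  have hl₂ : l ≫ g₂ = pullback.snd _ _ := by
    apply pullback.hom_ext
    · simp [l, g₂, pullback.condition]
    · simp [l, g₂, π₂]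
  have := SetLike.ext_iff.1 he (l.left w)
  rw [Scheme.Hom.mem_preimage, Scheme.Hom.mem_preimage] at this
  rw [← Scheme.Hom.comp_apply, ← Scheme.Hom.comp_apply, ← Over.comp_left, ← Over.comp_left, hl₁, hl₂] at this
  rw [← hw₁, ← hw₂]
  exact this

theorem ext_of_cover (hp : Representable p) {T : Over S} {κ : Type u} {C : κ → Over S} (c : ∀ i, C i ⟶ T)
    (hJ : Sieve.ofArrows C c ∈ J S T) (hs : ∀ t : T.left, ∃ i, t ∈ Set.range (c i).left) {z z' : Pt p T}
    (h : ∀ i, z.map (c i) = z'.map (c i)) : z = z' := by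
  have hξ : z.ξ = z'.ξ := hom_ext_of_cover c hJ fun i => congrArg Pt.ξ (h i)
  obtain ⟨Y, a, b, sq⟩ := exists_square hp z.ξ
  refine Pt.ext_openIn hξ sq (Opens.ext (Set.ext fun y => ?_))
  obtain ⟨i, t', ht'⟩ := hs (a.left y)
  obtain ⟨y', rfl, -⟩ := exists_point_over ((IsPullback.of_hasPullback a (c i)).map (Over.forget S)) y t' ht'.symm
  have si : IsPullback _ _ p (z.map (c i)).ξ := isPullback_map sq (c i)
  have si' : IsPullback _ _ p (z'.map (c i)).ξ := h i ▸ si
  have h₁ := z.openIn_map sq si (IsPullback.of_hasPullback a (c i)) rfl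
  have h₂ := z'.openIn_map (hξ ▸ sq) si' (IsPullback.of_hasPullback a (c i)) rfl
  have he : (z.map (c i)).openIn si = (z'.map (c i)).openIn si' := by
    refine Pt.openIn_eq _ si ?_
    rw [h i]
    exact Pt.openIn_Z _ si'
  rw [h₁, h₂] at he
  exact SetLike.ext_iff.1 he y'

theorem exists_glue (hp : Representable p) {T : Over S} {κ : Type u} {C : κ → Over S} (c : ∀ i, C i ⟶ T)
    (hfl : ∀ i, Flat (c i).left) (hfp : ∀ i, LocallyOfFinitePresentation (c i).left)
    (hs : ∀ t : T.left, ∃ i, t ∈ Set.range (c i).left) (z : ∀ i, Pt p (C i))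
    (hz : ∀ i j (W : Over S) (u : W ⟶ C i) (v : W ⟶ C j), u ≫ c i = v ≫ c j → (z i).map u = (z j).map v) :
    ∃ z₀ : Pt p T, ∀ i, z₀.map (c i) = z i := by
  have hJ := ofArrows_mem_J c hfl hfp hs
  obtain ⟨s, hs', -⟩ := (Presieve.isSheafFor_arrows_iff _ _).1
    ((Presieve.isSheafFor_iff_generate _).2 (((isSheaf_iff_isSheaf_of_type _ _).1 F.property) _ hJ))
    (fun i => (J S).uliftYonedaEquiv.{u + 1} (z i).ξ) (fun i j W u v e => by
      rw [GrothendieckTopology.uliftYonedaEquiv_naturality, GrothendieckTopology.uliftYonedaEquiv_naturality]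
      exact congrArg (J S).uliftYonedaEquiv (congrArg Pt.ξ (hz i j W u v e)))
  obtain ⟨ξ, hξdef⟩ : ∃ ξ : (yon S).obj T ⟶ F, ξ = (J S).uliftYonedaEquiv.{u + 1}.symm s := ⟨_, rfl⟩
  have hξ : ∀ i, (z i).ξ = (yon S).map (c i) ≫ ξ := fun i => by
    apply (J S).uliftYonedaEquiv.injective
    rw [← hs' i, hξdef, ← GrothendieckTopology.uliftYonedaEquiv_naturality, Equiv.apply_symm_apply]
  obtain ⟨Y, a, b, sq⟩ := exists_square hp ξ
  have si : ∀ i, IsPullback ((yon S).map (pullback.fst a (c i) ≫ b)) ((yon S).map (pullback.snd a (c i))) p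
      (z i).ξ := fun i => hξ i ▸ isPullback_map sq (c i)
  obtain ⟨O, hO, hOi⟩ := exists_finOpen_descend a c hfl hfp hs (fun i => (pullback a (c i)).left)
    (fun i => (pullback.fst a (c i)).left) (fun i => (pullback.snd a (c i)).left)
    (fun i => (IsPullback.of_hasPullback a (c i)).map (Over.forget S))
    (fun i => (z i).openIn (si i)) (fun i => (z i).openIn_finOpen (si i))
    (fun i j y y' hy => mem_iff_of_common sq (z i) (z j) (hξ i) (hξ j)
      (hz i j _ _ _ pullback.condition) y y' hy)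
  refine ⟨Pt.mkOpen sq hO, fun i => ?_⟩
  have s' : IsPullback _ _ p ((Pt.mkOpen sq hO).map (c i)).ξ := isPullback_map sq (c i)
  refine Pt.ext_openIn (hξ i).symm s' ?_
  rw [Pt.openIn_map (Pt.mkOpen sq hO) sq s' (IsPullback.of_hasPullback a (c i)) rfl, Pt.openIn_mkOpen]
  exact hOi i

theorem isSheaf_psh (hp : Representable p) : Presheaf.IsSheaf (J S) (psh p) := by
  rw [isSheaf_iff_isSheaf_of_type]
  intro T R hR x hx
  obtain ⟨κ, C, c, hfl, hfp, hs, hcR⟩ := exists_cover_of_mem_J hR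
  obtain ⟨z, hz⟩ := exists_glue hp c hfl hfp hs (fun i => x (c i) (hcR i))
    (fun i j W u v e => hx u v (hcR i) (hcR j) e)
  refine ⟨z, fun W f hf => ?_, fun z' hz' => ?_⟩
  · obtain ⟨κ', C', c', hfl', hfp', hs', hc'⟩ :=
      exists_cover_of_mem_J ((J S).pullback_stable f (ofArrows_mem_J c hfl hfp hs))
    refine ext_of_cover hp c' (ofArrows_mem_J c' hfl' hfp' hs') hs' fun k => ?_
    obtain ⟨_, l, _, ⟨i⟩, e⟩ := hc' k
    change (z.map f).map (c' k) = Pt.map (x f hf) (c' k)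
    rw [← Pt.map_comp, ← e, Pt.map_comp, hz]
    exact hx l (c' k) (hcR i) hf e
  · exact ext_of_cover hp c (ofArrows_mem_J c hfl hfp hs) hs fun i => (hz' (c i) (hcR i)).trans (hz i).symm

/-- The sheaf of finite opens. -/
def H (hp : Representable p) : Sp S := ⟨psh p, isSheaf_psh hp⟩

/-- Maps into the sheaf of finite opens. -/
noncomputable def point (hp : Representable p) {T : Over S} : ((yon S).obj T ⟶ H hp) ≃ Pt p T :=
  (J S).uliftYonedaEquiv

theorem point_comp (hp : Representable p) {T T' : Over S} (z : (yon S).obj T ⟶ H hp) (h : T' ⟶ T) :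
    point hp ((yon S).map h ≫ z) = (point hp z).map h :=
  ((J S).uliftYonedaEquiv_naturality z h).symm

/-- The map to `F`. -/
noncomputable def toBase (hp : Representable p) : H hp ⟶ F :=
  ObjectProperty.homMk
    { app := fun T => ↾fun z => (J S).uliftYonedaEquiv (Pt.ξ z)
      naturality := fun T T' h => by
        ext z
        exact ((J S).uliftYonedaEquiv_naturality' (Pt.ξ z) h).symm }

theorem comp_toBase (hp : Representable p) {T : Over S} (z : (yon S).obj T ⟶ H hp) :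
    z ≫ toBase hp = (point hp z).ξ :=
  (J S).uliftYonedaEquiv.injective (((J S).uliftYonedaEquiv_comp z (toBase hp)).trans rfl)

end Groth.Agent.H12AlgSp.Hilb
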