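import Groth.Agent.H12AlgSp.HilbChart
import Groth.Agent.H13Grpd.Coeq
import Groth.Agent.S0411

/-!
The sheaf of finite opens is a scheme, so a sheaf with a flat, lfp, locally quasi-finite chart is an algebraic space.
-/

set_option linter.unusedVariables false
set_option backward.isDefEq.respectTransparency false

universe u

open CategoryTheory CategoryTheory.Limits AlgebraicGeometry Opposite TopologicalSpace
open AlgSp Groth.Agent.H13AlgSp

namespace Groth.Agent.H12AlgSp.Hilb

variable {S : Scheme.{u}} {F : Sp S} {U : Over S} {p : (yon S).obj U ⟶ F}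

theorem Pt.mem_Z_map {T T' : Over S} (z : Pt p T) (h : T' ⟶ T) (V : Over S) (x : (V ⟶ T') × (V ⟶ U)) :
    x ∈ (z.map h).Z V ↔ (x.1 ≫ h, x.2) ∈ z.Z V := Iff.rfl

/-- A cover of the sheaf of finite opens by the universal finite open. -/
theorem exists_universal (hp : RepWith goodMor p) :
    ∃ (E : Over S) (γ : E ⟶ U) (e : (yon S).obj E ⟶ H hp.1), Etale γ.left ∧ IsSeparated γ.left ∧
      RepWith @IsFinite e ∧ RepWith @Flat e ∧ RepWith @LocallyOfFinitePresentation e ∧ RepWith @Surjective e := by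
  obtain ⟨W, γ, μ, hμ, hγ, hγe, hγs⟩ := exists_scheme_fibre hp p
  let x₀ := μ ≫ pullback.fst (toBase hp.1) p
  let z₀ := point hp.1 x₀
  have hz₀ : z₀.ξ = (yon S).map γ ≫ p := by
    rw [← comp_toBase, Category.assoc, pullback.condition, ← Category.assoc, hγ]
  have hW : ∀ {V : Over S} (v v' : V ⟶ W), z₀.map v = z₀.map v' → v ≫ γ = v' ≫ γ → v = v' := fun v v' e₁ e₂ => by
    apply (yon S).map_injective
    rw [← cancel_mono μ]
    apply pullback.hom_ext
    · apply (point hp.1).injective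
      rw [Category.assoc, Category.assoc, point_comp, point_comp]
      exact e₁
    · rw [Category.assoc, Category.assoc, hγ, ← Functor.map_comp, ← Functor.map_comp, e₂]
  obtain ⟨Y, a, b, sq⟩ := exists_square hp.1 z₀.ξ
  obtain ⟨σ', hσb', hσa'⟩ := sq.exists_lift ((yon S).map γ) (𝟙 _) (by rw [hz₀, Category.id_comp])
  obtain ⟨σ, rfl⟩ := (yon S).map_surjective σ'
  have hσa : σ ≫ a = 𝟙 W := (yon S).map_injective (by rw [Functor.map_comp, hσa', CategoryTheory.Functor.map_id])
  have hσb : σ ≫ b = γ := (yon S).map_injective (by rw [Functor.map_comp, hσb'])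
  let O := z₀.openIn sq
  let E : W.left.Opens := σ.left ⁻¹ᵁ O
  have hE : ∀ (V : Over S) (v : V ⟶ W), (v, v ≫ γ) ∈ z₀.Z V ↔ Set.range v.left ⊆ E := fun V v => by
    rw [z₀.openIn_Z sq]
    constructor
    · rintro ⟨l, h1, h2, hr⟩
      obtain rfl : l = v ≫ σ := hom_ext_square sq (by rw [Category.assoc, hσa, Category.comp_id]; exact h1)
        (by rw [Category.assoc, hσb]; exact h2)
      rintro _ ⟨w, rfl⟩
      exact hr ⟨w, rfl⟩
    · intro hr
      refine ⟨v ≫ σ, by rw [Category.assoc, hσa, Category.comp_id], by rw [Category.assoc, hσb], ?_⟩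
      rintro _ ⟨w, rfl⟩
      exact hr ⟨w, rfl⟩
  let j := openIncl W E
  refine ⟨openOver W E, j ≫ γ, (yon S).map j ≫ x₀, inferInstanceAs (Etale (E.ι ≫ γ.left)),
    inferInstanceAs (IsSeparated (E.ι ≫ γ.left)), ?_⟩
  have key : ∀ {T : Over S} (x : (yon S).obj T ⟶ H hp.1), ∃ (P : Over S) (v : (yon S).obj P ⟶ (yon S).obj (openOver W E))
      (c : P ⟶ T), IsPullback v ((yon S).map c) ((yon S).map j ≫ x₀) x ∧ IsFinite c.left ∧ Flat c.left ∧
        LocallyOfFinitePresentation c.left ∧ Surjective c.left := by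
    intro T x
    let z := point hp.1 x
    obtain ⟨Y', a', b', sq'⟩ := exists_square hp.1 z.ξ
    obtain ⟨hfl, hfp, hqf, hsep⟩ := good_of_square hp sq'
    let O' := z.openIn sq'
    let P := openOver Y' O'
    let ι := openIncl Y' O'
    have hcond : (yon S).map (ι ≫ a') ≫ x ≫ toBase hp.1 = (yon S).map (ι ≫ b') ≫ p := by
      rw [comp_toBase, Functor.map_comp, Functor.map_comp, Category.assoc, Category.assoc, sq'.w]
    obtain ⟨k, hk⟩ := (yon S).map_surjective
      (pullback.lift ((yon S).map (ι ≫ a') ≫ x) ((yon S).map (ι ≫ b')) (by rw [Category.assoc, hcond]) ≫ inv μ)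
    have hk₁ : z₀.map k = z.map (ι ≫ a') := by
      rw [← point_comp, ← point_comp, hk]
      congr 1
      simp [x₀]
    have hk₂ : k ≫ γ = ι ≫ b' := (yon S).map_injective (by
      rw [Functor.map_comp, hk, ← hγ, Category.assoc, IsIso.inv_hom_id_assoc, pullback.lift_snd])
    have hkE : Set.range k.left ⊆ E := (hE P k).1 (by
      have : ((𝟙 P : P ⟶ P), k ≫ γ) ∈ (z.map (ι ≫ a')).Z P := by
        rw [Pt.mem_Z_map, Category.id_comp, hk₂, z.openIn_Z sq']
        exact ⟨ι, rfl, rfl, (Scheme.Opens.range_ι O').le⟩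
      rw [← hk₁, Pt.mem_Z_map, Category.id_comp] at this
      exact this)
    have hkE' : Set.range k.left ⊆ Set.range E.ι := by rwa [Scheme.Opens.range_ι]
    let k' : P ⟶ openOver W E := Over.homMk (IsOpenImmersion.lift E.ι k.left hkE') (by
      change IsOpenImmersion.lift E.ι k.left hkE' ≫ E.ι ≫ W.hom = P.hom
      rw [IsOpenImmersion.lift_fac_assoc]
      exact Over.w k)
    have hk' : k' ≫ j = k := Over.OverMorphism.ext (IsOpenImmersion.lift_fac _ _ _)
    refine ⟨P, (yon S).map k', ι ≫ a', isPullback_of_points ?_ (fun V l l' h₁ h₂ => ?_) (fun V v w h => ?_),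
      (z.openIn_finOpen sq').1, inferInstanceAs (Flat (O'.ι ≫ a'.left)),
      inferInstanceAs (LocallyOfFinitePresentation (O'.ι ≫ a'.left)), (z.openIn_finOpen sq').2⟩
    · apply (point hp.1).injective
      rw [← Category.assoc, ← Functor.map_comp, hk', point_comp, point_comp]
      exact hk₁
    · rw [← Functor.map_comp, ← Functor.map_comp] at h₁ h₂
      have e₁ := congrArg (· ≫ j) ((yon S).map_injective h₁)
      simp only [Category.assoc, hk'] at e₁
      have e₂ := congrArg (· ≫ γ) e₁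
      simp only [Category.assoc, hk₂] at e₂
      have e₃ := (yon S).map_injective h₂
      simp only [← Category.assoc] at e₂ e₃
      have := hom_ext_square sq' e₃ e₂
      apply Over.OverMorphism.ext
      rw [← cancel_mono O'.ι]
      exact congrArg (fun f : V ⟶ Y' => f.left) this
    · obtain ⟨v, rfl⟩ := (yon S).map_surjective v
      obtain ⟨w, rfl⟩ := (yon S).map_surjective w
      rw [← Category.assoc, ← Functor.map_comp] at h
      have hz : z₀.map (v ≫ j) = z.map w := by rw [← point_comp, ← point_comp, h]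
      have hm : ((𝟙 V : V ⟶ V), v ≫ j ≫ γ) ∈ (z₀.map (v ≫ j)).Z V := by
        rw [Pt.mem_Z_map, Category.id_comp, ← Category.assoc]
        refine (hE V _).2 ?_
        rintro _ ⟨y, rfl⟩
        exact (v.left y).2
      rw [hz, Pt.mem_Z_map, Category.id_comp, z.openIn_Z sq'] at hm
      obtain ⟨l, h1, h2, hr⟩ := hm
      have hr' : Set.range l.left ⊆ Set.range O'.ι := by rwa [Scheme.Opens.range_ι]
      let l' : V ⟶ P := Over.homMk (IsOpenImmersion.lift O'.ι l.left hr') (by
        change IsOpenImmersion.lift O'.ι l.left hr' ≫ O'.ι ≫ Y'.hom = V.hom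
        rw [IsOpenImmersion.lift_fac_assoc]
        exact Over.w l)
      have hl' : l' ≫ ι = l := Over.OverMorphism.ext (IsOpenImmersion.lift_fac _ _ _)
      refine ⟨l', ?_, by rw [← Functor.map_comp, reassoc_of% hl', h1]⟩
      rw [← Functor.map_comp]
      refine congrArg (yon S).map ?_
      apply Over.OverMorphism.ext
      rw [← cancel_mono E.ι]
      refine congrArg (fun f : V ⟶ W => f.left) (show (l' ≫ k') ≫ j = v ≫ j from hW _ _ ?_ ?_)
      · rw [Category.assoc, hk', Pt.map_comp, hk₁, ← Pt.map_comp, reassoc_of% hl', h1, hz]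
      · rw [Category.assoc, Category.assoc, reassoc_of% hk', hk₂, reassoc_of% hl', h2, Category.assoc]
  refine ⟨?_, ?_, ?_, ?_⟩ <;> refine MorphismProperty.relative.of_exists fun T x => ?_
  · obtain ⟨P, v, c, sqc, h, -, -, -⟩ := key x; exact ⟨P, v, c, sqc, h⟩
  · obtain ⟨P, v, c, sqc, -, h, -, -⟩ := key x; exact ⟨P, v, c, sqc, h⟩
  · obtain ⟨P, v, c, sqc, -, -, h, -⟩ := key x; exact ⟨P, v, c, sqc, h⟩
  · obtain ⟨P, v, c, sqc, -, -, -, h⟩ := key x; exact ⟨P, v, c, sqc, h⟩

/-- The kernel pair of a map out of a scheme as a groupoid scheme. -/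
theorem exists_groupoid {G : Sp S} {E R : Over S} {e : (yon S).obj E ⟶ G} {s t : R ⟶ E}
    (sq : IsPullback ((yon S).map t) ((yon S).map s) e e) :
    ∃ Γ : Grpd.GroupoidScheme S, ∃ (hU : Γ.U = E.left) (hR : Γ.R = R.left),
      Γ.pU = eqToHom hU ≫ E.hom ∧ Γ.s = eqToHom hR ≫ s.left ≫ eqToHom hU.symm ∧
        Γ.t = eqToHom hR ≫ t.left ≫ eqToHom hU.symm ∧ Mono Γ.j := by
  have huniq : ∀ {T : Over S} (x y : T ⟶ R), x ≫ t = y ≫ t → x ≫ s = y ≫ s → x = y := fun x y h₁ h₂ =>
    (yon S).map_injective (sq.hom_ext (by rw [← Functor.map_comp, ← Functor.map_comp, h₁])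
      (by rw [← Functor.map_comp, ← Functor.map_comp, h₂]))
  have hext : ∀ {T : Scheme.{u}} (x y : T ⟶ R.left), x ≫ t.left = y ≫ t.left → x ≫ s.left = y ≫ s.left → x = y := by
    intro T x y h₁ h₂
    have hy : y ≫ R.hom = x ≫ R.hom := by
      rw [← Over.w t, ← Category.assoc, ← h₁, Category.assoc]
    exact congrArg (fun f : Over.mk (x ≫ R.hom) ⟶ R => f.left)
      (huniq (Over.homMk x rfl : Over.mk (x ≫ R.hom) ⟶ R) (Over.homMk y hy) (Over.OverMorphism.ext h₁)
        (Over.OverMorphism.ext h₂))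
  have hlift : ∀ {T : Over S} (x y : T ⟶ E), (yon S).map x ≫ e = (yon S).map y ≫ e →
      ∃ r : T ⟶ R, r ≫ t = x ∧ r ≫ s = y := fun {T} x y h => by
    obtain ⟨r, h₁, h₂⟩ := sq.exists_lift _ _ h
    obtain ⟨r, rfl⟩ := (yon S).map_surjective r
    exact ⟨r, (yon S).map_injective (by rw [Functor.map_comp, h₁]), (yon S).map_injective (by rw [Functor.map_comp, h₂])⟩
  obtain ⟨ε, hεt, hεs⟩ := hlift (𝟙 E) (𝟙 E) rfl
  obtain ⟨ι, hιt, hιs⟩ := hlift s t sq.w.symm
  let P : Over S := Over.mk (pullback.fst s.left t.left ≫ R.hom)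
  let π₁ : P ⟶ R := Over.homMk (pullback.fst s.left t.left)
  let π₂ : P ⟶ R := Over.homMk (pullback.snd s.left t.left) (by
    change pullback.snd s.left t.left ≫ R.hom = pullback.fst s.left t.left ≫ R.hom
    exact ((congrArg (pullback.snd s.left t.left ≫ ·) (Over.w t)).symm.trans
      (pullback.condition_assoc E.hom).symm).trans (congrArg (pullback.fst s.left t.left ≫ ·) (Over.w s)))
  obtain ⟨c, hct, hcs⟩ := hlift (π₁ ≫ t) (π₂ ≫ s) (by
    have h₁ : π₁ ≫ s = π₂ ≫ t := Over.OverMorphism.ext pullback.condition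
    rw [Functor.map_comp, Functor.map_comp, Category.assoc, Category.assoc, sq.w, ← Category.assoc,
      ← Functor.map_comp, h₁, Functor.map_comp, Category.assoc, sq.w])
  have hεt' : ε.left ≫ t.left = 𝟙 _ := congrArg (fun f : E ⟶ E => f.left) hεt
  have hεs' : ε.left ≫ s.left = 𝟙 _ := congrArg (fun f : E ⟶ E => f.left) hεs
  have hιt' : ι.left ≫ t.left = s.left := congrArg (fun f : R ⟶ E => f.left) hιt
  have hιs' : ι.left ≫ s.left = t.left := congrArg (fun f : R ⟶ E => f.left) hιs
  have hct' : c.left ≫ t.left = pullback.fst s.left t.left ≫ t.left := congrArg (fun f : P ⟶ E => f.left) hct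
  have hcs' : c.left ≫ s.left = pullback.snd s.left t.left ≫ s.left := congrArg (fun f : P ⟶ E => f.left) hcs
  let Γ : Grpd.GroupoidScheme S :=
    { U := E.left, R := R.left, pU := E.hom, pR := R.hom, s := s.left, t := t.left, e := ε.left, i := ι.left
      c := c.left
      s_over := Over.w s
      t_over := Over.w t
      comp_s := fun α β h => by rw [Category.assoc]; simp [hcs']
      comp_t := fun α β h => by rw [Category.assoc]; simp [hct']
      assoc := fun α β γ h₁ h₂ => hext _ _ (by simp [hct', Category.assoc]) (by simp [hcs', Category.assoc])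
      e_s := hεs'
      e_t := hεt'
      comp_e := fun α => hext _ _ (by simp [hct', Category.assoc]) (by simp [hcs', hεs', Category.assoc])
      e_comp := fun α => hext _ _ (by simp [hct', hεt', Category.assoc]) (by simp [hcs', Category.assoc])
      i_s := hιs'
      i_t := hιt'
      comp_i := fun α => hext _ _ (by simp [hct', hεt', Category.assoc]) (by simp [hcs', hεs', hιs', Category.assoc])
      i_comp := fun α => hext _ _ (by simp [hct', hεt', hιt', Category.assoc]) (by simp [hcs', hεs', Category.assoc]) }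
  refine ⟨Γ, rfl, rfl, (Category.id_comp _).symm, by simp [Γ], by simp [Γ], ⟨fun {T} x y h => hext x y ?_ ?_⟩⟩
  · simpa [Grpd.GroupoidScheme.j, Γ] using h =≫ pullback.fst _ _
  · simpa [Grpd.GroupoidScheme.j, Γ] using h =≫ pullback.snd _ _

/-- The sheaf of finite opens is a scheme. -/
theorem exists_scheme_H (hp : RepWith goodMor p) [IsSeparated U.hom]
    (hU : ∀ s : Set U.left, s.Finite → ∃ O : U.left.Opens, IsAffineOpen O ∧ s ⊆ O) :
    ∃ (Q : Over S) (μ : (yon S).obj Q ⟶ H hp.1), IsIso μ := by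
  obtain ⟨E, γ, e, hγ, hγs, hfin, hflat, hfp, hsur⟩ := exists_universal hp
  obtain ⟨R, s, t', sq⟩ := hfin.rep e
  obtain ⟨t, rfl⟩ := (yon S).map_surjective t'
  have hsfin : IsFinite s.left := hfin.property _ _ s sq
  have hsflat : Flat s.left := hflat.property _ _ s sq
  have hsfp : LocallyOfFinitePresentation s.left := hfp.property _ _ s sq
  obtain ⟨Γ, hΓU, hΓR, hpU, hs, ht, hj⟩ := exists_groupoid sq
  obtain ⟨U₀, R₀, pU, pR, s₀, t₀, e₀, i₀, c₀, sO, tO, cs, ct, as, es, et, ce, ec, is', it', ci, ic⟩ := Γ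
  dsimp only at hΓU hΓR hpU hs ht
  subst hΓU hΓR
  simp only [eqToHom_refl, Category.id_comp, Category.comp_id] at hpU hs ht
  subst hpU hs ht
  let Γ : Grpd.GroupoidScheme S := ⟨E.left, R.left, E.hom, pR, s.left, t.left, e₀, i₀, c₀, sO, tO, cs, ct, as, es, et,
    ce, ec, is', it', ci, ic⟩
  have : IsFinite Γ.s := hsfin
  have : Flat Γ.s := hsflat
  have : LocallyOfFinitePresentation Γ.s := hsfp
  have : Mono Γ.j := hj
  have hb : ∀ x : Γ.U, ∃ V : Γ.U.Opens, IsAffineOpen V ∧ Γ.t.base '' (Γ.s.base ⁻¹' {x}) ⊆ (V : Set Γ.U) := by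
    intro x
    have horb : (Γ.t.base '' (Γ.s.base ⁻¹' {x})).Finite := (Γ.s.finite_preimage_singleton x).image _
    obtain ⟨O, hO, hsub⟩ := hU _ (horb.image γ.left)
    have : IsAffine (O : Scheme.{u}) := hO
    have hsub' : ∀ y ∈ Γ.t.base '' (Γ.s.base ⁻¹' {x}), y ∈ γ.left ⁻¹ᵁ O := fun y hy => hsub ⟨y, hy, rfl⟩
    let T : Finset (γ.left ⁻¹ᵁ O).toScheme :=
      (horb.preimage (γ.left ⁻¹ᵁ O).ι.isOpenEmbedding.injective.injOn).toFinset
    have := lqf_of_etale γ.left
    obtain ⟨V, hV, hTV⟩ := S0411.result (γ.left ∣_ O) T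
    refine ⟨(γ.left ⁻¹ᵁ O).ι ''ᵁ V, hV.image_of_isOpenImmersion _, fun y hy => ?_⟩
    exact ⟨⟨y, hsub' y hy⟩, hTV _ ((Set.Finite.mem_toFinset _).2 hy), rfl⟩
  obtain ⟨sqQ, hQf, hQfl, hQfp⟩ := H13Grpd.isPullback_and_finLocFree hb
  obtain ⟨hcol⟩ := H13Grpd.nonempty_isColimit_proj hb
  have hst : Γ.t ≫ E.hom = Γ.s ≫ E.hom := (Over.w t).trans (Over.w s).symm
  let πQ : H13Grpd.Quotient Γ ⟶ S := hcol.desc (Cofork.ofπ E.hom hst)
  let Q : Over S := Over.mk πQ
  let pr : E ⟶ Q := Over.homMk (H13Grpd.proj hb) (hcol.fac (Cofork.ofπ E.hom hst) WalkingParallelPair.one)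
  have sqo : IsPullback t s pr pr := IsPullback.of_map_of_faithful (Over.forget S) sqQ
  have sqy := sqo.map (yon S)
  have hepiQ : Epi ((yon S).map pr) := epi_of_local_lifts _ fun T y => by
    obtain ⟨y, rfl⟩ := (yon S).map_surjective y
    refine ⟨PUnit.{u + 1}, fun _ => pullback pr y, fun _ => pullback.snd pr y, ?_,
      fun _ => ⟨(yon S).map (pullback.fst pr y), by rw [← Functor.map_comp, ← Functor.map_comp, pullback.condition]⟩⟩
    have sqT : IsPullback (pullback.fst pr y).left (pullback.snd pr y).left (H13Grpd.proj hb) y.left :=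
      (IsPullback.of_hasPullback pr y).map (Over.forget S)
    refine ofArrows_mem_J _ (fun _ => MorphismProperty.of_isPullback sqT hQfl)
      (fun _ => MorphismProperty.of_isPullback sqT hQfp) fun w => ⟨⟨⟩, ?_⟩
    obtain ⟨x, hx⟩ := H13Grpd.surjective_proj hb (y.left w)
    obtain ⟨z, -, hz⟩ := exists_point_over sqT x w hx
    exact ⟨z, hz⟩
  have hepiH : Epi e := epi_of_local_lifts _ fun T y => by
    obtain ⟨P, c, v, sqP⟩ := hfin.rep y
    exact ⟨PUnit.{u + 1}, fun _ => P, fun _ => c, ofArrows_mem_J _ (fun _ => hflat.property _ _ c sqP)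
      (fun _ => hfp.property _ _ c sqP) (fun w => ⟨⟨⟩, (hsur.property _ _ c sqP).surj w⟩),
      fun _ => ⟨v, sqP.w⟩⟩
  have r1 : IsRegularEpi ((yon S).map pr) := IsRegularEpiCategory.regularEpiOfEpi _
  have r2 : IsRegularEpi e := IsRegularEpiCategory.regularEpiOfEpi _
  let h1 := IsKernelPair.toCoequalizer' sqy
  let h2 := IsKernelPair.toCoequalizer' sq
  exact ⟨Q, (h1.coconePointUniqueUpToIso h2).hom, inferInstance⟩

/-- A sheaf with a separated, flat, lfp, locally quasi-finite, surjective chart is an algebraic space. -/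
theorem isAlgSpace_of_good (hp : RepWith goodMor p) (hps : RepWith @Surjective p) [IsSeparated U.hom]
    (hU : ∀ s : Set U.left, s.Finite → ∃ O : U.left.Opens, IsAffineOpen O ∧ s ⊆ O) : IsAlgSpace F := by
  obtain ⟨Q, μ, hμ⟩ := exists_scheme_H hp hU
  exact isAlgSpace_of_repWith_etale_surjective (IsAlgSpace.yon_obj Q) (μ ≫ toBase hp.1)
    (repWith_comp (repWith_of_isIso μ) (repWith_etale_toBase hp))
    (repWith_comp (repWith_of_isIso μ) (repWith_surjective_toBase hp hps))

end Groth.Agent.H12AlgSp.Hilb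

namespace Groth.Agent.H12AlgSp

variable {S : Scheme.{u}} {F : Sp S} {U : Over S}

/-- A coproduct of separated schemes over a base is separated. -/
theorem isSeparated_sigmaDesc {ι : Type u} {X : ι → Scheme.{u}} {B : Scheme.{u}} (f : ∀ i, X i ⟶ B)
    (hf : ∀ i, IsSeparated (f i)) : IsSeparated (Sigma.desc f) := by
  let d := Sigma.desc f
  refine ⟨IsClosedImmersion.of_isPreimmersion _ ?_⟩
  rw [← isOpen_compl_iff, isOpen_iff_forall_mem_open]
  intro w hw
  obtain ⟨i, x, hx⟩ := (sigmaOpenCover X).exists_eq (pullback.fst d d w)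
  obtain ⟨j, y, hy⟩ := (sigmaOpenCover X).exists_eq (pullback.snd d d w)
  let O : (pullback d d).Opens :=
    (pullback.fst d d ⁻¹ᵁ (Sigma.ι X i).opensRange) ⊓ (pullback.snd d d ⁻¹ᵁ (Sigma.ι X j).opensRange)
  have hwO : w ∈ O := ⟨⟨x, hx⟩, ⟨y, hy⟩⟩
  have hdiag : ∀ z, pullback.fst d d (pullback.diagonal d z) = z ∧ pullback.snd d d (pullback.diagonal d z) = z :=
    fun z => ⟨by rw [← Scheme.Hom.comp_apply, pullback.diagonal_fst]; rfl,
      by rw [← Scheme.Hom.comp_apply, pullback.diagonal_snd]; rfl⟩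
  by_cases hij : i = j
  · subst hij
    let m : pullback (f i) (f i) ⟶ pullback d d :=
      pullback.map _ _ _ _ (Sigma.ι X i) (Sigma.ι X i) (𝟙 B) (by simp [d]) (by simp [d])
    have hr : Set.range m = O := by
      rw [Scheme.Pullback.range_map]
      rfl
    obtain ⟨v, rfl⟩ : w ∈ Set.range m := hr ▸ hwO
    have hdi : pullback.diagonal (f i) ≫ m = Sigma.ι X i ≫ pullback.diagonal d := by
      apply pullback.hom_ext <;> simp [m]
    refine ⟨m '' (Set.range (pullback.diagonal (f i)))ᶜ, ?_, m.isOpenEmbedding.isOpenMap _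
      (pullback.diagonal (f i)).isClosedEmbedding.isClosed_range.isOpen_compl,
      ⟨v, ?_, rfl⟩⟩
    · rintro _ ⟨v', hv', rfl⟩ ⟨z, hz⟩
      have hz' : z ∈ (Sigma.ι X i).opensRange := by
        rw [← (hdiag z).1, hz]
        exact (hr.le ⟨v', rfl⟩ : m v' ∈ O).1
      obtain ⟨x', rfl⟩ := hz'
      refine hv' ⟨x', m.isOpenEmbedding.injective ?_⟩
      rw [← hz, ← Scheme.Hom.comp_apply, hdi]
      rfl
    · rintro ⟨x', hx'⟩
      exact hw ⟨Sigma.ι X i x', by rw [← Scheme.Hom.comp_apply, ← hdi, Scheme.Hom.comp_apply, hx']⟩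
  · refine ⟨O, ?_, O.isOpen, hwO⟩
    rintro u ⟨h1, h2⟩ ⟨z, rfl⟩
    change pullback.fst d d _ ∈ (Sigma.ι X i).opensRange at h1
    change pullback.snd d d _ ∈ (Sigma.ι X j).opensRange at h2
    rw [(hdiag z).1] at h1
    rw [(hdiag z).2] at h2
    exact ((disjoint_opensRange_sigmaι X i j hij).le_bot ⟨h1, h2⟩ :)

/-- A sheaf with a flat, lfp, locally quasi-finite, surjective chart is an algebraic space. -/
theorem isAlgSpace_of_lqf_chart (p : (yon S).obj U ⟶ F)
    (hp : RepWith ((@Flat ⊓ @LocallyOfFinitePresentation : MorphismProperty Scheme.{u}) ⊓ @LocallyQuasiFinite) p)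
    (hps : RepWith @Surjective p) : IsAlgSpace F := by
  classical
  let ι := U.left.affineCover.I₀
  let X : ι → Scheme.{u} := U.left.affineCover.X
  have hX : ∀ i, IsAffine (X i) := fun i => inferInstanceAs (IsAffine (U.left.affineCover.X i))
  let U' : Over S := Over.mk (Sigma.desc fun i => U.left.affineCover.f i ≫ U.hom)
  let c : U' ⟶ U := Over.homMk (Sigma.desc U.left.affineCover.f) (by
    apply Sigma.hom_ext
    intro i
    change Sigma.ι X i ≫ Sigma.desc _ ≫ U.hom = Sigma.ι X i ≫ Sigma.desc _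
    rw [Sigma.ι_desc_assoc, Sigma.ι_desc])
  have hcE : Etale c.left := IsZariskiLocalAtSource.of_openCover (P := @Etale) (sigmaOpenCover X) fun i => by
    change Etale (Sigma.ι X i ≫ Sigma.desc U.left.affineCover.f)
    rw [Sigma.ι_desc]
    infer_instance
  have hcS : Surjective c.left := ⟨fun u => by
    obtain ⟨i, y, hy⟩ := U.left.affineCover.exists_eq u
    refine ⟨Sigma.ι X i y, ?_⟩
    change (Sigma.ι X i ≫ Sigma.desc U.left.affineCover.f) y = u
    rw [Sigma.ι_desc]
    exact hy⟩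
  let p' := (yon S).map c ≫ p
  have hps' : RepWith @Surjective p' := repWith_comp ((repWith_yon_map_iff _ _).2 hcS) hps
  have : IsSeparated U'.hom := isSeparated_sigmaDesc (X := X) _ fun i => by
    have : IsAffine (X i) := hX i
    infer_instance
  have hp' : RepWith Hilb.goodMor p' := by
    have hc' : ((@Flat ⊓ @LocallyOfFinitePresentation : MorphismProperty Scheme.{u}) ⊓ @LocallyQuasiFinite) c.left :=
      ⟨⟨inferInstance, inferInstance⟩, lqf_of_etale c.left⟩
    have h0 := repWith_comp ((repWith_yon_map_iff _ _).2 hc') hp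
    refine ⟨h0.1, fun T V g fst snd sqV => ⟨h0.property g fst snd sqV, ?_⟩⟩
    obtain ⟨b, rfl⟩ := (yon S).map_surjective fst
    let π : pullback snd.left snd.left ⟶ pullback snd.left snd.left := 𝟙 _
    let φ : V.left ⟶ pullback T.hom U'.hom := pullback.lift snd.left b.left ((Over.w snd).trans (Over.w b).symm)
    have : Mono φ := ⟨fun {Z} x y e => by
      have h₁ : x ≫ snd.left = y ≫ snd.left := by simpa [φ] using e =≫ pullback.fst T.hom U'.hom
      have h₂ : x ≫ b.left = y ≫ b.left := by simpa [φ] using e =≫ pullback.snd T.hom U'.hom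
      have hy : y ≫ V.hom = x ≫ V.hom := by
        rw [← Over.w snd, ← Category.assoc, ← h₁, Category.assoc]
      exact congrArg (fun f : Over.mk (x ≫ V.hom) ⟶ V => f.left) (Hilb.hom_ext_square sqV
        (l := (Over.homMk x rfl : Over.mk (x ≫ V.hom) ⟶ V)) (l' := Over.homMk y hy)
        (Over.OverMorphism.ext h₁) (Over.OverMorphism.ext h₂))⟩
    change IsSeparated snd.left
    rw [← pullback.lift_fst (f := T.hom) (g := U'.hom) snd.left b.left ((Over.w snd).trans (Over.w b).symm)]
    exact MorphismProperty.comp_mem _ φ _ inferInstance inferInstance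
  refine Hilb.isAlgSpace_of_good hp' hps' fun s hs => ?_
  choose idx y hy using fun z : U'.left => (sigmaOpenCover X).exists_eq z
  refine ⟨⨆ i ∈ idx '' s, (Sigma.ι X i).opensRange, IsAffineOpen.biSup_of_disjoint (hs.image idx)
    (fun i _ => isAffineOpen_opensRange _) (fun i _ j _ hij => disjoint_opensRange_sigmaι X i j hij), fun z hz => ?_⟩
  exact Opens.mem_iSup.2 ⟨idx z, Opens.mem_iSup.2 ⟨⟨z, hz, rfl⟩, ⟨y z, hy z⟩⟩⟩

end Groth.Agent.H12AlgSp
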