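import Groth.Agent.H12AlgSp.RelDim
import Groth.Agent.H12AlgSp.FieldGroupoid
import Groth.Agent.H28Top.Dim

/-!
Equidimensionality of spaces with transitive translations over a field.
-/

set_option backward.isDefEq.respectTransparency false

universe u

open CategoryTheory CategoryTheory.Limits AlgebraicGeometry Topology TopologicalSpace
open AlgSp

namespace Groth.Agent.H12AlgSp

theorem fibreDimAt_of_subsingleton {X Y : Scheme.{u}} (g : X ⟶ Y) [Subsingleton Y] (x : X) :
    FlatMor.fibreDimAt g x = FlatMor.localDim X x := by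
  have hs : Function.Surjective (g.fiberι (g x)) := fun y => by
    have : y ∈ Set.range (g.fiberι (g x)) := by rw [g.range_fiberι]; exact Subsingleton.elim _ _
    exact this
  let e := (g.fiberι (g x)).isEmbedding.toHomeomorphOfSurjective hs
  have he : e (g.asFiber x) = x := g.fiberι_asFiber x
  refine le_antisymm (le_iInf fun V => ?_) (le_iInf fun V => ?_)
  · refine (H28Top.localDim_le (g.asFiber x) (U := ⟨e ⁻¹' (V.1 : Set X), V.1.2.preimage e.continuous⟩)
      (show e (g.asFiber x) ∈ V.1 by rw [he]; exact V.2)).trans ?_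
    exact IsInducing.topologicalKrullDim_le
      (f := Set.MapsTo.restrict e (e ⁻¹' (V.1 : Set X)) (V.1 : Set X) fun z hz => hz)
      ((e.isEmbedding.restrict fun z hz => hz).isInducing)
  · refine (H28Top.localDim_le x (U := ⟨e.symm ⁻¹' (V.1 : Set ↥(g.fiber (g x))), V.1.2.preimage e.symm.continuous⟩)
      (by change e.symm x ∈ V.1; rw [show e.symm x = g.asFiber x from e.injective (by rw [e.apply_symm_apply, he])]; exact V.2)).trans ?_
    exact IsInducing.topologicalKrullDim_le
      (f := Set.MapsTo.restrict e.symm (e.symm ⁻¹' (V.1 : Set ↥(g.fiber (g x)))) (V.1 : Set ↥(g.fiber (g x))) fun z hz => hz)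
      ((e.symm.isEmbedding.restrict fun z hz => hz).isInducing)

variable {S : Scheme.{u}}

/-- The relative dimension is constant when two projections from the fibre square hit all pairs. -/
theorem fibreDim_eq_of_two_squares {X Y P : Sp S} (hX : IsAlgSpace X) (hY : IsAlgSpace Y)
    {f g : X ⟶ Y} (hf : LocP @LocallyOfFiniteType f) {p q r : P ⟶ X} (sp : IsPullback p r f g)
    (sq : IsPullback q r f f)
    (hpq : ∀ a b : Points X, ∃ z, Points.map p z = a ∧ Points.map q z = b)
    (a b : Points X) (d : WithBot ℕ∞)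
    (hd : HasAtMor (fun _ _ h u => FlatMor.fibreDimAt h u = d) f a) :
    HasAtMor (fun _ _ h u => FlatMor.fibreDimAt h u = d) f b := by
  obtain ⟨z, rfl, rfl⟩ := hpq a b
  obtain ⟨U, V, O, T, ca, cb, h, ca', cb', m, h', k, o, ha, hb, w, ha', hb', w', sqO, rfl, e⟩ :=
    exists_baseChange_chart_at sp hX hY hX z
  have : LocallyOfFiniteType h.left := hf ca cb h ha hb w
  rw [← e, (etInvAt_fibreDimAt (· = d)).hasAtMor_iff hf ha hb w] at hd
  have hr : LocP @LocallyOfFiniteType r := locP_of_isPullback etLocal_lft sp hX hY hX hf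
  have hrd : FlatMor.fibreDimAt h'.left o = d :=
    (H8Props.FieldDim.fibreDimAt_baseChange h.left sqO o).trans hd
  obtain ⟨U₂, V₂, O₂, T₂, da, db, l, da', db', m₂, l', k₂, o₂, ha₂, hb₂, w₂, ha₂', hb₂', w₂', sqO₂, e₂, e₃⟩ :=
    exists_baseChange_chart_at sq hX hY hX (Points.ofPt ca' o)
  have : LocallyOfFiniteType l.left := hf da db l ha₂ hb₂ w₂
  rw [← e₃, (etInvAt_fibreDimAt (· = d)).hasAtMor_iff hf ha₂ hb₂ w₂,
    ← H8Props.FieldDim.fibreDimAt_baseChange l.left sqO₂ o₂]
  exact ((etInvAt_fibreDimAt (· = d)).chart_iff hr ha' hb' ha₂' hb₂' w' w₂' e₂.symm).1 hrd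

/-- Equidimensionality from constancy of the relative dimension over a field. -/
theorem hasAt_localDim_eq_dim {X U : Sp S} (hX : IsAlgSpace X) {k : Type u} [Field k]
    {σ : Spec (CommRingCat.of k) ⟶ S} (e : U ≅ (yon S).obj (Over.mk σ)) {f : X ⟶ U}
    (hf : LocP @LocallyOfFiniteType f)
    (hc : ∀ a b d, HasAtMor (fun _ _ h u => FlatMor.fibreDimAt h u = d) f a →
      HasAtMor (fun _ _ h u => FlatMor.fibreDimAt h u = d) f b) (x : Points X) :
    HasAt (fun U u => FlatMor.localDim ↥U u = dim X) X x := by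
  have : Subsingleton ↥(Over.mk σ).left := inferInstanceAs (Subsingleton (PrimeSpectrum k))
  obtain ⟨C, a, ha, has⟩ := hX.atlas
  obtain ⟨c, hcx⟩ := surjective_ofPt_of_repWith le_rfl has x
  have hb : RepWith @Etale e.inv := repWith_of_isIso e.inv
  have key : ∀ {W : Over S} (w : (yon S).obj W ⟶ X) (_ : RepWith @Etale w) (u : W.left) (d : WithBot ℕ∞),
      HasAtMor (fun _ _ h u => FlatMor.fibreDimAt h u = d) f (Points.ofPt w u) ↔
        FlatMor.localDim W.left u = d := by
    intro W w hw u d
    obtain ⟨h, hh⟩ := (yon S).map_surjective (w ≫ f ≫ e.hom)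
    rw [(etInvAt_fibreDimAt (· = d)).hasAtMor_iff hf hw hb (h := h) (by simp [hh]),
      fibreDimAt_of_subsingleton]
  have hd : ∀ {W : Over S} (w : (yon S).obj W ⟶ X) (_ : RepWith @Etale w) (u : W.left),
      FlatMor.localDim W.left u = FlatMor.localDim C.left c := fun w hw u =>
    (key w hw u _).1 (hc _ _ _ ((key a ha c _).2 rfl))
  refine ⟨C, a, c, ha, hcx, le_antisymm ((H28Top.localDim_le_dim c).trans
    (le_iSup_of_le C (le_iSup_of_le a (le_iSup_of_le ha le_rfl)))) ?_⟩
  refine iSup_le fun W => iSup_le fun w => iSup_le fun hw => H28Top.dim_le_of_chains fun s => ?_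
  obtain ⟨z, hz⟩ := s.head.isIrreducible.nonempty
  exact (H28Top.chain_le_localDim s hz).trans (hd w hw z).le

end Groth.Agent.H12AlgSp
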