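import Groth.Agent.H12AlgSp.HomToAffine
import Groth.Agent.H12AlgSp.Points
import Groth.Agent.H12AlgSp.PointsTop
import Groth.Agent.H12AlgSp.QC
import Groth.Agent.H12AlgSp.Univ
import Groth.Agent.H12AlgSp.Diagonal
import Mathlib.AlgebraicGeometry.Morphisms.Integral

/-!
Global functions on a space universally closed over an affine scheme are integral over it.
-/

set_option backward.isDefEq.respectTransparency false

universe u

open CategoryTheory CategoryTheory.Limits AlgebraicGeometry Opposite Polynomial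
open AlgSp

namespace Groth.Agent.H12AlgSp

variable {S : Scheme.{u}} (V : Over S) [IsAffine V.left]

/-- The projection of the affine line over an affine scheme. -/
noncomputable abbrev linePr : Spec (CommRingCat.of Γ(V.left, ⊤)[X]) ⟶ V.left :=
  Spec.map (CommRingCat.ofHom Polynomial.C) ≫ V.left.isoSpec.inv

/-- The affine line over an affine scheme. -/
noncomputable abbrev lineOver : Over S := Over.mk (linePr V ≫ V.hom)

/-- The structure map of the affine line. -/
noncomputable abbrev lineToBase : lineOver V ⟶ V := Over.homMk (linePr V)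

variable {V} {W W' : Over S}

/-- The evaluation at a function. -/
noncomputable abbrev evalHom (γ : W ⟶ V) (a : Γ(W.left, ⊤)) : CommRingCat.of Γ(V.left, ⊤)[X] ⟶ Γ(W.left, ⊤) :=
  CommRingCat.ofHom (Polynomial.eval₂RingHom γ.left.appTop.hom a)

theorem C_evalHom (γ : W ⟶ V) (a : Γ(W.left, ⊤)) :
    CommRingCat.ofHom Polynomial.C ≫ evalHom γ a = γ.left.appTop := by
  ext r
  simp [evalHom]

theorem mkLine_aux (γ : W ⟶ V) (a : Γ(W.left, ⊤)) :
    (W.left.toSpecΓ ≫ Spec.map (evalHom γ a)) ≫ linePr V = γ.left := by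
  rw [Category.assoc, ← Category.assoc (Spec.map (evalHom γ a)), ← Spec.map_comp, C_evalHom, ← Category.assoc,
    ← Scheme.toSpecΓ_naturality, Category.assoc, ← Scheme.isoSpec_hom, Iso.hom_inv_id, Category.comp_id]

/-- A function as a map to the affine line. -/
noncomputable def mkLine (γ : W ⟶ V) (a : Γ(W.left, ⊤)) : W ⟶ lineOver V :=
  Over.homMk (W.left.toSpecΓ ≫ Spec.map (evalHom γ a)) (by
    change _ ≫ linePr V ≫ V.hom = W.hom
    rw [← Category.assoc, mkLine_aux, Over.w γ])

theorem mkLine_toBase (γ : W ⟶ V) (a : Γ(W.left, ⊤)) : mkLine γ a ≫ lineToBase V = γ :=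
  Over.OverMorphism.ext (mkLine_aux γ a)

theorem mkLine_natural (γ : W ⟶ V) (a : Γ(W.left, ⊤)) (d : W' ⟶ W) :
    d ≫ mkLine γ a = mkLine (d ≫ γ) (d.left.appTop a) := by
  apply Over.OverMorphism.ext
  change d.left ≫ W.left.toSpecΓ ≫ Spec.map (evalHom γ a) =
    W'.left.toSpecΓ ≫ Spec.map (evalHom (d ≫ γ) (d.left.appTop a))
  rw [← Category.assoc, Scheme.toSpecΓ_naturality, Category.assoc, ← Spec.map_comp]
  congr 2
  apply CommRingCat.hom_ext
  apply Polynomial.ringHom_ext <;> simp [evalHom]

theorem mkLine_injective (γ : W ⟶ V) {a b : Γ(W.left, ⊤)} (h : mkLine γ a = mkLine γ b) : a = b := by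
  have h₀ : W.left.toSpecΓ ≫ Spec.map (evalHom γ a) = W.left.toSpecΓ ≫ Spec.map (evalHom γ b) :=
    congrArg CommaMorphism.left h
  have h' : (W.left.toSpecΓ ≫ Spec.map (evalHom γ a)).appTop = (W.left.toSpecΓ ≫ Spec.map (evalHom γ b)).appTop := by
    rw [h₀]
  rw [Scheme.Hom.comp_appTop, Scheme.Hom.comp_appTop, Scheme.toSpecΓ_appTop, Scheme.ΓSpecIso_naturality,
    Scheme.ΓSpecIso_naturality, cancel_epi] at h'
  simpa [evalHom] using congr($h' Polynomial.X)

/-- A function killed by an epimorphism of representable sheaves vanishes. -/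
theorem eq_zero_of_epi (γ : W ⟶ V) {d : W' ⟶ W} [Epi ((yon S).map d)] {a : Γ(W.left, ⊤)}
    (h : d.left.appTop a = 0) : a = 0 := by
  refine mkLine_injective γ ((yon S).map_injective ((cancel_epi ((yon S).map d)).1 ?_))
  rw [← Functor.map_comp, ← Functor.map_comp, mkLine_natural, mkLine_natural, h]
  simp

omit [IsAffine V.left] in
/-- A closed subscheme of the affine line covered by the points of a space universally closed over the base
is universally closed over the base. -/
theorem universallyClosed_of_covered {X : Sp S} {A : Over S} (pA : A ⟶ V) {f : X ⟶ (yon S).obj V}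
    (huc : IsUnivClosedMor f) (G : X ⟶ (yon S).obj A) (hG : G ≫ (yon S).map pA = f) {Z : Scheme.{u}}
    (j : Z ⟶ A.left) [IsClosedImmersion j]
    (hj : ∀ z : Z, Points.ofScheme A (j z) ∈ Set.range (Points.map G)) : UniversallyClosed (j ≫ pA.left) := by
  refine ⟨fun Z' Y i₁ i₂ f' sq => ?_⟩
  let T : Over S := Over.mk (i₂ ≫ V.hom)
  let m : T ⟶ V := Over.homMk i₂
  let AT : Over S := pullback pA m
  let a₁ : AT ⟶ A := pullback.fst pA m
  let a₂ : AT ⟶ T := pullback.snd pA m
  have sqA : IsPullback a₁.left a₂.left pA.left i₂ := (IsPullback.of_hasPullback pA m).map (Over.forget S)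
  have w : (i₁ ≫ j) ≫ pA.left = f' ≫ i₂ := by rw [Category.assoc, sq.w]
  let j' : Z' ⟶ AT.left := sqA.lift (i₁ ≫ j) f' w
  have sqj : IsPullback i₁ j' j a₁.left := by
    refine IsPullback.of_bot ?_ (sqA.lift_fst _ _ _).symm sqA
    rw [sqA.lift_snd]
    exact sq.flip
  have : IsClosedImmersion j' := MorphismProperty.of_isPullback sqj ‹_›
  intro C hC
  let P := pullback f ((yon S).map m)
  let q₁ : P ⟶ X := pullback.fst f ((yon S).map m)
  let q₂ : P ⟶ (yon S).obj T := pullback.snd f ((yon S).map m)
  have sqP : IsPullback q₁ q₂ f ((yon S).map m) := IsPullback.of_hasPullback _ _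
  have sqA' : IsPullback ((yon S).map a₁) ((yon S).map a₂) ((yon S).map pA) ((yon S).map m) :=
    (IsPullback.of_hasPullback pA m).map (yon S)
  let q : P ⟶ (yon S).obj AT := sqA'.lift (q₁ ≫ G) q₂ (by rw [Category.assoc, hG, sqP.w])
  have sqq : IsPullback q₁ q G ((yon S).map a₁) := by
    refine IsPullback.of_bot ?_ (sqA'.lift_fst _ _ _).symm sqA'
    rw [sqA'.lift_snd, hG]
    exact sqP
  have hclosed : IsClosedMap (Points.map q₂) :=
    huc (IsAlgSpace.yon_obj T) ((yon S).map m) q₁ q₂ sqP
  let C' : Set AT.left := j' '' C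
  have hC' : IsClosed C' := j'.isClosedEmbedding.isClosedMap _ hC
  let C'' : Set (Points P) := (fun p => (Points.schemeHomeo AT).symm (Points.map q p)) ⁻¹' C'
  have hC'' : IsClosed C'' :=
    hC'.preimage ((Points.schemeHomeo AT).symm.continuous.comp (Points.continuous_map q))
  have hpt : ∀ p : Points P, (Points.schemeHomeo T).symm (Points.map q₂ p) =
      a₂.left ((Points.schemeHomeo AT).symm (Points.map q p)) := fun p => by
    rw [Homeomorph.symm_apply_eq]
    refine Eq.trans ?_ (Points.map_yon_map_apply a₂ _)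
    rw [Homeomorph.apply_symm_apply, ← Points.map_comp, sqA'.lift_snd]
  have e : f' '' C = (fun p => (Points.schemeHomeo T).symm (Points.map q₂ p)) '' C'' := by
    apply Set.Subset.antisymm
    · rintro _ ⟨z, hz, rfl⟩
      obtain ⟨x, hx⟩ := hj (i₁ z)
      obtain ⟨p, -, hp⟩ := exists_point_of_isPullback sqq x (Points.ofScheme AT (j' z)) (by
        rw [hx]
        erw [Points.map_yon_map_apply]
        refine congrArg _ ?_
        rw [← Scheme.Hom.comp_apply, ← Scheme.Hom.comp_apply, sqA.lift_fst])
      have hp' : (Points.schemeHomeo AT).symm (Points.map q p) = j' z := by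
        rw [Homeomorph.symm_apply_eq]
        exact hp
      refine ⟨p, ⟨z, hz, hp'.symm⟩, ?_⟩
      change (Points.schemeHomeo T).symm (Points.map q₂ p) = f' z
      rw [hpt, hp', ← Scheme.Hom.comp_apply, sqA.lift_snd]
      rfl
    · rintro _ ⟨p, ⟨z, hz, hzp⟩, rfl⟩
      refine ⟨z, hz, ?_⟩
      change j' z = (Points.schemeHomeo AT).symm (Points.map q p) at hzp
      change f' z = (Points.schemeHomeo T).symm (Points.map q₂ p)
      rw [hpt, ← hzp, ← Scheme.Hom.comp_apply, sqA.lift_snd]
      rfl
  rw [e, ← Set.image_image]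
  exact (Points.schemeHomeo T).symm.isClosedMap _ (hclosed _ hC'')

/-- Global functions of a space universally closed over an affine scheme are integral. -/
theorem exists_monic_eval_eq_zero {X : Sp S} (hX : IsAlgSpace X) (f : X ⟶ (yon S).obj V)
    (hqc : IsQuasiCompactMor f) (huc : IsUnivClosedMor f) (s : ↥(gsectEt (OEt X) : CommRingCat.{u + 1})) :
    ∃ P : Polynomial Γ(V.left, ⊤), P.Monic ∧
      ∀ E : EtOver X, Polynomial.eval₂ ((yon S).preimage (E.obj.hom ≫ f)).left.appTop.hom
        ((limit.π (OEt X).obj (op E)) s).down P = 0 := by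
  let γ : ∀ E : EtOver X, E.obj.left ⟶ V := fun E => (yon S).preimage (E.obj.hom ≫ f)
  let σ : ∀ E : EtOver X, Γ(E.obj.left.left, ⊤) := fun E => ((limit.π (OEt X).obj (op E)) s).down
  have hγ : ∀ {E E' : EtOver X} (g : E ⟶ E'), g.hom.left ≫ γ E' = γ E := fun {E E'} g =>
    (yon S).map_injective (by
      simp only [γ, Functor.map_comp, Functor.map_preimage]
      rw [← Category.assoc]
      exact congrArg (· ≫ f) (CostructuredArrow.w g.hom))
  have hσ : ∀ {E E' : EtOver X} (g : E ⟶ E'), g.hom.left.left.appTop (σ E') = σ E := fun {E E'} g =>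
    congrArg ULift.down (ConcreteCategory.congr_hom (limit.w (OEt X).obj g.op) s)
  let h : ∀ E : EtOver X, E.obj.left ⟶ lineOver V := fun E => mkLine (γ E) (σ E)
  have hnat : ∀ {E E' : EtOver X} (g : E ⟶ E'), g.hom.left ≫ h E' = h E := fun {E E'} g => by
    change _ ≫ mkLine (γ E') (σ E') = mkLine (γ E) (σ E)
    rw [mkLine_natural, hγ, hσ]
  have := compactSpace_points_of_isQuasiCompactSp (hqc (IsAlgSpace.yon_obj V)
    (isQuasiCompactSp_yon_iff.2 (inferInstanceAs (CompactSpace V.left))) (𝟙 _) (𝟙 X) f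
    (IsPullback.of_horiz_isIso ⟨by simp⟩))
  obtain ⟨U, p, hU, hp, hs⟩ := exists_affine_atlas hX
  let E₀ : EtOver X := EtOver.mk p hp
  have : Epi p := epi_of_etale_surjective hp hs
  have hsq : IsPullback ((yon S).map (EtOver.prodSnd E₀ E₀).hom.left)
      ((yon S).map (EtOver.prodFst E₀ E₀).hom.left) p p := by
    have := E₀.property.1.isPullback E₀.obj.hom
    rw [← Functor.relativelyRepresentable.map_fst'] at this
    exact this
  obtain ⟨hcoeq⟩ := nonempty_isColimit_of_atlas hp hs hsq
  obtain ⟨G, hG₀⟩ := Cofork.IsColimit.desc' hcoeq ((yon S).map (h E₀))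
    (by rw [← Functor.map_comp, ← Functor.map_comp, hnat, hnat])
  have hG : p ≫ G = (yon S).map (h E₀) := hG₀
  have hGf : G ≫ (yon S).map (lineToBase V) = f := by
    rw [← cancel_epi p, ← Category.assoc, hG, ← Functor.map_comp, mkLine_toBase]
    exact (yon S).map_preimage _
  let l : X ⟶ pullback f ((yon S).map (lineToBase V)) := pullback.lift (𝟙 X) G (by rw [Category.id_comp, hGf])
  have hfst : RepWith @IsSeparated (pullback.fst f ((yon S).map (lineToBase V))) :=
    repWith_of_isPullback (IsPullback.of_hasPullback _ _).flip ((repWith_yon_map_iff @IsSeparated _).2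
      (inferInstanceAs (IsSeparated (linePr V))))
  have hl : RepWith @IsClosedImmersion l :=
    repWith_of_comp_rep l _ (repWith_le (P := @IsSeparated) (Q := MorphismProperty.diagonal @IsClosedImmersion)
      (fun _ _ k (hk : IsSeparated k) => hk.isClosedImmersion_diagonal) hfst)
      (by rw [pullback.lift_fst]; exact repWith_of_isIso (𝟙 X))
  have hGc : IsClosed (Set.range (Points.map G)) := by
    have e : Points.map G = Points.map (pullback.snd f ((yon S).map (lineToBase V))) ∘ Points.map l :=
      funext fun x => by rw [Function.comp_apply, ← Points.map_comp, pullback.lift_snd]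
    rw [e, Set.range_comp]
    refine huc (IsAlgSpace.yon_obj _) _ _ _ (IsPullback.of_hasPullback _ _) _ ?_
    exact (isClosedMap_map_of_repWith (P := @IsClosedImmersion)
      (fun _ _ k (_ : IsClosedImmersion k) => inferInstance) hl).isClosed_range
  let φ := evalHom (γ E₀) (σ E₀)
  let K : Ideal Γ(V.left, ⊤)[X] := RingHom.ker φ.hom
  let j : Spec (CommRingCat.of (Γ(V.left, ⊤)[X] ⧸ K)) ⟶ Spec (CommRingCat.of Γ(V.left, ⊤)[X]) :=
    Spec.map (CommRingCat.ofHom (Ideal.Quotient.mk K))
  have : IsClosedImmersion j := IsClosedImmersion.spec_of_surjective _ Ideal.Quotient.mk_surjective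
  have hj : ∀ z, Points.ofScheme (lineOver V) (j z) ∈ Set.range (Points.map G) := fun z => by
    have hz : j z ∈ closure (Set.range (Spec.map φ)) := by
      change PrimeSpectrum.comap (Ideal.Quotient.mk K) z ∈ closure (Set.range (PrimeSpectrum.comap φ.hom))
      rw [PrimeSpectrum.closure_range_comap]
      intro x hx
      change Ideal.Quotient.mk K x ∈ z.asIdeal
      rw [Ideal.Quotient.eq_zero_iff_mem.2 hx]
      exact z.asIdeal.zero_mem
    have hZ : IsClosed ((Points.schemeHomeo (lineOver V)) ⁻¹' Set.range (Points.map G)) :=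
      hGc.preimage (Points.schemeHomeo (lineOver V)).continuous
    refine hZ.closure_subset_iff.2 ?_ hz
    rintro _ ⟨w, rfl⟩
    obtain ⟨u, rfl⟩ := (inferInstance : Surjective U.left.toSpecΓ).surj w
    refine ⟨Points.map p (Points.ofScheme U u), ?_⟩
    rw [← Points.map_comp, hG]
    erw [Points.map_yon_map_apply]
    rfl
  have huz := universallyClosed_of_covered (lineToBase V) huc G hGf j hj
  have : IsAffine (lineOver V).left := inferInstanceAs (IsAffine (Spec _))
  have hint : IsIntegralHom ((j ≫ Spec.map (CommRingCat.ofHom Polynomial.C)) ≫ V.left.isoSpec.inv) := by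
    rw [Category.assoc]
    exact IsIntegralHom.iff_universallyClosed_and_isAffineHom.2 ⟨huz, isAffineHom_of_isAffine _⟩
  rw [MorphismProperty.cancel_right_of_respectsIso (P := @IsIntegralHom), ← Spec.map_comp,
    IsIntegralHom.SpecMap_iff] at hint
  obtain ⟨P, hP, hP'⟩ := hint (Ideal.Quotient.mk K Polynomial.X)
  have hPK : P ∈ K := by
    rw [← Ideal.Quotient.eq_zero_iff_mem, ← hP', CommRingCat.hom_comp, CommRingCat.hom_ofHom,
      CommRingCat.hom_ofHom, ← Polynomial.hom_eval₂, Polynomial.eval₂_C_X]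
  refine ⟨P, hP, fun E => ?_⟩
  let d := (EtOver.prodSnd E₀ E).hom.left
  have hpb : IsPullback ((yon S).map d) ((yon S).map (EtOver.prodFst E₀ E).hom.left) E.obj.hom p := by
    have := E.property.1.isPullback p
    rw [← Functor.relativelyRepresentable.map_fst'] at this
    exact this
  have : Epi ((yon S).map d) :=
    epi_of_etale_surjective (repWith_of_isPullback hpb.flip hp) (repWith_of_isPullback hpb.flip hs)
  have push : ∀ {A B : EtOver X} (g : A ⟶ B),
      g.hom.left.left.appTop (Polynomial.eval₂ (γ B).left.appTop.hom (σ B) P) =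
        Polynomial.eval₂ (γ A).left.appTop.hom (σ A) P := fun {A B} g => by
    rw [Polynomial.hom_eval₂, hσ, ← hγ g, Over.comp_left, Scheme.Hom.comp_appTop, CommRingCat.hom_comp]
  change Polynomial.eval₂ (γ E).left.appTop.hom (σ E) P = 0
  refine eq_zero_of_epi (γ E) (d := d) ?_
  have hP₀ : Polynomial.eval₂ (γ E₀).left.appTop.hom (σ E₀) P = 0 := hPK
  rw [push (EtOver.prodSnd E₀ E), ← push (EtOver.prodFst E₀ E), hP₀, map_zero]

end Groth.Agent.H12AlgSp
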