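import Groth.Agent.H12AlgSp.Bootstrap
import Groth.Agent.H12AlgSp.Immersion
import Mathlib.CategoryTheory.Sites.Subsheaf

/-!
Invariant immersions descend t₀ subspaces.
-/

universe u

open CategoryTheory CategoryTheory.Limits AlgebraicGeometry Opposite
open AlgSp Groth.Agent.H13AlgSp

set_option backward.isDefEq.respectTransparency false

namespace Groth.Agent.H12AlgSp

variable {S : Scheme.{u}}

theorem mono_yon_homMk {U : Over S} {Z' : Scheme.{u}} (i' : Z' ⟶ U.left) [Mono i'] :
    Mono ((yon S).map (Over.homMk i' rfl : Over.mk (i' ≫ U.hom) ⟶ U)) := by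
  have : Mono (Over.homMk i' rfl : Over.mk (i' ≫ U.hom) ⟶ U) :=
    (Over.forget S).mono_of_mono_map (inferInstanceAs (Mono i'))
  infer_instance

/-- An invariant immersion descends t₀ a subspace. -/
theorem exists_subspace_of_invariant (X : Space S) {R U : Over S} (s t : R ⟶ U)
    (p : (yon S).obj U ⟶ X.obj) (hp : IsPresentation s t p)
    {Z' R' : Scheme.{u}} (i' : Z' ⟶ U.left) [IsImmersion i'] (k : R' ⟶ R.left) (s' t' : R' ⟶ Z')
    (hs : IsPullback k s' s.left i') (ht : IsPullback k t' t.left i') :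
    ∃ (Z : Space S) (i : Z ⟶ X) (q : (yon S).obj (Over.mk (i' ≫ U.hom)) ⟶ Z.obj),
      RepWith @IsImmersion i.hom ∧
      IsPullback q ((yon S).map (Over.homMk i' rfl : Over.mk (i' ≫ U.hom) ⟶ U)) i.hom p ∧
      (IsClosedImmersion i' → RepWith @IsClosedImmersion i.hom) ∧
      (IsOpenImmersion i' → RepWith @IsOpenImmersion i.hom) := by
  let io : Over.mk (i' ≫ U.hom) ⟶ U := Over.homMk i' rfl
  let Ro : Over S := Over.mk (k ≫ R.hom)
  let ko : Ro ⟶ R := Over.homMk k rfl
  let so : Ro ⟶ Over.mk (i' ≫ U.hom) := Over.homMk s' (by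
    show s' ≫ i' ≫ U.hom = k ≫ R.hom
    rw [← hs.w_assoc, Over.w s])
  let t₀ : Ro ⟶ Over.mk (i' ≫ U.hom) := Over.homMk t' (by
    show t' ≫ i' ≫ U.hom = k ≫ R.hom
    rw [← ht.w_assoc, Over.w t])
  have : Mono ((yon S).map io) := mono_yon_homMk i'
  have hso : IsPullback ko so s io :=
    IsPullback.of_map_of_faithful (Over.forget S) hs
  have hto : IsPullback ko t₀ t io :=
    IsPullback.of_map_of_faithful (Over.forget S) ht
  let g : (yon S).obj (Over.mk (i' ≫ U.hom)) ⟶ X.obj := (yon S).map io ≫ p
  let q := Limits.factorThruImage g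
  let ι := Limits.image.ι g
  have hqι : q ≫ ι = (yon S).map io ≫ p := Limits.image.fac g
  have : Epi q := inferInstance
  let m : (yon S).obj (Over.mk (i' ≫ U.hom)) ⟶ pullback ι p := pullback.lift q ((yon S).map io) hqι
  have : Mono m := by
    have : Mono (m ≫ pullback.snd ι p) := by
      rw [pullback.lift_snd]
      infer_instance
    exact mono_of_mono m (pullback.snd ι p)
  have : IsIso m := by
    refine isIso_of_mono_of_local_lifts _ fun T y => ?_
    obtain ⟨κ, C, c, hfl, hfp, hsurj, hl⟩ := exists_local_lifts' q (y ≫ pullback.fst ι p)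
    choose z hz using hl
    refine ⟨κ, C, c, ofArrows_mem_J _ hfl hfp hsurj, fun i => ?_⟩
    obtain ⟨x, hx⟩ := (yon S).map_surjective ((yon S).map (c i) ≫ y ≫ pullback.snd ι p)
    obtain ⟨z', hz'⟩ := (yon S).map_surjective (z i)
    have e : (yon S).map x ≫ p = (yon S).map (z' ≫ io) ≫ p := by
      rw [hx, Category.assoc, Category.assoc, ← pullback.condition, Functor.map_comp, Category.assoc, ← hqι,
        hz', ← Category.assoc (z i), hz i]
      simp only [Category.assoc]
    obtain ⟨r, hr₁, hr₂⟩ := hp.isPullback.exists_lift _ _ e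
    obtain ⟨r, rfl⟩ := (yon S).map_surjective r
    rw [← Functor.map_comp] at hr₁ hr₂
    obtain ⟨r', hr'₁, hr'₂⟩ := hso.exists_lift r z' ((yon S).map_injective hr₂)
    have hw : (r' ≫ t₀) ≫ io = x := by
      rw [Category.assoc, ← hto.w, ← Category.assoc, hr'₁]
      exact (yon S).map_injective hr₁
    refine ⟨(yon S).map (r' ≫ t₀), ?_⟩
    apply pullback.hom_ext
    · rw [← cancel_mono ι]
      simp only [m, Category.assoc, pullback.lift_fst, hqι, pullback.condition]
      rw [← Functor.map_comp_assoc, hw, hx, Category.assoc, Category.assoc]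
    · simp only [m, Category.assoc, pullback.lift_snd]
      rw [← Functor.map_comp, hw, hx]
  have sqZ : IsPullback q ((yon S).map io) ι p :=
    IsPullback.of_iso_pullback ⟨hqι⟩ (asIso m) (pullback.lift_fst _ _ _) (pullback.lift_snd _ _ _)
  have big : IsPullback ((yon S).map t₀ ≫ (yon S).map io) ((yon S).map so) p (q ≫ ι) := by
    rw [← Functor.map_comp, ← hto.w, Functor.map_comp, hqι]
    exact (hso.map (yon S)).paste_horiz hp.isPullback
  have sqR : IsPullback ((yon S).map t₀) ((yon S).map so) q q := by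
    refine IsPullback.of_right ?_ ?_ sqZ.flip |>.flip.flip
    · exact big
    · apply (cancel_mono ι).1
      simp only [Category.assoc, hqι]
      rw [← Category.assoc, big.w, hqι]
  have : Etale s.left := hp.etale.2 p _ s hp.isPullback
  have : Etale t.left := hp.etale.2 p _ t hp.isPullback.flip
  have : Etale so.left := MorphismProperty.of_isPullback (P := @Etale) hs ‹Etale s.left›
  have : Etale t₀.left := MorphismProperty.of_isPullback (P := @Etale) ht ‹Etale t.left›
  obtain ⟨hZ, -, -⟩ := isAlgSpace_of_epi_etale sqR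
  have hdesc : ∀ P : MorphismProperty Scheme.{u},
      P = @IsClosedImmersion ∨ P = @IsOpenImmersion ∨ P = @IsImmersion →
      P.IsStableUnderBaseChange → P i' → RepWith P ι := fun P hP _ h =>
    repWith_of_etale_cover_immersions hZ X.property hP hp.etale hp.surjective sqZ
      ((repWith_yon_map_iff P io).2 h)
  exact ⟨⟨_, hZ⟩, ObjectProperty.homMk ι, q, hdesc _ (Or.inr (Or.inr rfl)) inferInstance ‹IsImmersion i'›, sqZ,
    fun h => hdesc _ (Or.inl rfl) inferInstance h, fun h => hdesc _ (Or.inr (Or.inl rfl)) inferInstance h⟩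

end Groth.Agent.H12AlgSp
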