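import Groth.Agent.H12AlgSp.GroupoidFormal
import Groth.Agent.H12AlgSp.OpenSub
import Groth.Agent.H12AlgSp.Points

/-!
Orbits of open subspaces under a groupoid.
-/

set_option backward.isDefEq.respectTransparency false

universe u

open CategoryTheory CategoryTheory.Limits AlgebraicGeometry
open AlgSp

namespace Groth.Agent.H12AlgSp.Gpd

variable {S : Scheme.{u}} {B : Sp S} {G : GroupoidSp B}

/-- `s (t⁻¹ A)` is stable under the arrows. -/
theorem mem_orbit_iff (A : Set (Points G.U)) (p : Points G.R) :
    Points.map G.t p ∈ Points.map G.s '' (Points.map G.t ⁻¹' A) ↔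
      Points.map G.s p ∈ Points.map G.s '' (Points.map G.t ⁻¹' A) := by
  have key : ∀ q p : Points G.R, Points.map G.s q = Points.map G.t p →
      ∃ r, Points.map G.t r = Points.map G.t q ∧ Points.map G.s r = Points.map G.s p := by
    intro q p h
    obtain ⟨z, hz₁, hz₂⟩ := exists_point_of_isPullback (IsPullback.of_hasPullback G.s G.t) q p h
    refine ⟨Points.map G.c z, ?_, ?_⟩
    · have := G.comp_t (pullback.fst G.s G.t) (pullback.snd G.s G.t) pullback.condition
      rw [show pullback.lift (pullback.fst G.s G.t) (pullback.snd G.s G.t) pullback.condition = 𝟙 _ by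
        apply pullback.hom_ext <;> simp, Category.id_comp] at this
      rw [← Points.map_comp, this, Points.map_comp, hz₁]
    · have := G.comp_s (pullback.fst G.s G.t) (pullback.snd G.s G.t) pullback.condition
      rw [show pullback.lift (pullback.fst G.s G.t) (pullback.snd G.s G.t) pullback.condition = 𝟙 _ by
        apply pullback.hom_ext <;> simp, Category.id_comp] at this
      rw [← Points.map_comp, this, Points.map_comp, hz₂]
  constructor
  · rintro ⟨q, hq, e⟩
    obtain ⟨r, hr₁, hr₂⟩ := key q p e
    exact ⟨r, by rw [Set.mem_preimage, hr₁]; exact hq, hr₂⟩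
  · rintro ⟨q, hq, e⟩
    obtain ⟨r, hr₁, hr₂⟩ := key q (Points.map G.i p)
      (by rw [e, ← Points.map_comp, G.i_t])
    refine ⟨r, by rw [Set.mem_preimage, hr₁]; exact hq, ?_⟩
    rw [hr₂, ← Points.map_comp, G.i_s]

theorem isInvariant_of_range {W : Sp S} (w : W ⟶ G.U) (hw : RepWith @IsOpenImmersion w)
    (h : ∀ p : Points G.R,
      Points.map G.t p ∈ Set.range (Points.map w) ↔ Points.map G.s p ∈ Set.range (Points.map w)) :
    G.IsInvariant w := by
  intro T r
  have key : ∀ f : G.R ⟶ G.U, (∃ a : (yon S).obj T ⟶ W, a ≫ w = r ≫ f) ↔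
      ∀ z : Points ((yon S).obj T), Points.map f (Points.map r z) ∈ Set.range (Points.map w) := by
    intro f
    constructor
    · rintro ⟨a, ha⟩ z
      exact ⟨Points.map a z, by rw [← Points.map_comp, ha, Points.map_comp]⟩
    · intro hz
      exact exists_factor_open hw (r ≫ f) (by rintro _ ⟨z, rfl⟩; rw [Points.map_comp]; exact hz z)
  rw [key, key]
  exact forall_congr' fun z => h _

end Groth.Agent.H12AlgSp.Gpd
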