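import Groth.Agent.H12AlgSp.Bootstrap
import Groth.Agent.H12AlgSp.EtaleNbhdRadicial
import Groth.Agent.H12AlgSp.Immersion
import Groth.Agent.H12AlgSp.NoethValuative
import Groth.Agent.H12AlgSp.Charts
import Mathlib.Topology.Spectral.ConstructibleTopology

/-!
An algebraic space separated and locally quasi-finite over a scheme is a scheme.
-/

universe u

open CategoryTheory CategoryTheory.Limits AlgebraicGeometry Opposite Topology TensorProduct
open AlgSp Groth.Agent.H13AlgSp

namespace Groth.Agent.H12AlgSp

open RPt

variable {S : Scheme.{u}}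

/-- Ordered tuples of distinct sections of an etale morphism. -/
structure Sheets {T T' : Over S} (e : T' ⟶ T) (k : ℕ) where
  E : Over S
  c : E ⟶ T
  q : Fin k → (E ⟶ T')
  aff : IsAffine E.left
  et : Etale c.left
  w : ∀ i, q i ≫ e = c
  distinct : ∀ (K : Type u) [Field K] (z : Spec (CommRingCat.of K) ⟶ E.left) (i j : Fin k),
    z ≫ (q i).left = z ≫ (q j).left → i = j

/-- Lifting along an open immersion. -/
theorem exists_lift_open {X Y Z : Scheme.{u}} (f : X ⟶ Z) (g : Y ⟶ Z) (hf : IsOpenImmersion f)
    (h : Set.range g ⊆ Set.range f) : ∃ k : Y ⟶ X, k ≫ f = g :=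
  have := hf
  ⟨IsOpenImmersion.lift f g h, IsOpenImmersion.lift_fac f g h⟩

/-- The next stage: the complement of the graphs. -/
theorem exists_next {T T' : Over S} (e : T' ⟶ T) [IsAffine T.left] [IsAffine T'.left] [Etale e.left] {k : ℕ}
    (D : Sheets e k) : ∃ (D' : Sheets e (k + 1)) (h : D'.E ⟶ D.E), h ≫ D.c = D'.c ∧ Etale h.left ∧
      ∀ (K : Type u) [Field K] (z : Spec (CommRingCat.of K) ⟶ D.E.left) (y : Spec (CommRingCat.of K) ⟶ T'.left),
        z ≫ D.c.left = y ≫ e.left →
          (∃ z' : Spec (CommRingCat.of K) ⟶ D'.E.left, z' ≫ h.left = z) ∨ ∃ i, y = z ≫ (D.q i).left := by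
  have := D.aff
  have := D.et
  let Pb := pullback D.c e
  let pr : Pb ⟶ D.E := pullback.fst D.c e
  let pr' : Pb ⟶ T' := pullback.snd D.c e
  have sqP : IsPullback pr.left pr'.left D.c.left e.left := (IsPullback.of_hasPullback D.c e).map (Over.forget S)
  have hPa : IsAffine Pb.left := IsAffine.of_isIso sqP.isoPullback.hom
  have hpr : Etale pr.left := MorphismProperty.of_isPullback sqP.flip ‹Etale e.left›
  let γ : Fin k → (D.E ⟶ Pb) := fun i => pullback.lift (𝟙 D.E) (D.q i) (by rw [Category.id_comp, D.w])
  have hγ : ∀ i, (γ i).left ≫ pr.left = 𝟙 D.E.left := fun i =>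
    congrArg (fun f => Over.Hom.left f) (pullback.lift_fst _ _ _ : γ i ≫ pr = 𝟙 D.E)
  have hγo : ∀ i, IsOpen (Set.range (γ i).left) := fun i =>
    have := etale_section pr.left (γ i).left (hγ i)
    (γ i).left.isOpenMap.isOpen_range
  have hγc : ∀ i, IsClosed (Set.range (γ i).left) := fun i => by
    have : IsClosedImmersion ((γ i).left ≫ pr.left) := by rw [hγ i]; infer_instance
    have : IsClosedImmersion (γ i).left := IsClosedImmersion.of_comp (γ i).left pr.left
    exact (γ i).left.isClosedEmbedding.isClosed_range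
  let Gs : Set Pb.left := (⋃ i, Set.range (γ i).left)ᶜ
  have hGo : IsOpen Gs := (isClosed_iUnion_of_finite hγc).isOpen_compl
  have hGc : IsClosed Gs := (isOpen_iUnion hγo).isClosed_compl
  let G : Pb.left.Opens := ⟨Gs, hGo⟩
  have : IsClosedImmersion G.ι := .of_isPreimmersion _ (by rw [Scheme.Opens.range_ι]; exact hGc)
  have hEa : IsAffine (openOver Pb G).left := by
    change IsAffine G.toScheme
    exact isAffine_of_isAffineHom G.ι
  let incl := openIncl Pb G
  have hh : Etale (incl ≫ pr).left := inferInstanceAs (Etale (G.ι ≫ pr.left))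
  let q' : Fin (k + 1) → (openOver Pb G ⟶ T') := Fin.snoc (fun i => incl ≫ pr ≫ D.q i) (incl ≫ pr')
  refine ⟨⟨openOver Pb G, incl ≫ pr ≫ D.c, q', hEa, ?_, ?_, ?_⟩, incl ≫ pr, Category.assoc _ _ _, hh, ?_⟩
  · exact inferInstanceAs (Etale (G.ι ≫ pr.left ≫ D.c.left))
  · intro i
    refine Fin.lastCases ?_ (fun i => ?_) i
    · simp only [q', Fin.snoc_last, Category.assoc]
      exact congrArg (incl ≫ ·) pullback.condition.symm
    · simp only [q', Fin.snoc_castSucc, Category.assoc, D.w]
  · intro K _ z i j hij
    have hne : ∀ i : Fin k, z ≫ (incl ≫ pr ≫ D.q i).left ≠ z ≫ (incl ≫ pr').left := by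
      intro i h
      let pt : Spec (CommRingCat.of K) := IsLocalRing.closedPoint K
      have hz : (z ≫ incl.left) ≫ pr.left ≫ (γ i).left = z ≫ incl.left := by
        apply sqP.hom_ext
        · simp only [Category.assoc]
          rw [hγ, Category.comp_id]
        · have e2 : (γ i).left ≫ pr'.left = (D.q i).left :=
            congrArg (fun f => Over.Hom.left f) (pullback.lift_snd _ _ _ : γ i ≫ pr' = D.q i)
          simp only [Category.assoc, e2]
          simpa only [Over.comp_left, Category.assoc] using h
      have hmem : incl.left (z pt) ∈ Gs := (z pt : G.toScheme).2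
      exact hmem (Set.mem_iUnion.2 ⟨i, ((z ≫ incl.left) ≫ pr.left) pt, by
        rw [← Scheme.Hom.comp_apply, Category.assoc, hz, Scheme.Hom.comp_apply]⟩)
    revert hij
    refine Fin.lastCases ?_ (fun i => ?_) i <;> refine Fin.lastCases ?_ (fun j => ?_) j <;> intro hij
    · rfl
    · simp only [q', Fin.snoc_last, Fin.snoc_castSucc] at hij
      exact absurd hij.symm (hne j)
    · simp only [q', Fin.snoc_last, Fin.snoc_castSucc] at hij
      exact absurd hij (hne i)
    · simp only [q', Fin.snoc_castSucc] at hij
      refine congrArg Fin.castSucc (D.distinct K ((z ≫ incl.left) ≫ pr.left) i j ?_)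
      simpa only [Over.comp_left, Category.assoc] using hij
  · intro K _ z y hzy
    let pt : Spec (CommRingCat.of K) := IsLocalRing.closedPoint K
    obtain ⟨w, hw₁, hw₂⟩ := sqP.exists_lift z y hzy
    by_cases hw : w pt ∈ Gs
    · left
      have hsub : Set.range w ⊆ Set.range G.ι := by
        rw [Scheme.Opens.range_ι]
        rintro _ ⟨x, rfl⟩
        rw [Subsingleton.elim x pt]
        exact hw
      obtain ⟨l, hl⟩ := exists_lift_open G.ι w (Scheme.Opens.instIsOpenImmersionι G) hsub
      refine ⟨l, ?_⟩
      change l ≫ G.ι ≫ pr.left = z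
      rw [reassoc_of% hl, hw₁]
    · right
      simp only [Gs, Set.mem_compl_iff, not_not, Set.mem_iUnion] at hw
      obtain ⟨i, a, ha⟩ := hw
      have := etale_section pr.left (γ i).left (hγ i)
      have : IsOpenImmersion (γ i).left := by
        have : Mono (γ i).left := mono_of_mono_fac (hγ i)
        exact IsOpenImmersion.of_flat_of_mono _
      have hsub : Set.range w ⊆ Set.range (γ i).left := by
        rintro _ ⟨x, rfl⟩
        rw [Subsingleton.elim x pt]
        exact ⟨a, ha⟩
      have hl := IsOpenImmersion.lift_fac (γ i).left w hsub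
      have hz : IsOpenImmersion.lift (γ i).left w hsub = z := by
        have h := congrArg (· ≫ pr.left) hl
        simp only [Category.assoc, hγ, Category.comp_id, hw₁] at h
        exact h
      refine ⟨i, ?_⟩
      rw [← hw₂, ← hl, hz, Category.assoc]
      exact congrArg (z ≫ ·) (congrArg (fun f => Over.Hom.left f) (pullback.lift_snd _ _ _ : γ i ≫ pr' = D.q i))

/-- The tuples eventually vanish. -/
theorem exists_isEmpty {T T' : Over S} (e : T' ⟶ T) [IsAffine T.left] [IsAffine T'.left] [Etale e.left]
    (D : ∀ k, Sheets e k) (h : ∀ k, (D (k + 1)).E ⟶ (D k).E) (hh : ∀ k, h k ≫ (D k).c = (D (k + 1)).c) :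
    ∃ N, IsEmpty (D N).E.left := by
  let im : ℕ → Set T.left := fun k => Set.range (D k).c.left
  have hanti : Antitone im := antitone_nat_of_succ_le fun k => by
    rintro _ ⟨x, rfl⟩
    exact ⟨(h k).left x, by rw [← Scheme.Hom.comp_apply, ← Over.comp_left, hh]⟩
  have hfin : ∀ t, ∃ k, t ∉ im k := by
    intro t
    let A := Γ(T.left, ⊤)
    let B := Γ(T'.left, ⊤)
    letI : Algebra A B := e.left.appTop.hom.toAlgebra
    have hq : RingHom.QuasiFinite e.left.appTop.hom :=
      (HasRingHomProperty.iff_of_isAffine (P := @LocallyQuasiFinite)).1 (lqf_of_etale e.left)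
    have : Algebra.QuasiFinite A B := hq
    let p : Ideal A := (T.left.isoSpec.hom t).asIdeal
    let n := Module.finrank p.ResidueField (p.ResidueField ⊗[A] B)
    refine ⟨n + 1, fun ⟨x, hx⟩ => ?_⟩
    have := (D (n + 1)).aff
    let K := (D (n + 1)).E.left.residueField x
    let z : Spec (CommRingCat.of K) ⟶ (D (n + 1)).E.left := (D (n + 1)).E.left.fromSpecResidueField x
    let ρ : A →+* K := rmap (z ≫ (D (n + 1)).c.left)
    have hρ : RingHom.ker ρ = p := by
      have hzt : (z ≫ (D (n + 1)).c.left) (IsLocalRing.closedPoint K) = t := by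
        rw [Scheme.Hom.comp_apply, ← hx]
        exact congrArg _ (Scheme.fromSpecResidueField_apply _ _)
      have hs := specMap_rmap (z ≫ (D (n + 1)).c.left)
      have : (Spec.map (CommRingCat.ofHom ρ)) (IsLocalRing.closedPoint K) = T.left.isoSpec.hom t := by
        rw [show Spec.map (CommRingCat.ofHom ρ) = (z ≫ (D (n + 1)).c.left) ≫ T.left.isoSpec.hom from hs,
          Scheme.Hom.comp_apply, hzt]
      refine Eq.trans ?_ (congrArg PrimeSpectrum.asIdeal this)
      have hu : ∀ w : (D (n + 1)).E.left.residueField x, ¬IsUnit w ↔ w = 0 := fun w => by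
        simp [isUnit_iff_ne_zero]
      exact Ideal.ext fun a => ((Ideal.mem_comap (f := ρ) (K := IsLocalRing.maximalIdeal K)).trans
        ((IsLocalRing.mem_maximalIdeal _).trans (hu (ρ a)))).symm
    let g : Fin (n + 1) → B →+* K := fun i => rmap (z ≫ ((D (n + 1)).q i).left)
    have hg : ∀ i, (g i).comp (algebraMap A B) = ρ := fun i => by
      simp only [g, ρ, ← (D (n + 1)).w i, Over.comp_left]
      rw [← Category.assoc, rmap_comp_hom (z ≫ ((D (n + 1)).q i).left) e.left]
      rfl
    have hginj : Function.Injective g := fun i j hij => (D (n + 1)).distinct K z i j (by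
      have := congrArg (fun r => Spec.map (CommRingCat.ofHom r)) hij
      rw [specMap_rmap, specMap_rmap] at this
      exact (cancel_mono T'.left.isoSpec.hom).1 this)
    obtain ⟨α, hα⟩ := exists_factor_residueField p ρ hρ
    letI : Algebra p.ResidueField K := α.toAlgebra
    letI : Algebra A K := ρ.toAlgebra
    have : IsScalarTower A p.ResidueField K := .of_algebraMap_eq' hα.symm
    let G : Fin (n + 1) → (p.ResidueField ⊗[A] B) →ₐ[p.ResidueField] K := fun i =>
      Algebra.TensorProduct.lift (Algebra.ofId _ _) { __ := g i, commutes' := fun r => RingHom.congr_fun (hg i) r }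
        fun _ _ => Commute.all _ _
    have hGinj : Function.Injective G := fun i j hij => hginj (RingHom.ext fun b => by
      have := DFunLike.congr_fun hij ((1 : p.ResidueField) ⊗ₜ b)
      simpa [G] using this)
    have hcard := card_algHom_le_finrank p.ResidueField (p.ResidueField ⊗[A] B) K
    have : Finite ((p.ResidueField ⊗[A] B) →ₐ[p.ResidueField] K) := inferInstance
    have := (Nat.card_le_card_of_injective G hGinj).trans hcard
    simp only [Nat.card_eq_fintype_card, Fintype.card_fin] at this
    omega
  let X := WithConstructibleTopology T.left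
  have : CompactSpace T.left := inferInstance
  let Uc : ℕ → Set X := fun k => (WithTopology.ofTopology) ⁻¹' (im k)ᶜ
  have hUo : ∀ k, IsOpen (Uc k) := fun k => by
    have := (D k).aff
    have := (D k).et
    rw [WithConstructibleTopology.isOpen_iff]
    refine IsCompact.isOpen_constructibleTopology_of_isClosed ?_ ?_
    · change IsCompact (im k)ᶜᶜ
      rw [compl_compl]
      exact isCompact_range (D k).c.left.continuous
    · exact ((D k).c.left.isOpenMap.isOpen_range).isClosed_compl
  obtain ⟨s, hs⟩ := isCompact_univ.elim_finite_subcover Uc hUo fun x _ => by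
    obtain ⟨k, hk⟩ := hfin (WithTopology.ofTopology x)
    exact Set.mem_iUnion.2 ⟨k, hk⟩
  refine ⟨s.sup id, ⟨fun x => ?_⟩⟩
  obtain ⟨k, hk, hxk⟩ := Set.mem_iUnion₂.1 (hs (Set.mem_univ (WithTopology.toTopology _ ((D (s.sup id)).c.left x))))
  exact hxk (hanti (Finset.le_sup (f := id) hk) ⟨x, rfl⟩)

theorem scheme_props_of_space {X : Sp S} {T Z : Over S} {π : X ⟶ (yon S).obj T} (hX : IsAlgSpace X)
    (hsep : IsSeparatedMor π) (hqf : LocP (@LocallyQuasiFinite ⊓ @LocallyOfFiniteType) π)
    (μ : (yon S).obj Z ⟶ X) (hμ : RepWith @Etale μ) (hμs : IsSeparatedMor μ) (b : Z ⟶ T)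
    (hb : μ ≫ π = (yon S).map b) :
    LocallyQuasiFinite b.left ∧ LocallyOfFiniteType b.left ∧ IsSeparated b.left := by
  have h := locP_etale_precomp hμ hqf
  have h' := isSeparatedMor_comp hμs hsep
  rw [hb] at h h'
  obtain ⟨h1, h2⟩ := locP_yon_map h
  exact ⟨h1, h2, ⟨(repWith_diagonal_yon_map_iff _ b).1 h'⟩⟩

/-- The base change of an open subscheme along a map coming from the base. -/
theorem exists_piece {P Q : Sp S} {V E T' : Over S} {j : (yon S).obj V ⟶ P} (hj : RepWith @IsOpenImmersion j)
    {pT : P ⟶ (yon S).obj T'} {m : Q ⟶ P} {pE : Q ⟶ (yon S).obj E} {c : E ⟶ T'}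
    (sq : IsPullback m pE pT ((yon S).map c)) :
    ∃ (W : Over S) (w : (yon S).obj W ⟶ Q), RepWith @IsOpenImmersion w ∧
      ∃ v : (yon S).obj W ⟶ (yon S).obj V, IsPullback v w j m := by
  obtain ⟨bV, hbV⟩ := (yon S).map_surjective (j ≫ pT)
  have sqW := (IsPullback.of_hasPullback bV c).map (yon S)
  rw [hbV] at sqW
  obtain ⟨w, hw₁, hw₂⟩ := sq.exists_lift ((yon S).map (pullback.fst bV c) ≫ j)
    ((yon S).map (pullback.snd bV c)) (by rw [Category.assoc]; exact sqW.w)
  rw [← hw₂] at sqW
  have sqv : IsPullback ((yon S).map (pullback.fst bV c)) w j m :=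
    IsPullback.of_bot sqW hw₁.symm sq
  exact ⟨pullback bV c, w, repWith_of_isPullback sqv hj, _, sqv⟩

theorem piece_mem {P Q : Sp S} {V W A : Over S} {j : (yon S).obj V ⟶ P} {m : Q ⟶ P}
    {v : (yon S).obj W ⟶ (yon S).obj V} {w : (yon S).obj W ⟶ Q} (sq : IsPullback v w j m)
    {α : (yon S).obj A ⟶ Q} {β : (yon S).obj A ⟶ (yon S).obj V} (h : α ≫ m = β ≫ j) (a : A.left) :
    Points.ofPt α a ∈ Set.range (Points.map w) := by
  obtain ⟨l, -, hl⟩ := sq.exists_lift β α h.symm
  exact ⟨Points.ofPt l a, by rw [Points.map_ofPt, hl]⟩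

/-- The image of a quasi-compact scheme open in an etale base change is a scheme. -/
theorem exists_iso_of_etale_image {X : Sp S} (hX : IsAlgSpace X) {T T' : Over S} [IsAffine T.left]
    [IsAffine T'.left] (e : T' ⟶ T) [Etale e.left] {π : X ⟶ (yon S).obj T} (hsep : IsSeparatedMor π)
    (hqf : LocP (@LocallyQuasiFinite ⊓ @LocallyOfFiniteType) π) {V : Over S}
    (j : (yon S).obj V ⟶ pullback π ((yon S).map e)) (hj : RepWith @IsOpenImmersion j)
    (hsurj : Function.Surjective (Points.map (j ≫ pullback.fst π ((yon S).map e)))) :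
    ∃ (W : Over S) (μ : (yon S).obj W ⟶ X), IsIso μ := by
  classical
  have hT := IsAlgSpace.yon_obj (S := S) T
  let D₀ : Sheets e 0 := ⟨T, 𝟙 T, Fin.elim0, inferInstance, inferInstanceAs (Etale (𝟙 T.left)),
    fun i => i.elim0, fun K _ z i => i.elim0⟩
  choose nx nh hnx₁ hnx₂ hnx₃ using fun (k : ℕ) (D : Sheets e k) => exists_next e D
  let D : ∀ k, Sheets e k := fun k => Nat.rec D₀ (fun k Dk => nx k Dk) k
  obtain ⟨N, hN⟩ := exists_isEmpty e D (fun k => nh k (D k)) (fun k => hnx₁ k (D k))
  let Q : ℕ → Sp S := fun k => pullback π ((yon S).map (D k).c)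
  have hQs : ∀ k, IsSeparatedMor (pullback.snd π ((yon S).map (D k).c)) := fun k =>
    MorphismProperty.pullback_snd (P := (RepWith (S := S) @IsClosedImmersion).diagonal) _ _ hsep
  have hQq : ∀ k, LocP (@LocallyQuasiFinite ⊓ @LocallyOfFiniteType) (pullback.snd π ((yon S).map (D k).c)) :=
    fun k => locP_of_isPullback (etLocal_inf etLocal_lqf etLocal_lft) (IsPullback.of_hasPullback _ _) hX hT
      (IsAlgSpace.yon_obj _) hqf
  have hQA : ∀ k, IsAlgSpace (Q k) := fun k => isAlgSpace_pullback hT.diag hX (IsAlgSpace.yon_obj _) _ _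
  have main : ∀ m k, k + m = N → ∃ (Z : Over S) (μ : (yon S).obj Z ⟶ Q k), IsIso μ := by
    intro m
    induction m with
    | zero =>
      intro k hk
      subst hk
      refine exists_iso_of_openCover (I := PEmpty.{u + 1}) (fun i => i.elim) (fun i => i.elim) (fun i => i.elim)
        fun A y a => ?_
      obtain ⟨g, -⟩ := (yon S).map_surjective (y ≫ pullback.snd π ((yon S).map (D k).c))
      exact hN.elim (g.left a)
    | succ m ih =>
      intro k hk
      obtain ⟨Z', μ', hμ'⟩ := ih (k + 1) (by omega)
      let q := pullback.snd π ((yon S).map (D k).c)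
      let h := nh k (D k)
      have hhc : h ≫ (D k).c = (D (k + 1)).c := hnx₁ k (D k)
      have hhe : Etale h.left := hnx₂ k (D k)
      let O : (D k).E.left.Opens := ⟨Set.range h.left, h.left.isOpenMap.isOpen_range⟩
      obtain ⟨c', hc', hc'f, hc'p, hc's, -⟩ := exists_corestrict h O rfl
      let jO := (yon S).map (openIncl (D k).E O)
      let QO := pullback q jO
      -- the piece over the image of the next stage
      obtain ⟨b', hb'⟩ := (yon S).map_surjective (μ' ≫ pullback.snd π ((yon S).map (D (k + 1)).c))
      let q' : (yon S).obj Z' ⟶ QO := pullback.lift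
        (pullback.lift (μ' ≫ pullback.fst _ _) ((yon S).map (b' ≫ h)) (by
          rw [Category.assoc, pullback.condition, ← Functor.map_comp, Category.assoc, hhc, Functor.map_comp,
            hb', Category.assoc]))
        ((yon S).map (b' ≫ c')) (by
          rw [pullback.lift_snd, ← Functor.map_comp, Category.assoc, hc'])
      have sqZ : IsPullback (μ' ≫ pullback.fst π _) ((yon S).map b') π ((yon S).map (D (k + 1)).c) :=
        IsPullback.of_iso_pullback ⟨by rw [Category.assoc, pullback.condition, hb', Category.assoc]⟩ (asIso μ') rfl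
          hb'.symm
      have sq' : IsPullback q' ((yon S).map b') (pullback.snd q jO) ((yon S).map c') := by
        refine IsPullback.of_right ?_ (by rw [pullback.lift_snd, Functor.map_comp]) (IsPullback.of_hasPullback q jO)
        have e1 : (yon S).map c' ≫ jO = (yon S).map h := by rw [← Functor.map_comp, hc']
        rw [pullback.lift_fst, e1]
        refine IsPullback.of_right ?_ (by rw [pullback.lift_snd, Functor.map_comp]) (IsPullback.of_hasPullback π _)
        rw [pullback.lift_fst, ← Functor.map_comp, hhc]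
        exact sqZ
      obtain ⟨h1, h2, h3⟩ := scheme_props_of_space (hQA (k + 1)) (hQs (k + 1)) (hQq (k + 1)) μ'
        (repWith_of_isIso μ') (isSeparatedMor_of_mono μ') b' hb'.symm
      obtain ⟨GO, γO, μO, hμO, -⟩ := exists_iso_of_lqf (pullback.snd q jO) c' q' b' sq'
      have : IsIso μO := hμO
      have hjO : RepWith @IsOpenImmersion (μO ≫ pullback.fst q jO) :=
        repWith_comp (repWith_of_isIso _) (repWith_of_isPullback (IsPullback.of_hasPullback q jO).flip
          ((repWith_yon_map_iff _ _).2 (inferInstanceAs (IsOpenImmersion O.ι))))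
      -- the pieces given by the sections
      let m' : Fin k → (Q k ⟶ pullback π ((yon S).map e)) := fun i =>
        pullback.lift (pullback.fst _ _) (q ≫ (yon S).map ((D k).q i)) (by
          rw [Category.assoc, ← Functor.map_comp, (D k).w, pullback.condition])
      have sqm : ∀ i : Fin k, IsPullback (m' i) q (pullback.snd π ((yon S).map e)) ((yon S).map ((D k).q i)) := by
        intro i
        refine IsPullback.of_right ?_ (pullback.lift_snd _ _ _) (IsPullback.of_hasPullback π ((yon S).map e))
        simp only [m', pullback.lift_fst]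
        rw [← Functor.map_comp, (D k).w]
        exact IsPullback.of_hasPullback π _
      choose W w hwo v sqV using fun i : Fin k => exists_piece hj (sqm i)
      refine exists_iso_of_openCover (I := ULift.{u} (Fin k) ⊕ PUnit.{u + 1})
        (Sum.elim (fun i => W i.down) fun _ => GO)
        (fun i => i.rec (fun i => w i.down) fun _ => μO ≫ pullback.fst q jO)
        (fun i => i.rec (fun i => hwo i.down) fun _ => hjO) fun A y a => ?_
      obtain ⟨g, hg⟩ := (yon S).map_surjective (y ≫ q)
      by_cases ha : g.left a ∈ O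
      · refine ⟨Sum.inr ⟨⟩, ?_⟩
        obtain ⟨p, hp, -⟩ := exists_point_of_isPullback (IsPullback.of_hasPullback q jO)
          (Points.ofPt y a) (Points.ofScheme _ (⟨g.left a, ha⟩ : O.toScheme)) (by
            rw [Points.map_ofPt, ← hg, ← Category.comp_id ((yon S).map g), ofPt_map,
              ← Points.ofPt_eq_map_ofScheme, ← Category.comp_id jO, ofPt_map]
            rfl)
        obtain ⟨νO, -, hνO⟩ := hμO.out
        have hh : Points.map (μO ≫ pullback.fst q jO) (Points.map νO p) = Points.ofPt y a := by
          rw [← Points.map_comp, reassoc_of% hνO, hp]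
        exact ⟨Points.map νO p, hh⟩
      · obtain ⟨x, hx⟩ := hsurj (Points.map (pullback.fst π _) (Points.ofPt y a))
        obtain ⟨ξ, hξ₁, hξ₂⟩ := exists_point_of_isPullback
          (IsPullback.of_hasPullback (pullback.fst π ((yon S).map (D k).c)) (j ≫ pullback.fst π ((yon S).map e)))
          (Points.ofPt y a) x hx.symm
        induction ξ using Points.ind with | h F =>
        let pt : ↥(Spec (CommRingCat.of F.K)) := IsLocalRing.closedPoint F.K
        let α := F.toHom ≫ pullback.fst _ _
        let β := F.toHom ≫ pullback.snd (pullback.fst π ((yon S).map (D k).c)) (j ≫ pullback.fst π ((yon S).map e))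
        rw [← Points.ofPt_toHom F pt, Points.map_ofPt] at hξ₁ hξ₂
        obtain ⟨zE, hzE⟩ := (yon S).map_surjective (α ≫ q)
        obtain ⟨zT, hzT⟩ := (yon S).map_surjective (β ≫ j ≫ pullback.snd π ((yon S).map e))
        have hαβ : α ≫ pullback.fst π _ = β ≫ j ≫ pullback.fst π ((yon S).map e) := by
          simp only [α, β, Category.assoc, pullback.condition]
        have hcomm : zE ≫ (D k).c = zT ≫ e := (yon S).map_injective (by
          rw [Functor.map_comp, Functor.map_comp, hzE, hzT]
          simp only [q, Category.assoc, ← pullback.condition]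
          rw [reassoc_of% hαβ])
        rcases hnx₃ k (D k) F.K zE.left zT.left (congrArg (fun f => Over.Hom.left f) hcomm) with ⟨z', hz'⟩ | ⟨i, hi⟩
        · refine absurd ?_ ha
          have hEq : g.left a = zE.left pt := by
            apply (Points.schemeHomeo (D k).E).injective
            have h1 : Points.ofPt ((yon S).map g) a = Points.ofPt ((yon S).map zE) pt := by
              rw [hg, hzE, ← Points.map_ofPt, ← Points.map_ofPt, hξ₁]
            rw [← Category.comp_id ((yon S).map g), ofPt_map, ← Category.comp_id ((yon S).map zE), ofPt_map] at h1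
            exact h1
          rw [hEq]
          exact ⟨z' pt, by rw [← hz']; rfl⟩
        · refine ⟨Sum.inl ⟨i⟩, ?_⟩
          have hzi : zT = zE ≫ (D k).q i := Over.OverMorphism.ext hi
          have hm : α ≫ m' i = β ≫ j := by
            apply pullback.hom_ext
            · simp only [m', Category.assoc, pullback.lift_fst, hαβ]
            · simp only [m', Category.assoc, pullback.lift_snd]
              rw [← Category.assoc, ← hzE, ← Functor.map_comp, ← hzi, hzT]
          rw [← hξ₁]
          exact piece_mem (sqV i) hm pt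
  obtain ⟨Z, μ, hμ⟩ := main N 0 (by omega)
  have : IsIso ((yon S).map (D 0).c) := by
    change IsIso ((yon S).map (𝟙 T))
    infer_instance
  exact ⟨Z, μ ≫ pullback.fst π _, inferInstance⟩

end Groth.Agent.H12AlgSp
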