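import Mathlib.Algebra.Polynomial.Basis
import Mathlib.FieldTheory.IsAlgClosed.AlgebraicClosure
import Mathlib.RingTheory.Algebraic.LinearIndependent
import Mathlib.RingTheory.Algebraic.Integral
import Mathlib.RingTheory.Localization.FractionRing
import Mathlib.RingTheory.Ideal.Quotient.Operations
import Mathlib.RingTheory.AlgebraTower
import Mathlib.LinearAlgebra.TensorProduct.Basis
import Mathlib.RingTheory.TensorProduct.Free
import Mathlib.Algebra.MvPolynomial.Cardinal

/-!
Algebras of small dimension over large algebraically closed fields have rational points everywhere.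
-/

universe u

open Cardinal Polynomial TensorProduct

namespace Groth.Agent.H12AlgSp

/-- An algebra of dimension less than the size of the algebraically closed ground field has a
rational point in every nonempty locally closed subset of its spectrum. -/
theorem exists_algHom_of_rank_lt {K R : Type u} [Field K] [IsAlgClosed K] [CommRing R] [Algebra K R]
    {ι : Type u} (b : Module.Basis ι K R) (hι : #ι < #K) (hK : ℵ₀ < #K) (u : Ideal R) [u.IsPrime] (f : R)
    (hf : f ∉ u) :
    ∃ φ : R →ₐ[K] K, u ≤ RingHom.ker φ ∧ φ f ≠ 0 := by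
  let F := FractionRing (R ⧸ u)
  let q : R →+* F := (algebraMap (R ⧸ u) F).comp (Ideal.Quotient.mk u)
  have hq : ∀ x, q x = 0 → x ∈ u := fun x hx =>
    Ideal.Quotient.eq_zero_iff_mem.1 ((map_eq_zero_iff _ (IsFractionRing.injective (R ⧸ u) F)).1 hx)
  let e : R[X] →+* F := eval₂RingHom q (q f)⁻¹
  obtain ⟨M, hM, hle⟩ := Ideal.exists_le_maximal (RingHom.ker e) (RingHom.ker_ne_top e)
  let _ := Ideal.Quotient.field M
  let π : R[X] →ₐ[K] R[X] ⧸ M := Ideal.Quotient.mkₐ K M
  have hπ : Function.Surjective π := Ideal.Quotient.mkₐ_surjective K M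
  have hrank : Module.rank K (R[X] ⧸ M) < #K := by
    refine (π.toLinearMap.rank_le_of_surjective hπ).trans_lt ?_
    rw [← (b.smulTower (Polynomial.basisMonomials R)).mk_eq_rank'']
    simp only [mk_prod, lift_uzero, mk_eq_aleph0, lift_aleph0]
    exact mul_lt_of_lt hK.le hι hK
  have halg : Algebra.IsAlgebraic K (R[X] ⧸ M) := ⟨fun t => by
    by_contra ht
    exact absurd (LinearIndependent.cardinal_le_rank (Transcendental.linearIndependent_sub_inv ht))
      (not_le.2 hrank)⟩
  have : Algebra.IsIntegral K (R[X] ⧸ M) := halg.isIntegral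
  let ε : K ≃ₐ[K] R[X] ⧸ M := AlgEquiv.ofBijective (Algebra.ofId K _)
    (IsAlgClosed.algebraMap_bijective_of_isIntegral (k := K) (K := R[X] ⧸ M))
  let φ : R →ₐ[K] K := (ε.symm.toAlgHom.comp π).comp (CAlgHom (R := R) |>.restrictScalars K)
  have hφ : ∀ x, φ x = 0 ↔ C x ∈ M := fun x =>
    (map_eq_zero_iff ε.symm ε.symm.injective).trans Ideal.Quotient.eq_zero_iff_mem
  refine ⟨φ, fun x hx => (RingHom.mem_ker).2 ((hφ x).2 (hle ?_)), fun h => ?_⟩
  · rw [RingHom.mem_ker, show e (C x) = q x from eval₂_C ..]
    simp [q, Ideal.Quotient.eq_zero_iff_mem.2 hx]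
  · have hCM := (hφ f).1 h
    have h1 : C f * X - 1 ∈ M := hle <| by
      rw [RingHom.mem_ker, map_sub, map_mul, map_one, show e (C f) = q f from eval₂_C ..,
        show e X = (q f)⁻¹ from eval₂_X .., mul_inv_cancel₀ (fun h => hf (hq f h)), sub_self]
    exact hM.ne_top ((Ideal.eq_top_iff_one _).2 (by
      simpa using M.sub_mem (M.mul_mem_right X hCM) h1))

/-- Every set is smaller than some algebraically closed extension. -/
theorem exists_isAlgClosed_extension_mk_gt (k : Type u) [Field k] (α : Type u) :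
    ∃ (K : Type u) (_ : Field K) (_ : Algebra k K), IsAlgClosed K ∧ #α < #K ∧ ℵ₀ < #K := by
  let ι : Type u := Set α ⊕ Set (ULift.{u} ℕ)
  let F := FractionRing (MvPolynomial ι k)
  let K := AlgebraicClosure F
  have hinj : Function.Injective fun i : ι => algebraMap F K (algebraMap (MvPolynomial ι k) F (MvPolynomial.X i)) :=
    (algebraMap F K).injective.comp ((IsFractionRing.injective _ F).comp MvPolynomial.X_injective)
  refine ⟨K, inferInstance, inferInstance, inferInstance, lt_of_lt_of_le ?_ (mk_le_of_injective hinj),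
    lt_of_lt_of_le ?_ (mk_le_of_injective hinj)⟩
  · exact (cantor _).trans_le ((mk_set (α := α)).ge.trans (mk_le_of_injective Sum.inl_injective))
  · calc ℵ₀ = #(ULift.{u} ℕ) := by simp
      _ < 2 ^ #(ULift.{u} ℕ) := cantor _
      _ ≤ #(Set (ULift.{u} ℕ)) := mk_set.ge
      _ ≤ #ι := mk_le_of_injective Sum.inr_injective

/-- The base change to a large field is of small dimension. -/
theorem exists_algHom_baseChange {k K A : Type u} [Field k] [Field K] [Algebra k K] [IsAlgClosed K]
    [CommRing A] [Algebra k A] (hA : #A < #K) (hK : ℵ₀ < #K) (u : Ideal (K ⊗[k] A)) [u.IsPrime]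
    (f : K ⊗[k] A) (hf : f ∉ u) : ∃ φ : K ⊗[k] A →ₐ[K] K, u ≤ RingHom.ker φ ∧ φ f ≠ 0 :=
  exists_algHom_of_rank_lt ((Module.Free.chooseBasis k A).baseChange K)
    ((mk_le_of_injective (Module.Free.chooseBasis k A).injective).trans_lt hA) hK u f hf

end Groth.Agent.H12AlgSp
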