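import Groth.Agent.H12AlgSp.LimitQuotient

/-!
Spaces over an affine base: schemes at a local ring are schemes on a neighbourhood.
-/

universe u

open CategoryTheory CategoryTheory.Limits AlgebraicGeometry Opposite
open AlgSp Groth.Agent.H13AlgSp

set_option backward.isDefEq.respectTransparency false

namespace Groth.Agent.H12AlgSp

variable {S : Scheme.{u}}

/-- The map to the base as an object over it. -/
noncomputable abbrev toBaseOver (T : Over S) : T ⟶ Over.mk (𝟙 S) := Over.homMk T.hom (Category.comp_id _)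

/-- The base change to a scheme over the base is a scheme. -/
def SchemeOver {X : Sp S} (q : X ⟶ (yon S).obj (Over.mk (𝟙 S))) (T : Over S) : Prop :=
  (pullback q ((yon S).map (toBaseOver T))).obj.IsRepresentable

/-- A space which is a scheme over a limit of affine schemes over the base is so over a stage. -/
theorem exists_schemeOver_stage [QuasiSeparatedSpace S] {J : Type u} [SmallCategory J] [IsCofiltered J]
    (G : J ⥤ Over S) [∀ j, IsAffine (G.obj j).left] {c : Cone G} (hc : IsLimit c) {X : Sp S} (hX : IsAlgSpace X)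
    (q : X ⟶ (yon S).obj (Over.mk (𝟙 S))) (hqc : IsQuasiCompactMor q) (hXs : IsQuasiSeparatedSp X)
    (h : SchemeOver q c.pt) : ∃ j, SchemeOver q (G.obj j) := by
  obtain ⟨j₀⟩ : Nonempty J := IsCofiltered.nonempty
  let D : J ⥤ Sp S := G ⋙ yon S
  have hD : ∀ i, IsAlgSpace (D.obj i) := fun i => IsAlgSpace.yon_obj _
  have hDa : ∀ i j (φ : i ⟶ j), IsAffineMor (D.map φ) := fun i j φ =>
    isAffineMor_iff.2 ((repWith_yon_map_iff @IsAffineHom _).2 inferInstance)
  let b := pullback.snd q ((yon S).map (toBaseOver (G.obj j₀)))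
  have hB := isAlgSpace_pullback (IsAlgSpace.yon_obj _).diag hX (hD j₀) q ((yon S).map (toBaseOver (G.obj j₀)))
  have hBc : IsQuasiCompactSp (pullback q ((yon S).map (toBaseOver (G.obj j₀)))) :=
    isQuasiCompactMor_pullback hqc _ _
  have hBs : IsQuasiSeparatedSp (pullback q ((yon S).map (toBaseOver (G.obj j₀)))) :=
    isQuasiSeparatedSp_pullback hXs (isQuasiSeparatedSp_yon inferInstance) _ _
  have sqP := IsPullback.of_hasPullback b (((yon S).mapCone c).π.app j₀)
  obtain ⟨hlim⟩ := nonempty_isLimit_bcCone D b sqP (isLimitOfPreserves _ hc)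
  have piece : ∀ {T : Over S} (m : T ⟶ G.obj j₀) {P : Sp S}
      (p₁ : P ⟶ pullback q ((yon S).map (toBaseOver (G.obj j₀)))) (p₂ : P ⟶ (yon S).obj T),
      IsPullback p₁ p₂ b ((yon S).map m) →
      IsPullback (p₁ ≫ pullback.fst q ((yon S).map (toBaseOver (G.obj j₀)))) p₂ q ((yon S).map (toBaseOver T)) :=
    fun {T} m P p₁ p₂ sq => by
      rw [show toBaseOver T = m ≫ toBaseOver (G.obj j₀) from Over.OverMorphism.ext (Over.w m).symm,
        Functor.map_comp]
      exact sq.paste_horiz (IsPullback.of_hasPullback _ _)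
  obtain ⟨T, ⟨ρ⟩⟩ := isRepresentable_iff_exists_iso.1 h
  obtain ⟨l₀, hl₀⟩ := exists_scheme_of_scheme_limit (isAlgSpace_bcDiagram hD hB) (isAffineMor_bcDiagram_map hDa) hlim
    (isQuasiCompactSp_bcDiagram hD hDa hB hBc) (isQuasiSeparatedSp_bcDiagram hDa hBs) (T := T)
    (ρ ≪≫ (piece _ _ _ sqP).isoPullback.symm)
  obtain ⟨W, ⟨μ⟩⟩ := hl₀ l₀ (𝟙 _)
  exact ⟨l₀.left, isRepresentable_iff_exists_iso.2
    ⟨W, ⟨μ ≪≫ (piece _ _ _ (isPullback_bcDiagram_fst D b l₀)).isoPullback⟩⟩⟩

variable {A : CommRingCat.{u}} (p : PrimeSpectrum A)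

/-- The elements away from a prime, ordered by divisibility. -/
def AwayIdx : Type u := {f : A // f ∉ p.asIdeal}

instance : Preorder (AwayIdx p) where
  le f g := f.1 ∣ g.1
  le_refl f := dvd_rfl
  le_trans _ _ _ h h' := h.trans h'

instance : Nonempty (AwayIdx p) := ⟨⟨1, fun h => p.2.ne_top ((Ideal.eq_top_iff_one _).2 h)⟩⟩

instance : IsDirected (AwayIdx p) (· ≤ ·) :=
  ⟨fun f g => ⟨⟨f.1 * g.1, fun h => (p.2.mem_or_mem h).elim f.2 g.2⟩, dvd_mul_right _ _, dvd_mul_left _ _⟩⟩

/-- A basic open of the affine base. -/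
noncomputable abbrev awayOver (f : A) : Over (Spec A) :=
  Over.mk (Spec.map (CommRingCat.ofHom (algebraMap A (Localization.Away f))))

instance (f : A) : IsOpenImmersion (awayOver f).hom :=
  inferInstanceAs (IsOpenImmersion (Spec.map (CommRingCat.ofHom (algebraMap A (Localization.Away f)))))

instance (f : A) : IsAffine (awayOver f).left := inferInstanceAs (IsAffine (Spec _))

instance (f : A) (T : Over (Spec A)) : Subsingleton (T ⟶ awayOver f) :=
  ⟨fun a b => Over.OverMorphism.ext ((cancel_mono (awayOver f).hom).1 ((Over.w a).trans (Over.w b).symm))⟩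

theorem isUnit_algebraMap_away {f g : A} (h : f ∣ g) : IsUnit (algebraMap A (Localization.Away g) f) :=
  isUnit_of_dvd_unit (map_dvd _ h) (IsLocalization.Away.algebraMap_isUnit g)

/-- The inclusion of basic opens. -/
noncomputable abbrev awayMapOver {f g : A} (h : f ∣ g) : awayOver g ⟶ awayOver f :=
  Over.homMk (Spec.map (CommRingCat.ofHom (IsLocalization.Away.lift f (isUnit_algebraMap_away h)))) (by
    change Spec.map _ ≫ Spec.map _ = Spec.map _
    rw [← Spec.map_comp, ← CommRingCat.ofHom_comp, IsLocalization.Away.lift_comp])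

/-- The system of basic opens around a prime. -/
noncomputable def awaySystem : (AwayIdx p)ᵒᵖ ⥤ Over (Spec A) where
  obj f := awayOver f.unop.1
  map φ := awayMapOver φ.unop.le
  map_id _ := Subsingleton.elim _ _
  map_comp _ _ := Subsingleton.elim _ _

instance (j : (AwayIdx p)ᵒᵖ) : IsAffine ((awaySystem p).obj j).left := inferInstanceAs (IsAffine (Spec _))

variable (L : Type u) [CommRing L] [Algebra A L] [IsLocalization.AtPrime L p.asIdeal]

/-- The spectrum of the local ring. -/
noncomputable abbrev localOver : Over (Spec A) := Over.mk (Spec.map (CommRingCat.ofHom (algebraMap A L)))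

/-- The local ring as a cone. -/
noncomputable def localCone : Cone (awaySystem p) where
  pt := localOver L
  π :=
  { app := fun f => Over.homMk (Spec.map (CommRingCat.ofHom (IsLocalization.Away.lift f.unop.1
        (IsLocalization.map_units L (⟨f.unop.1, f.unop.2⟩ : p.asIdeal.primeCompl))))) (by
      change Spec.map _ ≫ Spec.map _ = Spec.map _
      rw [← Spec.map_comp, ← CommRingCat.ofHom_comp, IsLocalization.Away.lift_comp])
    naturality := fun _ _ _ => Subsingleton.elim (α := _ ⟶ awayOver _) _ _ }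

theorem isUnit_of_factor {f : A} {T : Over (Spec A)} (a : T ⟶ awayOver f) :
    IsUnit (((Scheme.ΓSpecIso A).inv ≫ T.hom.appTop).hom f) := by
  rw [← Over.w a, Scheme.Hom.comp_appTop, ← Category.assoc]
  erw [← Scheme.ΓSpecIso_inv_naturality]
  exact ((IsLocalization.Away.algebraMap_isUnit f).map (Scheme.ΓSpecIso _).inv.hom).map a.left.appTop.hom

/-- The local ring is the limit of the basic opens. -/
noncomputable def isLimitLocalCone : IsLimit (localCone p L) where
  lift s := Over.homMk (s.pt.left.toSpecΓ ≫ Spec.map (CommRingCat.ofHom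
      (IsLocalization.lift (S := L) (M := p.asIdeal.primeCompl) (g := ((Scheme.ΓSpecIso A).inv ≫ s.pt.hom.appTop).hom)
        fun y => isUnit_of_factor (s.π.app (op ⟨y.1, y.2⟩))))) (by
    change (_ ≫ _) ≫ Spec.map _ = _
    rw [Category.assoc, ← Spec.map_comp, ← CommRingCat.ofHom_comp, IsLocalization.lift_comp,
      CommRingCat.ofHom_hom, Spec.map_comp, ← Category.assoc, ← Scheme.toSpecΓ_naturality, Category.assoc,
      toSpecΓ_SpecMap_ΓSpecIso_inv, Category.comp_id])
  fac s i := Subsingleton.elim (α := _ ⟶ awayOver _) _ _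
  uniq s m hm := by
    haveI : Mono (localOver (A := A) L).hom := by
      have : Epi (CommRingCat.ofHom (algebraMap A L)) := ⟨fun a b e => CommRingCat.hom_ext
        (IsLocalization.ringHom_ext p.asIdeal.primeCompl (congrArg CommRingCat.Hom.hom e))⟩
      exact inferInstanceAs (Mono (Scheme.Spec.map (CommRingCat.ofHom (algebraMap A L)).op))
    exact Over.OverMorphism.ext ((cancel_mono (localOver (A := A) L).hom).1 ((Over.w m).trans (Over.w _).symm))

/-- A space over an affine base which is a scheme over a local ring is so on a basic open. -/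
theorem exists_schemeOver_away {X : Sp (Spec A)} (hX : IsAlgSpace X)
    (q : X ⟶ (yon (Spec A)).obj (Over.mk (𝟙 (Spec A)))) (hqc : IsQuasiCompactMor q) (hXs : IsQuasiSeparatedSp X)
    (h : SchemeOver q (localOver (A := A) L)) : ∃ f : A, f ∉ p.asIdeal ∧ SchemeOver q (awayOver f) := by
  obtain ⟨j, hj⟩ := exists_schemeOver_stage (awaySystem p) (isLimitLocalCone p L) hX q hqc hXs h
  exact ⟨j.unop.1, j.unop.2, hj⟩

end Groth.Agent.H12AlgSp
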