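import Groth.Agent.H12AlgSp.SchemeCover.Reduction
import Groth.Agent.H12AlgSp.LimitDescendAffine
import Groth.Agent.H12AlgSp.Proper
import Groth.Agent.H7Lim.Proper.Descend
import Groth.Agent.S10020

/-!
# Proper morphisms of spaces descend along limits
-/

set_option autoImplicit false
set_option linter.style.haveILetI false
set_option maxHeartbeats 1600000
set_option backward.isDefEq.respectTransparency false
set_option backward.isDefEq.respectTransparency.types false
universe u

open CategoryTheory CategoryTheory.Limits AlgebraicGeometry Opposite TopologicalSpace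
open AlgSp Groth.Agent.H13AlgSp

namespace Groth.Agent.H12AlgSp

variable {S : Scheme.{u}}

theorem isProperMor_of_repWith_isProper {X Y : Sp S} (hX : IsAlgSpace X) (hY : IsAlgSpace Y) {f : X ⟶ Y}
    (h : RepWith @IsProper f) : IsProperMor f :=
  ⟨isSeparatedMor_of_repWith (repWith_le (fun _ _ k (_ : IsProper k) => inferInstanceAs (IsSeparated k)) h),
    ⟨locP_of_repWith etLocal_lft (repWith_le (fun _ _ k (_ : IsProper k) => inferInstanceAs (LocallyOfFiniteType k)) h),
      isQuasiCompactMor_of_repWith hX hY (repWith_le (fun _ _ k (_ : IsProper k) => inferInstanceAs (QuasiCompact k)) h)⟩,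
    (repWith_universallyClosed_iff h.rep).1
      (repWith_le (fun _ _ k (_ : IsProper k) => inferInstanceAs (UniversallyClosed k)) h)⟩

theorem lft_of_locP_yon {T U : Over S} {k : T ⟶ U} (h : LocP @LocallyOfFiniteType ((yon S).map k)) :
    LocallyOfFiniteType k.left :=
  h (𝟙 _) (𝟙 _) k (repWith_id _ _) (repWith_id _ _) (by rw [Category.id_comp, Category.comp_id])

theorem isProper_of_isProperMor_yon {T U : Over S} {k : T ⟶ U} (h : IsProperMor ((yon S).map k)) :
    IsProper k.left := by
  haveI : IsSeparated k.left := (isSeparatedMor_yon_map_iff k).1 h.1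
  haveI : LocallyOfFiniteType k.left := lft_of_locP_yon h.2.1.1
  haveI : UniversallyClosed k.left :=
    (repWith_yon_map_iff @UniversallyClosed k).1 ((repWith_universallyClosed_iff (representable_yon_map k)).2 h.2.2)
  exact ⟨⟩

/-- Properness descends to the base of a system. -/
theorem descendsToBase_isProperMor [QuasiSeparatedSpace S] :
    DescendsToBase (S := S) IsProperMor (LocP @LocallyOfFiniteType) := by
  intro J _ _ E d h e X₀ f₀ hX₀ hXqc hXqs hQf X f pX hX hf
  obtain ⟨hd⟩ := h.isLimit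
  obtain ⟨A⟩ := exists_atlasSystem_of_qc h.affine hd h.alg e (h.qc e)
  let j₀ : Over e := Over.mk (𝟙 e)
  let a₀ : (yon S).obj (A.U.obj j₀) ⟶ E.obj e := A.a j₀
  let x' := pullback.snd f₀ a₀
  have hdpt : IsAlgSpace d.pt := (isAlgSpace_limit_and_affine h.affine hd h.alg).1
  have hXalg : IsAlgSpace X := isAlgSpace_of_isPullback (h.alg e).diag hX₀ hdpt hX
  have hX' : IsAlgSpace (pullback f₀ a₀) := isAlgSpace_pullback (h.alg e).diag hX₀ (IsAlgSpace.yon_obj _) f₀ a₀
  have := A.affine j₀
  have hX'c : IsQuasiCompactSp (pullback f₀ a₀) :=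
    isQuasiCompactMor_pullback (isQuasiCompactMor_of_qc_qs hX₀ (h.alg e) f₀ hXqc (h.qs e)) _ a₀
  have hX's : IsQuasiSeparatedSp (pullback f₀ a₀) :=
    isQuasiSeparatedSp_pullback hXqs (isQuasiSeparatedSp_yon inferInstance) f₀ a₀
  have hx'l : LocP @LocallyOfFiniteType x' :=
    locP_of_isPullback etLocal_lft (IsPullback.of_hasPullback f₀ a₀) hX₀ (h.alg e) (IsAlgSpace.yon_obj _) hQf
  -- base changes of `f₀` to the limit chart are proper
  have key : ∀ {R : Sp S} (m : R ⟶ X₀) (r : R ⟶ (yon S).obj A.cU.pt),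
      IsPullback m r f₀ (A.aLim ≫ d.π.app e) → IsProperMor r := fun {R} m r sq =>
    isProperMor_of_isPullback (fst := hX.lift m (r ≫ A.aLim) (by rw [Category.assoc]; exact sq.w)) hXalg hdpt
      (IsAlgSpace.yon_obj _) (IsPullback.of_right (by rw [hX.lift_fst]; exact sq) (hX.lift_snd _ _ _) hX) hf
  let G : Over e ⥤ Sp S := A.U ⋙ yon S
  have hGalg : ∀ j, IsAlgSpace (G.obj j) := fun j => IsAlgSpace.yon_obj _
  have hGa : ∀ j k (φ : j ⟶ k), IsAffineMor (G.map φ) := fun j k φ =>
    isAffineMor_iff.2 ((repWith_yon_map_iff @IsAffineHom _).2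
      (have := A.affine j; have := A.affine k; inferInstance))
  have hGl : IsLimit ((yon S).mapCone A.cU) := isLimitOfPreserves _ A.isLimit
  have hGc : ∀ j, IsQuasiCompactSp (G.obj j) := fun j =>
    have := A.affine j; isQuasiCompactSp_yon_iff.2 inferInstance
  have hGs : ∀ j, IsQuasiSeparatedSp (G.obj j) := fun j =>
    have := A.affine j; isQuasiSeparatedSp_yon inferInstance
  let πG : (yon S).obj A.cU.pt ⟶ G.obj j₀ := (yon S).map (A.cU.π.app j₀)
  have hπG : πG ≫ a₀ = A.aLim ≫ d.π.app e := (A.sqLim j₀).w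
  have hP₀ : IsProperMor (pullback.snd x' πG) := key (pullback.fst x' πG ≫ pullback.fst f₀ a₀) _ (by
    rw [← hπG]
    exact (IsPullback.of_hasPullback x' πG).paste_horiz (IsPullback.of_hasPullback f₀ a₀))
  obtain ⟨l, φ, hl⟩ := S10020.result S G hGalg hGa ((yon S).mapCone A.cU) hGl j₀ (hGc j₀) (hGs j₀)
    ⟨pullback f₀ a₀, hX'⟩ ⟨G.obj j₀, hGalg j₀⟩ x' (𝟙 _) hX'c hX's (hGc j₀) (hGs j₀) _ _ (pullback.snd x' πG)
    πG (𝟙 _) IsPullback.of_id_snd (pullback.fst x' πG) (IsPullback.of_hasPullback x' πG) hP₀.1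
  let fl : pullback x' (G.map φ) ⟶ G.obj l := pullback.snd x' (G.map φ)
  have sql : IsPullback (pullback.fst x' (G.map φ)) fl x' (G.map φ) := IsPullback.of_hasPullback _ _
  have hfs : IsSeparatedMor fl := hl _ _ fl (G.map φ) (𝟙 _) IsPullback.of_id_snd _ sql
  have hXl : IsAlgSpace (pullback x' (G.map φ)) := isAlgSpace_pullback (hGalg j₀).diag hX' (hGalg l) _ _
  have hflc : IsQuasiCompactMor fl :=
    isQuasiCompactMor_of_isPullback sql (isQuasiCompactMor_of_qc_qs hX' (hGalg j₀) x' hX'c (hGs j₀))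
  have hXlc : IsQuasiCompactSp (pullback x' (G.map φ)) := Approx.isQuasiCompactSp_of_mor hflc (hGalg l) (hGc l)
  have hXls : IsQuasiSeparatedSp (pullback x' (G.map φ)) := isQuasiSeparatedSp_pullback hX's (hGs l) _ _
  have hfll : LocP @LocallyOfFiniteType fl := locP_of_isPullback etLocal_lft sql hX' (hGalg j₀) (hGalg l) hx'l
  -- the limit of `fl` is proper
  let πl : (yon S).obj A.cU.pt ⟶ G.obj l := (yon S).map (A.cU.π.app l)
  have hπl : πl ≫ G.map φ = πG := by
    change (yon S).map _ ≫ (yon S).map _ = _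
    rw [← Functor.map_comp, A.cU.w]
  have hPl : IsProperMor (pullback.snd fl πl) :=
    key ((pullback.fst fl πl ≫ pullback.fst x' (G.map φ)) ≫ pullback.fst f₀ a₀) _ (by
      rw [← hπG, ← hπl]
      exact ((IsPullback.of_hasPullback fl πl).paste_horiz sql).paste_horiz (IsPullback.of_hasPullback f₀ a₀))
  -- the cover by a scheme
  obtain ⟨U, p, hpe, hps⟩ := hXl.atlas
  obtain ⟨Y, g, hgf, hgs, -, -⟩ := SchemeCover.exists_cover hXl hXlc hXls p hpe hps
  obtain ⟨k, hk⟩ := (yon S).map_surjective (g ≫ fl)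
  have hgr : RepWith @IsFinite g := isFiniteMor_iff.1 hgf
  have hgp : RepWith @IsProper g := repWith_le (fun _ _ k (_ : IsFinite k) => inferInstanceAs (IsProper k)) hgr
  haveI : CompactSpace Y.left := isQuasiCompactSp_yon_iff.1 (Approx.isQuasiCompactSp_of_mor
    (isProperMor_of_repWith_isProper (IsAlgSpace.yon_obj Y) hXl hgp).2.1.2 hXl hXlc)
  haveI : QuasiSeparatedSpace Y.left := by
    have hY : IsQuasiSeparatedSp ((yon S).obj Y) := isQuasiSeparatedSp_of_mor
      (isQuasiSeparatedMor_of_isSeparatedMor (isProperMor_of_repWith_isProper (IsAlgSpace.yon_obj Y) hXl hgp).1) hXls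
    haveI : QuasiSeparated Y.hom := ⟨(repWith_diag_yon_iff @QuasiCompact Y).1 hY⟩
    exact quasiSeparatedSpace_of_quasiSeparated Y.hom
  haveI : LocallyOfFiniteType k.left := lft_of_locP_yon (by
    rw [hk]
    exact locP_comp etLocal_lft (IsAlgSpace.yon_obj Y) hXl (hGalg l)
      (isProperMor_of_repWith_isProper (IsAlgSpace.yon_obj Y) hXl hgp).2.1.1 hfll)
  have sqk := (IsPullback.of_hasPullback k (A.cU.π.app l)).map (yon S)
  rw [hk] at sqk
  have hkp : IsProper (pullback.snd k (A.cU.π.app l)).left := isProper_of_isProperMor_yon (by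
    have sqR := IsPullback.of_hasPullback fl πl
    have sqg := IsPullback.of_hasPullback g (pullback.fst fl πl)
    have sq' := sqg.paste_vert sqR
    have hR : IsAlgSpace (pullback fl πl) := isAlgSpace_pullback (hGalg l).diag hXl (IsAlgSpace.yon_obj _) _ _
    have hY' : IsAlgSpace (pullback g (pullback.fst fl πl)) :=
      isAlgSpace_pullback hXl.diag (IsAlgSpace.yon_obj Y) hR _ _
    have h' : IsProperMor (pullback.snd g (pullback.fst fl πl) ≫ pullback.snd fl πl) :=
      isProperMor_comp hY' hR (IsAlgSpace.yon_obj _)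
        (isProperMor_of_repWith_isProper hY' hR (repWith_of_isPullback sqg hgp)) hPl
    exact isProperMor_of_isPullback hY' (IsAlgSpace.yon_obj _) (IsAlgSpace.yon_obj _)
      (IsPullback.of_horiz_isIso (fst := (sqk.isoIsPullback _ _ sq').hom) (g := 𝟙 _)
        ⟨by rw [Category.comp_id, IsPullback.isoIsPullback_hom_snd]⟩) h')
  have hlim : IsLimit ((Over.forget S).mapCone A.cU) := isLimitOfPreserves _ A.isLimit
  have : ∀ j, IsAffine ((A.U ⋙ Over.forget S).obj j) := fun j => A.affine j
  obtain ⟨n, χ, hn⟩ := Groth.Agent.H7Lim.descends_isProper (Over e) (A.U ⋙ Over.forget S) _ hlim l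
    (show Y.left ⟶ (A.U ⋙ Over.forget S).obj l from k.left) inferInstance
    ((Groth.Agent.H7Lim.prop_iff_of_isPullback
      ((IsPullback.of_hasPullback k (A.cU.π.app l)).map (Over.forget S))).1 hkp)
  haveI hPn : IsProper (pullback.snd k (A.U.map χ)).left :=
    (Groth.Agent.H7Lim.prop_iff_of_isPullback ((IsPullback.of_hasPullback k (A.U.map χ)).map (Over.forget S))).2 hn
  -- the space is proper at that stage
  let fn : pullback fl (G.map χ) ⟶ G.obj n := pullback.snd fl (G.map χ)
  have sqn : IsPullback (pullback.fst fl (G.map χ)) fn fl (G.map χ) := IsPullback.of_hasPullback _ _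
  have hXn : IsAlgSpace (pullback fl (G.map χ)) := isAlgSpace_pullback (hGalg l).diag hXl (hGalg n) _ _
  have hfn : IsProperMor fn := by
    refine ⟨isSeparatedMor_of_isPullback sqn hfs, ⟨locP_of_isPullback etLocal_lft sqn hXl (hGalg l) (hGalg n) hfll,
      isQuasiCompactMor_of_isPullback sqn hflc⟩, ?_⟩
    have sqY := (IsPullback.of_hasPullback k (A.U.map χ)).map (yon S)
    rw [hk] at sqY
    let gn : (yon S).obj (pullback k (A.U.map χ)) ⟶ pullback fl (G.map χ) :=
      pullback.lift ((yon S).map (pullback.fst k (A.U.map χ)) ≫ g) ((yon S).map (pullback.snd k (A.U.map χ)))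
        (by rw [Category.assoc]; exact sqY.w)
    have hgn : gn ≫ fn = (yon S).map (pullback.snd k (A.U.map χ)) := pullback.lift_snd _ _ _
    have sqgn : IsPullback ((yon S).map (pullback.fst k (A.U.map χ))) gn g (pullback.fst fl (G.map χ)) := by
      refine IsPullback.of_bot ?_ (pullback.lift_fst _ _ _).symm sqn
      rw [hgn]
      exact sqY
    refine isUnivClosedMor_of_surjective (f := gn) ?_ (Approx.surjective_map_of_isPullback sqgn.flip.flip hgs)
    rw [hgn]
    exact (isProperMor_of_repWith_isProper (IsAlgSpace.yon_obj _) (hGalg n)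
      ((repWith_yon_map_iff @IsProper _).2 hPn)).2.2
  refine ⟨n.left, n.hom, fun Z g' hg Xj fj p hXj => ?_⟩
  have sq₁ := (sqn.paste_horiz sql).paste_horiz (IsPullback.of_hasPullback f₀ a₀)
  have hw : n.hom = (χ ≫ φ).left := by simpa [j₀] using (Over.w (χ ≫ φ)).symm
  have hla : G.map χ ≫ G.map φ ≫ a₀ = A.a n ≫ E.map n.hom := by
    rw [← Category.assoc, ← Functor.map_comp, hw]
    exact (A.sq (χ ≫ φ)).w
  have hp : (A.a n ≫ inv g') ≫ g' ≫ E.map n.hom = (G.map χ ≫ G.map φ) ≫ a₀ := by
    rw [Category.assoc, IsIso.inv_hom_id_assoc, ← hla, Category.assoc]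
  have hZ : IsAlgSpace Z := (h.alg n.left).of_iso (asIso g').symm
  have hXa : IsAlgSpace Xj := isAlgSpace_of_isPullback (h.alg e).diag hX₀ hZ hXj
  refine isProperMor_of_cover hXa hZ (MorphismProperty.RespectsIso.postcomp _ _ _ (A.etale n))
    (MorphismProperty.RespectsIso.postcomp _ _ _ (A.surjective n))
    (fst := hXj.lift _ (fn ≫ A.a n ≫ inv g') (by rw [sq₁.w, Category.assoc fn, hp]))
    (IsPullback.of_right ?_ (hXj.lift_snd _ _ _) hXj) hfn
  rw [hXj.lift_fst, hp]
  exact sq₁

end Groth.Agent.H12AlgSp
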