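import Groth.Agent.H12AlgSp.TopologyLimit
import Groth.Agent.H12AlgSp.OpenSub
import Groth.Agent.H12AlgSp.QC
import Groth.Agent.H12AlgSp.PointsTop

/-!
Quasi-compact open subspaces of limits come from a finite stage.
-/

universe u

open CategoryTheory CategoryTheory.Limits AlgebraicGeometry Opposite Topology
open AlgSp Groth.Agent.H13AlgSp

set_option backward.isDefEq.respectTransparency false

namespace Groth.Agent.H12AlgSp

variable {S : Scheme.{u}} {I : Type u} [SmallCategory I] [IsCofiltered I] {D : I ⥤ Sp S}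

/-- Opens of the stages form a basis of the limit topology. -/
theorem exists_open_stage_of_mem (hD : ∀ i, IsAlgSpace (D.obj i))
    (hDa : ∀ (i j : I) (φ : i ⟶ j), IsAffineMor (D.map φ)) {c : Cone D} (hc : IsLimit c)
    {W : Set (Points c.pt)} (hW : IsOpen W) {x : Points c.pt} (hx : x ∈ W) :
    ∃ (i : I) (O : Set (Points (D.obj i))), IsOpen O ∧ Points.map (c.π.app i) x ∈ O ∧
      Points.map (c.π.app i) ⁻¹' O ⊆ W := by
  let B : Set (Set (Points c.pt)) := {V | ∃ (i : I) (O : Set (Points (D.obj i))), IsOpen O ∧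
    Points.map (c.π.app i) ⁻¹' O = V}
  have hle : TopologicalSpace.generateFrom B ≤ Points.topologicalSpace c.pt := by
    rw [topology_limit hD hDa hc]
    refine le_iInf fun i => ?_
    rintro V ⟨O, hO, rfl⟩
    exact TopologicalSpace.isOpen_generateFrom_of_mem ⟨i, O, hO, rfl⟩
  have hW' : TopologicalSpace.GenerateOpen B W := hle W hW
  clear hW
  revert x
  induction hW' with
  | basic V hV =>
    intro x hx
    obtain ⟨i, O, hO, rfl⟩ := hV
    exact ⟨i, O, hO, hx, subset_rfl⟩
  | univ =>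
    intro x _
    exact ⟨IsCofiltered.nonempty.some, Set.univ, isOpen_univ, trivial, Set.subset_univ _⟩
  | inter V V' _ _ h h' =>
    intro x hx
    obtain ⟨i, O, hO, hxO, hOV⟩ := h hx.1
    obtain ⟨i', O', hO', hxO', hOV'⟩ := h' hx.2
    let m := IsCofiltered.min i i'
    have e₁ : ∀ y, Points.map (D.map (IsCofiltered.minToLeft i i')) (Points.map (c.π.app m) y) =
        Points.map (c.π.app i) y := fun y => by rw [← Points.map_comp, c.w]
    have e₂ : ∀ y, Points.map (D.map (IsCofiltered.minToRight i i')) (Points.map (c.π.app m) y) =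
        Points.map (c.π.app i') y := fun y => by rw [← Points.map_comp, c.w]
    refine ⟨m, Points.map (D.map (IsCofiltered.minToLeft i i')) ⁻¹' O ∩
      Points.map (D.map (IsCofiltered.minToRight i i')) ⁻¹' O',
      (hO.preimage (Points.continuous_map _)).inter (hO'.preimage (Points.continuous_map _)),
      ⟨by rw [Set.mem_preimage, e₁]; exact hxO, by rw [Set.mem_preimage, e₂]; exact hxO'⟩, fun y hy => ⟨?_, ?_⟩⟩
    · exact hOV (show Points.map (c.π.app i) y ∈ O from e₁ y ▸ hy.1)
    · exact hOV' (show Points.map (c.π.app i') y ∈ O' from e₂ y ▸ hy.2)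
  | sUnion 𝒱 _ h =>
    intro x hx
    obtain ⟨V, hV, hxV⟩ := hx
    obtain ⟨i, O, hO, hxO, hOV⟩ := h V hV hxV
    exact ⟨i, O, hO, hxO, hOV.trans (Set.subset_sUnion_of_mem hV)⟩

/-- A quasi-compact open of the limit is the preimage of a quasi-compact open of a stage. -/
theorem exists_compact_open_stage (hD : ∀ i, IsAlgSpace (D.obj i))
    (hDa : ∀ (i j : I) (φ : i ⟶ j), IsAffineMor (D.map φ)) {c : Cone D} (hc : IsLimit c)
    {W : Set (Points c.pt)} (hW : IsOpen W) (hWc : IsCompact W) :
    ∃ (i : I) (O : Set (Points (D.obj i))), IsOpen O ∧ IsCompact O ∧ Points.map (c.π.app i) ⁻¹' O = W := by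
  classical
  choose i O hO hxO hOW using fun x : W => exists_open_stage_of_mem hD hDa hc hW x.2
  obtain ⟨t, ht⟩ := hWc.elim_finite_subcover (fun x : W => Points.map (c.π.app (i x)) ⁻¹' O x)
    (fun x => (hO x).preimage (Points.continuous_map _)) (fun x hx => Set.mem_iUnion.2 ⟨⟨x, hx⟩, hxO ⟨x, hx⟩⟩)
  obtain ⟨m, hm⟩ := IsCofiltered.inf_objs_exists (t.image i)
  let f : ∀ x : t, m ⟶ i x := fun x => (hm (Finset.mem_image_of_mem i x.2)).some
  have ef : ∀ (x : t) y, Points.map (D.map (f x)) (Points.map (c.π.app m) y) = Points.map (c.π.app (i x)) y :=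
    fun x y => by rw [← Points.map_comp, c.w]
  let U : Set (Points (D.obj m)) := ⋃ x : t, Points.map (D.map (f x)) ⁻¹' O x
  have hU : IsOpen U := isOpen_iUnion fun x => (hO _).preimage (Points.continuous_map _)
  have hWU : Points.map (c.π.app m) '' W ⊆ U := by
    rintro _ ⟨y, hy, rfl⟩
    obtain ⟨x, hx, hyx⟩ := Set.mem_iUnion₂.1 (ht hy)
    exact Set.mem_iUnion.2 ⟨⟨x, hx⟩, by rw [Set.mem_preimage, ef]; exact hyx⟩
  -- shrink to a compact open
  have hbasis : ∀ y ∈ U, ∃ V : Set (Points (D.obj m)), IsOpen V ∧ IsCompact V ∧ y ∈ V ∧ V ⊆ U := fun y hy => by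
    obtain ⟨Z, p, hp, hps⟩ := (hD m).atlas
    obtain ⟨z, rfl⟩ := surjective_ofPt_of_repWith le_rfl hps y
    obtain ⟨A, hA, hz, hAU⟩ := TopologicalSpace.Opens.isBasis_iff_nbhd.mp Z.left.isBasis_affineOpens
      (show z ∈ (⟨_, hU.preimage (Points.continuous_ofPt p)⟩ : Z.left.Opens) from hy)
    exact ⟨Points.ofPt p '' A, isOpenMap_ofPt_of_repWith etale_le_universallyOpen hp _ A.isOpen,
      hA.isCompact.image (Points.continuous_ofPt p), ⟨z, hz, rfl⟩, Set.image_subset_iff.2 hAU⟩
  choose V hVo hVc hyV hVU using hbasis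
  obtain ⟨s, hs⟩ := (hWc.image (Points.continuous_map (c.π.app m))).elim_finite_subcover
    (fun y : U => V y y.2) (fun y => hVo y y.2) (fun y hy => Set.mem_iUnion.2 ⟨⟨y, hWU hy⟩, hyV y (hWU hy)⟩)
  refine ⟨m, ⋃ y ∈ s, V y.1 y.2, isOpen_biUnion fun y _ => hVo _ _,
    s.finite_toSet.isCompact_biUnion fun y _ => hVc _ _, Set.Subset.antisymm (fun z hz => ?_)
      (fun z hz => hs ⟨z, hz, rfl⟩)⟩
  obtain ⟨y, -, hzy⟩ := Set.mem_iUnion₂.1 hz
  obtain ⟨x, hx⟩ := Set.mem_iUnion.1 (hVU _ _ hzy)
  exact hOW _ (show Points.map (c.π.app (i x)) z ∈ O x from ef x z ▸ hx)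

/-- Points of an open subspace with compact image are compact. -/
theorem isQuasiCompactSp_of_openImmersion {X U : Sp S} (hX : IsAlgSpace X) {j : U ⟶ X}
    (hj : RepWith @IsOpenImmersion j) (h : IsCompact (Set.range (Points.map j))) : IsQuasiCompactSp U := by
  have := mono_of_openImmersion hj
  have he : IsOpenEmbedding (Points.map j) := IsOpenEmbedding.of_continuous_injective_isOpenMap
    (Points.continuous_map j) (injective_map_of_mono j)
    (isOpenMap_map_of_repWith (fun _ _ k (_ : IsOpenImmersion k) => inferInstance) hj)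
  rw [← Set.image_univ, ← he.isInducing.isCompact_iff] at h
  have : CompactSpace (Points U) := ⟨h⟩
  exact isQuasiCompactSp_of_compactSpace (isAlgSpace_of_representable _ hj.1 hX)

/-- Quasi-compact open subspaces of the limit come from a stage. -/
theorem exists_openSubspace_stage (hD : ∀ i, IsAlgSpace (D.obj i))
    (hDa : ∀ (i j : I) (φ : i ⟶ j), IsAffineMor (D.map φ)) {c : Cone D} (hc : IsLimit c) {U : Sp S}
    (j : U ⟶ c.pt) (hj : RepWith @IsOpenImmersion j) (hU : IsQuasiCompactSp U) :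
    ∃ (i : I) (Ui : Sp S) (ji : Ui ⟶ D.obj i) (q : U ⟶ Ui),
      RepWith @IsOpenImmersion ji ∧ IsQuasiCompactSp Ui ∧ IsPullback j q (c.π.app i) ji := by
  have := compactSpace_points_of_isQuasiCompactSp hU
  obtain ⟨i, O, hO, hOc, hOW⟩ := exists_compact_open_stage hD hDa hc
    (isOpenMap_map_of_repWith (fun _ _ k (_ : IsOpenImmersion k) => inferInstance) hj).isOpen_range
    (isCompact_range (Points.continuous_map j))
  obtain ⟨Ui, ji, -, hji, hr⟩ := exists_open_subspace (hD i) hO
  obtain ⟨q, hq⟩ := exists_factor_open hji (j ≫ c.π.app i) (by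
    rw [hr]
    rintro _ ⟨x, rfl⟩
    rw [Points.map_comp]
    exact hOW.ge ⟨x, rfl⟩)
  refine ⟨i, Ui, ji, q, hji, isQuasiCompactSp_of_openImmersion (hD i) hji (hr ▸ hOc), ?_⟩
  have hP : RepWith @IsOpenImmersion (pullback.fst (c.π.app i) ji) :=
    repWith_of_isPullback (IsPullback.of_hasPullback (c.π.app i) ji).flip hji
  obtain ⟨l, hl⟩ := exists_factor_open hj (pullback.fst (c.π.app i) ji) (by
    rw [range_snd_of_isPullback (IsPullback.of_hasPullback (c.π.app i) ji).flip, hr, hOW])
  have := mono_of_openImmersion hji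
  have := mono_of_openImmersion hj
  have := mono_of_openImmersion hP
  refine IsPullback.of_iso_pullback ⟨hq.symm⟩
    ⟨pullback.lift j q hq.symm, l, ?_, ?_⟩ (pullback.lift_fst _ _ _) (pullback.lift_snd _ _ _)
  · rw [← cancel_mono j, Category.assoc, hl, pullback.lift_fst, Category.id_comp]
  · rw [← cancel_mono (pullback.fst (c.π.app i) ji), Category.assoc, pullback.lift_fst, hl, Category.id_comp]

end Groth.Agent.H12AlgSp
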