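import Groth.Agent.H12AlgSp.LimitBaseChange
import Groth.Agent.H12AlgSp.EventuallyClosed
import Groth.Agent.H12AlgSp.Immersion
import Groth.Agent.H12AlgSp.LimitOpen

/-!
Immersions into limits which are of finite type are immersions into some stage.
-/

universe u

open CategoryTheory CategoryTheory.Limits AlgebraicGeometry Opposite Topology
open AlgSp Groth.Agent.H13AlgSp

set_option backward.isDefEq.respectTransparency false

namespace Groth.Agent.H12AlgSp

variable {S : Scheme.{u}}

/-- A compact set in an open set of points lies in a compact open inside it. -/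
theorem exists_compact_open_between {X : Sp S} (hX : IsAlgSpace X) {K G : Set (Points X)} (hK : IsCompact K)
    (hG : IsOpen G) (hKG : K ⊆ G) : ∃ W : Set (Points X), IsOpen W ∧ IsCompact W ∧ K ⊆ W ∧ W ⊆ G := by
  obtain ⟨Z, p, hp, hps⟩ := hX.atlas
  have ho := isOpenMap_ofPt_of_repWith etale_le_universallyOpen hp
  let J := { A : Z.left.affineOpens // (A.1 : Set Z.left) ⊆ Points.ofPt p ⁻¹' G }
  obtain ⟨t, ht⟩ := hK.elim_finite_subcover (fun A : J => Points.ofPt p '' (A.1.1 : Set Z.left))
    (fun A => ho _ A.1.1.2) (fun x hx => by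
      obtain ⟨z, rfl⟩ := surjective_ofPt_of_repWith le_rfl hps x
      obtain ⟨A, hA, hz, hAG⟩ := TopologicalSpace.Opens.isBasis_iff_nbhd.mp Z.left.isBasis_affineOpens
        (show z ∈ (⟨_, hG.preimage (Points.continuous_ofPt p)⟩ : Z.left.Opens) from hKG hx)
      exact Set.mem_iUnion.2 ⟨⟨⟨A, hA⟩, hAG⟩, z, hz, rfl⟩)
  exact ⟨_, isOpen_biUnion fun A _ => ho _ A.1.1.2,
    t.finite_toSet.isCompact_biUnion fun A _ => A.1.2.isCompact.image (Points.continuous_ofPt p), ht,
    Set.iUnion₂_subset fun A _ => Set.image_subset_iff.2 A.2⟩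

variable {I : Type u} [SmallCategory I] [IsCofiltered I]

/-- An immersion into a limit, of finite type over a fixed base, is an immersion into some stage. -/
theorem eventually_immersion {D : I ⥤ Sp S} (hD : ∀ i, IsAlgSpace (D.obj i))
    (hDa : ∀ (i j : I) (φ : i ⟶ j), IsAffineMor (D.map φ)) {c : Cone D} (hc : IsLimit c) (i₁ : I)
    {Y : Sp S} (hY : IsAlgSpace Y) (hYqc : IsQuasiCompactSp Y) (y : Y ⟶ c.pt) (hy : RepWith @IsImmersion y)
    {B : Sp S} (hB : IsAlgSpace B) (t : D.obj i₁ ⟶ B)
    (hYB : LocP @LocallyOfFiniteType (y ≫ c.π.app i₁ ≫ t)) :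
    ∃ i₀ : I, ∀ (i : I) (_ : i ⟶ i₀), RepWith @IsImmersion (y ≫ c.π.app i) := by
  have hX := (isAlgSpace_limit_and_affine hDa hc hD).1
  have := compactSpace_points_of_isQuasiCompactSp hYqc
  have hlc : IsLocallyClosed (Set.range (Points.map y)) := (isEmbedding_of_immersion hX y hy).2
  obtain ⟨W, hWo, hWc, hKW, hWG⟩ := exists_compact_open_between hX (isCompact_range (Points.continuous_map y))
    (isLocallyClosed_iff_isOpen_coborder.1 hlc) subset_coborder
  obtain ⟨i₂, O₂, hO₂, hO₂c, hO₂W⟩ := exists_compact_open_stage hD hDa hc hWo hWc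
  let m := IsCofiltered.min i₁ i₂
  let ψ : m ⟶ i₁ := IsCofiltered.minToLeft i₁ i₂
  let χ : m ⟶ i₂ := IsCofiltered.minToRight i₁ i₂
  let O := Points.map (D.map χ) ⁻¹' O₂
  have hOc : IsCompact O := isCompact_preimage (hD _) (isQuasiCompactMor_of_repWith (hD _) (hD _)
    (repWith_le (P := @IsAffineHom) (Q := @QuasiCompact) (fun _ _ k (_ : IsAffineHom k) => inferInstance)
      (isAffineMor_iff.1 (hDa _ _ χ)))) hO₂ hO₂c
  obtain ⟨U, ι, hU, hι, hr⟩ := exists_open_subspace (hD m) (hO₂.preimage (Points.continuous_map (D.map χ)))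
  have hUc : IsQuasiCompactSp U := isQuasiCompactSp_of_openImmersion (hD m) hι (hr ▸ hOc)
  have sqP := IsPullback.of_hasPullback ι (c.π.app m)
  let j' := pullback.snd ι (c.π.app m)
  have hj' : RepWith @IsOpenImmersion j' := repWith_of_isPullback sqP hι
  have hjr : Set.range (Points.map j') = W := by
    rw [range_snd_of_isPullback sqP, hr, ← hO₂W, ← Set.preimage_comp]
    congr 1
    funext x
    exact (Points.map_comp (c.π.app m) (D.map χ) x).symm.trans (by rw [c.w])
  obtain ⟨y', hy'⟩ := exists_factor_open hj' y (by rw [hjr]; exact hKW)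
  have := mono_of_openImmersion hj'
  have hy'i : RepWith @IsImmersion y' := repWith_of_isPullback
    (IsPullback.of_horiz_isIso_mono ⟨by rw [Category.id_comp, hy']⟩ : IsPullback (𝟙 Y) y' y j') hy
  have hclosed : IsClosed (Set.range (Points.map y')) := by
    have e : Set.range (Points.map y') = Points.map j' ⁻¹' closure (Set.range (Points.map y)) := by
      ext z
      constructor
      · rintro ⟨x, rfl⟩
        exact subset_closure ⟨x, by rw [← Points.map_comp, hy']⟩
      · intro hz
        obtain ⟨x, hx⟩ : Points.map j' z ∈ Set.range (Points.map y) := by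
          rw [← closure_inter_coborder (s := Set.range (Points.map y))]
          exact ⟨hz, hWG (hjr.le ⟨z, rfl⟩)⟩
        exact ⟨x, injective_map_of_mono j' (by rw [← Points.map_comp, hy', hx])⟩
    rw [e]
    exact isClosed_closure.preimage (Points.continuous_map j')
  have hy'c : RepWith @IsClosedImmersion y' := repWith_of_snd hy'i.1 fun T x => by
    have : IsImmersion (hy'i.1.snd x).left := hy'i.property_snd x
    refine IsClosedImmersion.of_isPreimmersion _ ?_
    rw [← preimage_ofPt_range (hy'i.1.isPullback x)]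
    exact hclosed.preimage (Points.continuous_ofPt x)
  obtain ⟨hlim⟩ := nonempty_isLimit_bcCone D ι sqP hc
  let j₀ : Over m := Over.mk (𝟙 m)
  have hYB' : LocP @LocallyOfFiniteType
      (y' ≫ (bcCone D ι sqP).π.app j₀ ≫ (bcSnd D ι).app j₀ ≫ D.map ψ ≫ t) := by
    have e : y' ≫ (bcCone D ι sqP).π.app j₀ ≫ (bcSnd D ι).app j₀ ≫ D.map ψ ≫ t = y ≫ c.π.app i₁ ≫ t := by
      rw [← Category.assoc ((bcCone D ι sqP).π.app j₀), (isPullback_bcCone_π D ι sqP j₀).w, Category.assoc,
        ← Category.assoc, hy']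
      exact congrArg (y ≫ ·) (c.w_assoc ψ t)
    rw [e]
    exact hYB
  obtain ⟨l₀, hl₀⟩ := eventually_closedImmersion (isAlgSpace_bcDiagram hD hU) (isAffineMor_bcDiagram_map hDa)
    hlim j₀ (isQuasiCompactSp_bcDiagram hD hDa hU hUc j₀) hY y' hy'c hB _ hYB'
  refine ⟨l₀.left, fun i φ => ?_⟩
  let l : Over m := Over.mk (φ ≫ l₀.hom)
  have e : y ≫ c.π.app i = (y' ≫ (bcCone D ι sqP).π.app l) ≫ (bcSnd D ι).app l := by
    rw [Category.assoc, (isPullback_bcCone_π D ι sqP l).w, ← Category.assoc, hy']
    rfl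
  rw [e]
  exact repWith_comp
    (repWith_le (fun _ _ k (_ : IsClosedImmersion k) => inferInstanceAs (IsImmersion k)) (hl₀ l (Over.homMk φ rfl)))
    (repWith_le (fun _ _ k (_ : IsOpenImmersion k) => inferInstanceAs (IsImmersion k))
      (repWith_of_isPullback (isPullback_bcDiagram_fst D ι l) hι))

end Groth.Agent.H12AlgSp
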