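import Groth.Agent.H12AlgSp.LimitAffineBase
import Groth.Agent.H12AlgSp.ShriekEquiv
import Groth.Agent.H12AlgSp.GlueSheaf
import Groth.Agent.H12AlgSp.LimitDescendIso

/-!
A quasi-compact quasi-separated space which is a scheme over every local ring is a scheme.
-/

universe u

open CategoryTheory CategoryTheory.Limits AlgebraicGeometry Opposite
open AlgSp Groth.Agent.H13AlgSp Groth.Agent.H12AlgSp.Shriek

set_option backward.isDefEq.respectTransparency false

namespace Groth.Agent.H12AlgSp

variable {S : Scheme.{u}} {R : CommRingCat.{u}} (g : Spec R ⟶ S)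

/-- A quasi-compact extension comes from a quasi-compact space. -/
theorem isQuasiCompactSp_of_shr {F : Sp (Spec R)} (hF : IsAlgSpace F) (h : IsQuasiCompactSp ((shr g).obj F)) :
    IsQuasiCompactSp F := by
  obtain ⟨U', q, hq, hs, hc⟩ := h
  obtain ⟨T, e, t, rfl⟩ := exists_presentation q
  haveI : CompactSpace ↥((Over.forget S).obj U') := hc
  have : CompactSpace T.left :=
    (Scheme.homeoOfIso ((Over.forget S).mapIso e)).compactSpace
  exact ⟨T, t,
    (repWith_shr_iff g _ t).1 ((MorphismProperty.cancel_left_of_respectsIso _ (yonIso g T).inv _).1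
      ((MorphismProperty.cancel_left_of_respectsIso _ ((yon S).map e.hom) _).1 hq)),
    (repWith_shr_iff g _ t).1 ((MorphismProperty.cancel_left_of_respectsIso _ (yonIso g T).inv _).1
      ((MorphismProperty.cancel_left_of_respectsIso _ ((yon S).map e.hom) _).1 hs)), this⟩

theorem isIso_of_shr {F G : Sp (Spec R)} (f : F ⟶ G) [IsIso ((shr g).map f)] : IsIso f :=
  isIso_of_repWith_isomorphisms ((repWith_shr_iff g _ f).1 (repWith_of_isIso ((shr g).map f)))

theorem isRepresentable_shr_iff {F : Sp (Spec R)} :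
    ((shr g).obj F).obj.IsRepresentable ↔ F.obj.IsRepresentable := by
  rw [isRepresentable_iff_exists_iso, isRepresentable_iff_exists_iso]
  constructor
  · rintro ⟨T', ⟨ρ⟩⟩
    obtain ⟨T, e, t, ht⟩ := exists_presentation ρ.hom
    have h₁ : IsIso ((yon S).map e.hom ≫ (yonIso g T).inv ≫ (shr g).map t) := by rw [← ht]; infer_instance
    have : IsIso ((yonIso g T).inv ≫ (shr g).map t) := IsIso.of_isIso_comp_left ((yon S).map e.hom) _
    have : IsIso ((shr g).map t) := IsIso.of_isIso_comp_left (yonIso g T).inv _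
    have := isIso_of_shr g t
    exact ⟨T, ⟨asIso t⟩⟩
  · rintro ⟨T, ⟨ρ⟩⟩
    exact ⟨_, ⟨(yonIso g T).symm ≪≫ (shr g).mapIso ρ⟩⟩

variable {g}

/-- The map to the base transported along the extension. -/
noncomputable def baseMap : (shr g).obj ((yon (Spec R)).obj (Over.mk (𝟙 (Spec R)))) ⟶ (yon S).obj (Over.mk g) :=
  (yonIso g _).hom ≫ (yon S).map (canS g _)

instance : IsIso (baseMap (g := g)) := by
  have : IsIso ((Over.forget S).map (canS g (Over.mk (𝟙 (Spec R))))) := inferInstanceAs (IsIso (𝟙 (Spec R)))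
  have : IsIso (canS g (Over.mk (𝟙 (Spec R)))) := isIso_of_reflects_iso _ (Over.forget S)
  unfold baseMap
  infer_instance

theorem map_baseMap {F : Sp (Spec R)} (f : F ⟶ (yon (Spec R)).obj (Over.mk (𝟙 (Spec R)))) :
    (shr g).map f ≫ baseMap = toBase g F := by
  rw [baseMap, yonIso_toBase, toBase_naturality]

/-- The open of a point where a space which is a scheme at the local ring is a scheme. -/
theorem exists_scheme_open_nbhd {X : Sp S} (hX : IsAlgSpace X) (q : X ⟶ (yon S).obj (Over.mk (𝟙 S)))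
    (hqc : IsQuasiCompactMor q) (hqs : IsQuasiSeparatedMor q) (x : Points X)
    (h : SchemeOver q (Over.mk (S.fromSpecStalk ((Points.schemeHomeo (Over.mk (𝟙 S))).symm (Points.map q x))))) :
    ∃ (W : Over S) (j : (yon S).obj W ⟶ X), RepWith @IsOpenImmersion j ∧ x ∈ Set.range (Points.map j) := by
  let s := (Points.schemeHomeo (Over.mk (𝟙 S))).symm (Points.map q x)
  obtain ⟨V, hV, hsV, -⟩ := TopologicalSpace.Opens.isBasis_iff_nbhd.mp S.isBasis_affineOpens
    (show s ∈ (⊤ : S.Opens) from trivial)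
  replace hV : IsAffineOpen V := hV
  let g : Spec Γ(S, V) ⟶ S := hV.fromSpec
  let j₀ : Over.mk g ⟶ Over.mk (𝟙 S) := toBaseOver (Over.mk g)
  have hXV := isAlgSpace_pullback (IsAlgSpace.yon_obj _).diag hX (IsAlgSpace.yon_obj _) q ((yon S).map j₀)
  have hXVc : IsQuasiCompactSp (pullback q ((yon S).map j₀)) :=
    haveI : IsAffine (Over.mk g).left := inferInstanceAs (IsAffine (Spec _))
    isQuasiCompactMor_pullback hqc _ _
  let Y : Over ((ofScheme S).obj (Over.mk g)) :=
    Over.mk (ObjectProperty.homMk (pullback.snd q ((yon S).map j₀)) : (⟨_, hXV⟩ : Space S) ⟶ _)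
  obtain ⟨F, ⟨e⟩⟩ := Functor.EssSurj.mem_essImage (F := extend g) Y
  let φ : (shr g).obj F.obj ≅ pullback q ((yon S).map j₀) :=
    (ObjectProperty.ι _).mapIso ((Over.forget _).mapIso e)
  have hφ : φ.hom ≫ pullback.snd q ((yon S).map j₀) = toBase g F.obj :=
    congrArg (fun m => m.hom) (Over.w e.hom)
  have hterm : IsTerminal ((yon (Spec Γ(S, V))).obj (Over.mk (𝟙 (Spec Γ(S, V))))) :=
    IsTerminal.isTerminalObj (yon (Spec Γ(S, V))) _ Over.mkIdTerminal
  let qF : F.obj ⟶ (yon (Spec Γ(S, V))).obj (Over.mk (𝟙 _)) := hterm.from F.obj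
  let m : (shr g).obj ((yon _).obj (Over.mk (𝟙 (Spec Γ(S, V))))) ⟶ (yon S).obj (Over.mk (𝟙 S)) :=
    baseMap ≫ (yon S).map j₀
  have sqF : IsPullback (φ.hom ≫ pullback.fst q ((yon S).map j₀)) ((shr g).map qF) q m :=
    (IsPullback.of_hasPullback q ((yon S).map j₀)).of_iso φ.symm (Iso.refl _) (asIso (baseMap (g := g))).symm
      (Iso.refl _) (by simp) (by
        rw [Iso.symm_hom, asIso_inv, IsIso.comp_inv_eq, Category.assoc, map_baseMap]
        simp [← hφ]) (by simp) (by simp [m])
  have hFc : IsQuasiCompactSp F.obj := by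
    refine isQuasiCompactSp_of_shr g F.property ?_
    obtain ⟨U, p, hp, hps, hUc⟩ := hXVc
    exact ⟨U, p ≫ φ.inv, MorphismProperty.RespectsIso.postcomp _ _ _ hp,
      MorphismProperty.RespectsIso.postcomp _ _ _ hps, hUc⟩
  have hFs : IsQuasiSeparatedSp F.obj := by
    refine (repWith_shr_iff g @QuasiCompact _).1 ?_
    have hp : IsPullback (prod.fst : F.obj ⨯ F.obj ⟶ F.obj) prod.snd qF qF := by
      refine ⟨⟨?_⟩, ⟨PullbackCone.IsLimit.mk _ (fun c => prod.lift c.fst c.snd) (fun c => prod.lift_fst _ _)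
        (fun c => prod.lift_snd _ _) fun c k h₁ h₂ => by ext <;> simp [h₁, h₂]⟩⟩
      exact hterm.hom_ext _ _
    have hp' := (isPullback_shr_iff (g := g)).2 hp
    have e : (shr g).map (Limits.diag F.obj) ≫ hp'.isoPullback.hom = pullback.diagonal ((shr g).map qF) := by
      apply pullback.hom_ext
      · rw [Category.assoc, hp'.isoPullback_hom_fst, ← Functor.map_comp, prod.lift_fst, pullback.diagonal_fst,
          CategoryTheory.Functor.map_id]
      · rw [Category.assoc, hp'.isoPullback_hom_snd, ← Functor.map_comp, prod.lift_snd, pullback.diagonal_snd,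
          CategoryTheory.Functor.map_id]
    refine (MorphismProperty.cancel_right_of_respectsIso _ _ hp'.isoPullback.hom).1 ?_
    rw [e]
    exact repWith_of_isPullback (isPullback_diagonal sqF) hqs
  -- the transported squares
  have piece : ∀ (T : Over (Spec Γ(S, V))), IsPullback
      ((shr g).map (pullback.fst qF ((yon _).map (toBaseOver T))) ≫ φ.hom ≫ pullback.fst q ((yon S).map j₀))
      ((shr g).map (pullback.snd qF ((yon _).map (toBaseOver T))) ≫ (yonIso g T).hom)
      q ((yon S).map (toBaseOver ((Over.map g).obj T))) := fun T => by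
    have big := ((isPullback_shr_iff (g := g)).2 (IsPullback.of_hasPullback qF ((yon _).map (toBaseOver T)))).paste_horiz sqF
    refine big.of_iso (Iso.refl _) (Iso.refl _) (yonIso g T) (Iso.refl _) (by simp) (by simp) (by simp) ?_
    rw [Iso.refl_hom, Category.comp_id]
    have e₁ : toBaseOver ((Over.map g).obj T) =
        (Over.map g).map (toBaseOver T) ≫ canS g (Over.mk (𝟙 _)) ≫ j₀ := Over.OverMorphism.ext (by
      change T.hom ≫ g = T.hom ≫ 𝟙 _ ≫ g
      rw [Category.id_comp])
    rw [e₁, Functor.map_comp, Functor.map_comp, ← Category.assoc (yonIso g T).hom, ← yonIso_naturality]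
    simp [m, baseMap]
  let y : ↥(V : TopologicalSpace.Opens S) := ⟨s, hsV⟩
  let p : PrimeSpectrum Γ(S, V) := hV.primeIdealOf y
  letI : Algebra Γ(S, V) (S.presheaf.stalk s) := TopCat.Presheaf.algebra_section_stalk S.presheaf y
  haveI : IsLocalization.AtPrime (S.presheaf.stalk s) p.asIdeal := hV.isLocalization_stalk y
  have hloc : SchemeOver qF (localOver (A := Γ(S, V)) (S.presheaf.stalk s)) := by
    refine (isRepresentable_shr_iff g).1 ?_
    have sq := piece (localOver (A := Γ(S, V)) (S.presheaf.stalk s))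
    have eo : (Over.map g).obj (localOver (A := Γ(S, V)) (S.presheaf.stalk s)) = Over.mk (S.fromSpecStalk s) := by
      rw [← hV.fromSpecStalk_eq_fromSpecStalk hsV]
      rfl
    have h' : SchemeOver q ((Over.map g).obj (localOver (A := Γ(S, V)) (S.presheaf.stalk s))) := eo ▸ h
    obtain ⟨T, ⟨ρ⟩⟩ := isRepresentable_iff_exists_iso.1 h'
    exact isRepresentable_iff_exists_iso.2 ⟨T, ⟨ρ ≪≫ sq.isoPullback.symm⟩⟩
  obtain ⟨f, hfp, hf⟩ := exists_schemeOver_away p (S.presheaf.stalk s) F.property qF
    (isQuasiCompactMor_of_qc_qs F.property (IsAlgSpace.yon_obj _) qF hFc (isQuasiSeparatedSp_yon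
      (inferInstanceAs (QuasiSeparatedSpace (Spec Γ(S, V)))))) hFs hloc
  obtain ⟨W, ⟨μ⟩⟩ := isRepresentable_iff_exists_iso.1 ((isRepresentable_shr_iff g).2 hf)
  have sq := piece (awayOver f)
  let a := (shr g).map (pullback.fst qF ((yon _).map (toBaseOver (awayOver f)))) ≫ φ.hom ≫
    pullback.fst q ((yon S).map j₀)
  have hopen : IsOpenImmersion (toBaseOver ((Over.map g).obj (awayOver f))).left :=
    inferInstanceAs (IsOpenImmersion ((awayOver f).hom ≫ hV.fromSpec))
  have ha : RepWith @IsOpenImmersion a := repWith_of_isPullback sq.flip ((repWith_yon_map_iff _ _).2 hopen)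
  refine ⟨W, μ.hom ≫ a, MorphismProperty.RespectsIso.precomp _ _ _ ha, ?_⟩
  obtain ⟨z, hz⟩ : ∃ z : (awayOver f).left, (awayOver f).hom z = p := by
    have hr : p ∈ Set.range (PrimeSpectrum.comap (algebraMap Γ(S, V) (Localization.Away f))) := by
      rw [PrimeSpectrum.localization_away_comap_range (Localization.Away f) f]
      exact hfp
    exact hr
  have hs : Points.map q x = Points.ofScheme (Over.mk (𝟙 S)) s :=
    ((Points.schemeHomeo (Over.mk (𝟙 S))).apply_symm_apply (Points.map q x)).symm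
  obtain ⟨pt, hpt, -⟩ := exists_point_of_isPullback sq x (Points.ofScheme _ z) (by
    rw [hs]
    refine Eq.trans ?_ (Points.map_yon_map_apply (toBaseOver ((Over.map g).obj (awayOver f))) z).symm
    refine congrArg (Points.ofScheme (Over.mk (𝟙 S))) ?_
    change s = hV.fromSpec ((awayOver f).hom z)
    rw [hz]
    exact (hV.fromSpec_primeIdealOf y).symm)
  exact ⟨Points.map μ.inv pt, by rw [← Points.map_comp, Iso.inv_hom_id_assoc, hpt]⟩

theorem isRepresentable_of_local {X : Sp S} (hX : IsAlgSpace X) (q : X ⟶ (yon S).obj (Over.mk (𝟙 S)))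
    (hqc : IsQuasiCompactMor q) (hqs : IsQuasiSeparatedMor q)
    (h : ∀ x : Points X,
      SchemeOver q (Over.mk (S.fromSpecStalk ((Points.schemeHomeo (Over.mk (𝟙 S))).symm (Points.map q x))))) :
    X.obj.IsRepresentable := by
  obtain ⟨U, a, ha, has⟩ := hX.atlas
  choose W j hj hr using fun u : U.left =>
    exists_scheme_open_nbhd hX q hqc hqs (Points.ofPt a u) (h _)
  obtain ⟨T, μ, hμ⟩ := exists_iso_of_openCover W j hj fun T y t => by
    obtain ⟨u, hu⟩ := surjective_ofPt_of_repWith le_rfl has (Points.ofPt y t)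
    exact ⟨u, hu ▸ hr u⟩
  exact isRepresentable_iff_exists_iso.2 ⟨T, ⟨asIso μ⟩⟩

end Groth.Agent.H12AlgSp
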