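import Groth.Agent.H12AlgSp.LimitClosedIso

/-!
Monomorphisms into limits which are of finite type are monomorphisms into some stage.
-/

universe u

open CategoryTheory CategoryTheory.Limits AlgebraicGeometry Opposite
open AlgSp Groth.Agent.H13AlgSp

set_option backward.isDefEq.respectTransparency false

attribute [local instance] CategoryTheory.isConnected_of_hasTerminal

namespace Groth.Agent.H12AlgSp

variable {S : Scheme.{u}}

theorem repWith_pullbackMap_of_separated {X Y Z Z' : Sp S} {f : X ⟶ Z} {g : Y ⟶ Z} {f' : X ⟶ Z'} {g' : Y ⟶ Z'}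
    (i : Z ⟶ Z') (e₁ : f ≫ i = f') (e₂ : g ≫ i = g') (hi : IsSeparatedMor i) :
    RepWith @IsClosedImmersion (pullback.map f g f' g' (𝟙 X) (𝟙 Y) i
      (by rw [e₁, Category.id_comp]) (by rw [e₂, Category.id_comp])) := by
  subst e₁ e₂
  exact repWith_of_isPullback (pullback_map_diagonal_isPullback f g i) hi

variable {I : Type u} [SmallCategory I] [IsCofiltered I]

/-- A monomorphism into a limit, of finite type over a fixed base, is a monomorphism into some stage. -/
theorem eventually_mono [QuasiSeparatedSpace S] {D : I ⥤ Sp S} (hD : ∀ i, IsAlgSpace (D.obj i))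
    (hDa : ∀ (i j : I) (φ : i ⟶ j), IsAffineMor (D.map φ)) {c : Cone D} (hc : IsLimit c) (i₁ : I)
    (hqs : IsQuasiSeparatedSp (D.obj i₁)) {Y : Sp S} (hY : IsAlgSpace Y) (hYqc : IsQuasiCompactSp Y)
    (y : Y ⟶ c.pt) [Mono y] {B : Sp S} (hB : IsAlgSpace B) (t : D.obj i₁ ⟶ B)
    (hYB : LocP @LocallyOfFiniteType (y ≫ c.π.app i₁ ≫ t)) :
    ∃ i₀ : I, ∀ (i : I) (_ : i ⟶ i₀), Mono (y ≫ c.π.app i) := by
  let yj : ∀ j : Over i₁, Y ⟶ D.obj j.left := fun j => y ≫ c.π.app j.left
  have hw : ∀ {j k : Over i₁} (φ : j ⟶ k), yj j ≫ D.map φ.left = yj k := fun {j k} φ => by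
    simp only [yj, Category.assoc, c.w]
  let P : Over i₁ ⥤ Sp S :=
    { obj := fun j => pullback (yj j) (yj j)
      map := fun {j k} φ => pullback.map _ _ _ _ (𝟙 Y) (𝟙 Y) (D.map φ.left)
        (by rw [Category.id_comp, hw]) (by rw [Category.id_comp, hw])
      map_id := fun j => by apply pullback.hom_ext <;> simp
      map_comp := fun φ ψ => by apply pullback.hom_ext <;> simp }
  let cP : Cone P :=
    { pt := Y
      π := { app := fun j => pullback.diagonal (yj j)
             naturality := fun j k φ => by apply pullback.hom_ext <;> simp [P] } }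
  let j₀ : Over i₁ := Over.mk (𝟙 i₁)
  have hfst : ∀ (s : Cone P) (j : Over i₁), s.π.app j ≫ pullback.fst _ _ = s.π.app j₀ ≫ pullback.fst _ _ ∧
      s.π.app j ≫ pullback.snd _ _ = s.π.app j₀ ≫ pullback.snd _ _ := fun s j => by
    rw [← s.w (Over.homMk j.hom (Category.comp_id _) : j ⟶ j₀)]
    simp [P]
  have hc' : IsLimit (c.whisker (Over.forget i₁)) := (Functor.Initial.isLimitWhiskerEquiv (Over.forget i₁) c).symm hc
  have heq : ∀ s : Cone P, s.π.app j₀ ≫ pullback.fst _ _ = s.π.app j₀ ≫ pullback.snd _ _ := fun s => by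
    rw [← cancel_mono y]
    refine hc'.hom_ext fun j => ?_
    change (_ ≫ y) ≫ c.π.app j.left = (_ ≫ y) ≫ c.π.app j.left
    rw [← (hfst s j).1, ← (hfst s j).2, Category.assoc, Category.assoc, Category.assoc, Category.assoc]
    exact congrArg (s.π.app j ≫ ·) pullback.condition
  have hP : IsLimit cP :=
    { lift := fun s => s.π.app j₀ ≫ pullback.fst _ _
      fac := fun s j => by
        apply pullback.hom_ext
        · rw [(hfst s j).1]; simp [cP]
        · rw [(hfst s j).2, ← heq s]; simp [cP]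
      uniq := fun s m hm => by rw [← hm j₀]; simp [cP] }
  have hPalg : ∀ j, IsAlgSpace (P.obj j) := fun j => isAlgSpace_pullback (hD _).diag hY hY _ _
  have hPc : IsQuasiCompactSp (P.obj j₀) :=
    isQuasiCompactMor_of_qc_qs hY (hD _) (yj j₀) hYqc hqs hY hYqc (yj j₀) _ _ (IsPullback.of_hasPullback _ _)
  have hu : LocP @LocallyOfFiniteType (yj j₀ ≫ t) := by simpa [yj, j₀] using hYB
  have hl : LocP @LocallyOfFiniteType (yj j₀) :=
    locP_of_postcomp etLocal_lft (R := (⊤ : MorphismProperty Scheme.{u}))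
      (fun _ _ _ f g (hfg : LocallyOfFiniteType (f ≫ g)) _ => locallyOfFiniteType_of_comp f g) hB
      (g := t) hu (locP_top t)
  let T : P.obj j₀ ⟶ pullback (yj j₀ ≫ t) (yj j₀ ≫ t) :=
    pullback.map _ _ _ _ (𝟙 Y) (𝟙 Y) t (by rw [Category.id_comp]) (by rw [Category.id_comp])
  have hT : LocP @LocallyOfFiniteType T := by
    refine locP_of_postcomp etLocal_lft (R := (⊤ : MorphismProperty Scheme.{u}))
      (fun _ _ _ f g (hfg : LocallyOfFiniteType (f ≫ g)) _ => locallyOfFiniteType_of_comp f g) hY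
      (g := pullback.fst _ _) ?_ (locP_top _)
    rw [show T ≫ pullback.fst _ _ = pullback.fst (yj j₀) (yj j₀) from (pullback.lift_fst _ _ _).trans (Category.comp_id _)]
    exact locP_of_isPullback etLocal_lft (IsPullback.of_hasPullback (yj j₀) (yj j₀)).flip hY (hD _) hY hl
  have hdiag : LocP @LocallyOfFinitePresentation (cP.π.app j₀ ≫ T) := by
    rw [show cP.π.app j₀ ≫ T = pullback.diagonal (yj j₀ ≫ t) from by apply pullback.hom_ext <;> simp [cP, T]]
    exact locP_lfp_diagonal hY hB hu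
  obtain ⟨j₁, hj₁⟩ := eventually_isIso_π hPalg (fun j k φ => repWith_pullbackMap_of_separated (D.map φ.left) (hw φ)
      (hw φ) (isSeparatedMor_of_repWith (repWith_le (P := @IsAffineHom) (Q := @IsSeparated)
        (fun _ _ k (_ : IsAffineHom k) => inferInstance) (isAffineMor_iff.1 (hDa _ _ φ.left)))))
    hP hPc (isAlgSpace_pullback hB.diag hY hY _ _) T hT hdiag
  refine ⟨j₁.left, fun i φ => ?_⟩
  let l : Over i₁ := Over.mk (φ ≫ j₁.hom)
  exact (pullback.isIso_diagonal_iff (yj l)).1 (hj₁ l (Over.homMk φ rfl))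

end Groth.Agent.H12AlgSp
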