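import Groth.Prelude.Def_AlgSpRep
import Mathlib.CategoryTheory.Filtered.Final
import Mathlib.CategoryTheory.Limits.Types.Filtered

/-!
Relatively limit preserving transformations: the element-wise criterion.
-/

universe u

open CategoryTheory CategoryTheory.Limits AlgebraicGeometry Opposite
open AlgSp

namespace Groth.Agent.H12AlgSp

variable {S : Scheme.{u}}

/-- Sections descend and equalities descend along affine limits, relative to a transformation. -/
def RelLP {F G : PSp S} (a : F ⟶ G) : Prop :=
  ∀ ⦃I : Type u⦄ [SmallCategory I] [IsCofiltered I] (D : I ⥤ Over S) (c : Cone D),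
    IsLimit ((Over.forget S).mapCone c) → (∀ i, IsAffine (D.obj i).left) → IsAffine c.pt.left →
    (∀ (i : I) (x : F.obj (op c.pt)) (g : G.obj (op (D.obj i))), a.app _ x = G.map (c.π.app i).op g →
      ∃ (j : I) (f : j ⟶ i) (y : F.obj (op (D.obj j))),
        a.app _ y = G.map (D.map f).op g ∧ F.map (c.π.app j).op y = x) ∧
    ∀ (i : I) (y y' : F.obj (op (D.obj i))), a.app _ y = a.app _ y' →
      F.map (c.π.app i).op y = F.map (c.π.app i).op y' →
      ∃ (j : I) (f : j ⟶ i), F.map (D.map f).op y = F.map (D.map f).op y'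

section Slice

variable {I : Type u} [SmallCategory I] (D : I ⥤ Over S) (c : Cone D) (i : I)

/-- The system of schemes over one member of a system. -/
def sliceDiag : Over i ⥤ Over (D.obj i).left where
  obj j := Over.mk (D.map j.hom).left
  map {j k} f := Over.homMk (D.map f.left).left (by
    change (D.map f.left).left ≫ (D.map k.hom).left = (D.map j.hom).left
    rw [← Over.comp_left, ← Functor.map_comp, Over.w f])
  map_id j := by ext; simp
  map_comp f g := by ext; simp

/-- The cone over the system of schemes over one member of a system. -/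
def sliceCone : Cone (sliceDiag D i) where
  pt := Over.mk (c.π.app i).left
  π :=
    { app := fun j => Over.homMk (c.π.app j.left).left (by
        change (c.π.app j.left).left ≫ (D.map j.hom).left = (c.π.app i).left
        rw [← Over.comp_left, c.w])
      naturality := fun j k f => by
        ext
        change 𝟙 _ ≫ (c.π.app k.left).left = (c.π.app j.left).left ≫ (D.map f.left).left
        rw [Category.id_comp, ← Over.comp_left, c.w] }

/-- The slice cone is limiting. -/
noncomputable def isLimitSliceCone [IsCofiltered I] (hc : IsLimit ((Over.forget S).mapCone c)) :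
    IsLimit ((Over.forget (D.obj i).left).mapCone (sliceCone D c i)) :=
  ((Functor.Initial.isLimitWhiskerEquiv (Over.forget i) ((Over.forget S).mapCone c)).symm hc)

/-- The underlying scheme over `S` of a member of the slice system. -/
def sliceIso (j : Over i) : D.obj j.left ≅ (Over.map (D.obj i).hom).obj ((sliceDiag D i).obj j) :=
  Over.isoMk (Iso.refl _) ((Category.id_comp _).trans (Over.w (D.map j.hom)))

/-- The underlying scheme over `S` of the vertex of the slice cone. -/
def slicePtIso : c.pt ≅ (Over.map (D.obj i).hom).obj (sliceCone D c i).pt :=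
  Over.isoMk (Iso.refl _) ((Category.id_comp _).trans (Over.w (c.π.app i)))

theorem sliceIso_overHom (j : Over i) :
    (sliceIso D i j).hom ≫ overHom (D.obj i) ((sliceDiag D i).obj j) = D.map j.hom := by
  ext; simp [sliceIso, sliceDiag]

theorem slicePtIso_overHom :
    (slicePtIso D c i).hom ≫ overHom (D.obj i) (sliceCone D c i).pt = c.π.app i := by
  ext; simp [slicePtIso, sliceCone]

end Slice

theorem map_eq_of_iso {F : PSp S} {X Y Z : Over S} (e : X ≅ Y) (f : Y ⟶ Z) (g : X ⟶ Z) (h : e.hom ≫ f = g)
    (x : F.obj (op Z)) : F.map e.hom.op (F.map f.op x) = F.map g.op x := by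
  rw [← Functor.map_comp_apply, ← op_comp, h]

theorem map_injective_of_iso {F : PSp S} {X Y : Over S} (e : X ≅ Y) {x y : F.obj (op Y)}
    (h : F.map e.hom.op x = F.map e.hom.op y) : x = y := by
  have := congrArg (F.map e.inv.op) h
  simpa [← Functor.map_comp_apply, ← op_comp] using this

theorem RelLP.of_isRelLimitPreserving {F G : PSp S} {a : F ⟶ G} (ha : IsRelLimitPreserving a) : RelLP a := by
  intro I _ _ D c hc hD hT
  refine ⟨fun i x g hx => ?_, fun i y y' hy h => ?_⟩
  · obtain ⟨hcol⟩ := ha (D.obj i) g (sliceDiag D i) (sliceCone D c i) (isLimitSliceCone D c i hc)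
      (fun j => hD j.left) hT
    let x' : F.obj (op ((Over.map (D.obj i).hom).obj (sliceCone D c i).pt)) := F.map (slicePtIso D c i).inv.op x
    have hx' : a.app _ x' = G.map (overHom (D.obj i) (sliceCone D c i).pt).op g := by
      apply map_injective_of_iso (slicePtIso D c i)
      rw [← NatTrans.naturality_apply, ← Functor.map_comp_apply, ← op_comp, Iso.hom_inv_id,
        map_eq_of_iso _ _ _ (slicePtIso_overHom D c i)]
      simpa using hx
    obtain ⟨j, z, hz⟩ := Types.jointly_surjective_of_isColimit hcol ⟨x', hx'⟩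
    refine ⟨j.unop.left, j.unop.hom, F.map (sliceIso D i j.unop).hom.op z.1, ?_, ?_⟩
    · have hz2 : a.app (op ((Over.map (D.obj i).hom).obj ((sliceDiag D i).obj j.unop))) z.1 =
          G.map (overHom (D.obj i) ((sliceDiag D i).obj j.unop)).op g := z.2
      rw [NatTrans.naturality_apply, hz2, map_eq_of_iso _ _ _ (sliceIso_overHom D i j.unop)]
    · have e : F.map ((Over.map (D.obj i).hom).map ((sliceCone D c i).π.app j.unop)).op z.1 = x' :=
        congrArg Subtype.val hz
      rw [← show F.map (slicePtIso D c i).hom.op x' = x by simp [x', ← Functor.map_comp_apply, ← op_comp], ← e,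
        ← Functor.map_comp_apply, ← Functor.map_comp_apply, ← op_comp, ← op_comp]
      congr 2
  · obtain ⟨hcol⟩ := ha (D.obj i) (a.app _ y) (sliceDiag D i) (sliceCone D c i) (isLimitSliceCone D c i hc)
      (fun j => hD j.left) hT
    let j₀ : Over i := Over.mk (𝟙 i)
    let e := sliceIso D i j₀
    let lift : ∀ w, a.app _ w = a.app _ y → (fiberFun a (D.obj i) (a.app _ y)).obj (op ((sliceDiag D i).obj j₀)) :=
      fun w hw => ⟨F.map (overHom (D.obj i) ((sliceDiag D i).obj j₀)).op w, by
        rw [NatTrans.naturality_apply, hw]⟩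
    obtain ⟨j, f, hf⟩ := (Types.FilteredColimit.isColimit_eq_iff' hcol (i := op j₀) (lift y rfl) (lift y' hy.symm)).1 (by
      apply Subtype.ext
      change F.map _ (F.map _ y) = F.map _ (F.map _ y')
      rw [← Functor.map_comp_apply, ← Functor.map_comp_apply, ← op_comp]
      apply map_injective_of_iso (slicePtIso D c i)
      rw [← Functor.map_comp_apply, ← Functor.map_comp_apply, ← op_comp]
      have : (slicePtIso D c i).hom ≫ (Over.map (D.obj i).hom).map ((sliceCone D c i).π.app j₀) ≫
          overHom (D.obj i) ((sliceDiag D i).obj j₀) = c.π.app i := by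
        ext; simp [slicePtIso, sliceCone, sliceDiag, j₀]
      exact (congrArg (fun k => F.map k.op y) this).trans (h.trans (congrArg (fun k => F.map k.op y') this).symm))
    refine ⟨j.unop.left, j.unop.hom, ?_⟩
    have e' : F.map ((Over.map (D.obj i).hom).map ((sliceDiag D i).map f.unop)).op
          (F.map (overHom (D.obj i) ((sliceDiag D i).obj j₀)).op y) =
        F.map ((Over.map (D.obj i).hom).map ((sliceDiag D i).map f.unop)).op
          (F.map (overHom (D.obj i) ((sliceDiag D i).obj j₀)).op y') := congrArg Subtype.val hf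
    have := congrArg (F.map (sliceIso D i j.unop).hom.op) e'
    rw [← Functor.map_comp_apply, ← Functor.map_comp_apply, ← Functor.map_comp_apply,
      ← Functor.map_comp_apply, ← op_comp, ← op_comp] at this
    have hk : (sliceIso D i j.unop).hom ≫ (Over.map (D.obj i).hom).map ((sliceDiag D i).map f.unop) ≫
        overHom (D.obj i) ((sliceDiag D i).obj j₀) = D.map j.unop.hom := by
      have hw : f.unop.left = j.unop.hom := by simpa [j₀] using Over.w f.unop
      ext
      simp [sliceIso, sliceDiag, j₀, hw]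
    rw [← hk]
    simpa using this

theorem RelLP.isRelLimitPreserving {F G : PSp S} {a : F ⟶ G} (ha : RelLP a) : IsRelLimitPreserving a := by
  intro T y I _ _ D c hc hD hT
  obtain ⟨hsurj, hinj⟩ := ha (D ⋙ Over.map T.hom) ((Over.map T.hom).mapCone c) hc hD hT
  refine ⟨Types.FilteredColimit.isColimitOf' _ _ (fun x => ?_) fun i z z' hz => ?_⟩
  · obtain ⟨i⟩ := (IsCofiltered.nonempty : Nonempty I)
    have hi : a.app _ x.1 = G.map ((Over.map T.hom).map (c.π.app i)).op (G.map (overHom T (D.obj i)).op y) := by
      rw [x.2, ← Functor.map_comp_apply, ← op_comp, map_comp_overHom]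
      rfl
    obtain ⟨j, f, w, hw₁, hw₂⟩ := hsurj i x.1 _ hi
    refine ⟨op j, ⟨w, hw₁.trans ?_⟩, Subtype.ext hw₂.symm⟩
    rw [← Functor.map_comp_apply, ← op_comp]
    exact congrArg (fun k => G.map k.op y) (map_comp_overHom T (D.map f))
  · obtain ⟨j, f, hf⟩ := hinj i.unop z.1 z'.1 (z.2.trans z'.2.symm) (congrArg Subtype.val hz)
    exact ⟨op j, f.op, Subtype.ext hf⟩

theorem isRelLimitPreserving_iff {F G : PSp S} {a : F ⟶ G} : IsRelLimitPreserving a ↔ RelLP a :=
  ⟨RelLP.of_isRelLimitPreserving, RelLP.isRelLimitPreserving⟩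

theorem RelLP.comp {F G H : PSp S} {a : F ⟶ G} {b : G ⟶ H} (ha : RelLP a) (hb : RelLP b) : RelLP (a ≫ b) := by
  intro I _ _ D c hc hD hT
  obtain ⟨sa, ia⟩ := ha D c hc hD hT
  obtain ⟨sb, ib⟩ := hb D c hc hD hT
  refine ⟨fun i x g hx => ?_, fun i y y' hy h => ?_⟩
  · obtain ⟨j, f, g', hg₁, hg₂⟩ := sb i (a.app _ x) g (by simpa using hx)
    obtain ⟨k, e, z, hz₁, hz₂⟩ := sa j x g' hg₂.symm
    refine ⟨k, e ≫ f, z, ?_, hz₂⟩
    rw [NatTrans.comp_app_apply, hz₁, NatTrans.naturality_apply, hg₁, ← Functor.map_comp_apply, ← op_comp,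
      ← Functor.map_comp]
  · obtain ⟨j, f, hf⟩ := ib i (a.app _ y) (a.app _ y') (by simpa using hy)
      (by rw [← NatTrans.naturality_apply, ← NatTrans.naturality_apply, h])
    obtain ⟨k, e, he⟩ := ia j (F.map (D.map f).op y) (F.map (D.map f).op y')
      (by rw [NatTrans.naturality_apply, NatTrans.naturality_apply, hf]) (by
        rw [← Functor.map_comp_apply, ← Functor.map_comp_apply, ← op_comp, c.w, h])
    refine ⟨k, e ≫ f, ?_⟩
    simpa using he

theorem RelLP.of_comp {F G H : PSp S} {a : F ⟶ G} {b : G ⟶ H} (hab : RelLP (a ≫ b)) (hb : RelLP b) : RelLP a := by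
  intro I _ _ D c hc hD hT
  obtain ⟨sab, iab⟩ := hab D c hc hD hT
  obtain ⟨-, ib⟩ := hb D c hc hD hT
  refine ⟨fun i x g hx => ?_, fun i y y' hy h => iab i y y' (by simp [hy]) h⟩
  obtain ⟨j, f, z, hz₁, hz₂⟩ := sab i x (b.app _ g) (by
    rw [NatTrans.comp_app_apply, hx, NatTrans.naturality_apply])
  obtain ⟨k, e, he⟩ := ib j (a.app _ z) (G.map (D.map f).op g)
    (by rw [NatTrans.naturality_apply]; simpa using hz₁) (by
      rw [← NatTrans.naturality_apply, hz₂]
      erw [hx]
      rw [← Functor.map_comp_apply, ← op_comp, c.w])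
  refine ⟨k, e ≫ f, F.map (D.map e).op z, ?_, ?_⟩
  · rw [NatTrans.naturality_apply, he, ← Functor.map_comp_apply, ← op_comp, ← Functor.map_comp]
  · rw [← Functor.map_comp_apply, ← op_comp, c.w, hz₂]

theorem RelLP.of_isPullback {F G H P : PSp S} {a : F ⟶ G} {b : H ⟶ G} {fst : P ⟶ F} {snd : P ⟶ H}
    (sq : IsPullback fst snd a b) (hb : RelLP b) : RelLP fst := by
  intro I _ _ D c hc hD hT
  obtain ⟨sb, ib⟩ := hb D c hc hD hT
  have hpt : ∀ (T : Over S), IsPullback (fst.app (op T)) (snd.app (op T)) (a.app (op T)) (b.app (op T)) :=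
    fun T => sq.map ((evaluation _ _).obj (op T))
  have ext_P : ∀ (T : Over S) (p p' : P.obj (op T)), fst.app _ p = fst.app _ p' → snd.app _ p = snd.app _ p' → p = p' :=
    fun T p p' h1 h2 => Types.ext_of_isPullback (hpt T) h1 h2
  refine ⟨fun i x g hx => ?_, fun i y y' hy h => ?_⟩
  · have e := congr($(sq.w).app (op c.pt) x)
    simp only [NatTrans.comp_app_apply] at e
    obtain ⟨j, f, z, hz₁, hz₂⟩ := sb i (snd.app _ x) (a.app _ g) (by
      rw [← e, hx, NatTrans.naturality_apply])
    obtain ⟨p, hp₁, hp₂⟩ := Types.exists_of_isPullback (hpt (D.obj j)) (F.map (D.map f).op g) z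
      (by rw [NatTrans.naturality_apply, hz₁])
    refine ⟨j, f, p, hp₁, ext_P _ _ _ ?_ ?_⟩
    · rw [NatTrans.naturality_apply, hp₁, ← Functor.map_comp_apply, ← op_comp, c.w]
      exact hx.symm
    · rw [NatTrans.naturality_apply, hp₂]
      exact hz₂
  · have e := congr($(sq.w).app (op (D.obj i)) y)
    have e' := congr($(sq.w).app (op (D.obj i)) y')
    simp only [NatTrans.comp_app_apply] at e e'
    obtain ⟨j, f, hf⟩ := ib i (snd.app _ y) (snd.app _ y') (by rw [← e, ← e', hy])
      (by rw [← NatTrans.naturality_apply, ← NatTrans.naturality_apply, h])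
    exact ⟨j, f, ext_P _ _ _ (by rw [NatTrans.naturality_apply, NatTrans.naturality_apply, hy])
      (by rw [NatTrans.naturality_apply, NatTrans.naturality_apply, hf])⟩

end Groth.Agent.H12AlgSp
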