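import Groth.Agent.H12AlgSp.LimitCover
import Groth.Agent.H12AlgSp.LimitPres
import Mathlib.CategoryTheory.Sites.LocallySurjective

/-!
Descending sections and equalities of sections along affine limits is local on a stage, and passes
along locally bijective maps of presheaves to sheaves.
-/

universe u

open CategoryTheory CategoryTheory.Limits AlgebraicGeometry Opposite
open AlgSp Groth.Agent.H13AlgSp

set_option backward.isDefEq.respectTransparency false

attribute [local instance] IsCofiltered.isConnected CategoryTheory.isConnected_of_hasTerminal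

namespace Groth.Agent.H12AlgSp

variable {S : Scheme.{u}}

section Props

variable (X : PSp S) {I : Type u} [SmallCategory I] (D : I ⥤ Over S)

/-- Two sections at a stage agree at a later stage. -/
def EvEq {i : I} (y y' : X.obj (op (D.obj i))) : Prop :=
  ∃ (j : I) (f : j ⟶ i), X.map (D.map f).op y = X.map (D.map f).op y'

variable {X D} {Y : PSp S} (a : X ⟶ Y)

/-- A section over the limit lifts, relatively to a transformation, to a later stage. -/
def Lifts (c : Cone D) (x : X.obj (op c.pt)) {i : I} (y : Y.obj (op (D.obj i))) : Prop :=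
  ∃ (j : I) (f : j ⟶ i) (z : X.obj (op (D.obj j))),
    a.app _ z = Y.map (D.map f).op y ∧ X.map (c.π.app j).op z = x

end Props

/-- Relative descent of equalities. -/
def RelInj {F G : PSp S} (a : F ⟶ G) : Prop :=
  ∀ ⦃I : Type u⦄ [SmallCategory I] [IsCofiltered I] (D : I ⥤ Over S) (c : Cone D),
    IsLimit ((Over.forget S).mapCone c) → (∀ i, IsAffine (D.obj i).left) → IsAffine c.pt.left →
    ∀ (i : I) (y y' : F.obj (op (D.obj i))), a.app _ y = a.app _ y' →
      F.map (c.π.app i).op y = F.map (c.π.app i).op y' → EvEq F D y y'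

/-- Relative descent of sections. -/
def RelSurj {F G : PSp S} (a : F ⟶ G) : Prop :=
  ∀ ⦃I : Type u⦄ [SmallCategory I] [IsCofiltered I] (D : I ⥤ Over S) (c : Cone D),
    IsLimit ((Over.forget S).mapCone c) → (∀ i, IsAffine (D.obj i).left) → IsAffine c.pt.left →
    ∀ (i : I) (x : F.obj (op c.pt)) (g : G.obj (op (D.obj i))), a.app _ x = G.map (c.π.app i).op g →
      Lifts a c x g

theorem relLP_iff {F G : PSp S} {a : F ⟶ G} : RelLP a ↔ RelSurj a ∧ RelInj a :=
  ⟨fun h => ⟨fun _ _ _ D c hc hD hT => (h D c hc hD hT).1, fun _ _ _ D c hc hD hT => (h D c hc hD hT).2⟩,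
    fun h _ _ _ D c hc hD hT => ⟨h.1 D c hc hD hT, h.2 D c hc hD hT⟩⟩

section Piece

variable {I : Type u} [SmallCategory I] (D : I ⥤ Over S) {i : I} {W : Over S} (w : W ⟶ D.obj i)

/-- The system over a piece of a stage. -/
noncomputable def pieceDiag : Over i ⥤ Over S where
  obj j := pullback w (D.map j.hom)
  map {j k} φ := pullback.map _ _ _ _ (𝟙 _) (D.map φ.left) (𝟙 _) (by simp)
    (by rw [Category.comp_id, ← D.map_comp, Over.w φ])
  map_id j := by apply pullback.hom_ext <;> simp
  map_comp φ ψ := by apply pullback.hom_ext <;> simp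

/-- The map of the system to the piece. -/
noncomputable def pFst (j : Over i) : (pieceDiag D w).obj j ⟶ W := pullback.fst w (D.map j.hom)

/-- The map of the system to the stages. -/
noncomputable def pSnd (j : Over i) : (pieceDiag D w).obj j ⟶ D.obj j.left := pullback.snd w (D.map j.hom)

/-- The map of the system to the stage of the piece. -/
noncomputable def pTop : (pieceDiag D w).obj (Over.mk (𝟙 i)) ⟶ D.obj i := pSnd D w (Over.mk (𝟙 i))

theorem isPullback_piece (j : Over i) : IsPullback (pFst D w j) (pSnd D w j) w (D.map j.hom) :=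
  IsPullback.of_hasPullback _ _

variable {D w} in
theorem piece_ext {Z : Over S} {j : Over i} {a b : Z ⟶ (pieceDiag D w).obj j}
    (h₁ : a ≫ pFst D w j = b ≫ pFst D w j) (h₂ : a ≫ pSnd D w j = b ≫ pSnd D w j) : a = b :=
  pullback.hom_ext h₁ h₂

@[reassoc]
theorem map_pFst {j k : Over i} (φ : j ⟶ k) : (pieceDiag D w).map φ ≫ pFst D w k = pFst D w j :=
  (pullback.lift_fst _ _ _).trans (Category.comp_id _)

@[reassoc]
theorem map_pSnd {j k : Over i} (φ : j ⟶ k) :
    (pieceDiag D w).map φ ≫ pSnd D w k = pSnd D w j ≫ D.map φ.left :=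
  pullback.lift_snd _ _ _

@[reassoc]
theorem map_pTop {j : Over i} (φ : j ⟶ Over.mk (𝟙 i)) :
    (pieceDiag D w).map φ ≫ pTop D w = pSnd D w j ≫ D.map j.hom := by
  refine (map_pSnd D w φ).trans ?_
  have h : φ.left = j.hom := by simpa using Over.w φ
  rw [h]

variable {D} (c : Cone D)

/-- The piece of the limit. -/
noncomputable def piecePt : Over S := pullback w (c.π.app i)

/-- The map of the piece of the limit to the piece. -/
noncomputable def ptFst : piecePt w c ⟶ W := pullback.fst w (c.π.app i)

/-- The map of the piece of the limit to the limit. -/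
noncomputable def ptSnd : piecePt w c ⟶ c.pt := pullback.snd w (c.π.app i)

theorem isPullback_piecePt : IsPullback (ptFst w c) (ptSnd w c) w (c.π.app i) :=
  IsPullback.of_hasPullback _ _

/-- The projections of the piece of the limit. -/
noncomputable def ptπ (j : Over i) : piecePt w c ⟶ (pieceDiag D w).obj j :=
  (isPullback_piece D w j).lift (ptFst w c) (ptSnd w c ≫ c.π.app j.left)
    (by rw [Category.assoc, c.w]; exact (isPullback_piecePt w c).w)

@[reassoc (attr := simp)]
theorem ptπ_fst (j : Over i) : ptπ w c j ≫ pFst D w j = ptFst w c := (isPullback_piece D w j).lift_fst _ _ _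

@[reassoc (attr := simp)]
theorem ptπ_snd (j : Over i) : ptπ w c j ≫ pSnd D w j = ptSnd w c ≫ c.π.app j.left :=
  (isPullback_piece D w j).lift_snd _ _ _

@[reassoc]
theorem ptπ_map {j k : Over i} (φ : j ⟶ k) : ptπ w c j ≫ (pieceDiag D w).map φ = ptπ w c k := by
  apply piece_ext
  · rw [Category.assoc, map_pFst, ptπ_fst, ptπ_fst]
  · rw [Category.assoc, map_pSnd, ptπ_snd_assoc, ptπ_snd, c.w]

/-- The piece of the limit as a cone. -/
noncomputable abbrev pieceCone : Cone (pieceDiag D w) where
  pt := piecePt w c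
  π :=
    { app := ptπ w c
      naturality := fun j k φ => (Category.id_comp _).trans (ptπ_map w c φ).symm }

theorem nonempty_isLimit_pieceCone [IsCofiltered I] (hc : IsLimit ((Over.forget S).mapCone c)) :
    Nonempty (IsLimit ((Over.forget S).mapCone (pieceCone w c))) := by
  have h₁ : IsLimit c := isLimitOfReflects (Over.forget S) hc
  have hπ : ∀ j, IsPullback (ptπ w c j) (ptSnd w c) (pSnd D w j) (c.π.app j.left) := fun j => by
    refine IsPullback.of_right (h₁₂ := pFst D w j) (v₁₃ := w) (h₂₂ := D.map j.hom) ?_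
      (ptπ_snd w c j) (isPullback_piece D w j)
    rw [ptπ_fst, c.w]
    exact isPullback_piecePt w c
  exact ⟨isLimitOfPreserves (Over.forget S)
    (isLimitOfIsPullbackOfIsConnected ({ app := pSnd D w, naturality := fun _ _ φ => map_pSnd D w φ } :
        pieceDiag D w ⟶ Over.forget i ⋙ D) (pieceCone w c) (c.whisker (Over.forget i))
      { hom := ptSnd w c, w := fun j => (ptπ_snd w c j).symm }
      hπ ((Functor.Initial.isLimitWhiskerEquiv (Over.forget i) c).symm h₁))⟩

variable [IsAffine W.left] (hD : ∀ j, IsAffine (D.obj j).left)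

include hD

theorem isAffine_pieceDiag (j : Over i) : IsAffine ((pieceDiag D w).obj j).left :=
  have := hD i
  have : IsAffine ((Over.forget i ⋙ D).obj j).left := hD j.left
  isAffine_pullback_left w (D.map j.hom)

theorem isAffine_pieceCone_pt (hT : IsAffine c.pt.left) : IsAffine (pieceCone w c).pt.left :=
  have := hD i
  have : IsAffine (((Functor.const I).obj c.pt).obj i).left := hT
  isAffine_pullback_left w (c.π.app i)

end Piece

section PieceMap

variable {I : Type u} [SmallCategory I] (D : I ⥤ Over S) {i : I} {W W' : Over S} {w : W ⟶ D.obj i}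
  {w' : W' ⟶ D.obj i} (φ : W' ⟶ W) (h : φ ≫ w = w') (c : Cone D)

/-- The map between systems over pieces. -/
noncomputable def pieceMap (j : Over i) : (pieceDiag D w').obj j ⟶ (pieceDiag D w).obj j :=
  (isPullback_piece D w j).lift (pFst D w' j ≫ φ) (pSnd D w' j)
    (by rw [Category.assoc, h]; exact (isPullback_piece D w' j).w)

/-- The map between pieces of the limit. -/
noncomputable def pieceMapPt : piecePt w' c ⟶ piecePt w c :=
  (isPullback_piecePt w c).lift (ptFst w' c ≫ φ) (ptSnd w' c)
    (by rw [Category.assoc, h]; exact (isPullback_piecePt w' c).w)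

@[reassoc (attr := simp)]
theorem pieceMap_fst (j : Over i) : pieceMap D φ h j ≫ pFst D w j = pFst D w' j ≫ φ :=
  (isPullback_piece D w j).lift_fst _ _ _

@[reassoc (attr := simp)]
theorem pieceMap_snd (j : Over i) : pieceMap D φ h j ≫ pSnd D w j = pSnd D w' j :=
  (isPullback_piece D w j).lift_snd _ _ _

@[reassoc (attr := simp)]
theorem pieceMapPt_fst : pieceMapPt D φ h c ≫ ptFst w c = ptFst w' c ≫ φ :=
  (isPullback_piecePt w c).lift_fst _ _ _

@[reassoc (attr := simp)]
theorem pieceMapPt_snd : pieceMapPt D φ h c ≫ ptSnd w c = ptSnd w' c :=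
  (isPullback_piecePt w c).lift_snd _ _ _

theorem pieceMap_naturality {j k : Over i} (f : j ⟶ k) :
    (pieceDiag D w').map f ≫ pieceMap D φ h k = pieceMap D φ h j ≫ (pieceDiag D w).map f := by
  apply piece_ext
  · rw [Category.assoc, Category.assoc, pieceMap_fst, map_pFst, pieceMap_fst, map_pFst_assoc]
  · rw [Category.assoc, Category.assoc, pieceMap_snd, map_pSnd, map_pSnd, pieceMap_snd_assoc]

theorem pieceMap_π (j : Over i) : ptπ w' c j ≫ pieceMap D φ h j = pieceMapPt D φ h c ≫ ptπ w c j := by
  apply piece_ext <;> simp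

end PieceMap

namespace AffPiece

variable {I : Type u} [SmallCategory I] {D : I ⥤ Over S} (hD : ∀ j, IsAffine (D.obj j).left) {i : I}

/-- A piece at a later stage. -/
noncomputable abbrev atStage (Q : AffPiece (D.obj i)) (j : Over i) : AffPiece (D.obj j.left) where
  W := (pieceDiag D Q.w).obj j
  w := pSnd D Q.w j
  aff := isAffine_pieceDiag Q.w hD j
  flat := MorphismProperty.of_isPullback (isPullback_pullback_left Q.w (D.map j.hom)) Q.flat
  lfp := MorphismProperty.of_isPullback (isPullback_pullback_left Q.w (D.map j.hom)) Q.lfp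

/-- A piece in the limit. -/
noncomputable abbrev atLimit (c : Cone D) (hT : IsAffine c.pt.left) (Q : AffPiece (D.obj i)) : AffPiece c.pt where
  W := piecePt Q.w c
  w := ptSnd Q.w c
  aff := isAffine_pieceCone_pt Q.w c hD hT
  flat := MorphismProperty.of_isPullback (isPullback_pullback_left Q.w (c.π.app i)) Q.flat
  lfp := MorphismProperty.of_isPullback (isPullback_pullback_left Q.w (c.π.app i)) Q.lfp

theorem Covers.atStage {κ : Type u} {Q : κ → AffPiece (D.obj i)} (hQ : Covers Q) (j : Over i) :
    Covers fun k => (Q k).atStage hD j :=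
  have := hD i
  have := hD j.left
  hQ.bc (D.map j.hom)

theorem Covers.atLimit {κ : Type u} {Q : κ → AffPiece (D.obj i)} (hQ : Covers Q) (c : Cone D)
    (hT : IsAffine c.pt.left) : Covers fun k => (Q k).atLimit hD c hT :=
  have := hD i
  have : IsAffine (((Functor.const I).obj c.pt).obj i).left := hT
  hQ.bc (c.π.app i)

end AffPiece

section Local

variable {X Y : PSp S} (hX : Presheaf.IsSheaf (J S) X)

include hX

theorem ext_of_affPieces {B : Over S} {κ : Type u} {Q : κ → AffPiece B} (hQ : AffPiece.Covers Q)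
    {y y' : X.obj (op B)} (h : ∀ k, X.map (Q k).w.op y = X.map (Q k).w.op y') : y = y' := by
  refine (((isSheaf_iff_isSheaf_of_type _ _).1 hX) _ hQ.mem_J).isSeparatedFor.ext ?_
  intro Z g hg
  obtain ⟨_, l, _, ⟨k⟩, rfl⟩ := hg
  rw [op_comp, Functor.map_comp_apply, Functor.map_comp_apply, h k]

theorem exists_glue_affPieces {B : Over S} {κ : Type u} {Q : κ → AffPiece B} (hQ : AffPiece.Covers Q)
    (x : ∀ k, X.obj (op (Q k).W))
    (h : ∀ k l, X.map (pullback.fst (Q k).w (Q l).w).op (x k) = X.map (pullback.snd (Q k).w (Q l).w).op (x l)) :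
    ∃ z : X.obj (op B), ∀ k, X.map (Q k).w.op z = x k := by
  have hsh := Presieve.isSheafFor_iff_generate _ |>.2
    (((isSheaf_iff_isSheaf_of_type _ _).1 hX) _ hQ.mem_J)
  obtain ⟨z, hz, -⟩ := (Presieve.isSheafFor_arrows_iff _ _).1 hsh x fun k l Z a b hab => by
    rw [← pullback.lift_fst a b hab, op_comp, Functor.map_comp_apply, h k l, ← Functor.map_comp_apply,
      ← op_comp, pullback.lift_snd]
  exact ⟨z, hz⟩

variable {I : Type u} [SmallCategory I] [IsCofiltered I] {D : I ⥤ Over S} {c : Cone D}
  (hc : IsLimit ((Over.forget S).mapCone c)) (hD : ∀ i, IsAffine (D.obj i).left)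

include hD

/-- Agreeing at a later stage is local on a stage. -/
theorem evEq_of_pieces {i : I} {κ : Type u} [Finite κ] {Q : κ → AffPiece (D.obj i)} (hQ : AffPiece.Covers Q)
    {y y' : X.obj (op (D.obj i))}
    (h : ∀ k, EvEq X (pieceDiag D (Q k).w) (X.map (pTop D (Q k).w).op y) (X.map (pTop D (Q k).w).op y')) :
    EvEq X D y y' := by
  choose j f hf using h
  classical
  cases nonempty_fintype κ
  obtain ⟨m, hm⟩ := IsCofiltered.inf_objs_exists (Finset.univ.image j)
  let e : ∀ k, m ⟶ j k := fun k => (hm (Finset.mem_image_of_mem j (Finset.mem_univ k))).some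
  refine ⟨m.left, m.hom, ext_of_affPieces hX (hQ.atStage hD m) fun k => ?_⟩
  have h' := congrArg (X.map ((pieceDiag D (Q k).w).map (e k)).op) (hf k)
  simp only [← Functor.map_comp_apply, ← op_comp] at h' ⊢
  simp only [← Functor.map_comp_assoc, map_pTop, Category.assoc, map_pSnd_assoc, ← Functor.map_comp, Over.w] at h'
  exact h'

variable {a : X ⟶ Y} (hY : Presheaf.IsSheaf (J S) Y) (ha : RelInj a) (hT : IsAffine c.pt.left)

include hY ha hT hc

/-- Lifting to a later stage is local on a stage. -/
theorem lifts_of_pieces {i : I} {κ : Type u} [Finite κ] {Q : κ → AffPiece (D.obj i)} (hQ : AffPiece.Covers Q)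
    {x : X.obj (op c.pt)} {y : Y.obj (op (D.obj i))}
    (h : ∀ k, Lifts a (pieceCone (Q k).w c) (X.map (ptSnd (Q k).w c).op x) (Y.map (pTop D (Q k).w).op y)) :
    Lifts a c x y := by
  choose j f z hz₁ hz₂ using h
  classical
  cases nonempty_fintype κ
  obtain ⟨m, hm⟩ := IsCofiltered.inf_objs_exists (Finset.univ.image j)
  let e : ∀ k, m ⟶ j k := fun k => (hm (Finset.mem_image_of_mem j (Finset.mem_univ k))).some
  obtain ⟨u, hu₁, hu₂⟩ : ∃ u : ∀ k, X.obj (op ((pieceDiag D (Q k).w).obj m)),
      (∀ k, a.app _ (u k) = Y.map (pSnd D (Q k).w m ≫ D.map m.hom).op y) ∧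
      ∀ k, X.map (ptπ (Q k).w c m).op (u k) = X.map (ptSnd (Q k).w c).op x := by
    refine ⟨fun k => X.map ((pieceDiag D (Q k).w).map (e k)).op (z k), fun k => ?_, fun k => ?_⟩
    · rw [NatTrans.naturality_apply, hz₁]
      simp only [← Functor.map_comp_apply, ← op_comp]
      simp only [map_pTop, map_pTop_assoc, Category.assoc, map_pSnd_assoc, ← Functor.map_comp, Over.w]
    · rw [← Functor.map_comp_apply, ← op_comp, ptπ_map]
      exact hz₂ k
  have hov : ∀ kl : κ × κ, EvEq X (pieceDiag D (pullback.fst (Q kl.1).w (Q kl.2).w ≫ (Q kl.1).w)) (i := m)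
      (X.map (pieceMap D (pullback.fst (Q kl.1).w (Q kl.2).w) rfl m).op (u kl.1))
      (X.map (pieceMap D (pullback.snd (Q kl.1).w (Q kl.2).w) pullback.condition.symm m).op (u kl.2)) := fun kl => by
    have := hD i
    have : IsAffine (pullback (Q kl.1).w (Q kl.2).w).left := isAffine_pullback_left _ _
    refine ha _ _ (nonempty_isLimit_pieceCone (pullback.fst (Q kl.1).w (Q kl.2).w ≫ (Q kl.1).w) c hc).some
      (isAffine_pieceDiag _ hD) (isAffine_pieceCone_pt _ c hD hT) m _ _ ?_ ?_
    · rw [NatTrans.naturality_apply, NatTrans.naturality_apply, hu₁, hu₁]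
      simp only [← Functor.map_comp_apply, ← op_comp, pieceMap_snd_assoc]
    · simp only [← Functor.map_comp_apply, ← op_comp, pieceMap_π]
      simp only [op_comp, Functor.map_comp_apply, hu₂]
      simp only [← Functor.map_comp_apply, ← op_comp, pieceMapPt_snd]
  choose n g hg using hov
  obtain ⟨p, p', e', he'⟩ := IsCofiltered.wideCospan g
  obtain ⟨v, hv⟩ : ∃ v : ∀ k, X.obj (op ((pieceDiag D (Q k).w).obj p)),
      ∀ k, v k = X.map ((pieceDiag D (Q k).w).map p').op (u k) := ⟨_, fun _ => rfl⟩
  obtain ⟨z₀, hz₀⟩ := exists_glue_affPieces hX (hQ.atStage hD p) v fun k l => by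
    let q₁ : pullback (pSnd D (Q k).w p) (pSnd D (Q l).w p) ⟶ (pieceDiag D (Q k).w).obj p := pullback.fst _ _
    let q₂ : pullback (pSnd D (Q k).w p) (pSnd D (Q l).w p) ⟶ (pieceDiag D (Q l).w).obj p := pullback.snd _ _
    have hqq : q₁ ≫ pSnd D (Q k).w p = q₂ ≫ pSnd D (Q l).w p := pullback.condition
    have hq : (q₁ ≫ pFst D (Q k).w p) ≫ (Q k).w = (q₂ ≫ pFst D (Q l).w p) ≫ (Q l).w := by
      rw [Category.assoc, (isPullback_piece D (Q k).w p).w, reassoc_of% hqq, ← (isPullback_piece D (Q l).w p).w,
        Category.assoc]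
    let r := (isPullback_piece D (pullback.fst (Q k).w (Q l).w ≫ (Q k).w) p).lift
      (pullback.lift (q₁ ≫ pFst D (Q k).w p) (q₂ ≫ pFst D (Q l).w p) hq) (q₁ ≫ pSnd D (Q k).w p)
      (by rw [pullback.lift_fst_assoc, Category.assoc, Category.assoc, (isPullback_piece D (Q k).w p).w])
    have hr₁ : r ≫ pieceMap D (pullback.fst (Q k).w (Q l).w) rfl p = q₁ := by
      apply piece_ext <;> simp [r]
    have hr₂ : r ≫ pieceMap D (pullback.snd (Q k).w (Q l).w) pullback.condition.symm p = q₂ := by
      apply piece_ext <;> simp [r, hqq]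
    change X.map q₁.op (v k) = X.map q₂.op (v l)
    have h' := congrArg (X.map ((pieceDiag D _).map (e' (k, l))).op) (hg (k, l))
    simp only [← Functor.map_comp_apply, ← op_comp, ← Functor.map_comp_assoc, he'] at h'
    simp only [pieceMap_naturality] at h'
    have h'' := congrArg (X.map r.op) h'
    simp only [← Functor.map_comp_apply, ← op_comp, reassoc_of% hr₁, reassoc_of% hr₂] at h''
    rw [hv, hv, ← Functor.map_comp_apply, ← Functor.map_comp_apply, ← op_comp, ← op_comp]
    exact h''
  refine ⟨p.left, p.hom, z₀, ext_of_affPieces hY (hQ.atStage hD p) fun k => ?_,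
    ext_of_affPieces hX (hQ.atLimit hD c hT) fun k => ?_⟩
  · rw [← NatTrans.naturality_apply, hz₀, hv, NatTrans.naturality_apply, hu₁]
    simp only [← Functor.map_comp_apply, ← op_comp]
    refine congrArg (fun q => Y.map (Quiver.Hom.op q) y) ?_
    rw [map_pSnd_assoc, ← Functor.map_comp, Over.w p']
  · rw [← hu₂ k, ← ptπ_map (Q k).w c p', op_comp, Functor.map_comp_apply, ← hv, ← hz₀ k]
    erw [← Functor.map_comp_apply, ← Functor.map_comp_apply, ← op_comp, ← op_comp]
    exact congrArg (fun q => X.map (Quiver.Hom.op q) z₀) (ptπ_snd (Q k).w c p).symm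

end Local

end Groth.Agent.H12AlgSp
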