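import Groth.Agent.H12AlgSp.LimitPres
import Groth.Agent.H13AlgSp.Cover
import Mathlib.CategoryTheory.Limits.Constructions.Over.Connected

/-!
Limit preservation is local for the fppf topology.
-/

universe u

open CategoryTheory CategoryTheory.Limits AlgebraicGeometry Opposite
open AlgSp Groth.Agent.H13AlgSp

set_option backward.isDefEq.respectTransparency false

namespace Groth.Agent.H12AlgSp

attribute [local instance] IsCofiltered.isConnected

variable {S : Scheme.{u}}

section Elements

variable {F : PSp S} (hF : IsLimitPreserving F) {I : Type u} [SmallCategory I] [IsCofiltered I]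
  {D : I ⥤ Over S} {c : Cone D} (hc : IsLimit ((Over.forget S).mapCone c))
  (hD : ∀ i, IsAffine (D.obj i).left) (hT : IsAffine c.pt.left)

include hF hc hD hT

/-- Sections descend to a stage. -/
theorem lp_exists (x : F.obj (op c.pt)) : ∃ (i : I) (y : F.obj (op (D.obj i))), F.map (c.π.app i).op y = x := by
  obtain ⟨h⟩ := hF D c hc hD hT
  obtain ⟨i, y, hy⟩ := Types.jointly_surjective_of_isColimit h x
  exact ⟨i.unop, y, hy⟩

/-- Equalities of sections descend to a stage. -/
theorem lp_eq {i : I} (y y' : F.obj (op (D.obj i))) (h : F.map (c.π.app i).op y = F.map (c.π.app i).op y') :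
    ∃ (j : I) (f : j ⟶ i), F.map (D.map f).op y = F.map (D.map f).op y' := by
  obtain ⟨hcol⟩ := hF D c hc hD hT
  obtain ⟨j, f, hf⟩ := (Types.FilteredColimit.isColimit_eq_iff' hcol (i := op i) y y').1 h
  exact ⟨j.unop, f.unop, hf⟩

end Elements

theorem exists_common {I : Type u} [SmallCategory I] [IsCofiltered I] {κ : Type*} [Finite κ] (j : κ → I) :
    ∃ m : I, ∀ k, Nonempty (m ⟶ j k) := by
  classical
  cases nonempty_fintype κ
  obtain ⟨m, hm⟩ := IsCofiltered.inf_objs_exists (Finset.univ.image j)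
  exact ⟨m, fun k => hm (Finset.mem_image_of_mem j (Finset.mem_univ k))⟩

theorem exists_common_over {I : Type u} [SmallCategory I] [IsCofiltered I] {κ : Type*} [Finite κ] {i : I}
    (j : κ → I) (f : ∀ k, j k ⟶ i) : ∃ (m : I) (g : m ⟶ i) (e : ∀ k, m ⟶ j k), ∀ k, e k ≫ f k = g := by
  obtain ⟨m, hm⟩ := exists_common (fun k => Over.mk (f k) : κ → Over i)
  exact ⟨m.left, m.hom, fun k => (hm k).some.left, fun k => Over.w (hm k).some⟩

variable (F : PSp S) (B : Over S)

/-- A member of a covering of the base over which the presheaf is limit preserving. -/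
structure LPPiece where
  /-- The scheme. -/
  W : Scheme.{u}
  /-- The map to the base. -/
  w : W ⟶ B.left
  [aff : IsAffine W]
  [flat : Flat w]
  [lfp : LocallyOfFinitePresentation w]
  /-- The scheme over which the presheaf is limit preserving. -/
  V : Over S
  /-- The map to that scheme. -/
  u : W ⟶ V.left
  hu : u ≫ V.hom = w ≫ B.hom
  lp : IsLimitPreserving (S := V.left) ((Over.map V.hom).op ⋙ F)

attribute [instance] LPPiece.aff LPPiece.flat LPPiece.lfp

variable {F B}

namespace LPPiece

/-- The piece over a scheme over the base, as a scheme over `S`. -/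
noncomputable abbrev fn (P : LPPiece F B) : Over B.left ⥤ Over S :=
  (Over.pullback P.w ⋙ Over.map P.u) ⋙ Over.map P.V.hom

/-- The projection of a piece. -/
noncomputable abbrev proj (P : LPPiece F B) (T : Over B.left) : P.fn.obj T ⟶ (Over.map B.hom).obj T :=
  Over.homMk (pullback.fst T.hom P.w) (by
    change pullback.fst T.hom P.w ≫ T.hom ≫ B.hom = (pullback.snd T.hom P.w ≫ P.u) ≫ P.V.hom
    rw [Category.assoc, P.hu, ← Category.assoc, pullback.condition, Category.assoc])

theorem map_proj (P : LPPiece F B) {T T' : Over B.left} (f : T ⟶ T') :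
    P.fn.map f ≫ P.proj T' = P.proj T ≫ (Over.map B.hom).map f := by
  ext; simp [proj, fn]

/-- The comparison of two pieces. -/
noncomputable abbrev map {P Q : LPPiece F B} (φ : P.W ⟶ Q.W) (h : φ ≫ Q.w = P.w) (T : Over B.left) :
    P.fn.obj T ⟶ Q.fn.obj T :=
  Over.homMk (pullback.lift (pullback.fst T.hom P.w) (pullback.snd T.hom P.w ≫ φ)
      (by rw [Category.assoc, h, pullback.condition])) (by
    change pullback.lift _ _ _ ≫ (pullback.snd T.hom Q.w ≫ Q.u) ≫ Q.V.hom = (pullback.snd T.hom P.w ≫ P.u) ≫ P.V.hom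
    simp only [Category.assoc]
    rw [pullback.lift_snd_assoc, Q.hu, P.hu, Category.assoc, ← h, Category.assoc])

theorem map_naturality {P Q : LPPiece F B} (φ : P.W ⟶ Q.W) (h : φ ≫ Q.w = P.w) {T T' : Over B.left} (f : T ⟶ T') :
    P.fn.map f ≫ map φ h T' = map φ h T ≫ Q.fn.map f := by
  ext; apply pullback.hom_ext <;> simp [map, fn]

/-- The overlap of two pieces. -/
noncomputable def inter [IsAffine B.left] (P Q : LPPiece F B) : LPPiece F B where
  W := pullback P.w Q.w
  w := pullback.fst P.w Q.w ≫ P.w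
  V := P.V
  u := pullback.fst P.w Q.w ≫ P.u
  hu := by rw [Category.assoc, P.hu, Category.assoc]
  lp := P.lp

/-- The first projection of the overlap. -/
noncomputable abbrev interFst [IsAffine B.left] (P Q : LPPiece F B) (T : Over B.left) :
    (P.inter Q).fn.obj T ⟶ P.fn.obj T :=
  map (P := P.inter Q) (Q := P) (pullback.fst P.w Q.w) rfl T

/-- The second projection of the overlap. -/
noncomputable abbrev interSnd [IsAffine B.left] (P Q : LPPiece F B) (T : Over B.left) :
    (P.inter Q).fn.obj T ⟶ Q.fn.obj T :=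
  map (P := P.inter Q) (Q := Q) (pullback.snd P.w Q.w) pullback.condition.symm T

theorem map_interFst [IsAffine B.left] (P Q : LPPiece F B) {T T' : Over B.left} (f : T ⟶ T') :
    (P.inter Q).fn.map f ≫ interFst P Q T' = interFst P Q T ≫ P.fn.map f :=
  map_naturality (P := P.inter Q) _ _ f

theorem map_interSnd [IsAffine B.left] (P Q : LPPiece F B) {T T' : Over B.left} (f : T ⟶ T') :
    (P.inter Q).fn.map f ≫ interSnd P Q T' = interSnd P Q T ≫ Q.fn.map f :=
  map_naturality (P := P.inter Q) _ _ f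

theorem interFst_proj [IsAffine B.left] (P Q : LPPiece F B) (T : Over B.left) :
    interFst P Q T ≫ P.proj T = interSnd P Q T ≫ Q.proj T := by
  ext
  change pullback.lift _ _ _ ≫ pullback.fst _ _ = pullback.lift _ _ _ ≫ pullback.fst _ _
  rw [pullback.lift_fst, pullback.lift_fst]

theorem exists_lift_inter [IsAffine B.left] {P Q : LPPiece F B} {T : Over B.left} {Z : Over S}
    (a : Z ⟶ P.fn.obj T) (b : Z ⟶ Q.fn.obj T) (h : a ≫ P.proj T = b ≫ Q.proj T) :
    ∃ z : Z ⟶ (P.inter Q).fn.obj T, z ≫ interFst P Q T = a ∧ z ≫ interSnd P Q T = b := by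
  have h₁ : (a.left ≫ pullback.fst T.hom P.w : Z.left ⟶ T.left) = b.left ≫ pullback.fst T.hom Q.w :=
    congrArg CommaMorphism.left h
  let z₂ : Z.left ⟶ pullback P.w Q.w :=
    pullback.lift (a.left ≫ pullback.snd T.hom P.w) (b.left ≫ pullback.snd T.hom Q.w) (by
      rw [Category.assoc, Category.assoc, ← pullback.condition, ← pullback.condition, ← Category.assoc, h₁,
        Category.assoc])
  let z₁ : Z.left ⟶ pullback T.hom (P.inter Q).w :=
    pullback.lift (a.left ≫ pullback.fst T.hom P.w) z₂ (by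
      change _ = z₂ ≫ pullback.fst P.w Q.w ≫ P.w
      rw [pullback.lift_fst_assoc, Category.assoc, Category.assoc, pullback.condition])
  refine ⟨Over.homMk z₁ ?_, ?_, ?_⟩
  · change z₁ ≫ (pullback.snd T.hom (P.inter Q).w ≫ pullback.fst P.w Q.w ≫ P.u) ≫ P.V.hom = Z.hom
    rw [Category.assoc, pullback.lift_snd_assoc, Category.assoc, pullback.lift_fst_assoc, ← Over.w a]
    simp [fn]
  · ext
    change z₁ ≫ _ = a.left
    apply pullback.hom_ext <;> simp [z₁, z₂, map, inter]
  · ext
    change z₁ ≫ _ = b.left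
    apply pullback.hom_ext <;> simp [z₁, z₂, map, inter, h₁]

theorem cover_mem {κ : Type u} (P : κ → LPPiece F B) (hs : ∀ b : B.left, ∃ k, b ∈ Set.range (P k).w)
    (T : Over B.left) :
    Sieve.ofArrows (fun k => (P k).fn.obj T) (fun k => (P k).proj T) ∈ J S ((Over.map B.hom).obj T) := by
  refine ofArrows_mem_J _ (fun k => ?_) (fun k => ?_) fun t => ?_
  · exact inferInstanceAs (Flat (pullback.fst T.hom (P k).w))
  · exact inferInstanceAs (LocallyOfFinitePresentation (pullback.fst T.hom (P k).w))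
  · obtain ⟨k, x, hx⟩ := hs (T.hom t)
    obtain ⟨z, hz, -⟩ := Scheme.Pullback.exists_preimage_pullback (f := T.hom) (g := (P k).w) t x hx.symm
    exact ⟨k, z, hz⟩

variable {J' : Type u} [SmallCategory J'] [IsCofiltered J'] {D : J' ⥤ Over B.left} {c : Cone D}
  (hc : IsLimit ((Over.forget B.left).mapCone c)) (hD : ∀ i, IsAffine (D.obj i).left) (hT : IsAffine c.pt.left)
  [IsAffine B.left] (P : LPPiece F B)

include hc

/-- The limit of the pieces. -/
theorem nonempty_isLimit_piece :
    Nonempty (IsLimit ((Over.forget P.V.left).mapCone ((Over.pullback P.w ⋙ Over.map P.u).mapCone c))) := by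
  have h₁ : IsLimit c := isLimitOfReflects (Over.forget B.left) hc
  have : PreservesLimitsOfShape J' (Over.pullback P.w) :=
    (Over.mapPullbackAdj P.w).rightAdjoint_preservesLimits.preservesLimitsOfShape
  exact ⟨isLimitOfPreserves (Over.forget P.W) (isLimitOfPreserves (Over.pullback P.w) h₁)⟩

include hD hT

theorem piece_exists (x : F.obj (op (P.fn.obj c.pt))) :
    ∃ (j : J') (y : F.obj (op (P.fn.obj (D.obj j)))), F.map (P.fn.map (c.π.app j)).op y = x :=
  lp_exists P.lp (D := D ⋙ Over.pullback P.w ⋙ Over.map P.u)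
    (c := (Over.pullback P.w ⋙ Over.map P.u).mapCone c) (nonempty_isLimit_piece hc P).some
    (fun j => have := hD j; inferInstanceAs (IsAffine (pullback (D.obj j).hom P.w)))
    (inferInstanceAs (IsAffine (pullback c.pt.hom P.w))) x

theorem piece_eq {j : J'} (y y' : F.obj (op (P.fn.obj (D.obj j))))
    (h : F.map (P.fn.map (c.π.app j)).op y = F.map (P.fn.map (c.π.app j)).op y') :
    ∃ (k : J') (f : k ⟶ j), F.map (P.fn.map (D.map f)).op y = F.map (P.fn.map (D.map f)).op y' :=
  lp_eq P.lp (D := D ⋙ Over.pullback P.w ⋙ Over.map P.u)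
    (c := (Over.pullback P.w ⋙ Over.map P.u).mapCone c) (nonempty_isLimit_piece hc P).some
    (fun j => have := hD j; inferInstanceAs (IsAffine (pullback (D.obj j).hom P.w)))
    (inferInstanceAs (IsAffine (pullback c.pt.hom P.w))) y y' h

variable {κ : Type u} [Finite κ] (Q : κ → LPPiece F B) (hs : ∀ b : B.left, ∃ k, b ∈ Set.range (Q k).w)
  (hF : Presheaf.IsSheaf (J S) F)

omit hc hD hT in
theorem ext_of_pieces (Q : κ → LPPiece F B) (hs : ∀ b : B.left, ∃ k, b ∈ Set.range (Q k).w)
    (hF : Presheaf.IsSheaf (J S) F) {T : Over B.left} {y y' : F.obj (op ((Over.map B.hom).obj T))}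
    (h : ∀ k, F.map ((Q k).proj T).op y = F.map ((Q k).proj T).op y') : y = y' := by
  refine (((isSheaf_iff_isSheaf_of_type _ _).1 hF) _ (cover_mem Q hs T)).isSeparatedFor.ext ?_
  intro Z g hg
  obtain ⟨_, l, _, ⟨k⟩, rfl⟩ := hg
  rw [op_comp, Functor.map_comp_apply, Functor.map_comp_apply, h k]

include hs hF

theorem descend_eq {j : J'} (y y' : F.obj (op ((Over.map B.hom).obj (D.obj j))))
    (h : F.map ((Over.map B.hom).map (c.π.app j)).op y = F.map ((Over.map B.hom).map (c.π.app j)).op y') :
    ∃ (k : J') (f : k ⟶ j), F.map ((Over.map B.hom).map (D.map f)).op y =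
      F.map ((Over.map B.hom).map (D.map f)).op y' := by
  have h₁ : ∀ k, ∃ (m : J') (f : m ⟶ j), F.map ((Q k).fn.map (D.map f)).op (F.map ((Q k).proj _).op y) =
      F.map ((Q k).fn.map (D.map f)).op (F.map ((Q k).proj _).op y') := fun k =>
    piece_eq hc hD hT (Q k) _ _ (by
      rw [← Functor.map_comp_apply, ← Functor.map_comp_apply, ← op_comp, map_proj, op_comp,
        Functor.map_comp_apply, Functor.map_comp_apply, h])
  choose m f hf using h₁
  obtain ⟨n, g, e, he⟩ := exists_common_over m f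
  refine ⟨n, g, ext_of_pieces Q hs hF fun k => ?_⟩
  have h₂ := congrArg (F.map ((Q k).fn.map (D.map (e k))).op) (hf k)
  rw [← Functor.map_comp_apply, ← Functor.map_comp_apply, ← Functor.map_comp_apply, ← Functor.map_comp_apply,
    ← op_comp, ← op_comp, ← Functor.map_comp, ← Functor.map_comp, he, map_proj] at h₂
  rw [← Functor.map_comp_apply, ← Functor.map_comp_apply, ← op_comp]
  exact h₂

theorem descend_exists (x : F.obj (op ((Over.map B.hom).obj c.pt))) :
    ∃ (j : J') (y : F.obj (op ((Over.map B.hom).obj (D.obj j)))),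
      F.map ((Over.map B.hom).map (c.π.app j)).op y = x := by
  have h₁ : ∀ k, ∃ (j : J') (y : F.obj (op ((Q k).fn.obj (D.obj j)))),
      F.map ((Q k).fn.map (c.π.app j)).op y = F.map ((Q k).proj _).op x := fun k => piece_exists hc hD hT (Q k) _
  choose j₁ y₁ hy₁ using h₁
  obtain ⟨j₂, hj₂⟩ := exists_common j₁
  let e₁ := fun k => (hj₂ k).some
  obtain ⟨y₂, hy₂⟩ : ∃ y₂ : ∀ k, F.obj (op ((Q k).fn.obj (D.obj j₂))),
      ∀ k, F.map ((Q k).fn.map (c.π.app j₂)).op (y₂ k) = F.map ((Q k).proj _).op x := by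
    refine ⟨fun k => F.map ((Q k).fn.map (D.map (e₁ k))).op (y₁ k), fun k => ?_⟩
    rw [← Functor.map_comp_apply, ← op_comp, ← Functor.map_comp, c.w]
    exact hy₁ k
  have h₂ : ∀ kl : κ × κ, ∃ (m : J') (f : m ⟶ j₂),
      F.map (((Q kl.1).inter (Q kl.2)).fn.map (D.map f)).op (F.map (interFst (Q kl.1) (Q kl.2) _).op (y₂ kl.1)) =
      F.map (((Q kl.1).inter (Q kl.2)).fn.map (D.map f)).op (F.map (interSnd (Q kl.1) (Q kl.2) _).op (y₂ kl.2)) :=
    fun kl => piece_eq hc hD hT _ _ _ (by
      rw [← Functor.map_comp_apply, ← Functor.map_comp_apply, ← op_comp, ← op_comp, map_interFst, map_interSnd,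
        op_comp, op_comp, Functor.map_comp_apply, Functor.map_comp_apply, hy₂, hy₂]
      erw [← Functor.map_comp_apply, ← Functor.map_comp_apply, ← op_comp, ← op_comp, interFst_proj]
      rfl)
  choose m f hf using h₂
  obtain ⟨n, g, e, he⟩ := exists_common_over m f
  obtain ⟨y₃, hy₃⟩ : ∃ y₃ : ∀ k, F.obj (op ((Q k).fn.obj (D.obj n))),
      ∀ k, y₃ k = F.map ((Q k).fn.map (D.map g)).op (y₂ k) := ⟨_, fun _ => rfl⟩
  have h₃ : ∀ k l, F.map (interFst (Q k) (Q l) (D.obj n)).op (y₃ k) =
      F.map (interSnd (Q k) (Q l) (D.obj n)).op (y₃ l) := fun k l => by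
    have hkl := hf (k, l)
    dsimp only at hkl
    have h' := congrArg (F.map (((Q k).inter (Q l)).fn.map (D.map (e (k, l)))).op) hkl
    rw [← Functor.map_comp_apply, ← Functor.map_comp_apply, ← Functor.map_comp_apply, ← Functor.map_comp_apply,
      ← op_comp, ← op_comp, ← Functor.map_comp, ← Functor.map_comp, he, map_interFst, ← op_comp,
      map_interSnd] at h'
    rw [hy₃, hy₃, ← Functor.map_comp_apply, ← Functor.map_comp_apply, ← op_comp, ← op_comp]
    exact h'
  have hsh := Presieve.isSheafFor_iff_generate _ |>.2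
    (((isSheaf_iff_isSheaf_of_type _ _).1 hF) _ (cover_mem Q hs (D.obj n)))
  obtain ⟨z, hz, -⟩ := (Presieve.isSheafFor_arrows_iff _ _).1 hsh y₃ (fun k l Z a b hab => by
    obtain ⟨i, hi₁, hi₂⟩ := exists_lift_inter a b hab
    rw [← hi₁, ← hi₂, op_comp, op_comp, Functor.map_comp_apply, Functor.map_comp_apply, h₃])
  refine ⟨n, z, ext_of_pieces Q hs hF fun k => ?_⟩
  have e₂ := congrArg (F.map ((Q k).fn.map (c.π.app n)).op) (hz k)
  rw [← Functor.map_comp_apply, ← op_comp, map_proj, op_comp, Functor.map_comp_apply, hy₃,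
    ← Functor.map_comp_apply, ← op_comp] at e₂
  erw [← Functor.map_comp_apply, ← op_comp]
  refine e₂.trans (Eq.trans ?_ (hy₂ k))
  rw [← Functor.map_comp_apply, ← op_comp]
  refine congrArg (fun q => F.map (Quiver.Hom.op q) (y₂ k)) ?_
  rw [← c.w g]
  exact ((Q k).fn.map_comp _ _).symm

end LPPiece

/-- Over an affine scheme, a covering by schemes over which a presheaf is limit preserving has a finite
refinement by pieces. -/
theorem exists_lpPieces [IsAffine B.left] {ι : Type u} (U : ι → Over S)
    (hfl : ∀ j, Flat (U j).hom) (hfp : ∀ j, LocallyOfFinitePresentation (U j).hom)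
    (hsurj : ∀ s : ↥S, ∃ (j : ι) (x : ↥(U j).left), (U j).hom.base x = s)
    (hloc : ∀ j, IsLimitPreserving (S := (U j).left) ((Over.map (U j).hom).op ⋙ F)) :
    ∃ (κ : Type u) (_ : Finite κ) (Q : κ → LPPiece F B), ∀ b : B.left, ∃ k, b ∈ Set.range (Q k).w := by
  have h : ∀ b : B.left, ∃ Q : LPPiece F B, b ∈ Set.range Q.w := fun b => by
    obtain ⟨j, x, hx⟩ := hsurj (B.hom b)
    have := hfl j
    have := hfp j
    obtain ⟨z, hz, -⟩ := Scheme.Pullback.exists_preimage_pullback (f := B.hom) (g := (U j).hom) b x hx.symm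
    obtain ⟨W, hW, hzW, -⟩ := TopologicalSpace.Opens.isBasis_iff_nbhd.mp
      (pullback B.hom (U j).hom).isBasis_affineOpens (show z ∈ (⊤ : (pullback B.hom (U j).hom).Opens) from trivial)
    replace hW : IsAffineOpen W := hW
    haveI : IsAffine (Scheme.Opens.toScheme W) := hW
    exact ⟨{ W := Scheme.Opens.toScheme W
             w := Scheme.Opens.ι W ≫ pullback.fst B.hom (U j).hom
             V := U j
             u := Scheme.Opens.ι W ≫ pullback.snd B.hom (U j).hom
             hu := by rw [Category.assoc, Category.assoc, pullback.condition]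
             lp := hloc j }, ⟨z, hzW⟩, hz⟩
  choose Q hQ using h
  obtain ⟨s, hs⟩ := isCompact_univ.elim_finite_subcover (fun b => Set.range (Q b).w)
    (fun b => (Scheme.Hom.isOpenMap (Q b).w).isOpen_range) (fun b _ => Set.mem_iUnion.2 ⟨b, hQ b⟩)
  refine ⟨↥s, inferInstance, fun k => Q k, fun b => ?_⟩
  obtain ⟨k, hk, hb⟩ := Set.mem_iUnion₂.1 (hs (Set.mem_univ b))
  exact ⟨⟨k, hk⟩, hb⟩

/-- An fppf sheaf which is limit preserving over the members of an fppf covering is limit preserving. -/
theorem isLimitPreserving_of_fppfLocally (hF : Presheaf.IsSheaf (J S) F) {ι : Type u} (U : ι → Over S)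
    (hfl : ∀ j, Flat (U j).hom) (hfp : ∀ j, LocallyOfFinitePresentation (U j).hom)
    (hsurj : ∀ s : ↥S, ∃ (j : ι) (x : ↥(U j).left), (U j).hom.base x = s)
    (hloc : ∀ j, IsLimitPreserving (S := (U j).left) ((Over.map (U j).hom).op ⋙ F)) :
    IsLimitPreserving F := by
  intro I _ _ D c hc hD hT
  have key : ∀ i : I, (∀ x : F.obj (op c.pt), ∃ (j : I) (y : F.obj (op (D.obj j))), F.map (c.π.app j).op y = x) ∧
      ∀ y y' : F.obj (op (D.obj i)), F.map (c.π.app i).op y = F.map (c.π.app i).op y' →
        ∃ (j : I) (f : j ⟶ i), F.map (D.map f).op y = F.map (D.map f).op y' := fun i => by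
    have := hD i
    obtain ⟨κ, _, Q, hQ⟩ := exists_lpPieces (F := F) (B := D.obj i) U hfl hfp hsurj hloc
    refine ⟨fun x => ?_, fun y y' h => ?_⟩
    · obtain ⟨j, y, hy⟩ := LPPiece.descend_exists (B := D.obj i) (D := sliceDiag D i) (c := sliceCone D c i)
        (isLimitSliceCone D c i hc) (fun j => hD j.left) hT Q hQ hF (F.map (slicePtIso D c i).inv.op x)
      refine ⟨j.left, F.map (sliceIso D i j).hom.op y, ?_⟩
      have h' := congrArg (F.map (slicePtIso D c i).hom.op) hy
      rw [← Functor.map_comp_apply (f := (slicePtIso D c i).inv.op), ← op_comp, Iso.hom_inv_id, op_id,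
        Functor.map_id_apply] at h'
      erw [← Functor.map_comp_apply, ← op_comp] at h'
      rw [← Functor.map_comp_apply, ← op_comp]
      refine Eq.trans (congrArg (fun q => F.map (Quiver.Hom.op q) y) ?_) h'
      ext
      simp [sliceIso, slicePtIso, sliceCone]
    · let j₀ : Over i := Over.mk (𝟙 i)
      have e : (slicePtIso D c i).hom ≫ (Over.map (D.obj i).hom).map ((sliceCone D c i).π.app j₀) ≫
          (sliceIso D i j₀).inv = c.π.app i := by
        ext
        simp [slicePtIso, sliceIso, sliceCone, j₀]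
        exact Category.comp_id _
      obtain ⟨j, f, hf⟩ := LPPiece.descend_eq (B := D.obj i) (D := sliceDiag D i) (c := sliceCone D c i)
        (isLimitSliceCone D c i hc) (fun j => hD j.left) hT Q hQ hF (j := j₀)
        (F.map (sliceIso D i j₀).inv.op y) (F.map (sliceIso D i j₀).inv.op y') (by
          apply map_injective_of_iso (slicePtIso D c i)
          rw [← e] at h
          simp at h ⊢
          exact h)
      refine ⟨j.left, f.left, ?_⟩
      have h' := congrArg (F.map (sliceIso D i j).hom.op) hf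
      rw [← Functor.map_comp_apply, ← Functor.map_comp_apply, ← Functor.map_comp_apply, ← Functor.map_comp_apply,
        ← op_comp, ← op_comp] at h'
      have e' : (sliceIso D i j).hom ≫ (Over.map (D.obj i).hom).map ((sliceDiag D i).map f) ≫
          (sliceIso D i j₀).inv = D.map f.left := by
        ext; simp [sliceIso, sliceDiag, j₀]
      rw [← e']
      simp at h' ⊢
      exact h'
  refine ⟨Types.FilteredColimit.isColimitOf' _ _ (fun x => ?_) fun i y y' hy => ?_⟩
  · obtain ⟨i⟩ := (IsCofiltered.nonempty : Nonempty I)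
    obtain ⟨j, y, hy⟩ := (key i).1 x
    exact ⟨op j, y, hy.symm⟩
  · obtain ⟨j, f, hf⟩ := (key i.unop).2 y y' hy
    exact ⟨op j, f.op, hf⟩

end Groth.Agent.H12AlgSp
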