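import Groth.Agent.H12AlgSp.LimitPres
import Mathlib.CategoryTheory.Limits.Types.Pullbacks

/-!
Relatively limit preserving transformations via cartesian colimit squares.
-/

universe u

open CategoryTheory CategoryTheory.Limits AlgebraicGeometry Opposite
open AlgSp

namespace Groth.Agent.H12AlgSp

variable {S : Scheme.{u}}

theorem relLP_iff_isPullback {F G : PSp S} (a : F ⟶ G) :
    RelLP a ↔ ∀ ⦃I : Type u⦄ [SmallCategory I] [IsCofiltered I] (D : I ⥤ Over S) (c : Cone D),
        IsLimit ((Over.forget S).mapCone c) → (∀ i, IsAffine (D.obj i).left) → IsAffine c.pt.left →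
          IsPullback (colimMap (Functor.whiskerLeft D.op a)) (colimit.desc (D.op ⋙ F) (F.mapCocone c.op))
            (colimit.desc (D.op ⋙ G) (G.mapCocone c.op)) (a.app (Opposite.op c.pt)) := by
  have key : ∀ {I : Type u} [SmallCategory I] [IsCofiltered I] (D : I ⥤ Over S) (c : Cone D),
      (IsPullback (colimMap (Functor.whiskerLeft D.op a)) (colimit.desc (D.op ⋙ F) (F.mapCocone c.op))
          (colimit.desc (D.op ⋙ G) (G.mapCocone c.op)) (a.app (Opposite.op c.pt))) ↔
        ((∀ (i : I) (x : F.obj (op c.pt)) (g : G.obj (op (D.obj i))), a.app _ x = G.map (c.π.app i).op g →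
          ∃ (j : I) (f : j ⟶ i) (y : F.obj (op (D.obj j))),
            a.app _ y = G.map (D.map f).op g ∧ F.map (c.π.app j).op y = x) ∧
        ∀ (i : I) (y y' : F.obj (op (D.obj i))), a.app _ y = a.app _ y' →
          F.map (c.π.app i).op y = F.map (c.π.app i).op y' →
          ∃ (j : I) (f : j ⟶ i), F.map (D.map f).op y = F.map (D.map f).op y') := by
    intro I _ _ D c
    let ιF := fun i : I => colimit.ι (D.op ⋙ F) (op i)
    let ιG := fun i : I => colimit.ι (D.op ⋙ G) (op i)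
    have dF : ∀ (i : I) (y : F.obj (op (D.obj i))), colimit.desc (D.op ⋙ F) (F.mapCocone c.op) (ιF i y) = F.map (c.π.app i).op y :=
      fun i y => congr($(colimit.ι_desc (F.mapCocone c.op) (op i)) y)
    have dG : ∀ (i : I) (y : G.obj (op (D.obj i))), colimit.desc (D.op ⋙ G) (G.mapCocone c.op) (ιG i y) = G.map (c.π.app i).op y :=
      fun i y => congr($(colimit.ι_desc (G.mapCocone c.op) (op i)) y)
    have m : ∀ (i : I) (y : F.obj (op (D.obj i))),
        colimMap (Functor.whiskerLeft D.op a) (ιF i y) = ιG i (a.app (op (D.obj i)) y) :=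
      fun i y => congr($(ι_colimMap (Functor.whiskerLeft D.op a) (op i)) y)
    have hG : ∀ i j (g : G.obj (op (D.obj i))) (g' : G.obj (op (D.obj j))), ιG i g = ιG j g' ↔
        ∃ (k : I) (f : k ⟶ i) (f' : k ⟶ j), G.map (D.map f).op g = G.map (D.map f').op g' := fun i j g g' => by
      refine (Types.FilteredColimit.isColimit_eq_iff (D.op ⋙ G) (colimit.isColimit _) (i := op i) (j := op j)).trans ?_
      exact ⟨fun ⟨k, f, f', h⟩ => ⟨k.unop, f.unop, f'.unop, h⟩, fun ⟨k, f, f', h⟩ => ⟨op k, f.op, f'.op, h⟩⟩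
    have hF : ∀ i j (g : F.obj (op (D.obj i))) (g' : F.obj (op (D.obj j))), ιF i g = ιF j g' ↔
        ∃ (k : I) (f : k ⟶ i) (f' : k ⟶ j), F.map (D.map f).op g = F.map (D.map f').op g' := fun i j g g' => by
      refine (Types.FilteredColimit.isColimit_eq_iff (D.op ⋙ F) (colimit.isColimit _) (i := op i) (j := op j)).trans ?_
      exact ⟨fun ⟨k, f, f', h⟩ => ⟨k.unop, f.unop, f'.unop, h⟩, fun ⟨k, f, f', h⟩ => ⟨op k, f.op, f'.op, h⟩⟩
    have wF : ∀ {i j : I} (f : j ⟶ i) (y : F.obj (op (D.obj i))), ιF j (F.map (D.map f).op y) = ιF i y :=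
      fun f y => congr($(colimit.w (D.op ⋙ F) f.op) y)
    rw [Types.isPullback_iff]
    constructor
    · rintro ⟨-, hinj, hsurj⟩
      refine ⟨fun i x g hx => ?_, fun i y y' hy h => ?_⟩
      · obtain ⟨z, hz₁, hz₂⟩ := hsurj (ιG i g) x ((dG i g).trans hx.symm)
        obtain ⟨⟨j⟩, y, rfl⟩ := Types.jointly_surjective_of_isColimit (colimit.isColimit (D.op ⋙ F)) z
        obtain ⟨k, f, f', h⟩ := (hG j i (a.app _ y) g).1 ((m j y).symm.trans hz₁)
        refine ⟨k, f', F.map (D.map f).op y, by rw [NatTrans.naturality_apply, h], ?_⟩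
        rw [← Functor.map_comp_apply, ← op_comp, c.w]
        exact (dF j y).symm.trans hz₂
      · obtain ⟨k, f, f', hk⟩ := (hF i i y y').1 (hinj (ιF i y) (ιF i y')
          ⟨by rw [m, m, hy], by rw [dF, dF, h]⟩)
        obtain ⟨l, e, he⟩ : ∃ (l : I) (e : l ⟶ k), e ≫ f = e ≫ f' :=
          ⟨_, IsCofiltered.eqHom f f', IsCofiltered.eq_condition f f'⟩
        refine ⟨l, e ≫ f, ?_⟩
        conv_rhs => rw [he]
        simp only [Functor.map_comp, op_comp, ConcreteCategory.comp_apply, hk]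
    · rintro ⟨hs, hi⟩
      refine ⟨colimit.hom_ext fun ⟨i⟩ => ?_, fun z z' hz => ?_, fun g x hgx => ?_⟩
      · rw [ι_colimMap_assoc, colimit.ι_desc, colimit.ι_desc_assoc]
        exact (a.naturality (c.π.app i).op).symm
      · obtain ⟨⟨i₀⟩, y₀, rfl⟩ := Types.jointly_surjective_of_isColimit (colimit.isColimit (D.op ⋙ F)) z
        obtain ⟨⟨j₀⟩, y₀', rfl⟩ := Types.jointly_surjective_of_isColimit (colimit.isColimit (D.op ⋙ F)) z'
        obtain ⟨hz₁, hz₂⟩ := hz
        obtain ⟨k, f, f', hk⟩ := (hG i₀ j₀ _ _).1 ((m i₀ y₀).symm.trans (hz₁.trans (m j₀ y₀')))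
        obtain ⟨l, e, he⟩ := hi k (F.map (D.map f).op y₀) (F.map (D.map f').op y₀')
          (by rw [NatTrans.naturality_apply, NatTrans.naturality_apply, hk]) (by
            rw [← Functor.map_comp_apply, ← Functor.map_comp_apply, ← op_comp, ← op_comp, c.w, c.w]
            exact (dF i₀ y₀).symm.trans (hz₂.trans (dF j₀ y₀')))
        change ιF i₀ y₀ = ιF j₀ y₀'
        rw [← wF f y₀, ← wF f' y₀', ← wF e (F.map (D.map f).op y₀), he, wF]
      · obtain ⟨⟨i⟩, g₀, rfl⟩ := Types.jointly_surjective_of_isColimit (colimit.isColimit (D.op ⋙ G)) g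
        obtain ⟨j, f, y, hy₁, hy₂⟩ := hs i x g₀ (hgx.symm.trans (dG i g₀))
        refine ⟨ιF j y, ?_, (dF j y).trans hy₂⟩
        rw [m, hy₁]
        exact congr($(colimit.w (D.op ⋙ G) f.op) g₀)
  exact ⟨fun h I _ _ D c hc hD hT => (key D c).2 (h D c hc hD hT),
    fun h I _ _ D c hc hD hT => (key D c).1 (h D c hc hD hT)⟩

end Groth.Agent.H12AlgSp
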