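import Groth.Agent.H12AlgSp.LimitPresLifts
import Groth.Agent.H12AlgSp.LimitPresLocal

/-!
Relative limit preservation passes to sheafifications.
-/

universe u

open CategoryTheory CategoryTheory.Limits AlgebraicGeometry Opposite
open AlgSp Groth.Agent.H13AlgSp

set_option backward.isDefEq.respectTransparency false

attribute [local instance] IsCofiltered.isConnected CategoryTheory.isConnected_of_hasTerminal

namespace Groth.Agent.H12AlgSp

variable {S : Scheme.{u}}

section Piece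

variable {I : Type u} [SmallCategory I] {D : I ⥤ Over S} {c : Cone D} {i : I} {W : Over S} (w : W ⟶ D.obj i)

theorem pFst_comp : pFst D w (Over.mk (𝟙 i)) ≫ w = pTop D w := by
  rw [(isPullback_piece D w _).w]
  exact (congrArg (pSnd D w _ ≫ ·) (D.map_id i)).trans (Category.comp_id _)

theorem ptπ_pTop : ptπ w c (Over.mk (𝟙 i)) ≫ pTop D w = ptSnd w c ≫ c.π.app i :=
  ptπ_snd w c _

end Piece

theorem EvEq.of_map {X : PSp S} {I : Type u} [SmallCategory I] {D : I ⥤ Over S} {i j : I} (f : j ⟶ i)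
    {y y' : X.obj (op (D.obj i))} (h : EvEq X D (X.map (D.map f).op y) (X.map (D.map f).op y')) :
    EvEq X D y y' := by
  obtain ⟨k, g, hg⟩ := h
  refine ⟨k, g ≫ f, ?_⟩
  rwa [D.map_comp, op_comp, Functor.map_comp_apply, Functor.map_comp_apply]

theorem Lifts.of_map {X Y : PSp S} {a : X ⟶ Y} {I : Type u} [SmallCategory I] {D : I ⥤ Over S} {c : Cone D}
    {x : X.obj (op c.pt)} {i j : I} (f : j ⟶ i) {y : Y.obj (op (D.obj i))}
    (h : Lifts a c x (Y.map (D.map f).op y)) : Lifts a c x y := by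
  obtain ⟨k, g, z, hz₁, hz₂⟩ := h
  refine ⟨k, g ≫ f, z, ?_, hz₂⟩
  rw [hz₁, D.map_comp, op_comp, Functor.map_comp_apply]

variable {F G X Y : PSp S} {φ : F ⟶ X} {ψ : G ⟶ Y} {a : F ⟶ G} {a' : X ⟶ Y} (comm : a ≫ ψ = φ ≫ a')

include comm

theorem comm_apply {T : Over S} (f : F.obj (op T)) : ψ.app _ (a.app _ f) = a'.app _ (φ.app _ f) := by
  have h := congr($(comm).app (op T) f)
  simpa using h

/-- Descent of equalities passes along locally bijective maps to a sheaf. -/
theorem relInj_of_locallyBijective (hX : Presheaf.IsSheaf (J S) X) [Presheaf.IsLocallySurjective (J S) φ]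
    [Presheaf.IsLocallyInjective (J S) φ] [Presheaf.IsLocallyInjective (J S) ψ] (ha : RelInj a) : RelInj a' := by
  intro I _ _ D c hc hD hT i y y' hy h
  let R : Sieve (D.obj i) :=
    { arrows := fun Z q => ∃ f f' : F.obj (op Z),
        φ.app _ f = X.map q.op y ∧ φ.app _ f' = X.map q.op y' ∧ a.app _ f = a.app _ f'
      downward_closed := by
        rintro Z Z' q ⟨f, f', h₁, h₂, h₃⟩ g
        refine ⟨F.map g.op f, F.map g.op f', ?_, ?_, ?_⟩
        · rw [NatTrans.naturality_apply, h₁, op_comp, Functor.map_comp_apply]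
        · rw [NatTrans.naturality_apply, h₂, op_comp, Functor.map_comp_apply]
        · rw [NatTrans.naturality_apply, NatTrans.naturality_apply, h₃] }
  have hR : R ∈ J S (D.obj i) := by
    refine (J S).transitive ((J S).intersection_covering (Presheaf.imageSieve_mem (J S) φ y)
      (Presheaf.imageSieve_mem (J S) φ y')) R ?_
    rintro Z q ⟨⟨f, hf⟩, ⟨f', hf'⟩⟩
    refine (J S).superset_covering ?_ (Presheaf.equalizerSieve_mem (J S) ψ (a.app _ f) (a.app _ f') ?_)
    · intro Z' g hg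
      refine ⟨F.map g.op f, F.map g.op f', ?_, ?_, ?_⟩
      · rw [NatTrans.naturality_apply, hf, op_comp, Functor.map_comp_apply]
      · rw [NatTrans.naturality_apply, hf', op_comp, Functor.map_comp_apply]
      · rw [NatTrans.naturality_apply, NatTrans.naturality_apply]
        exact hg
    · rw [comm_apply comm, comm_apply comm, hf, hf', NatTrans.naturality_apply, NatTrans.naturality_apply, hy]
  have := hD i
  obtain ⟨κ, _, Q, hQ, hQR⟩ := exists_affine_cover hR
  refine evEq_of_pieces hX hD hQ fun k => ?_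
  obtain ⟨f₀, f₀', h₁, h₂, h₃⟩ := hQR k
  obtain ⟨g, g', hg, hg', hga⟩ : ∃ g g' : F.obj (op ((pieceDiag D (Q k).w).obj (Over.mk (𝟙 i)))),
      φ.app _ g = X.map (pTop D (Q k).w).op y ∧ φ.app _ g' = X.map (pTop D (Q k).w).op y' ∧
        a.app _ g = a.app _ g' := by
    refine ⟨F.map (pFst D (Q k).w _).op f₀, F.map (pFst D (Q k).w _).op f₀', ?_, ?_, ?_⟩
    · rw [NatTrans.naturality_apply, h₁, ← Functor.map_comp_apply, ← op_comp, pFst_comp]
    · rw [NatTrans.naturality_apply, h₂, ← Functor.map_comp_apply, ← op_comp, pFst_comp]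
    · rw [NatTrans.naturality_apply, NatTrans.naturality_apply, h₃]
  have hD₁ := isAffine_pieceDiag (Q k).w hD
  have hT₁ := isAffine_pieceCone_pt (Q k).w c hD hT
  obtain ⟨hc₁⟩ := nonempty_isLimit_pieceCone (Q k).w c hc
  have hR₂ := Presheaf.equalizerSieve_mem (J S) φ
    (F.map (ptπ (Q k).w c (Over.mk (𝟙 i))).op g) (F.map (ptπ (Q k).w c (Over.mk (𝟙 i))).op g') (by
      rw [NatTrans.naturality_apply, NatTrans.naturality_apply, hg, hg', ← Functor.map_comp_apply,
        ← Functor.map_comp_apply, ← op_comp, ptπ_pTop, op_comp, Functor.map_comp_apply, Functor.map_comp_apply]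
      exact congrArg _ h)
  obtain ⟨j, κ', _, Q', hQ', hQR'⟩ := exists_cover_stage (c := pieceCone (Q k).w c) hc₁ hD₁ hT₁ hR₂
  let e : j ⟶ Over.mk (𝟙 i) := Over.homMk j.hom
  rw [← hg, ← hg']
  refine EvEq.of_map e (evEq_of_pieces hX hD₁ hQ' fun l => ?_)
  have hw : (ptSnd (Q' l).w (pieceCone (Q k).w c)) ≫ ptπ (Q k).w c j =
      ptπ (Q' l).w (pieceCone (Q k).w c) (Over.mk (𝟙 j)) ≫ pTop (pieceDiag D (Q k).w) (Q' l).w :=
    (ptπ_pTop (c := pieceCone (Q k).w c) (Q' l).w).symm
  have hEq := hQR' l (ptSnd (Q' l).w (pieceCone (Q k).w c)) (ptFst (Q' l).w (pieceCone (Q k).w c))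
    (isPullback_piecePt (Q' l).w (pieceCone (Q k).w c)).w
  obtain ⟨n, q, hq⟩ := ha (pieceDiag (pieceDiag D (Q k).w) (Q' l).w) (pieceCone (Q' l).w (pieceCone (Q k).w c))
    (nonempty_isLimit_pieceCone (Q' l).w (pieceCone (Q k).w c) hc₁).some
    (isAffine_pieceDiag (Q' l).w hD₁) (isAffine_pieceCone_pt (Q' l).w (pieceCone (Q k).w c) hD₁ hT₁)
    (Over.mk (𝟙 j))
    (F.map (pTop (pieceDiag D (Q k).w) (Q' l).w).op (F.map ((pieceDiag D (Q k).w).map e).op g))
    (F.map (pTop (pieceDiag D (Q k).w) (Q' l).w).op (F.map ((pieceDiag D (Q k).w).map e).op g'))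
    (by simp only [NatTrans.naturality_apply, hga])
    (by
      simp only [← Functor.map_comp_apply, ← op_comp]
      rw [← Category.assoc, ← hw, Category.assoc, ptπ_map, op_comp, Functor.map_comp_apply, Functor.map_comp_apply]
      exact hEq)
  refine ⟨n, q, ?_⟩
  have hq' := congrArg (φ.app _) hq
  simp only [NatTrans.naturality_apply] at hq'
  exact hq'

/-- Descent of sections passes along locally bijective maps to sheaves. -/
theorem relSurj_of_locallyBijective (hX : Presheaf.IsSheaf (J S) X) (hY : Presheaf.IsSheaf (J S) Y)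
    [Presheaf.IsLocallySurjective (J S) φ] [Presheaf.IsLocallySurjective (J S) ψ]
    [Presheaf.IsLocallyInjective (J S) ψ] (ha : RelSurj a) (hinj : RelInj a') : RelSurj a' := by
  intro I _ _ D c hc hD hT i x y hxy
  have := hD i
  have hy : Presheaf.imageSieve ψ (U := D.obj i) y ∈ J S (D.obj i) := Presheaf.imageSieve_mem (J S) ψ y
  obtain ⟨κ, _, Q, hQ, hQR⟩ := exists_affine_cover hy
  refine lifts_of_pieces hX hc hD hY hinj hT hQ fun k => ?_
  obtain ⟨g₀, hg₀⟩ := hQR k
  obtain ⟨g, hg⟩ : ∃ g : G.obj (op ((pieceDiag D (Q k).w).obj (Over.mk (𝟙 i)))),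
      ψ.app _ g = Y.map (pTop D (Q k).w).op y :=
    ⟨G.map (pFst D (Q k).w _).op g₀, by rw [NatTrans.naturality_apply, hg₀, ← Functor.map_comp_apply, ← op_comp,
      pFst_comp]⟩
  obtain ⟨x₁, hx₁⟩ : ∃ x₁ : X.obj (op (piecePt (Q k).w c)), x₁ = X.map (ptSnd (Q k).w c).op x := ⟨_, rfl⟩
  obtain ⟨g₁, hg₁⟩ : ∃ g₁ : G.obj (op (piecePt (Q k).w c)), g₁ = G.map (ptπ (Q k).w c (Over.mk (𝟙 i))).op g :=
    ⟨_, rfl⟩
  have hxg : a'.app _ x₁ = ψ.app _ g₁ := by
    rw [hx₁, hg₁, NatTrans.naturality_apply, NatTrans.naturality_apply, hxy, hg]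
    erw [← Functor.map_comp_apply, ← Functor.map_comp_apply, ← op_comp, ← op_comp, ptπ_pTop]
  let R : Sieve (piecePt (Q k).w c) :=
    { arrows := fun Z q => ∃ f : F.obj (op Z), φ.app _ f = X.map q.op x₁ ∧ a.app _ f = G.map q.op g₁
      downward_closed := by
        rintro Z Z' q ⟨f, h₁, h₂⟩ r
        refine ⟨F.map r.op f, ?_, ?_⟩
        · rw [NatTrans.naturality_apply, h₁, op_comp, Functor.map_comp_apply]
        · rw [NatTrans.naturality_apply, h₂, op_comp, Functor.map_comp_apply] }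
  have hR : R ∈ J S (piecePt (Q k).w c) := by
    refine (J S).transitive (Presheaf.imageSieve_mem (J S) φ x₁) R ?_
    rintro Z q ⟨f, hf⟩
    refine (J S).superset_covering ?_ (Presheaf.equalizerSieve_mem (J S) ψ (a.app _ f) (G.map q.op g₁) ?_)
    · intro Z' r hr
      refine ⟨F.map r.op f, ?_, ?_⟩
      · rw [NatTrans.naturality_apply, hf, op_comp, Functor.map_comp_apply]
      · rw [NatTrans.naturality_apply, op_comp, Functor.map_comp_apply]
        exact hr
    · rw [comm_apply comm, hf, NatTrans.naturality_apply, NatTrans.naturality_apply, hxg]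
  have hD₁ := isAffine_pieceDiag (Q k).w hD
  have hT₁ := isAffine_pieceCone_pt (Q k).w c hD hT
  obtain ⟨hc₁⟩ := nonempty_isLimit_pieceCone (Q k).w c hc
  obtain ⟨j, κ', _, Q', hQ', hQR'⟩ := exists_cover_stage (c := pieceCone (Q k).w c) hc₁ hD₁ hT₁ hR
  let e : j ⟶ Over.mk (𝟙 i) := Over.homMk j.hom
  rw [← hx₁, ← hg]
  refine Lifts.of_map e (lifts_of_pieces hX hc₁ hD₁ hY hinj hT₁ hQ' fun l => ?_)
  have hw : (ptSnd (Q' l).w (pieceCone (Q k).w c)) ≫ ptπ (Q k).w c j =
      ptπ (Q' l).w (pieceCone (Q k).w c) (Over.mk (𝟙 j)) ≫ pTop (pieceDiag D (Q k).w) (Q' l).w :=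
    (ptπ_pTop (c := pieceCone (Q k).w c) (Q' l).w).symm
  obtain ⟨f, hf₁, hf₂⟩ := hQR' l (ptSnd (Q' l).w (pieceCone (Q k).w c)) (ptFst (Q' l).w (pieceCone (Q k).w c))
    (isPullback_piecePt (Q' l).w (pieceCone (Q k).w c)).w
  obtain ⟨n, q, z, hz₁, hz₂⟩ := ha (pieceDiag (pieceDiag D (Q k).w) (Q' l).w)
    (pieceCone (Q' l).w (pieceCone (Q k).w c))
    (nonempty_isLimit_pieceCone (Q' l).w (pieceCone (Q k).w c) hc₁).some
    (isAffine_pieceDiag (Q' l).w hD₁) (isAffine_pieceCone_pt (Q' l).w (pieceCone (Q k).w c) hD₁ hT₁)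
    (Over.mk (𝟙 j)) f
    (G.map (pTop (pieceDiag D (Q k).w) (Q' l).w).op (G.map ((pieceDiag D (Q k).w).map e).op g))
    (by
      rw [hf₂, hg₁]
      simp only [← Functor.map_comp_apply, ← op_comp]
      rw [← Category.assoc, ← hw, Category.assoc, ptπ_map]
      rfl)
  refine ⟨n, q, φ.app _ z, ?_, ?_⟩
  · rw [← comm_apply comm, hz₁]
    simp only [NatTrans.naturality_apply]
  · rw [← NatTrans.naturality_apply, hz₂]
    exact hf₁

omit comm

/-- Relative limit preservation passes to sheafifications. -/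
theorem relLP_sheafify_map (a : F ⟶ G) (ha : RelLP a) :
    RelLP ((presheafToSheaf (J S) (Type (u + 1))).map a).hom := by
  obtain ⟨h₁, h₂⟩ := relLP_iff.1 ha
  have comm : a ≫ CategoryTheory.toSheafify (J S) G =
      CategoryTheory.toSheafify (J S) F ≫ ((presheafToSheaf (J S) (Type (u + 1))).map a).hom :=
    CategoryTheory.toSheafify_naturality (J S) a
  have hi := relInj_of_locallyBijective comm ((presheafToSheaf (J S) (Type (u + 1))).obj F).property h₂
  exact relLP_iff.2 ⟨relSurj_of_locallyBijective comm ((presheafToSheaf (J S) (Type (u + 1))).obj F).property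
    ((presheafToSheaf (J S) (Type (u + 1))).obj G).property h₁ hi, hi⟩

/-- The presheaf with one section everywhere. -/
abbrev unitPSp (S : Scheme.{u}) : PSp S := (Functor.const (Over S)ᵒᵖ).obj PUnit.{u + 2}

/-- The map to the presheaf with one section. -/
def toUnit (F : PSp S) : F ⟶ unitPSp S where
  app _ := ↾fun _ => PUnit.unit

theorem isSheaf_unitPSp : Presheaf.IsSheaf (J S) (unitPSp S) := by
  rw [isSheaf_iff_isSheaf_of_type]
  intro T R _ x _
  exact ⟨PUnit.unit, fun _ _ _ => rfl, fun _ _ => rfl⟩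

theorem relLP_toUnit_iff : RelLP (toUnit F) ↔ IsLimitPreserving F := by
  constructor
  · intro h I _ _ D c hc hD hT
    obtain ⟨hs, hi⟩ := h D c hc hD hT
    refine ⟨Types.FilteredColimit.isColimitOf' _ _ (fun x => ?_) fun i y y' hy => ?_⟩
    · obtain ⟨i⟩ := (IsCofiltered.nonempty : Nonempty I)
      obtain ⟨j, -, y, -, hy⟩ := hs i x PUnit.unit rfl
      exact ⟨op j, y, hy.symm⟩
    · obtain ⟨j, f, hf⟩ := hi i.unop y y' rfl hy
      exact ⟨op j, f.op, hf⟩
  · intro h I _ _ D c hc hD hT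
    refine ⟨fun i x g _ => ?_, fun i y y' _ hy => lp_eq h hc hD hT y y' hy⟩
    obtain ⟨j, y, hy⟩ := lp_exists h hc hD hT x
    obtain ⟨k, a, b, -⟩ := IsCofilteredOrEmpty.cone_objs i j
    refine ⟨k, a, F.map (D.map b).op y, rfl, ?_⟩
    rw [← Functor.map_comp_apply, ← op_comp, c.w]
    exact hy

/-- The sheafification of a limit preserving presheaf is limit preserving. -/
theorem isLimitPreserving_sheafify (hF : IsLimitPreserving F) :
    IsLimitPreserving ((presheafToSheaf (J S) (Type (u + 1))).obj F).obj := by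
  obtain ⟨h₁, h₂⟩ := relLP_iff.1 (relLP_toUnit_iff.2 hF)
  let Fs := ((presheafToSheaf (J S) (Type (u + 1))).obj F).obj
  have comm : toUnit F ≫ 𝟙 (unitPSp S) = CategoryTheory.toSheafify (J S) F ≫ toUnit Fs := rfl
  have hi := relInj_of_locallyBijective comm ((presheafToSheaf (J S) (Type (u + 1))).obj F).property h₂
  exact relLP_toUnit_iff.1 (relLP_iff.2 ⟨relSurj_of_locallyBijective comm
    ((presheafToSheaf (J S) (Type (u + 1))).obj F).property isSheaf_unitPSp h₁ hi, hi⟩)

end Groth.Agent.H12AlgSp
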