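import Groth.Agent.H12AlgSp.LimitBaseChange
import Groth.Agent.H12AlgSp.LimitDescendAffine
import Groth.Agent.H7Lim.Proper.StructureMap

/-!
Affine, finite and closed structure maps of limits are so at a finite stage.
-/

universe u

open CategoryTheory CategoryTheory.Limits AlgebraicGeometry Opposite
open AlgSp Groth.Agent.H13AlgSp

set_option backward.isDefEq.respectTransparency false

attribute [local instance] CategoryTheory.isConnected_of_hasTerminal

namespace Groth.Agent.H12AlgSp

variable {S : Scheme.{u}} {I : Type u} [SmallCategory I] [IsCofiltered I] {Y : Sp S} {D : I ⥤ Sp S}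
  {t : D ⟶ (Functor.const I).obj Y} {c : Cone D} {g : c.pt ⟶ Y}

/-- Compatible affine charts of the structure maps of the stages above some index. -/
structure StructureCharts (t : D ⟶ (Functor.const I).obj Y) (g : c.pt ⟶ Y) where
  /-- the affine cover of the base -/
  V : Over S
  /-- its map to the base -/
  v : (yon S).obj V ⟶ Y
  /-- the first index -/
  i₁ : I
  /-- the system -/
  K : Over i₁ ⥤ Over S
  /-- its limit -/
  cK : Cone K
  isLimit : IsLimit cK
  /-- the maps to the cover -/
  k : ∀ j, K.obj j ⟶ V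
  /-- the map of the limit -/
  kl : cK.pt ⟶ V
  /-- the charts -/
  f : ∀ j, (yon S).obj (K.obj j) ⟶ D.obj j.left
  /-- the chart of the limit -/
  fl : (yon S).obj cK.pt ⟶ c.pt
  affineV : IsAffine V.left
  etale : RepWith @Etale v
  surjective : RepWith @Surjective v
  affine : ∀ j, IsAffine (K.obj j).left
  natural : ∀ {j j' : Over i₁} (φ : j ⟶ j'), K.map φ ≫ k j' = k j
  natural_lim : ∀ j, cK.π.app j ≫ k j = kl
  sq : ∀ j : Over i₁, IsPullback (f j) ((yon S).map (k j)) (t.app j.left) v
  sqLim : IsPullback fl ((yon S).map kl) g v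
  sqMap : ∀ {j j' : Over i₁} (φ : j ⟶ j'), IsPullback ((yon S).map (K.map φ)) (f j) (f j') (D.map φ.left)

variable [QuasiSeparatedSpace S] (hY : IsAlgSpace Y) (hD : ∀ i, IsAlgSpace (D.obj i))
  (hDa : ∀ (i j : I) (φ : i ⟶ j), IsAffineMor (D.map φ)) (hc : IsLimit c)
  (hg : ∀ i, c.π.app i ≫ t.app i = g)
  (hqc : ∀ i, IsQuasiCompactSp (D.obj i)) (hqs : ∀ i, IsQuasiSeparatedSp (D.obj i))
  (hYqc : IsQuasiCompactSp Y) (hYqs : IsQuasiSeparatedSp Y)

include hY hD hDa hc hg hqc hqs hYqc hYqs in
/-- If the limit is affine over the base there are affine charts of the structure maps. -/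
theorem exists_structureCharts (hX : IsAffineMor g) : Nonempty (StructureCharts t g) := by
  have := compactSpace_points_of_isQuasiCompactSp hYqc
  obtain ⟨V, v, hV, hv, hvs⟩ := exists_affine_atlas hY
  obtain ⟨W, iW, fstW, sqW, hW⟩ := hX hV v
  let i₀ : I := IsCofiltered.nonempty.some
  let b : pullback (t.app i₀) v ⟶ D.obj i₀ := pullback.fst (t.app i₀) v
  let pY : pullback g v ⟶ pullback (t.app i₀) v :=
    pullback.lift (pullback.fst g v ≫ c.π.app i₀) (pullback.snd g v) (by
      rw [Category.assoc, hg, pullback.condition])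
  have hbc : IsPullback pY (pullback.fst g v) b (c.π.app i₀) := by
    refine IsPullback.flip (IsPullback.of_bot (h₃₁ := v) (v₂₁ := pullback.snd (t.app i₀) v) (v₂₂ := t.app i₀) ?_
      (pullback.lift_fst _ _ _).symm (IsPullback.of_hasPullback _ _))
    rw [pullback.lift_snd, hg]
    exact IsPullback.of_hasPullback g v
  have hP₁ : IsAlgSpace (pullback (t.app i₀) v) :=
    isAlgSpace_pullback hY.diag (hD i₀) (IsAlgSpace.yon_obj _) _ _
  have := hV
  have hP₁c : IsQuasiCompactSp (pullback (t.app i₀) v) :=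
    isQuasiCompactMor_pullback (isQuasiCompactMor_of_qc_qs (hD i₀) hY (t.app i₀) (hqc i₀) hYqs) _ v
  have hP₁s : IsQuasiSeparatedSp (pullback (t.app i₀) v) :=
    isQuasiSeparatedSp_pullback (hqs i₀) (isQuasiSeparatedSp_yon inferInstance) _ _
  obtain ⟨hlim⟩ := nonempty_isLimit_bcCone D b hbc hc
  obtain ⟨l, hl⟩ := exists_affine_of_affine_limit (isAlgSpace_bcDiagram (b := b) hD hP₁)
    (isAffineMor_bcDiagram_map hDa) hlim (isQuasiCompactSp_bcDiagram hD hDa hP₁ hP₁c)
    (isQuasiSeparatedSp_bcDiagram hDa hP₁s) hW sqW.isoPullback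
  obtain ⟨Z, hZ, ⟨eZ⟩⟩ := hl l (𝟙 l)
  obtain ⟨z, hz⟩ := (yon S).map_surjective
    (eZ.hom ≫ pullback.fst b (D.map l.hom) ≫ pullback.snd (t.app i₀) v)
  have sqZ : IsPullback (eZ.hom ≫ pullback.snd b (D.map l.hom)) ((yon S).map z) (t.app l.left) v := by
    have h := (IsPullback.of_hasPullback b (D.map l.hom)).flip.paste_vert (IsPullback.of_hasPullback (t.app i₀) v)
    rw [show D.map l.hom ≫ t.app i₀ = t.app l.left from (t.naturality l.hom).trans (Category.comp_id _)] at h
    exact h.of_iso eZ.symm (Iso.refl _) (Iso.refl _) (Iso.refl _)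
      (by simp) (by simp [hz]) (by simp) (by simp)
  obtain ⟨K, cK, hcK, w, fl, f, p, sq, -, hfl, hw, hK, hf, hp⟩ :=
    exists_pullback_proj_system hDa hc l.left hZ (eZ.hom ≫ pullback.snd b (D.map l.hom))
  refine ⟨{ V := V, v := v, i₁ := l.left, K := K, cK := cK, isLimit := hcK, k := fun j => p j ≫ z,
            kl := w ≫ z, f := f, fl := fl, affineV := hV, etale := hv, surjective := hvs,
            affine := fun j => (hK j).1, natural := ?_, natural_lim := ?_, sq := ?_, sqLim := ?_, sqMap := ?_ }⟩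
  · intro j j' φ
    rw [← Category.assoc, hp]
  · intro j
    rw [← Category.assoc, hw]
  · intro j
    have := (hK j).2.paste_vert sqZ
    rwa [← Functor.map_comp, show D.map j.hom ≫ t.app l.left = t.app j.left from
      (t.naturality j.hom).trans (Category.comp_id _)] at this
  · have := sq.paste_vert sqZ
    rwa [← Functor.map_comp, hg] at this
  · intro j j' φ
    refine (IsPullback.of_bot ?_ (hf j j' φ).symm (hK j').2).flip
    rw [← D.map_comp, Over.w φ, ← Functor.map_comp, hp]
    exact (hK j).2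

include hY hD hDa hc hg hqc hqs hYqc hYqs in
/-- An affine limit over the base is affine at a stage. -/
theorem exists_isAffineMor_structure (hX : IsAffineMor g) :
    ∃ i₀ : I, ∀ (i : I) (_ : i ⟶ i₀), IsAffineMor (t.app i) := by
  obtain ⟨C⟩ := exists_structureCharts hY hD hDa hc hg hqc hqs hYqc hYqs hX
  refine ⟨C.i₁, fun i φ => ?_⟩
  let j : Over C.i₁ := Over.mk φ
  have := C.affineV
  have := C.affine j
  exact isAffineMor_iff.2 (repWith_of_etale_cover (fun _ _ _ h => h) (hD i) hY C.etale C.surjective (C.sq j)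
    ((repWith_yon_map_iff @IsAffineHom _).2 inferInstance))

include hY hD hc hg hqc hqs hYqc hYqs in
/-- A limit of spaces with closed transition maps which is closed in the base is closed at a stage. -/
theorem exists_closedImmersion_structure (hDc : ∀ (i j : I) (φ : i ⟶ j), RepWith @IsClosedImmersion (D.map φ))
    (hft : ∀ i, LocP @LocallyOfFiniteType (t.app i)) (hX : RepWith @IsClosedImmersion g) :
    ∃ i₀ : I, ∀ (i : I) (_ : i ⟶ i₀), RepWith @IsClosedImmersion (t.app i) := by
  have hDa : ∀ (i j : I) (φ : i ⟶ j), IsAffineMor (D.map φ) := fun i j φ => isAffineMor_iff.2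
    (repWith_le (P := @IsClosedImmersion) (Q := @IsAffineHom)
      (fun _ _ k (_ : IsClosedImmersion k) => inferInstance) (hDc i j φ))
  obtain ⟨C⟩ := exists_structureCharts hY hD hDa hc hg hqc hqs hYqc hYqs (isAffineMor_iff.2
    (repWith_le (P := @IsClosedImmersion) (Q := @IsAffineHom)
      (fun _ _ k (_ : IsClosedImmersion k) => inferInstance) hX))
  have := C.affineV
  have : ∀ j, IsAffine ((C.K ⋙ Over.forget S).obj j) := C.affine
  have : ∀ j j' (φ : j ⟶ j'), IsClosedImmersion ((C.K ⋙ Over.forget S).map φ) := fun j j' φ =>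
    (repWith_yon_map_iff @IsClosedImmersion _).1 (repWith_of_isPullback (C.sqMap φ).flip (hDc _ _ φ.left))
  have : ∀ j, LocallyOfFiniteType (C.k j).left := fun j =>
    locP_of_isPullback etLocal_lft (C.sq j) (hD _) hY (IsAlgSpace.yon_obj _) (hft _)
      (𝟙 _) (𝟙 _) (C.k j) (repWith_id _ _) (repWith_id _ _) (by rw [Category.id_comp, Category.comp_id])
  have hlim : IsLimit ((Over.forget S).mapCone C.cK) := isLimitOfPreserves _ C.isLimit
  let j₀ : Over C.i₁ := Over.mk (𝟙 _)
  have hkl : IsClosedImmersion C.kl.left :=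
    (repWith_yon_map_iff @IsClosedImmersion _).1 (repWith_of_isPullback C.sqLim hX)
  have : IsClosedImmersion (((Over.forget S).mapCone C.cK).π.app j₀ ≫ (C.k j₀).left) := by
    change IsClosedImmersion ((C.cK.π.app j₀).left ≫ (C.k j₀).left)
    rw [← Over.comp_left, C.natural_lim]
    exact hkl
  obtain ⟨j₁, hj₁⟩ := Groth.Agent.H7Lim.exists_isClosedImmersion_structureMap
    (D := C.K ⋙ Over.forget S) (fun j => (C.k j).left) (fun {j j'} φ => by
      change (C.K.map φ).left ≫ _ = _
      rw [← Over.comp_left, C.natural]) hlim j₀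
  refine ⟨j₁.left, fun i φ => ?_⟩
  let j : Over C.i₁ := Over.mk (φ ≫ j₁.hom)
  have : IsClosedImmersion (C.k j).left := hj₁ j (Over.homMk φ rfl)
  exact repWith_of_etale_cover (P := @IsClosedImmersion) (fun _ _ k (_ : IsClosedImmersion k) => inferInstance)
    (hD i) hY C.etale C.surjective (C.sq j) ((repWith_yon_map_iff @IsClosedImmersion _).2 ‹_›)

include hY hD hc hg hqc hqs hYqc hYqs in
/-- A limit of spaces with finite transition maps which is integral over the base is finite at a stage. -/
theorem exists_isFiniteMor_structure (hDf : ∀ (i j : I) (φ : i ⟶ j), IsFiniteMor (D.map φ))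
    (hft : ∀ i, LocP @LocallyOfFiniteType (t.app i)) (hX : IsIntegralMor g) :
    ∃ i₀ : I, ∀ (i : I) (_ : i ⟶ i₀), IsFiniteMor (t.app i) := by
  have hDa : ∀ (i j : I) (φ : i ⟶ j), IsAffineMor (D.map φ) := fun i j φ => isAffineMor_iff.2
    (repWith_le (P := @IsFinite) (Q := @IsAffineHom)
      (fun _ _ k (_ : IsFinite k) => inferInstanceAs (IsAffineHom k)) (isFiniteMor_iff.1 (hDf i j φ)))
  obtain ⟨C⟩ := exists_structureCharts hY hD hDa hc hg hqc hqs hYqc hYqs (isAffineMor_iff.2
    (repWith_le (P := @IsIntegralHom) (Q := @IsAffineHom)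
      (fun _ _ k (_ : IsIntegralHom k) => inferInstanceAs (IsAffineHom k)) (isIntegralMor_iff.1 hX)))
  have := C.affineV
  have : ∀ j, IsAffine ((C.K ⋙ Over.forget S).obj j) := C.affine
  have : ∀ j j' (φ : j ⟶ j'), IsFinite ((C.K ⋙ Over.forget S).map φ) := fun j j' φ =>
    (repWith_yon_map_iff @IsFinite _).1 (repWith_of_isPullback (C.sqMap φ).flip (isFiniteMor_iff.1 (hDf _ _ φ.left)))
  have : ∀ j, LocallyOfFiniteType (C.k j).left := fun j =>
    locP_of_isPullback etLocal_lft (C.sq j) (hD _) hY (IsAlgSpace.yon_obj _) (hft _)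
      (𝟙 _) (𝟙 _) (C.k j) (repWith_id _ _) (repWith_id _ _) (by rw [Category.id_comp, Category.comp_id])
  have hlim : IsLimit ((Over.forget S).mapCone C.cK) := isLimitOfPreserves _ C.isLimit
  let j₀ : Over C.i₁ := Over.mk (𝟙 _)
  have hkl : IsIntegralHom C.kl.left :=
    (repWith_yon_map_iff @IsIntegralHom _).1 (repWith_of_isPullback C.sqLim (isIntegralMor_iff.1 hX))
  have : IsIntegralHom (((Over.forget S).mapCone C.cK).π.app j₀ ≫ (C.k j₀).left) := by
    change IsIntegralHom ((C.cK.π.app j₀).left ≫ (C.k j₀).left)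
    rw [← Over.comp_left, C.natural_lim]
    exact hkl
  obtain ⟨j₁, hj₁⟩ := Groth.Agent.H7Lim.exists_isFinite_structureMap
    (D := C.K ⋙ Over.forget S) (fun j => (C.k j).left) (fun {j j'} φ => by
      change (C.K.map φ).left ≫ _ = _
      rw [← Over.comp_left, C.natural]) hlim j₀
  refine ⟨j₁.left, fun i φ => ?_⟩
  let j : Over C.i₁ := Over.mk (φ ≫ j₁.hom)
  have : IsFinite (C.k j).left := hj₁ j (Over.homMk φ rfl)
  exact isFiniteMor_iff.2 (repWith_of_etale_cover (P := @IsFinite)
    (fun _ _ k (_ : IsFinite k) => inferInstanceAs (IsAffineHom k))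
    (hD i) hY C.etale C.surjective (C.sq j) ((repWith_yon_map_iff @IsFinite _).2 ‹_›))

end Groth.Agent.H12AlgSp
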