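import Groth.Agent.H12AlgSp.Codim
import Groth.Agent.H12AlgSp.EtDim
import Groth.Agent.H12AlgSp.NoethValuative
import Groth.Agent.H23Comp.Flat
import Groth.Agent.H8Props.FieldDimFibre
import Groth.Agent.H13AlgSp.EtaleLocally

/-!
Spaces whose charts have locally finitely many irreducible components.
-/

set_option backward.isDefEq.respectTransparency false

universe u

open CategoryTheory CategoryTheory.Limits AlgebraicGeometry Topology TopologicalSpace
open AlgSp Groth.Agent.H23Comp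

namespace Groth.Agent.H12AlgSp

/-- Quasi-compact opens have finitely many irreducible components. -/
abbrev LocFinIrred (U : Scheme.{u}) : Prop :=
  ∀ W : U.Opens, IsCompact (W : Set ↥U) → (irreducibleComponents ↥W).Finite

theorem locFinIrred_iff_maxPts {U : Scheme.{u}} :
    LocFinIrred U ↔ ∀ W : U.Opens, IsCompact (W : Set ↥U) → (maxPts U ∩ (W : Set U)).Finite :=
  forall_congr' fun W => imp_congr_right fun _ => finite_opens_iff W

theorem locFinIrred_of_flat_lft {Y X : Scheme.{u}} (f : Y ⟶ X) [Flat f] [LocallyOfFiniteType f]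
    (hX : LocFinIrred X) : LocFinIrred Y := by
  intro V hV
  refine (finite_opens_iff V).2 ?_
  have hloc : ∀ y ∈ V, ∃ W : Y.Opens, y ∈ W ∧ (maxPts Y ∩ (W : Set Y)).Finite := by
    intro y _
    obtain ⟨U, hU, hyU, -⟩ := (Opens.isBasis_iff_nbhd.mp X.isBasis_affineOpens)
      (show f.base y ∈ (⊤ : X.Opens) from trivial)
    obtain ⟨W, hW, hyW, hWU⟩ := (Opens.isBasis_iff_nbhd.mp Y.isBasis_affineOpens)
      (show y ∈ f ⁻¹ᵁ U from hyU)
    refine ⟨W, hyW, (finite_affine_iff hW).mpr ?_⟩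
    algebraize [(f.appLE U W hWU).hom]
    have h1 : RingHom.Flat (f.appLE U W hWU).hom := f.flat_appLE hU hW hWU
    have h2 : RingHom.FiniteType (f.appLE U W hWU).hom := f.finiteType_appLE hU hW hWU
    haveI : Module.Flat Γ(X, U) Γ(Y, W) := h1
    haveI : Algebra.FiniteType Γ(X, U) Γ(Y, W) := h2
    exact finite_minimalPrimes Γ(X, U) Γ(Y, W)
      ((finite_affine_iff hU).mp ((finite_opens_iff U).mp (hX U hU.isCompact)))
  choose W hyW hWfin using hloc
  obtain ⟨t, ht⟩ := hV.elim_finite_subcover (fun y : V => (W y.1 y.2 : Set Y)) (fun y => (W y.1 y.2).2)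
    (fun y hy => Set.mem_iUnion.2 ⟨⟨y, hy⟩, hyW y hy⟩)
  refine (t.finite_toSet.biUnion fun y _ => hWfin y.1 y.2).subset fun z hz => ?_
  obtain ⟨y, hy, hzy⟩ := Set.mem_iUnion₂.1 (ht hz.2)
  exact Set.mem_iUnion₂.2 ⟨y, hy, hz.1, hzy⟩

theorem locFinIrred_of_surjective {Y X : Scheme.{u}} (f : Y ⟶ X) [Etale f] [Surjective f]
    (hY : LocFinIrred Y) : LocFinIrred X := by
  rw [locFinIrred_iff_maxPts] at hY ⊢
  intro U hU
  have hy : ∀ x : X, ∃ A : Y.Opens, IsCompact (A : Set Y) ∧ x ∈ f '' (A : Set Y) := by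
    intro x
    obtain ⟨y, rfl⟩ := f.surjective x
    obtain ⟨A, hA, hyA, -⟩ := exists_isAffineOpen_mem_and_subset (x := y) (U := ⊤) trivial
    exact ⟨A, hA.isCompact, y, hyA, rfl⟩
  choose A hA hxA using hy
  obtain ⟨t, ht⟩ := hU.elim_finite_subcover (fun x => f '' (A x : Set Y)) (fun x => f.isOpenMap _ (A x).2)
    (fun x _ => Set.mem_iUnion.2 ⟨x, hxA x⟩)
  refine ((t.finite_toSet.biUnion fun x _ => hY (A x) (hA x)).image f).subset fun z hz => ?_
  obtain ⟨x, hx, y, hy, rfl⟩ := Set.mem_iUnion₂.1 (ht hz.2)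
  obtain ⟨η, hη, hmem⟩ := H8Props.FieldDim.exists_component_generization y
  refine ⟨η, Set.mem_iUnion₂.2 ⟨x, hx, ?_, hη.mem_open (A x).2 hy⟩, hz.1 _ (hη.map f.continuous)⟩
  rw [← genericPoints_eq]
  exact hmem

theorem irreducibleComponents_finite_of_surjective {α β : Type*} [TopologicalSpace α] [TopologicalSpace β]
    (f : α → β) (hc : Continuous f) (hs : Function.Surjective f) (h : (irreducibleComponents α).Finite) :
    (irreducibleComponents β).Finite := by
  refine (h.image fun T => closure (f '' T)).subset fun Z hZ => ?_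
  let F : Set (Set β) := (fun T => closure (f '' T)) '' irreducibleComponents α
  have hcov : Z ⊆ ⋃₀ F := fun z _ => by
    obtain ⟨a, rfl⟩ := hs z
    exact ⟨_, ⟨_, irreducibleComponent_mem_irreducibleComponents a, rfl⟩,
      subset_closure ⟨a, mem_irreducibleComponent, rfl⟩⟩
  have hF : F.Finite := h.image _
  obtain ⟨C, hC, hZC⟩ := isIrreducible_iff_sUnion_isClosed.1 hZ.1 hF.toFinset
    (fun C hC => by
      obtain ⟨T, _, rfl⟩ := hF.mem_toFinset.1 hC
      exact isClosed_closure)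
    (by rw [hF.coe_toFinset]; exact hcov)
  obtain ⟨T, hT, rfl⟩ := hF.mem_toFinset.1 hC
  exact ⟨T, hT, hZ.eq_of_ge (hT.1.image f hc.continuousOn).closure hZC⟩

variable {S : Scheme.{u}}

theorem locFinIrred_chart {X : Sp S} (hX : IsAlgSpace X) (h : EtaleLocally LocFinIrred X) {V : Over S}
    {b : (yon S).obj V ⟶ X} (hb : RepWith @Etale b) : LocFinIrred V.left :=
  Groth.Agent.H13AlgSp.etaleLocally_chart (fun g (_ : Etale g) hB => locFinIrred_of_flat_lft g hB)
    (fun g (_ : Etale g) (_ : Surjective g) hA => locFinIrred_of_surjective g hA) hX h hb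

theorem finite_codimZero {Y : Sp S} (hY : IsAlgSpace Y) {W : Over S} {b : (yon S).obj W ⟶ Y}
    (hb : RepWith @Etale b) (hbs : Function.Surjective (Points.ofPt b))
    (hW : (maxPts W.left).Finite) :
    {y : Points Y | HasAt (fun U u => ringKrullDim ↥(U.presheaf.stalk u) = 0) Y y}.Finite := by
  refine (hW.image (Points.ofPt b)).subset ?_
  rintro y ⟨U, a, u, ha, e, hu⟩
  obtain ⟨w, rfl⟩ := hbs y
  refine ⟨w, ?_, rfl⟩
  rw [← genericPoints_eq, ← ringKrullDim_stalk_eq_zero_iff, ← ringKrullDim_stalk_chart_eq hY ha hb e, hu]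

end Groth.Agent.H12AlgSp
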