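import Groth.Agent.H12AlgSp.LocQSScheme
import Groth.Agent.H12AlgSp.SepAbsolute
import Groth.Agent.H12AlgSp.Charts

/-!
Zariski locally quasi-separated spaces are those with Zariski local quasi-compact affine atlases.
-/

universe u

open CategoryTheory CategoryTheory.Limits AlgebraicGeometry Opposite Topology TopologicalSpace
open AlgSp Groth.Agent.H13AlgSp

namespace Groth.Agent.H12AlgSp

variable {S : Scheme.{u}}

theorem zarQS_of_qc_charts {X : Space S} {U : Over S} {p : (yon S).obj U ⟶ X.obj} (hU : IsAffine U.left)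
    (hq : RepWith @QuasiCompact p) (he : RepWith @Etale p) (hs : RepWith @Surjective p) :
    IsQuasiSeparatedSp X.obj := by
  obtain ⟨R, s, t', sq⟩ := he.1 p
  obtain ⟨t, rfl⟩ := (yon S).map_surjective t'
  have : IsAffine U.left := hU
  exact isQuasiSeparatedSp_of_qc_proj X.property he hs sq (hq.2 p _ t sq.flip)

theorem qc_chart_of_qs {Y X : Sp S} (hY : IsAlgSpace Y) (k : Y ⟶ X) [Mono k] (hqs : IsQuasiSeparatedSp X)
    {U : Over S} {p : (yon S).obj U ⟶ Y} [IsAffine U.left] (he : RepWith @Etale p) (hs : RepWith @Surjective p)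
    (W : S.Opens) (hW : IsAffineOpen W) (hUW : ∀ v : U.left, U.hom v ∈ W) : RepWith @QuasiCompact p := by
  obtain ⟨R, s, t', sq⟩ := he.1 p
  obtain ⟨t, rfl⟩ := (yon S).map_surjective t'
  have : CompactSpace ↥(pullback U.hom U.hom) :=
    compactSpace_pullback_of_small W hW (by rintro _ ⟨v, rfl⟩; exact hUW v) (by rintro _ ⟨v, rfl⟩; exact hUW v)
  have : CompactSpace R.left := compactSpace_of_isPullback hqs (isPullback_of_comp_mono sq k)
  exact repWith_quasiCompact_of_atlas (hY.representable_from_yon p) he hs sq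
    ((quasiCompact_iff_compactSpace _).2 inferInstance)

theorem zarQS_iff (X : Space S) :
    (∃ (ι : Type u) (Xi : ι → Space S) (j : ∀ i, Xi i ⟶ X),
        IsZarCover (fun i => (Xi i).obj) (fun i => (j i).hom) ∧ ∀ i, IsQuasiSeparatedSp (Xi i).obj) ↔
      (∃ (ι : Type u) (Xi : ι → Space S) (j : ∀ i, Xi i ⟶ X),
        IsZarCover (fun i => (Xi i).obj) (fun i => (j i).hom) ∧
          ∀ i, ∃ (U : Over S) (p : (yon S).obj U ⟶ (Xi i).obj), IsAffine U.left ∧
            RepWith @QuasiCompact p ∧ RepWith @Etale p ∧ RepWith @Surjective p) := by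
  constructor
  · rintro ⟨ι, Xi, j, hj, hq⟩
    choose κ Y k hk U p hU he hs W hW hUW using fun i => exists_isZarCover_affine (Xi i)
    refine ⟨Σ i, κ i, fun a => Y a.1 a.2, fun a => k a.1 a.2 ≫ j a.1,
      ⟨fun a => repWith_comp ((hk a.1).1 a.2) (hj.1 a.1), fun x => ?_⟩, fun a => ?_⟩
    · obtain ⟨i, z, rfl⟩ := hj.2 x
      obtain ⟨l, y, rfl⟩ := (hk i).2 z
      exact ⟨⟨i, l⟩, y, by rw [← Points.map_comp]; rfl⟩
    · obtain ⟨i, l⟩ := a
      have := hU i l
      have := mono_of_openImmersion ((hk i).1 l)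
      exact ⟨U i l, p i l, hU i l, qc_chart_of_qs (Y i l).property (k i l).hom (hq i) (he i l) (hs i l)
        (W i l) (hW i l) (hUW i l), he i l, hs i l⟩
  · rintro ⟨ι, Xi, j, hj, h⟩
    exact ⟨ι, Xi, j, hj, fun i => by
      obtain ⟨U, p, hU, hq, he, hs⟩ := h i
      exact zarQS_of_qc_charts hU hq he hs⟩

end Groth.Agent.H12AlgSp
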