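import Groth.Agent.H12AlgSp.RelDim
import Groth.Agent.H12AlgSp.OpenSub

/-!
Loci where a morphism of algebraic spaces has a property in a neighbourhood.
-/

set_option backward.isDefEq.respectTransparency false

universe u

open CategoryTheory CategoryTheory.Limits AlgebraicGeometry Topology TopologicalSpace
open AlgSp

namespace Groth.Agent.H12AlgSp

variable {S : Scheme.{u}} {P : MorphismProperty Scheme.{u}}

/-- A scheme map has `P` near a point. -/
abbrev nbhdProp (P : MorphismProperty Scheme.{u}) : ∀ U V : Scheme.{u}, (U ⟶ V) → ↥U → Prop :=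
  fun U _ h u => ∃ W : U.Opens, u ∈ W ∧ P (W.ι ≫ h)

theorem etInvAt_nbhd (hP : EtLocal P) : EtInvAt ⊤ (nbhdProp P) where
  precomp {W U V} g f hg _ w := by
    have := hP.comp
    constructor
    · rintro ⟨W', hw, h⟩
      let I : U.Opens := ⟨g '' (W' : Set W), g.isOpenMap _ W'.isOpen⟩
      have e : W' ≤ g ⁻¹ᵁ I := fun z hz => ⟨z, hz, rfl⟩
      have het : Etale (g.resLE I W' e) := by
        have : Etale (g.resLE I W' e ≫ I.ι) := by rw [Scheme.Hom.resLE_comp_ι]; infer_instance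
        exact Etale.of_comp _ I.ι
      have hs : Surjective (g.resLE I W' e) := by
        refine ⟨fun y => ?_⟩
        obtain ⟨z, hz, ez⟩ := y.2
        refine ⟨⟨z, hz⟩, Subtype.ext ?_⟩
        refine Eq.trans ?_ ez
        change (g.resLE I W' e ≫ I.ι) ⟨z, hz⟩ = g z
        rw [Scheme.Hom.resLE_comp_ι, Scheme.Hom.comp_apply]
        rfl
      refine ⟨I, ⟨w, hw, rfl⟩, hP.descends (g.resLE I W' e) (I.ι ≫ f) het hs ?_⟩
      rw [← Category.assoc, Scheme.Hom.resLE_comp_ι, Category.assoc]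
      exact h
    · rintro ⟨O, hO, h⟩
      refine ⟨g ⁻¹ᵁ O, hO, ?_⟩
      rw [← Category.assoc, ← morphismRestrict_ι, Category.assoc]
      exact P.comp_mem _ _ (hP.etale_le _ _ _ (inferInstanceAs (Etale (g ∣_ O)))) h
  postcomp {U V V'} f g hg _ u := by
    have := hP.comp
    refine exists_congr fun W => and_congr_right fun _ => ⟨fun h => ?_, fun h => ?_⟩
    · exact hP.of_postcomp _ g hg (by rwa [Category.assoc])
    · rw [← Category.assoc]
      exact P.comp_mem _ _ h (hP.etale_le _ _ _ hg)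

theorem repWith_etale_of_openImmersion {F G : Sp S} {j : F ⟶ G} (hj : RepWith @IsOpenImmersion j) :
    RepWith @Etale j :=
  ⟨hj.rep, fun {_ _} g fst snd sq => by
    have : IsOpenImmersion snd.left := hj.property g fst snd sq
    exact inferInstanceAs (Etale snd.left)⟩

theorem nbhd_hasAtMor_iff (hP : EtLocal P) {F G : Sp S} {f : F ⟶ G} {U V : Over S}
    {a : (yon S).obj U ⟶ F} {b : (yon S).obj V ⟶ G} {h : U ⟶ V} (ha : RepWith @Etale a)
    (hb : RepWith @Etale b) (w : a ≫ f = (yon S).map h ≫ b) (u : U.left) :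
    HasAtMor (nbhdProp P) f (Points.ofPt a u) ↔ nbhdProp P U.left V.left h.left u :=
  (etInvAt_nbhd hP).hasAtMor_iff (locP_top f) ha hb w u

/-- The locus where a morphism has `P` in a neighbourhood is open. -/
theorem isOpen_nbhdLocus {F G : Sp S} (f : F ⟶ G) :
    IsOpen {x : Points F | HasAtMor (nbhdProp P) f x} := by
  refine isOpen_iff_forall_mem_open.2 fun x hx => ?_
  obtain ⟨U, V, a, b, h, u, ha, hb, w, rfl, W, hu, hW⟩ := hx
  exact ⟨Points.ofPt a '' (W : Set U.left), fun _ ⟨v, hv, e⟩ => e ▸ ⟨U, V, a, b, h, v, ha, hb, w, rfl, W, hv, hW⟩,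
    isOpenMap_ofPt_of_repWith etale_le_universallyOpen ha _ W.isOpen, ⟨u, hu, rfl⟩⟩

theorem of_nbhd [IsZariskiLocalAtSource P] {U V : Scheme.{u}} (h : U ⟶ V)
    (hh : ∀ u, nbhdProp P U V h u) : P h := by
  choose W hW hP using hh
  exact (IsZariskiLocalAtSource.iff_of_openCover (P := P)
    (U.openCoverOfIsOpenCover W (.mk (eq_top_iff.2 fun x _ => TopologicalSpace.Opens.mem_iSup.2 ⟨x, hW x⟩)))).2 hP

theorem locP_iff_forall_nbhd (hP : EtLocal P) [IsZariskiLocalAtSource P] {F G : Sp S} (hF : IsAlgSpace F)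
    (hG : IsAlgSpace G) (f : F ⟶ G) : LocP P f ↔ ∀ x : Points F, HasAtMor (nbhdProp P) f x := by
  have := hP.comp
  refine ⟨fun hf x => ?_, fun h U V a b q ha hb w =>
    of_nbhd q.left fun u => (nbhd_hasAtMor_iff hP ha hb w u).1 (h _)⟩
  obtain ⟨U, V, a, b, q, u, ha, hb, w, rfl⟩ := exists_chart_at hF hG f x
  exact ⟨U, V, a, b, q, u, ha, hb, w, rfl, ⊤, trivial,
    P.comp_mem _ _ (hP.etale_le _ _ _ (inferInstanceAs (Etale (⊤ : U.left.Opens).ι))) (hf a b q ha hb w)⟩

theorem nbhd_of_openImmersion_comp (hP : EtLocal P) {F F' G : Sp S} {f : F ⟶ G} {j : F' ⟶ F}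
    (hj : RepWith @IsOpenImmersion j) {z : Points F'}
    (hz : HasAtMor (nbhdProp P) (j ≫ f) z) : HasAtMor (nbhdProp P) f (Points.map j z) := by
  obtain ⟨U, V, a, b, q, u, ha, hb, w, rfl, hQ⟩ := hz
  exact ⟨U, V, a ≫ j, b, q, u,
    repWith_comp ha (repWith_etale_of_openImmersion hj),
    hb, by rw [Category.assoc, w], (Points.map_ofPt _ _ _).symm, hQ⟩

theorem nbhd_comp_of_openImmersion (hP : EtLocal P) {F F' G : Sp S} (hF : IsAlgSpace F')
    (hG : IsAlgSpace G) {f : F ⟶ G} {j : F' ⟶ F}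
    (hj : RepWith @IsOpenImmersion j) {z : Points F'}
    (hz : HasAtMor (nbhdProp P) f (Points.map j z)) : HasAtMor (nbhdProp P) (j ≫ f) z := by
  obtain ⟨U, V, a, b, q, u, ha, hb, w, rfl⟩ := exists_chart_at hF hG (j ≫ f) z
  rw [Points.map_ofPt, nbhd_hasAtMor_iff hP
    (repWith_comp ha (repWith_etale_of_openImmersion hj))
    hb (by rw [Category.assoc, w]) u] at hz
  exact ⟨U, V, a, b, q, u, ha, hb, w, rfl, hz⟩

end Groth.Agent.H12AlgSp
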