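import Groth.Agent.H12AlgSp.NormalizationReduced
import Groth.Agent.H12AlgSp.SchImage
import Groth.Agent.H12AlgSp.Sep
import Groth.Agent.H12AlgSp.ChevalleySpace
import Groth.Agent.H12AlgSp.Codim
import Groth.Agent.H13AlgSp.CodimZeroQf
import Groth.Agent.H13AlgSp.DecentApps

/-!
Codimension zero points of a relative normalization lift to the source.
-/

universe u

open CategoryTheory CategoryTheory.Limits AlgebraicGeometry Opposite Topology
open AlgSp Groth.Agent.H13AlgSp

set_option backward.isDefEq.respectTransparency false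

namespace Groth.Agent.H12AlgSp

/-- A morphism of affine schemes with dense image hits all generic points. -/
theorem mem_range_of_dense_affine {W U : Scheme.{u}} [IsAffine W] [IsAffine U] (w : W ⟶ U)
    (hw : DenseRange w) {u : U} (hu : u ∈ genericPoints U) : u ∈ Set.range w := by
  obtain ⟨φ, hφ⟩ := Spec.map_surjective (W.isoSpec.inv ≫ w ≫ U.isoSpec.hom)
  have hd : DenseRange (PrimeSpectrum.comap φ.hom) := by
    have h1 : DenseRange (W.isoSpec.inv ≫ w ≫ U.isoSpec.hom) := by
      rw [Scheme.Hom.comp_base, Scheme.Hom.comp_base, TopCat.coe_comp, TopCat.coe_comp]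
      exact (U.isoSpec.hom.surjective.denseRange.comp hw U.isoSpec.hom.continuous).comp
        W.isoSpec.inv.surjective.denseRange (U.isoSpec.hom.continuous.comp w.continuous)
    rw [← hφ] at h1
    exact h1
  let x : PrimeSpectrum Γ(U, ⊤) := U.isoSpec.hom u
  have hx : StableUnderGeneralization ({x} : Set (PrimeSpectrum Γ(U, ⊤))) := by
    rintro y z hyz rfl
    have h2 : U.isoSpec.inv z ⤳ u := by
      have := hyz.map U.isoSpec.inv.continuous
      rwa [show U.isoSpec.inv x = u from by rw [← Scheme.Hom.comp_apply, U.isoSpec.hom_inv_id]; rfl] at this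
    have h3 := Groth.Agent.H8Props.mem_genericPoints_iff.1 hu _ h2
    show z = U.isoSpec.hom u
    rw [← h3, ← Scheme.Hom.comp_apply, U.isoSpec.inv_hom_id]
    rfl
  obtain ⟨q, hq⟩ := (PrimeSpectrum.denseRange_comap_iff_minimalPrimes φ.hom).1 hd x.asIdeal
    (PrimeSpectrum.stableUnderGeneralization_singleton.1 hx)
  refine ⟨W.isoSpec.inv q, ?_⟩
  apply U.isoSpec.hom.isOpenEmbedding.injective
  exact (congrArg (fun m : Spec Γ(W, ⊤) ⟶ Spec Γ(U, ⊤) => m q) hφ).symm.trans hq

variable {S : Scheme.{u}}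

/-- The map to the relative normalization has dense image. -/
theorem denseRange_normalization {Y X X' : Sp S} (hY : IsAlgSpace Y) (hX' : IsAlgSpace X') {f : Y ⟶ X}
    {ν : X' ⟶ X} {f' : Y ⟶ X'} (hn : IsRelNormalization f ν f') (hq : IsQuasiCompactMor f') :
    Dense (Set.range (Points.map f')) := by
  obtain ⟨hf', hν, huniv⟩ := hn
  obtain ⟨Z, r, hZ, hr⟩ := exists_isSchImage hY hX' f'
  have hrange := range_schImage_subset hY hX' hq hZ hr
  obtain ⟨hr, ⟨g, hg⟩, -⟩ := hr
  have hgπ : g ≫ r ≫ ν = f := by rw [← Category.assoc, hg, hf']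
  obtain ⟨h, ⟨hh₁, hh₂⟩, -⟩ := huniv hZ (r ≫ ν) g (isIntegralMor_closedImmersion_comp hr hν) hgπ
  obtain ⟨e, -, he⟩ := huniv hX' ν f' hν hf'
  have h1 : h ≫ r = 𝟙 X' :=
    (he (h ≫ r) ⟨by rw [← Category.assoc, hh₁, hg], by rw [Category.assoc]; exact hh₂⟩).trans
      (he (𝟙 X') ⟨Category.comp_id _, Category.id_comp _⟩).symm
  refine dense_iff_closure_eq.2 (Set.eq_univ_of_forall fun z => hrange ⟨Points.map h z, ?_⟩)
  rw [← Points.map_comp, h1, Points.map_id]

theorem exists_codimZero_lift {Y X X' : Sp S} (hY : IsAlgSpace Y) (hX : IsAlgSpace X) (hX' : IsAlgSpace X')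
    (f : Y ⟶ X) (hqc : IsQuasiCompactMor f) (ν : X' ⟶ X) (f' : Y ⟶ X') (hn : IsRelNormalization f ν f')
    (x' : Points X') (hx' : HasAt (fun U u => ringKrullDim ↥(U.presheaf.stalk u) = 0) X' x') :
    ∃ y : Points Y, HasAt (fun U u => ringKrullDim ↥(U.presheaf.stalk u) = 0) Y y ∧ Points.map f' y = x' := by
  have hνd : RepWith @QuasiCompact (pullback.diagonal ν) := by
    refine repWith_le (fun _ _ k (_ : IsClosedImmersion k) => inferInstanceAs (QuasiCompact k))
      (isSeparatedMor_of_repWith (repWith_le ?_ (isIntegralMor_iff.1 hn.2.1)))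
    exact fun _ _ k (_ : IsIntegralHom k) => inferInstanceAs (IsSeparated k)
  have hqc' : IsQuasiCompactMor f' :=
    isQuasiCompactMor_of_comp hY hX' hX (by rw [hn.1]; exact hqc) hνd
  have hdense := denseRange_normalization hY hX' hn hqc'
  obtain ⟨U₀, a₀, ha₀, has₀⟩ := hX'.atlas
  obtain ⟨u₀, rfl⟩ := surjective_ofPt_of_repWith le_rfl has₀ x'
  obtain ⟨O, hO, hu, -⟩ := exists_isAffineOpen_mem_and_subset (U := (⊤ : U₀.left.Opens)) (x := u₀) trivial
  let U := openOver U₀ O
  let a : (yon S).obj U ⟶ X' := (yon S).map (openIncl U₀ O) ≫ a₀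
  have ha : RepWith @Etale a := repWith_etale_openIncl ha₀ O
  have : IsAffine U.left := hO
  let u : U.left := ⟨u₀, hu⟩
  have hau : Points.ofPt a u = Points.ofPt a₀ u₀ := ofPt_map (openIncl U₀ O) a₀ _
  have hug : u ∈ genericPoints U.left :=
    (codimZero_iff_mem_genericPoints hX' ha u).1 (hau.symm ▸ hx')
  have hP : IsAlgSpace (pullback f' a) := isAlgSpace_pullback hX'.diag hY (IsAlgSpace.yon_obj _) f' a
  have hPq : IsQuasiCompactSp (pullback f' a) :=
    hqc' (IsAlgSpace.yon_obj _) (isQuasiCompactSp_yon_iff.2 (inferInstanceAs (CompactSpace U.left))) a _ _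
      (IsPullback.of_hasPullback f' a)
  have := compactSpace_points_of_isQuasiCompactSp hPq
  obtain ⟨W, b, hW, hb, hbs⟩ := exists_affine_atlas hP
  obtain ⟨w, hw⟩ := (yon S).map_surjective (b ≫ pullback.snd f' a)
  let β := b ≫ pullback.fst f' a
  have hβ : RepWith @Etale β :=
    repWith_comp hb (repWith_of_isPullback (IsPullback.of_hasPullback f' a).flip ha)
  have hcomm : ∀ z, Points.map f' (Points.ofPt β z) = Points.ofPt a (w.left z) := fun z => by
    rw [Points.map_ofPt, Category.assoc, pullback.condition, ← Category.assoc, ← hw, ofPt_map]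
  have hrange : Points.ofPt a ⁻¹' Set.range (Points.map f') ⊆ Set.range w.left := by
    rintro z ⟨y, hy⟩
    obtain ⟨p, hp₁, hp₂⟩ := exists_point_of_isPullback (IsPullback.of_hasPullback f' a) y
      (Points.ofScheme U z) (hy.trans (Points.ofPt_eq_map_ofScheme a z))
    obtain ⟨v, rfl⟩ := surjective_ofPt_of_repWith le_rfl hbs p
    refine ⟨v, (Points.schemeEquiv U).injective (Eq.trans ?_ hp₂)⟩
    rw [Points.map_ofPt, ← hw, ← Category.comp_id ((yon S).map w), ofPt_map]
    rw [Points.ofPt_eq_map_ofScheme, Points.map_id]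
    rfl
  have hwd : DenseRange w.left := ((hdense.preimage
    (isOpenMap_ofPt_of_repWith etale_le_universallyOpen ha)).mono hrange)
  obtain ⟨z, hz⟩ := mem_range_of_dense_affine w.left hwd hug
  obtain ⟨η, hη, hηz⟩ := Groth.Agent.H8Props.exists_genericPoints_specializes z
  have hsp : w.left η ⤳ u := hz ▸ hηz.map w.left.continuous
  refine ⟨Points.ofPt β η, ⟨W, β, η, hβ, rfl, (ringKrullDim_stalk_eq_zero_iff _).2 hη⟩, ?_⟩
  rw [hcomm, Groth.Agent.H8Props.mem_genericPoints_iff.1 hug _ hsp, hau]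

end Groth.Agent.H12AlgSp
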