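import Groth.Agent.H12AlgSp.OpenScheme
import Groth.Agent.H13AlgSp.RedInduced
import Groth.Agent.H12AlgSp.AffineMor
import Groth.Prelude.Def_AlgSpMor5

/-!
The relative normalization in a reduced space is reduced.
-/

universe u

open CategoryTheory CategoryTheory.Limits AlgebraicGeometry Opposite Topology
open AlgSp Groth.Agent.H13AlgSp

set_option backward.isDefEq.respectTransparency false

namespace Groth.Agent.H12AlgSp

variable {S : Scheme.{u}}

theorem isIntegralMor_closedImmersion_comp {Z X Y : Sp S} {r : Z ⟶ X} (hr : RepWith @IsClosedImmersion r)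
    {ν : X ⟶ Y} (hν : IsIntegralMor ν) : IsIntegralMor (r ≫ ν) := by
  intro T hT g
  obtain ⟨W, i, fst, sq, hW, hi⟩ := hν hT g
  obtain ⟨W', j, fst', sq'⟩ := hr.1 fst
  have hj : IsClosedImmersion j.left := hr.2 _ _ _ sq'
  have : IsAffine W.left := hW
  refine ⟨W', j ≫ i, fst', ?_, isAffine_of_isAffineHom j.left, ?_⟩
  · rw [Functor.map_comp]
    exact sq'.paste_vert sq
  · rw [Over.comp_left]
    infer_instance

theorem isReducedSp_normalization {Y X X' : Sp S} (hX' : IsAlgSpace X')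
    (hY : IsAlgSpace Y) (f : Y ⟶ X) (ν : X' ⟶ X) (f' : Y ⟶ X') (hn : IsRelNormalization f ν f')
    (hred : IsReducedSp Y) : IsReducedSp X' := by
  obtain ⟨hf', hν, huniv⟩ := hn
  obtain ⟨Z, r, hZ, hr, hrange, hZred⟩ := exists_isRedInduced hX' (T := Set.univ) isClosed_univ
  obtain ⟨g, hg⟩ := exists_factor_closed hr hred f' (by rw [hrange]; exact Set.subset_univ _)
  have hgπ : g ≫ r ≫ ν = f := by rw [← Category.assoc, hg, hf']
  obtain ⟨h, ⟨hh₁, hh₂⟩, -⟩ := huniv hZ (r ≫ ν) g (isIntegralMor_closedImmersion_comp hr hν) hgπ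
  obtain ⟨e, -, he⟩ := huniv hX' ν f' hν hf'
  have h1 : h ≫ r = 𝟙 X' :=
    (he (h ≫ r) ⟨by rw [← Category.assoc, hh₁, hg], by rw [Category.assoc]; exact hh₂⟩).trans
      (he (𝟙 X') ⟨Category.comp_id _, Category.id_comp _⟩).symm
  have : Mono r := mono_of_repWith (fun _ _ k (_ : IsClosedImmersion k) => (inferInstance : Mono k)) hr
  have h2 : r ≫ h = 𝟙 Z := by rw [← cancel_mono r, Category.assoc, h1, Category.comp_id, Category.id_comp]
  have : IsIso r := ⟨h, h2, h1⟩
  obtain ⟨U, p, hp, hps, hU⟩ := hZred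
  exact ⟨U, p ≫ r, repWith_comp hp (repWith_of_isIso r), repWith_comp hps (repWith_of_isIso r), hU⟩

end Groth.Agent.H12AlgSp
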