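import Groth.Agent.H12AlgSp.EqualizerQuotient
import Groth.Agent.H12AlgSp.DecentPoint
import Groth.Agent.H13AlgSp.MonoDiscrete
import Mathlib.AlgebraicGeometry.Sites.Fpqc
import Mathlib.RingTheory.Ideal.GoingUp

/-!
Maps from one point affine schemes with finite locally free kernel pair factor as a finite locally free
quotient followed by a monomorphism.
-/

universe u

open CategoryTheory CategoryTheory.Limits AlgebraicGeometry Opposite TensorProduct
open AlgSp Groth.Agent.H13AlgSp

namespace Groth.Agent.H12AlgSp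

variable {S : Scheme.{u}}

/-- A type synonym carrying the algebra structure of a second ring map. -/
def Twist {B C : Type u} [CommRing B] [CommRing C] (_τ : B →+* C) : Type u := C

instance {B C : Type u} [CommRing B] [CommRing C] (τ : B →+* C) : CommRing (Twist τ) :=
  inferInstanceAs (CommRing C)

instance {B C : Type u} [CommRing B] [CommRing C] (τ : B →+* C) : Algebra B (Twist τ) :=
  RingHom.toAlgebra (R := B) (S := C) τ

/-- A map from a local scheme with finite locally free kernel pair is a finite locally free quotient followed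
by a monomorphism. -/
theorem exists_quotient_mono {X : Sp S} {B : CommRingCat.{u}} [IsLocalRing B] (str : Spec B ⟶ S)
    (p : (yon S).obj (Over.mk str) ⟶ X) {R : Over S} (s t : R ⟶ Over.mk str)
    (sq : IsPullback ((yon S).map s) ((yon S).map t) p p)
    (hfin : IsFinite s.left) (hflat : Flat s.left) (hfp : LocallyOfFinitePresentation s.left) :
    ∃ (A : Subring B) (str' : Spec (CommRingCat.of A) ⟶ S) (c : Over.mk str ⟶ Over.mk str')
      (i : (yon S).obj (Over.mk str') ⟶ X),
      (yon S).map c ≫ i = p ∧ Mono i ∧ IsPullback s t c c ∧ IsFinite c.left ∧ Flat c.left ∧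
      LocallyOfFinitePresentation c.left ∧ Surjective c.left ∧ (IsField B → IsField A) := by
  let s₀ : R.left ⟶ Spec B := s.left
  let t₀ : R.left ⟶ Spec B := t.left
  have : IsFinite s₀ := hfin
  have : Flat s₀ := hflat
  have : LocallyOfFinitePresentation s₀ := hfp
  have : IsAffine R.left := isAffine_of_isAffineHom s₀
  let C : CommRingCat.{u} := Γ(R.left, ⊤)
  let r : R.left ≅ Spec C := R.left.isoSpec
  let σ : B ⟶ C := Spec.preimage (r.inv ≫ s₀)
  let τ : B ⟶ C := Spec.preimage (r.inv ≫ t₀)
  have hσ : Spec.map σ = r.inv ≫ s₀ := Spec.map_preimage _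
  have hτ : Spec.map τ = r.inv ≫ t₀ := Spec.map_preimage _
  let RC : Over S := Over.mk (r.inv ≫ R.hom)
  let sC : RC ⟶ Over.mk str := Over.homMk (Spec.map σ) (by
    change Spec.map σ ≫ str = r.inv ≫ R.hom
    rw [hσ, Category.assoc]; exact congrArg (r.inv ≫ ·) (Over.w s))
  let tC : RC ⟶ Over.mk str := Over.homMk (Spec.map τ) (by
    change Spec.map τ ≫ str = r.inv ≫ R.hom
    rw [hτ, Category.assoc]; exact congrArg (r.inv ≫ ·) (Over.w t))
  let rO : RC ≅ R := Over.isoMk r.symm rfl
  have sqC : IsPullback ((yon S).map sC) ((yon S).map tC) p p :=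
    sq.of_iso ((yon S).mapIso rO.symm) (Iso.refl _) (Iso.refl _) (Iso.refl _)
      (by
        rw [Iso.refl_hom, Category.comp_id, Functor.mapIso_hom, ← Functor.map_comp]
        refine congrArg _ (Over.OverMorphism.ext ?_)
        change s₀ = r.hom ≫ Spec.map σ
        rw [hσ, Iso.hom_inv_id_assoc])
      (by
        rw [Iso.refl_hom, Category.comp_id, Functor.mapIso_hom, ← Functor.map_comp]
        refine congrArg _ (Over.OverMorphism.ext ?_)
        change t₀ = r.hom ≫ Spec.map τ
        rw [hτ, Iso.hom_inv_id_assoc])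
      (by simp) (by simp)
  -- points of the relation
  have ext_R : ∀ {T : Over S} (g h : T ⟶ RC), g ≫ sC = h ≫ sC → g ≫ tC = h ≫ tC → g = h :=
    fun g h h1 h2 => (yon S).map_injective (sqC.hom_ext (by rw [← Functor.map_comp, h1, Functor.map_comp])
      (by rw [← Functor.map_comp, h2, Functor.map_comp]))
  have lift_R : ∀ {T : Over S} (g h : T ⟶ Over.mk str), (yon S).map g ≫ p = (yon S).map h ≫ p →
      ∃ l : T ⟶ RC, l ≫ sC = g ∧ l ≫ tC = h := fun g h e => by
    obtain ⟨l, hl⟩ := (yon S).map_surjective (sqC.lift ((yon S).map g) ((yon S).map h) e)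
    exact ⟨l, (yon S).map_injective (by rw [Functor.map_comp, hl, sqC.lift_fst]),
      (yon S).map_injective (by rw [Functor.map_comp, hl, sqC.lift_snd])⟩
  -- the algebra structures
  algebraize [σ.hom]
  have : IsFinite (Spec.map σ) := by rw [hσ]; infer_instance
  have : Flat (Spec.map σ) := by rw [hσ]; infer_instance
  have : LocallyOfFinitePresentation (Spec.map σ) := by rw [hσ]; infer_instance
  have hF : Module.Finite B C := RingHom.finite_algebraMap.mp ((IsFinite.SpecMap_iff σ).mp ‹IsFinite (Spec.map σ)›)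
  have hFl : Module.Flat B C := RingHom.flat_algebraMap_iff.1 (Flat.SpecMap_iff.mp ‹Flat (Spec.map σ)›)
  have hAFP : Algebra.FinitePresentation B C := RingHom.finitePresentation_algebraMap.mp
    ((HasRingHomProperty.Spec_iff (P := @LocallyOfFinitePresentation)).mp ‹LocallyOfFinitePresentation (Spec.map σ)›)
  have hMFP : Module.FinitePresentation B C := Module.FinitePresentation.of_finite_of_finitePresentation B C
  -- the identity
  obtain ⟨eR, he1, he2⟩ := lift_R (𝟙 (Over.mk str)) (𝟙 _) rfl
  let ε : C ⟶ B := Spec.preimage eR.left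
  have hεσ : σ ≫ ε = 𝟙 B := Spec.map_injective (by
    rw [Spec.map_comp, Spec.map_preimage, Spec.map_id]; exact congrArg CommaMorphism.left he1)
  have hετ : τ ≫ ε = 𝟙 B := Spec.map_injective (by
    rw [Spec.map_comp, Spec.map_preimage, Spec.map_id]; exact congrArg CommaMorphism.left he2)
  -- generation by the two maps
  have hgen : Submodule.span B (Set.range τ.hom) = ⊤ := by
    let D : Subalgebra B C := Algebra.adjoin B (Set.range τ.hom)
    let j : CommRingCat.of D ⟶ C := CommRingCat.ofHom D.val.toRingHom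
    have hjσ : CommRingCat.ofHom (algebraMap B D) ≫ j = σ := rfl
    let τD : B ⟶ CommRingCat.of D :=
      CommRingCat.ofHom (τ.hom.codRestrict D fun x => Algebra.subset_adjoin ⟨x, rfl⟩)
    have hjτ : τD ≫ j = τ := rfl
    have : IsFinite (Spec.map j) :=
      (IsFinite.SpecMap_iff j).mpr (RingHom.Finite.of_comp_finite (f := algebraMap B D)
        (RingHom.finite_algebraMap.mpr hF))
    have : Mono (Spec.map j) := ⟨fun {T} g h e => by
      have e₁ : g ≫ Spec.map σ = h ≫ Spec.map σ := by
        rw [← hjσ, Spec.map_comp, ← Category.assoc, e, Category.assoc]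
      have e₂ : g ≫ Spec.map τ = h ≫ Spec.map τ := by
        rw [← hjτ, Spec.map_comp, ← Category.assoc, e, Category.assoc]
      let g' : Over.mk (g ≫ RC.hom) ⟶ RC := Over.homMk g rfl
      let h' : Over.mk (g ≫ RC.hom) ⟶ RC := Over.homMk h (by
        change h ≫ RC.hom = g ≫ RC.hom
        rw [← show Spec.map σ ≫ str = RC.hom from Over.w sC, ← Category.assoc, ← e₁, Category.assoc])
      exact congrArg CommaMorphism.left (ext_R g' h' (Over.OverMorphism.ext e₁) (Over.OverMorphism.ext e₂))⟩
    have : IsClosedImmersion (Spec.map j) :=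
      (IsClosedImmersion.iff_isFinite_and_mono _).2 ⟨inferInstance, inferInstance⟩
    have hj : Function.Surjective j.hom :=
      (RingHom.surjective_respectsIso.arrow_mk_iso_iff (arrowIsoΓSpecOfIsAffine j)).2
        (IsClosedImmersion.isAffine_surjective_of_isAffine (Spec.map j)).2
    have hD : D = ⊤ := eq_top_iff.2 fun x _ => by
      obtain ⟨y, rfl⟩ := hj x
      exact y.2
    have hc : (Submonoid.closure (Set.range τ.hom) : Set C) = Set.range τ.hom := by
      refine le_antisymm ?_ Submonoid.subset_closure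
      exact (Submonoid.closure_le (S := MonoidHom.mrange τ.hom.toMonoidHom)).2 fun x hx => hx
    rw [← hc, ← Algebra.adjoin_eq_span]
    exact congrArg Subalgebra.toSubmodule hD
  -- composition
  let ι : C ≃+* Twist τ.hom := RingEquiv.refl _
  let P := CommRingCat.of (Twist τ.hom ⊗[B] C)
  let φ₁ : C ⟶ P := CommRingCat.ofHom
    ((Algebra.TensorProduct.includeLeftRingHom : Twist τ.hom →+* _).comp ι.toRingHom)
  let φ₂ : C ⟶ P := CommRingCat.ofHom
    (Algebra.TensorProduct.includeRight : C →ₐ[B] Twist τ.hom ⊗[B] C).toRingHom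
  have hφ : τ ≫ φ₁ = σ ≫ φ₂ := by
    ext x
    exact (Algebra.TensorProduct.tmul_one_eq_one_tmul (A := Twist τ.hom) (B := C) x :
      algebraMap B (Twist τ.hom) x ⊗ₜ[B] (1 : C) = _)
  let TP : Over S := Over.mk (Spec.map φ₁ ≫ RC.hom)
  let q₁ : TP ⟶ RC := Over.homMk (Spec.map φ₁) rfl
  have w₁ : q₁.left ≫ Spec.map τ = Spec.map φ₂ ≫ Spec.map σ :=
    show Spec.map φ₁ ≫ Spec.map τ = _ by rw [← Spec.map_comp, hφ, Spec.map_comp]
  let q₂ : TP ⟶ RC := Over.homMk (Spec.map φ₂) (by
    change Spec.map φ₂ ≫ RC.hom = Spec.map φ₁ ≫ RC.hom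
    conv_rhs => rw [← show Spec.map τ ≫ str = RC.hom from Over.w tC, ← Category.assoc,
      show Spec.map φ₁ ≫ Spec.map τ = _ from w₁, Category.assoc,
      show Spec.map σ ≫ str = RC.hom from Over.w sC])
  obtain ⟨l, hl1, hl2⟩ := lift_R (q₁ ≫ sC) (q₂ ≫ tC) (by
    rw [Functor.map_comp, Functor.map_comp, Category.assoc, Category.assoc, sqC.w, ← Category.assoc,
      ← Functor.map_comp, show q₁ ≫ tC = q₂ ≫ sC from Over.OverMorphism.ext w₁, Functor.map_comp,
      Category.assoc, sqC.w])
  let m : C ⟶ P := Spec.preimage l.left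
  have hm : Spec.map m = l.left := Spec.map_preimage _
  have hmσ : σ ≫ m = σ ≫ φ₁ := Spec.map_injective (by
    rw [Spec.map_comp, Spec.map_comp, hm]; exact congrArg CommaMorphism.left hl1)
  have hmτ : τ ≫ m = τ ≫ φ₂ := Spec.map_injective (by
    rw [Spec.map_comp, Spec.map_comp, hm]; exact congrArg CommaMorphism.left hl2)
  -- the ring of invariants
  obtain ⟨hfree, hfinA, hpo⟩ := exists_equalizer_quotient (B := B) (C := C) ι τ.hom (fun _ => rfl) hgen ε.hom
    (fun x => congr($hεσ x)) (fun x => congr($hετ x)) m.hom (fun x => congr($hmσ x)) (fun x => congr($hmτ x))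
  let A : Subring B := (algebraMap B C).eqLocus τ.hom
  let a : CommRingCat.of A ⟶ B := CommRingCat.ofHom A.subtype
  have sqA : IsPullback (Spec.map σ) (Spec.map τ) (Spec.map a) (Spec.map a) :=
    isPullback_SpecMap_of_isPushout _ _ _ _ hpo
  have : Module.Finite A B := hfinA
  have : Module.Free A B := hfree
  have : Module.FinitePresentation A B := Module.finitePresentation_of_projective _ _
  have : Algebra.FinitePresentation A B := Algebra.FinitePresentation.of_finitePresentation _ _
  have : IsFinite (Spec.map a) := (IsFinite.SpecMap_iff a).mpr (RingHom.finite_algebraMap.mpr hfinA)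
  have : Flat (Spec.map a) := Flat.SpecMap_iff.mpr (RingHom.flat_algebraMap_iff.2 (inferInstance : Module.Flat A B))
  have : LocallyOfFinitePresentation (Spec.map a) :=
    (HasRingHomProperty.Spec_iff (P := @LocallyOfFinitePresentation)).mpr
      (RingHom.finitePresentation_algebraMap.mpr ‹Algebra.FinitePresentation A B›)
  have : Surjective (Spec.map a) := ⟨PrimeSpectrum.comap_surjective_of_faithfullyFlat (A := A) (B := B)⟩
  have hdesc : ∀ {Z : Scheme.{u}} (g₁ g₂ : Z ⟶ Spec B), g₁ ≫ Spec.map a = g₂ ≫ Spec.map a →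
      g₁ ≫ str = g₂ ≫ str := fun {Z} g₁ g₂ e => by
    have e1 := sqA.lift_fst g₁ g₂ e
    have e2 := sqA.lift_snd g₁ g₂ e
    conv_lhs => rw [← e1, Category.assoc, show Spec.map σ ≫ str = RC.hom from Over.w sC]
    conv_rhs => rw [← e2, Category.assoc, show Spec.map τ ≫ str = RC.hom from Over.w tC]
  let str' : Spec (CommRingCat.of A) ⟶ S := EffectiveEpi.desc (Spec.map a) str hdesc
  let c : Over.mk str ⟶ Over.mk str' := Over.homMk (Spec.map a) (EffectiveEpi.fac (Spec.map a) str hdesc)
  have sqO : IsPullback sC tC c c := IsPullback.of_map_of_faithful (Over.forget S) sqA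
  have sqO' : IsPullback s t c c :=
    sqO.of_iso rO (Iso.refl _) (Iso.refl _) (Iso.refl _)
      (by
        rw [Iso.refl_hom, Category.comp_id]; refine Over.OverMorphism.ext ?_
        change Spec.map σ = r.inv ≫ s₀
        exact hσ)
      (by
        rw [Iso.refl_hom, Category.comp_id]; refine Over.OverMorphism.ext ?_
        change Spec.map τ = r.inv ≫ t₀
        exact hτ)
      (by simp) (by simp)
  have : Flat c.left := ‹Flat (Spec.map a)›
  have : LocallyOfFinitePresentation c.left := ‹LocallyOfFinitePresentation (Spec.map a)›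
  have : Surjective c.left := ‹Surjective (Spec.map a)›
  have hcov : ∀ {W : Over S} (g : W ⟶ Over.mk str'), Flat (pullback.fst g c).left ∧
      LocallyOfFinitePresentation (pullback.fst g c).left ∧ Surjective (pullback.fst g c).left := fun g => by
    have sqg := ((IsPullback.of_hasPullback g c).map (Over.forget S)).flip
    exact ⟨MorphismProperty.of_isPullback sqg (inferInstanceAs (Flat c.left)),
      MorphismProperty.of_isPullback sqg (inferInstanceAs (LocallyOfFinitePresentation c.left)),
      MorphismProperty.of_isPullback sqg (inferInstanceAs (Surjective c.left))⟩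
  have : Epi ((yon S).map c) := epi_of_local_lifts _ fun W y => by
    obtain ⟨g, rfl⟩ := (yon S).map_surjective y
    obtain ⟨h₁, h₂, h₃⟩ := hcov g
    exact ⟨PUnit, fun _ => pullback g c, fun _ => pullback.fst g c,
      ofArrows_mem_J _ (fun _ => h₁) (fun _ => h₂) (fun w => ⟨⟨⟩, h₃.1 w⟩),
      fun _ => ⟨(yon S).map (pullback.snd g c), by
        rw [← Functor.map_comp, ← Functor.map_comp, pullback.condition]⟩⟩
  have : IsRegularEpi ((yon S).map c) := IsRegularEpiCategory.regularEpiOfEpi _
  have co := IsKernelPair.toCoequalizer' (sqO'.map (yon S))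
  obtain ⟨i, hi : (yon S).map c ≫ i = p⟩ := Cofork.IsColimit.desc' co p sq.w
  have hmono : Mono i := by
    refine mono_of_yon fun T ya yb e => ?_
    obtain ⟨ta, rfl⟩ := (yon S).map_surjective ya
    obtain ⟨tb, rfl⟩ := (yon S).map_surjective yb
    let T₁ := pullback ta c
    let T₂ := pullback (pullback.fst ta c ≫ tb) c
    let π : T₂ ⟶ T := pullback.fst (pullback.fst ta c ≫ tb) c ≫ pullback.fst ta c
    let ua : T₂ ⟶ Over.mk str := pullback.fst (pullback.fst ta c ≫ tb) c ≫ pullback.snd ta c
    let ub : T₂ ⟶ Over.mk str := pullback.snd (pullback.fst ta c ≫ tb) c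
    have ha : ua ≫ c = π ≫ ta := by simp [ua, π, pullback.condition]
    have hb : ub ≫ c = π ≫ tb := by simp [ub, π, ← pullback.condition]
    obtain ⟨k, hk1, hk2⟩ := lift_R ua ub (by
      rw [← hi, ← Functor.map_comp_assoc, ← Functor.map_comp_assoc, ha, hb]
      simp only [Functor.map_comp, Category.assoc, e])
    have heq : π ≫ ta = π ≫ tb := by rw [← ha, ← hb, ← hk1, ← hk2, Category.assoc, Category.assoc, sqO.w]
    obtain ⟨g₁, g₂, g₃⟩ := hcov ta
    obtain ⟨g₄, g₅, g₆⟩ := hcov (pullback.fst ta c ≫ tb)
    have : Flat π.left := by rw [Over.comp_left]; infer_instance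
    have : LocallyOfFinitePresentation π.left := by rw [Over.comp_left]; infer_instance
    have : Surjective π.left := by rw [Over.comp_left]; infer_instance
    have : Epi π.left := inferInstance
    exact congrArg _ (Over.OverMorphism.ext ((cancel_epi π.left).1 (congrArg CommaMorphism.left heq)))
  refine ⟨A, str', c, i, hi, hmono, sqO', ‹IsFinite (Spec.map a)›, inferInstance, inferInstance,
    inferInstance, fun hB => ?_⟩
  let := hB.toField
  exact isField_of_isIntegral_of_isField (R := A) (S := B) (Subtype.val_injective) hB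

end Groth.Agent.H12AlgSp
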