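import Groth.Agent.H12AlgSp.OnePointQuotient
import Groth.Agent.H12AlgSp.QCPoint

/-!
Decent algebraic spaces with one point are schemes.
-/

universe u

open CategoryTheory CategoryTheory.Limits AlgebraicGeometry Opposite Topology
open AlgSp Groth.Agent.H13AlgSp

namespace Groth.Agent.H12AlgSp

variable {S : Scheme.{u}}

theorem exists_iso_of_one_point {X : Sp S} (hX : IsAlgSpace X) (hd : IsDecent X) [Nonempty (Points X)]
    [Subsingleton (Points X)] : ∃ T : Over S, Nonempty ((yon S).obj T ≅ X) := by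
  obtain ⟨q₀, -, -, hq₀⟩ := hd (Classical.arbitrary _)
  obtain ⟨U₀, a₀, ha₀, has₀⟩ := hX.atlas
  obtain ⟨u₀, hu₀⟩ := surjective_ofPt_of_repWith le_rfl has₀ (Points.mk q₀)
  obtain ⟨A, hA, huA, -⟩ := TopologicalSpace.Opens.isBasis_iff_nbhd.mp U₀.left.isBasis_affineOpens
    (TopologicalSpace.Opens.mem_top u₀)
  let U := openOver U₀ A
  have hU : IsAffine U.left := hA
  have ha := repWith_etale_openIncl ha₀ A
  let a : (yon S).obj U ⟶ X := (yon S).map (openIncl U₀ A) ≫ a₀
  have huniv : ∀ u : U.left, Points.ofPt a u = Points.mk q₀ := fun u => Subsingleton.elim _ _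
  have hfin : (Set.univ : Set U.left).Finite :=
    (finite_fibre_affine q₀ hq₀ (b := a) ha).subset fun u _ => huniv u
  obtain ⟨N, hN, huN, hNu⟩ := exists_open_inter_eq hfin
    (fun u _ v _ h => eq_of_specializes_of_qc q₀ hq₀ ha (huniv v) (huniv u) h |>.symm)
    (Set.mem_univ (⟨u₀, huA⟩ : U.left))
  let O : U.left.Opens := ⟨N, hN⟩
  let V := openOver U O
  have hVs : Subsingleton V.left :=
    ⟨fun x y => Subtype.ext ((hNu _ trivial x.2).trans (hNu _ trivial y.2).symm)⟩
  have hVn : Nonempty V.left := ⟨⟨⟨u₀, huA⟩, huN⟩⟩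
  have : IsAffine V.left := Groth.Agent.H13AlgSp.isAffine_of_subsingleton _
  let B := Γ(V.left, ⊤)
  let e : V.left ≅ Spec B := V.left.isoSpec
  let V' : Over S := Over.mk (e.inv ≫ V.hom)
  let ι : V' ⟶ V := Over.homMk e.inv rfl
  let pV : (yon S).obj V' ⟶ X := (yon S).map (ι ≫ openIncl U O) ≫ a
  have hpV : RepWith @Etale pV := by
    refine MorphismProperty.comp_mem _ _ _ ((repWith_yon_map_iff _ _).2 ?_) ha
    have : Etale (openIncl U O).left := inferInstanceAs (Etale (Scheme.Opens.ι (X := U.left) O))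
    have : Etale ι.left := (inferInstance : Etale e.inv)
    rw [Over.comp_left]
    infer_instance
  have hsub : Subsingleton (Spec B) := (Scheme.homeoOfIso e).symm.injective.subsingleton
  have hne : Nonempty (Spec B) := hVn.map (Scheme.homeoOfIso e)
  have : Nontrivial B := PrimeSpectrum.nonempty_iff_nontrivial.mp hne
  have hsub' : Subsingleton (PrimeSpectrum B) := hsub
  have : IsLocalRing B := by
    obtain ⟨m, hm⟩ := Ideal.exists_maximal B
    exact IsLocalRing.of_unique_max_ideal ⟨m, hm, fun n hn =>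
      congrArg PrimeSpectrum.asIdeal (Subsingleton.elim (⟨n, hn.isPrime⟩ : PrimeSpectrum B) ⟨m, hm.isPrime⟩)⟩
  have hsurj : RepWith @Surjective pV := repWith_surjective_of_map (hX.representable_from_yon pV)
    fun y => ⟨Points.ofScheme V' hne.some, Subsingleton.elim _ _⟩
  obtain ⟨R, t, s', sq⟩ := hpV.1 pV
  obtain ⟨s, rfl⟩ := (yon S).map_surjective s'
  let s₀ : R.left ⟶ Spec B := s.left
  have : Etale s₀ := hpV.2 pV _ s sq.flip
  have : IsAffine V'.left := inferInstanceAs (IsAffine (Spec B))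
  have hR : Finite R.left := Finite.of_finite_univ
    ((finite_fibre_rel hX q₀ hq₀ hpV (U := V') sq).subset fun r _ => Subsingleton.elim _ _)
  have := lqf_of_etale s₀
  have : T1Space R.left := t1Space_iff_specializes_imp_eq.2 fun x y h =>
    Groth.Agent.H05EGA4.eq_of_specializes_of_fibre s₀ h (Subsingleton.elim _ _)
  have : IsAffine R.left := inferInstance
  let σ : B ⟶ Γ(R.left, ⊤) := Spec.preimage (R.left.isoSpec.inv ≫ s₀)
  have hσ : Spec.map σ = R.left.isoSpec.inv ≫ s₀ := Spec.map_preimage _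
  have : Etale (Spec.map σ) := by rw [hσ]; infer_instance
  algebraize [σ.hom]
  have : Algebra.Etale B Γ(R.left, ⊤) :=
    RingHom.etale_algebraMap.mp ((HasRingHomProperty.Spec_iff (P := @Etale)).mp ‹Etale (Spec.map σ)›)
  have : Subsingleton (PrimeSpectrum B) := hsub
  have hf := Groth.Agent.H13AlgSp.finite_of_etale_of_subsingleton (B := B) (C := Γ(R.left, ⊤))
  have : IsFinite (Spec.map σ) := (IsFinite.SpecMap_iff σ).mpr (RingHom.finite_algebraMap.mpr hf)
  have hfs : IsFinite s₀ := by
    rw [show s₀ = R.left.isoSpec.hom ≫ Spec.map σ by rw [hσ, Iso.hom_inv_id_assoc]]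
    infer_instance
  obtain ⟨C, str', c, i, hci, hmono, -⟩ := exists_quotient_mono (B := B) (e.inv ≫ V.hom) pV s t sq
    hfs inferInstance inferInstance
  have := epi_of_etale_surjective hpV hsurj
  have : Epi i := by
    have : Epi ((yon S).map c ≫ i) := by rw [hci]; infer_instance
    exact epi_of_epi ((yon S).map c) i
  have : IsIso i := isIso_of_mono_of_epi i
  exact ⟨_, ⟨asIso i⟩⟩

end Groth.Agent.H12AlgSp
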