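import Groth.Agent.H12AlgSp.NbhdLoci
import Groth.Agent.H12AlgSp.LocPCancel
import Groth.Agent.H06EGA9.UnramifiedLocus
import Groth.Agent.H7Flat.FibreDimConstructible
import Groth.Agent.H12AlgSp.Homogeneous

/-!
The unramified and quasi-finite loci of a morphism of algebraic spaces.
-/

set_option backward.isDefEq.respectTransparency false

universe u

open CategoryTheory CategoryTheory.Limits AlgebraicGeometry Topology TopologicalSpace
open AlgSp

namespace Groth.Agent.H12AlgSp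

theorem nbhd_lqf_iff {U V : Scheme.{u}} (h : U ⟶ V) [LocallyOfFiniteType h] (u : U) :
    (∃ W : U.Opens, u ∈ W ∧ LocallyQuasiFinite (W.ι ≫ h) ∧ LocallyOfFiniteType (W.ι ≫ h)) ↔
      FlatMor.fibreDimAt h u ≤ 0 := by
  constructor
  · rintro ⟨W, hu, hq, -⟩
    refine (H8Props.FieldDim.fibreDimAt_openImmersion_comp W.ι h ⟨u, hu⟩).symm.trans_le ?_
    rw [H8Props.FieldDim.fibreDimAt_eq_zero_of_lqf]
  · intro hu
    let W : U.Opens := ⟨_, H8Props.FieldDim.isOpen_fibreDimAt_le h 0⟩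
    refine ⟨W, by exact_mod_cast hu, (locallyQuasiFinite_iff_fibreDimAt (W.ι ≫ h)).2 fun w => ?_, inferInstance⟩
    rw [H8Props.FieldDim.fibreDimAt_openImmersion_comp]
    exact le_antisymm (by exact_mod_cast w.2) (H7Flat.fibreDimAt_nonneg h _)

theorem nbhd_unramified_iff {U V : Scheme.{u}} (h : U ⟶ V) [LocallyOfFiniteType h] (u : U) :
    (∃ W : U.Opens, u ∈ W ∧ LocallyOfFiniteType (W.ι ≫ h) ∧ FormallyUnramified (W.ι ≫ h)) ↔
      u ∈ Groth.Agent.H06EGA9.unramSet h := by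
  constructor
  · rintro ⟨W, hu, -, hW⟩
    exact H17.LocusBC.formallyUnramified_stalkMap_of_nhd h W hu
  · intro hu
    obtain ⟨W, hW, hh⟩ := Groth.Agent.H06EGA9.exists_nhd_of_mem_unramSet h hu
    exact ⟨W, hW, inferInstance, hh⟩

variable {S : Scheme.{u}}

/-- Pointwise criteria invariant under base change descend to algebraic spaces. -/
theorem nbhd_baseChange_iff {P : MorphismProperty Scheme.{u}} (hP : EtLocal P)
    (crit : ∀ {A B : Scheme.{u}}, (A ⟶ B) → Set A)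
    (hcrit : ∀ {A B : Scheme.{u}} (h : A ⟶ B) [LocallyOfFiniteType h] (u : A),
      nbhdProp P A B h u ↔ u ∈ crit h)
    (hbc : ∀ {A B A' B' : Scheme.{u}} {g' : A' ⟶ A} {f' : A' ⟶ B'} {f : A ⟶ B} {g : B' ⟶ B}
      [LocallyOfFiniteType f] (_ : IsPullback g' f' f g) (x' : A'), x' ∈ crit f' ↔ g' x' ∈ crit f)
    {X Y Y' X' : Sp S} {f : X ⟶ Y} {g : Y' ⟶ Y} {fst : X' ⟶ X} {f' : X' ⟶ Y'}
    (sq : IsPullback fst f' f g) (hX : IsAlgSpace X) (hY : IsAlgSpace Y) (hY' : IsAlgSpace Y')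
    (hf : LocP @LocallyOfFiniteType f) (x' : Points X') :
    HasAtMor (nbhdProp P) f' x' ↔ HasAtMor (nbhdProp P) f (Points.map fst x') := by
  obtain ⟨U, V, O, T, a, b, h, a', b', m, h', k, o, ha, hb, w, ha', hb', w', sqO, rfl, e⟩ :=
    exists_baseChange_chart_at sq hX hY hY' x'
  have : LocallyOfFiniteType h.left := hf a b h ha hb w
  have : LocallyOfFiniteType h'.left := MorphismProperty.of_isPullback sqO ‹_›
  rw [nbhd_hasAtMor_iff hP ha' hb' w', ← e, nbhd_hasAtMor_iff hP ha hb w, hcrit, hcrit, hbc sqO]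

theorem nbhd_lqf_baseChange {X Y Y' X' : Sp S} {f : X ⟶ Y} {g : Y' ⟶ Y} {fst : X' ⟶ X} {f' : X' ⟶ Y'}
    (sq : IsPullback fst f' f g) (hX : IsAlgSpace X) (hY : IsAlgSpace Y) (hY' : IsAlgSpace Y')
    (hf : LocP @LocallyOfFiniteType f) (x' : Points X') :
    HasAtMor (nbhdProp (@LocallyQuasiFinite ⊓ @LocallyOfFiniteType)) f' x' ↔
      HasAtMor (nbhdProp (@LocallyQuasiFinite ⊓ @LocallyOfFiniteType)) f (Points.map fst x') :=
  nbhd_baseChange_iff (etLocal_inf etLocal_lqf etLocal_lft) (fun h => {u | FlatMor.fibreDimAt h u ≤ 0})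
    (fun h _ u => nbhd_lqf_iff h u)
    (fun {_ _ _ _ _ _ f _} _ hc x => by
      show FlatMor.fibreDimAt _ x ≤ 0 ↔ _
      rw [H8Props.FieldDim.fibreDimAt_baseChange f hc x]
      rfl) sq hX hY hY' hf x'

theorem nbhd_unramified_baseChange {X Y Y' X' : Sp S} {f : X ⟶ Y} {g : Y' ⟶ Y} {fst : X' ⟶ X} {f' : X' ⟶ Y'}
    (sq : IsPullback fst f' f g) (hX : IsAlgSpace X) (hY : IsAlgSpace Y) (hY' : IsAlgSpace Y')
    (hf : LocP @LocallyOfFiniteType f) (x' : Points X') :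
    HasAtMor (nbhdProp (@LocallyOfFiniteType ⊓ @FormallyUnramified)) f' x' ↔
      HasAtMor (nbhdProp (@LocallyOfFiniteType ⊓ @FormallyUnramified)) f (Points.map fst x') :=
  nbhd_baseChange_iff (etLocal_inf etLocal_lft etLocal_formallyUnramified)
    (fun h => Groth.Agent.H06EGA9.unramSet h) (fun h _ u => nbhd_unramified_iff h u)
    (fun {_ _ _ _ _ _ f _} _ hc x => Groth.Agent.H06EGA9.mem_unramSet_baseChange_iff f hc x)
    sq hX hY hY' hf x'

theorem isZariskiLocalAtSource_lqf_lft :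
    IsZariskiLocalAtSource (@LocallyQuasiFinite ⊓ @LocallyOfFiniteType : MorphismProperty Scheme.{u}) :=
  inferInstance

end Groth.Agent.H12AlgSp
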