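import Groth.Agent.H12AlgSp.Points
import Groth.Prelude.Def_AlgSpGpd

/-!
The relation on points of a pre-equivalence relation.
-/

universe u

open CategoryTheory CategoryTheory.Limits AlgebraicGeometry Opposite
open AlgSp

namespace Groth.Agent.H12AlgSp

variable {S : Scheme.{u}}

theorem fieldPtOfHom_toHom {F : Sp S} (p : FieldPt F) : fieldPtOfHom p.toHom = p := by
  cases p
  simp [fieldPtOfHom, FieldPt.toHom]

theorem points_rel_equivalence {R U : Sp S} (s t : R ⟶ U) (h : IsPreEqvRelSp s t) :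
    _root_.Equivalence (fun x y : Points U => ∃ r : Points R, Points.map t r = x ∧ Points.map s r = y) := by
  have lift : ∀ (p : FieldPt R), Points.map t (Points.mk p) = Points.mk (fieldPtOfHom (p.toHom ≫ t)) ∧
      Points.map s (Points.mk p) = Points.mk (fieldPtOfHom (p.toHom ≫ s)) := fun p => by
    constructor
    · conv_lhs => rw [← fieldPtOfHom_toHom p]
      exact map_mk_fieldPtOfHom _ _
    · conv_lhs => rw [← fieldPtOfHom_toHom p]
      exact map_mk_fieldPtOfHom _ _
  refine ⟨fun x => ?_, ?_, ?_⟩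
  · induction x using Points.ind with | h p =>
    obtain ⟨r, h₁, h₂⟩ := (h p.pt).refl p.toHom
    refine ⟨Points.mk (fieldPtOfHom r), ?_, ?_⟩
    · exact (map_mk_fieldPtOfHom r t).trans (by rw [h₁]; exact congrArg Points.mk (fieldPtOfHom_toHom p))
    · exact (map_mk_fieldPtOfHom r s).trans (by rw [h₂]; exact congrArg Points.mk (fieldPtOfHom_toHom p))
  · rintro x y ⟨r, rfl, rfl⟩
    induction r using Points.ind with | h p =>
    obtain ⟨r', h₁, h₂⟩ := (h p.pt).symm (x := p.toHom ≫ t) (y := p.toHom ≫ s) ⟨p.toHom, rfl, rfl⟩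
    refine ⟨Points.mk (fieldPtOfHom r'), ?_, ?_⟩
    · exact (map_mk_fieldPtOfHom r' t).trans (by rw [h₁]; exact (lift p).2.symm)
    · exact (map_mk_fieldPtOfHom r' s).trans (by rw [h₂]; exact (lift p).1.symm)
  · rintro x y z ⟨r₁, rfl, h⟩ ⟨r₂, h', rfl⟩
    obtain ⟨q, hq₁, hq₂⟩ := exists_point_of_isPullback (IsPullback.of_hasPullback s t) r₁ r₂ (h.trans h'.symm)
    rw [← hq₁, ← hq₂]
    induction q using Points.ind with | h p =>
    let a := p.toHom ≫ pullback.fst s t
    let b := p.toHom ≫ pullback.snd s t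
    have hab : a ≫ s = b ≫ t := by simp only [a, b, Category.assoc, pullback.condition]
    have eu : ∀ (g : pullback s t ⟶ U), Points.map g (Points.mk p) = Points.mk (fieldPtOfHom (p.toHom ≫ g)) :=
      fun g => by
        conv_lhs => rw [← fieldPtOfHom_toHom p]
        exact map_mk_fieldPtOfHom _ _
    obtain ⟨r, h₁, h₂⟩ := (‹IsPreEqvRelSp s t› p.pt).trans (x := a ≫ t) (y := a ≫ s) (z := b ≫ s)
      ⟨a, rfl, rfl⟩ ⟨b, hab.symm, rfl⟩
    refine ⟨Points.mk (fieldPtOfHom r), ?_, ?_⟩
    · rw [← Points.map_comp, eu, map_mk_fieldPtOfHom, h₁]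
      simp only [a, Category.assoc]
    · rw [← Points.map_comp, eu, map_mk_fieldPtOfHom, h₂]
      simp only [b, Category.assoc]

end Groth.Agent.H12AlgSp
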