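import Groth.Agent.H12AlgSp.Univ
import Mathlib.AlgebraicGeometry.Morphisms.Flat
import Groth.Agent.H06Desc.Discrete

/-!
Flat quasi-compact surjections are submersive; descent of quasi-compactness along open surjections.
-/

set_option linter.unusedVariables false

universe u

open CategoryTheory CategoryTheory.Limits AlgebraicGeometry Opposite Topology TopologicalSpace
open AlgSp

namespace Groth.Agent.H12AlgSp

variable {S : Scheme.{u}} {X Y Z : Sp S}

/-- A flat quasi-compact surjective morphism is a quotient map on points. -/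
theorem isQuotientMap_of_flat_qc_surjective (hX : IsAlgSpace X) (hY : IsAlgSpace Y) {f : X ⟶ Y}
    (hfl : LocP @Flat f) (hqc : IsQuasiCompactMor f) (hs : Function.Surjective (Points.map f)) :
    IsQuotientMap (Points.map f) := by
  refine isQuotientMap_local f hY fun T hT g => ?_
  let sd := pullback.snd f g
  have hT' := IsAlgSpace.yon_obj (S := S) T
  have hP := isAlgSpace_pullback hY.diag hX hT' f g
  have := compactSpace_points_of_isQuasiCompactSp (isQuasiCompactMor_pullback hqc T g)
  obtain ⟨U, a, hUa, ha, has⟩ := exists_affine_atlas hP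
  obtain ⟨h, hh⟩ := (yon S).map_surjective (a ≫ sd)
  have hfl' : LocP @Flat sd :=
    locP_of_isPullback etLocal_flat (IsPullback.of_hasPullback f g) hX hY hT' hfl
  have : Flat h.left := hfl' a (𝟙 _) h ha (repWith_id _ T) (by rw [hh, Category.comp_id])
  have : QuasiCompact h.left := inferInstance
  have hsd : Function.Surjective (Points.map sd) := by
    intro t
    obtain ⟨x, hx⟩ := hs (Points.map g t)
    obtain ⟨w, -, hw⟩ := exists_point_of_isPullback (IsPullback.of_hasPullback f g) x t hx
    exact ⟨w, hw⟩
  have hcomp : Points.map ((yon S).map h) = Points.map sd ∘ Points.map a := by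
    rw [hh]; exact funext fun x => Points.map_comp a sd x
  have : Surjective h.left := ⟨fun t => by
    obtain ⟨x, hx⟩ := hsd (Points.schemeHomeo T t)
    obtain ⟨y, rfl⟩ := surjective_map_of_repWith le_rfl has x
    obtain ⟨v, rfl⟩ := (Points.schemeHomeo U).surjective y
    refine ⟨v, (Points.schemeHomeo T).injective ?_⟩
    rw [← Points.map_yon_map_apply, hcomp]
    exact hx⟩
  have hq : IsQuotientMap (Points.map ((yon S).map h)) :=
    (isQuotientMap_yon_iff h).2 (Flat.isQuotientMap_of_surjective h.left)
  rw [hcomp] at hq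
  exact IsQuotientMap.of_comp (Points.continuous_map a) (Points.continuous_map sd) hq

theorem submersive_of_flat_qc_surjective (hX : IsAlgSpace X) (hY : IsAlgSpace Y) {f : X ⟶ Y}
    (hfl : LocP @Flat f) (hqc : IsQuasiCompactMor f) (hs : Function.Surjective (Points.map f)) :
    IsSubmersiveMor f ∧ IsUnivSubmersiveMor f := by
  refine ⟨isQuotientMap_of_flat_qc_surjective hX hY hfl hqc hs, fun Z Z' hZ g fst snd sq => ?_⟩
  refine isQuotientMap_of_flat_qc_surjective (isAlgSpace_of_isPullback hY.diag hX hZ sq) hZ
    (locP_of_isPullback etLocal_flat sq hX hY hZ hfl)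
    (fun _ _ hT hTc x a b sq' => hqc hT hTc (x ≫ g) (a ≫ fst) b (sq'.paste_horiz sq)) fun z => ?_
  obtain ⟨x, hx⟩ := hs (Points.map g z)
  obtain ⟨w, -, hw⟩ := exists_point_of_isPullback sq x z hx
  exact ⟨w, hw⟩

/-- Universal openness can be tested on an atlas of the source. -/
theorem isUnivOpenMor_of_chart {U T : Over S} {p : X ⟶ (yon S).obj T} {a : (yon S).obj U ⟶ X}
    (hs : Function.Surjective (Points.map a)) (h : U ⟶ T) [UniversallyOpen h.left]
    (w : a ≫ p = (yon S).map h) : IsUnivOpenMor p := by
  intro Z Z' hZ g fst snd sq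
  have sq₁ := IsPullback.of_hasPullback a fst
  have sq₂ : IsPullback (pullback.fst a fst) (pullback.snd a fst ≫ snd) ((yon S).map h) g :=
    w ▸ sq₁.paste_vert sq
  have ho : IsOpenMap (Points.map (pullback.snd a fst ≫ snd)) :=
    isOpenMap_map_of_repWith (P := @UniversallyOpen) le_rfl
      (repWith_of_isPullback sq₂ ((repWith_yon_map_iff _ h).2 ‹_›))
  have hs' : Function.Surjective (Points.map (pullback.snd a fst)) := by
    intro z
    obtain ⟨x, hx⟩ := hs (Points.map fst z)
    obtain ⟨w, -, hw⟩ := exists_point_of_isPullback sq₁ x z hx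
    exact ⟨w, hw⟩
  intro W hW
  have e : Points.map snd '' W =
      Points.map (pullback.snd a fst ≫ snd) '' (Points.map (pullback.snd a fst) ⁻¹' W) := by
    conv_lhs => rw [← Set.image_preimage_eq W hs', Set.image_image]
    exact Set.image_congr' fun x => (Points.map_comp _ _ x).symm
  rw [e]
  exact ho _ (hW.preimage (Points.continuous_map _))

theorem isUnivOpenMor_to_field (hX : IsAlgSpace X) {k : Type u} [Field k]
    {str : Spec (CommRingCat.of k) ⟶ S} (p : X ⟶ (yon S).obj (Over.mk str)) : IsUnivOpenMor p := by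
  obtain ⟨U, a, ha, has⟩ := hX.atlas
  obtain ⟨h, hh⟩ := (yon S).map_surjective (a ≫ p)
  have : DiscreteTopology ↥(Over.mk str).left := inferInstanceAs (DiscreteTopology (PrimeSpectrum k))
  have : UniversallyOpen h.left := H06Desc.universallyOpen_of_discreteTopology h.left
  exact isUnivOpenMor_of_chart (surjective_map_of_repWith le_rfl has) h hh.symm

/-- Quasi-compactness descends along universally open surjective morphisms. -/
theorem isQuasiCompactMor_of_univOpen_cover {Y' X' : Sp S} (hX : IsAlgSpace X) (hY : IsAlgSpace Y)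
    (hY' : IsAlgSpace Y') {f : X ⟶ Y} {g : Y' ⟶ Y} {fst : X' ⟶ X} {f' : X' ⟶ Y'}
    (sq : IsPullback fst f' f g) (hg : IsUnivOpenMor g) (hgs : Function.Surjective (Points.map g))
    (hf' : IsQuasiCompactMor f') : IsQuasiCompactMor f := by
  classical
  refine isQuasiCompactMor_of_affine hX hY fun T hT x => ?_
  have hT0 := IsAlgSpace.yon_obj (S := S) T
  let gx := pullback.snd g x
  have hT' : IsAlgSpace (pullback g x) := isAlgSpace_pullback hY.diag hY' hT0 g x
  have ho : IsOpenMap (Points.map gx) := hg hT0 x _ _ (IsPullback.of_hasPullback g x)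
  obtain ⟨ι, W, a, hW, hae, hao, hac⟩ := exists_affine_family hT'
  have : CompactSpace (Points ((yon S).obj T)) := (Points.schemeHomeo T).compactSpace
  obtain ⟨s, hs⟩ := isCompact_univ.elim_finite_subcover
    (fun i => Points.map gx '' Set.range (Points.map (a i)))
    (fun i => ho _ (hao i).isOpen_range) (fun t _ => by
      obtain ⟨y, hy⟩ := hgs (Points.map x t)
      obtain ⟨w, -, rfl⟩ := exists_point_of_isPullback (IsPullback.of_hasPullback g x) y t hy
      obtain ⟨i, hi⟩ := hac w
      exact Set.mem_iUnion.2 ⟨i, w, hi, rfl⟩)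
  let b : ∀ i, (yon S).obj (W i) ⟶ (yon S).obj T := fun i => a i ≫ gx
  let y' : ∀ i, (yon S).obj (W i) ⟶ Y' := fun i => a i ≫ pullback.fst g x
  have hy' : ∀ i, y' i ≫ g = b i ≫ x := fun i => by simp [y', b, gx, pullback.condition]
  have key : ∀ i, ∃ (A : Sp S) (k : A ⟶ pullback f x), IsQuasiCompactSp A ∧
      Points.map (pullback.snd f x) ⁻¹' (Points.map gx '' Set.range (Points.map (a i))) ⊆
        Set.range (Points.map k) := by
    intro i
    have A : IsPullback (pullback.fst f' (y' i) ≫ fst) (pullback.snd f' (y' i)) f (b i ≫ x) := by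
      have := (IsPullback.of_hasPullback f' (y' i)).paste_horiz sq
      rwa [hy'] at this
    obtain ⟨k, hk₁, hk₂⟩ := (IsPullback.of_hasPullback f x).exists_lift (pullback.fst f' (y' i) ≫ fst)
      (pullback.snd f' (y' i) ≫ b i) (A.w.trans (Category.assoc _ _ _).symm)
    have sqk : IsPullback k (pullback.snd f' (y' i)) (pullback.snd f x) (b i) := by
      refine IsPullback.of_right ?_ hk₂ (IsPullback.of_hasPullback f x)
      rw [hk₁]
      exact A
    have := hW i
    refine ⟨_, k, isQuasiCompactMor_pullback hf' (W i) (y' i), ?_⟩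
    rintro z ⟨_, ⟨v, rfl⟩, hz⟩
    obtain ⟨w, hw, -⟩ := exists_point_of_isPullback sqk z v
      (hz.symm.trans (Points.map_comp (a i) gx v).symm)
    exact ⟨w, hw⟩
  choose A k hA hk using key
  have hcomp : IsCompact (Set.univ : Set (Points (pullback f x))) := by
    have e1 : (Set.univ : Set (Points (pullback f x))) = ⋃ i ∈ s, Set.range (Points.map (k i)) := by
      refine Set.eq_of_subset_of_subset (fun z _ => ?_) (Set.subset_univ _)
      obtain ⟨i, hi, hti⟩ := Set.mem_iUnion₂.1 (hs (Set.mem_univ (Points.map (pullback.snd f x) z)))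
      exact Set.mem_iUnion₂.2 ⟨i, hi, hk i hti⟩
    rw [e1]
    exact s.isCompact_biUnion fun i _ =>
      have := compactSpace_points_of_isQuasiCompactSp (hA i)
      isCompact_range (Points.continuous_map _)
  have : CompactSpace (Points (pullback f x)) := ⟨hcomp⟩
  exact isQuasiCompactSp_of_compactSpace (isAlgSpace_pullback hY.diag hX hT0 f x)

end Groth.Agent.H12AlgSp
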