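import Groth.Agent.H12AlgSp.OpenLoci
import Groth.Agent.H12AlgSp.QC

/-!
Quasi-finite points in a fibre of a morphism of finite type.
-/

set_option backward.isDefEq.respectTransparency false

universe u

open CategoryTheory CategoryTheory.Limits AlgebraicGeometry Topology TopologicalSpace
open AlgSp

namespace Groth.Agent.H12AlgSp

theorem finite_fibre_lqfLocus {U V : Scheme.{u}} (h : U ⟶ V) [LocallyOfFiniteType h] [QuasiCompact h] (v : V) :
    {u : U | h u = v ∧ FlatMor.fibreDimAt h u ≤ 0}.Finite := by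
  let W : U.Opens := ⟨{u | FlatMor.fibreDimAt h u ≤ ((0 : ℕ) : WithBot ℕ∞)}, H8Props.FieldDim.isOpen_fibreDimAt_le h 0⟩
  have hq : LocallyQuasiFinite (W.ι ≫ h) := by
    refine (locallyQuasiFinite_iff_fibreDimAt (W.ι ≫ h)).2 fun w => ?_
    rw [H8Props.FieldDim.fibreDimAt_openImmersion_comp]
    exact le_antisymm (by exact_mod_cast w.2) (H7Flat.fibreDimAt_nonneg h _)
  have : LocallyOfFiniteType (h.fiberToSpecResidueField v) := H8Props.FieldDim.locallyOfFiniteType_fiberToSpec h v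
  have : QuasiCompact (h.fiberToSpecResidueField v) := MorphismProperty.pullback_snd _ _ inferInstance
  have := Groth.Agent.H17.ConsProp.isNoetherian_of_finiteType (h.fiberToSpecResidueField v)
  have hd := (W.ι ≫ h).isDiscrete_preimage_singleton v
  let M : Set (h.fiber v) := h.fiberι v ⁻¹' (W : Set U)
  have hM : IsCompact M := NoetherianSpace.isCompact M
  have hdM : _root_.IsDiscrete M := by
    refine isDiscrete_iff_forall_mem_exists_isOpen.2 fun z hz => ?_
    have hv : h (h.fiberι v z) = v := (h.range_fiberι v).subset ⟨z, rfl⟩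
    obtain ⟨N, hN, hNz⟩ := isDiscrete_iff_forall_mem_exists_isOpen.1 hd ⟨_, hz⟩ hv
    obtain ⟨N', hN', rfl⟩ := Topology.IsInducing.subtypeVal.isOpen_iff.1 hN
    refine ⟨h.fiberι v ⁻¹' N', hN'.preimage (h.fiberι v).continuous, Set.ext fun y => ⟨fun ⟨hy, hyM⟩ => ?_, ?_⟩⟩
    · have : (⟨h.fiberι v y, hyM⟩ : W.toScheme) ∈ ({⟨_, hz⟩} : Set W.toScheme) :=
        hNz.subset ⟨hy, (h.range_fiberι v).subset ⟨y, rfl⟩⟩
      exact (h.fiberι v).isEmbedding.injective (congrArg Subtype.val (Set.mem_singleton_iff.1 this))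
    · rintro rfl
      exact ⟨(hNz.symm.subset rfl).1, hz⟩
  refine ((hM.finite hdM).image (h.fiberι v)).subset ?_
  rintro u ⟨hu, hu'⟩
  obtain ⟨z, rfl⟩ : u ∈ Set.range (h.fiberι v) := by rw [h.range_fiberι]; exact hu
  exact ⟨z, show h.fiberι v z ∈ W from hu', rfl⟩

theorem finite_lqf_fibre {S : Scheme.{u}} {X Y : Sp S} (hX : IsAlgSpace X) (hY : IsAlgSpace Y) {f : X ⟶ Y}
    (hf : IsFiniteTypeMor f) (y : Points Y) :
    {x : Points X | Points.map f x = y ∧
      HasAtMor (nbhdProp (@LocallyQuasiFinite ⊓ @LocallyOfFiniteType)) f x}.Finite := by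
  obtain ⟨V₀, b₀, hb₀, hb₀s⟩ := hY.atlas
  obtain ⟨v₀, rfl⟩ := surjective_ofPt_of_repWith le_rfl hb₀s y
  obtain ⟨A, hA, hvA, -⟩ := exists_isAffineOpen_mem_and_subset (x := v₀) (U := ⊤) trivial
  let V : Over S := Over.mk (A.ι ≫ V₀.hom)
  let i : V ⟶ V₀ := Over.homMk A.ι rfl
  let b : (yon S).obj V ⟶ Y := (yon S).map i ≫ b₀
  let v : V.left := ⟨v₀, hvA⟩
  have hb : RepWith @Etale b :=
    repWith_comp ((repWith_yon_map_iff _ i).2 (inferInstanceAs (Etale A.ι))) hb₀
  have : IsAffine V.left := hA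
  have hv : Points.ofPt b v = Points.ofPt b₀ v₀ := ofPt_map i b₀ v
  have hZ := isAlgSpace_pullback hY.diag hX (IsAlgSpace.yon_obj V) f b
  have := compactSpace_points_of_isQuasiCompactSp (isQuasiCompactMor_pullback hf.2 V b)
  obtain ⟨U, p, hU, hp, hps⟩ := exists_affine_atlas hZ
  obtain ⟨h, hh⟩ := (yon S).map_surjective (p ≫ pullback.snd f b)
  have hl : LocP @LocallyOfFiniteType (pullback.snd f b) :=
    locP_of_isPullback etLocal_lft (IsPullback.of_hasPullback f b) hX hY (IsAlgSpace.yon_obj V) hf.1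
  have : LocallyOfFiniteType h.left :=
    hl p (𝟙 _) h hp (repWith_id _ V) (by rw [Category.comp_id, hh])
  have : IsAffine U.left := hU
  have hP := etLocal_inf etLocal_lqf.{u} etLocal_lft.{u}
  refine ((finite_fibre_lqfLocus h.left v).image (Points.ofPt (p ≫ pullback.fst f b))).subset ?_
  rintro x ⟨hx, hq⟩
  obtain ⟨z, hz₁, hz₂⟩ := exists_point_of_isPullback (IsPullback.of_hasPullback f b) x (Points.ofScheme V v)
    (by rw [hx, ← Points.ofPt_eq_map_ofScheme, hv])
  obtain ⟨u, rfl⟩ := surjective_ofPt_of_repWith le_rfl hps z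
  refine ⟨u, ⟨?_, ?_⟩, by rw [← hz₁, Points.map_ofPt]⟩
  · rw [Points.map_ofPt, ← hh, ← Category.comp_id ((yon S).map h), ofPt_map] at hz₂
    exact (Points.schemeHomeo V).injective hz₂
  · rw [← hz₁, ← nbhd_lqf_baseChange (IsPullback.of_hasPullback f b) hX hY (IsAlgSpace.yon_obj V) hf.1,
      nbhd_hasAtMor_iff hP (a := p) (b := 𝟙 _) (h := h) hp (repWith_id _ V) (by rw [Category.comp_id, hh])] at hq
    exact (nbhd_lqf_iff h.left u).1 hq

end Groth.Agent.H12AlgSp
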