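import Groth.Agent.H12AlgSp.FppfBootstrap
import Groth.Agent.H12AlgSp.QuotSheaf
import Groth.Agent.H12AlgSp.OpenSub

/-!
Quotients of restricted pre-relations are open in the quotient.
-/

set_option linter.unusedVariables false
set_option backward.isDefEq.respectTransparency false

universe u

open CategoryTheory CategoryTheory.Limits AlgebraicGeometry Opposite
open AlgSp Groth.Agent.H13AlgSp

namespace Groth.Agent.H12AlgSp

variable {S : Scheme.{u}} {R U : Over S} {s t : R ⟶ U}

theorem quotMap_condition (s t : R ⟶ U) : (yon S).map s ≫ quotMap s t = (yon S).map t ≫ quotMap s t := by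
  let e := fun V : Over S => QuotSh.repIsoUliftYoneda Scheme.fppfPrecoverage V
  rw [← cancel_epi (e R).hom, ← Category.assoc, ← repIso_natural, ← Category.assoc, ← repIso_natural,
    Category.assoc, Category.assoc, quotMap, Iso.hom_inv_id_assoc]
  exact QuotSh.quot_condition Scheme.fppfPrecoverage s t

theorem epi_quotMap (s t : R ⟶ U) : Epi (quotMap s t) := by
  have : Epi (QuotSh.quotπ Scheme.fppfPrecoverage s t) := coequalizer.π_epi
  unfold quotMap
  exact epi_comp _ _

/-- Points with the same image in the quotient are locally related. -/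
theorem exists_local_rel_quot (h : IsPreEqvRelSp ((yon S).map s) ((yon S).map t)) {T : Over S} (a b : T ⟶ U)
    (e : (yon S).map a ≫ quotMap s t = (yon S).map b ≫ quotMap s t) :
    ∃ (κ : Type u) (C : κ → Over S) (c : ∀ i, C i ⟶ T), Sieve.ofArrows C c ∈ J S T ∧
      ∀ i, ∃ r : C i ⟶ R, r ≫ t = c i ≫ a ∧ r ≫ s = c i ≫ b := by
  let e' := fun V : Over S => QuotSh.repIsoUliftYoneda Scheme.fppfPrecoverage V
  let ψ : QuotSh.quot Scheme.fppfPrecoverage s t ⟶ quotSp ((yon S).map s) ((yon S).map t) :=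
    coequalizer.desc ((e' U).hom ≫ quotSpπ _ _) (by
      rw [← Category.assoc, repIso_natural, Category.assoc, ← Category.assoc (QuotSh.repMap _ t), repIso_natural,
        Category.assoc]
      exact congrArg ((e' R).hom ≫ ·) (quotSp_condition _ _))
  have hψ : quotMap s t ≫ ψ = quotSpπ _ _ := by
    simp only [quotMap, ψ, Category.assoc]
    erw [coequalizer.π_desc]
    rw [Iso.inv_hom_id_assoc]
  obtain ⟨κ, C, c, hc, hr⟩ := exists_local_rel h ((yon S).map a) ((yon S).map b) (by
    rw [← hψ, reassoc_of% e])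
  refine ⟨κ, C, c, hc, fun i => ?_⟩
  obtain ⟨r, h₁, h₂⟩ := hr i
  obtain ⟨r, rfl⟩ := (yon S).map_surjective r
  exact ⟨r, (yon S).map_injective (by rw [Functor.map_comp, h₁, Functor.map_comp]),
    (yon S).map_injective (by rw [Functor.map_comp, h₂, Functor.map_comp])⟩

theorem repMap_quotπ_eq {U' : Over S} (g : U' ⟶ U) :
    QuotSh.repMap Scheme.fppfPrecoverage g ≫ QuotSh.quotπ Scheme.fppfPrecoverage s t =
      (QuotSh.repIsoUliftYoneda Scheme.fppfPrecoverage U').hom ≫ (yon S).map g ≫ quotMap s t := by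
  rw [← Category.assoc, ← repIso_natural, quotMap, Category.assoc, Iso.hom_inv_id_assoc]

theorem jointly_surjective_of_mem {T : Over S} {κ : Type u} {C : κ → Over S} (c : ∀ i, C i ⟶ T)
    (hc : Sieve.ofArrows C c ∈ J S T) (x : T.left) : ∃ i, x ∈ Set.range (c i).left := by
  obtain ⟨κ', D, d, -, -, hs, hd⟩ := exists_cover_of_mem_J hc
  obtain ⟨j, z, rfl⟩ := hs x
  obtain ⟨B, l, m, hm, he⟩ := hd j
  obtain ⟨i⟩ := hm
  exact ⟨i, l.left z, by rw [← Scheme.Hom.comp_apply, ← Over.comp_left, he]⟩

variable {R' U' : Over S} {g : U' ⟶ U} {s' t' : R' ⟶ U'} {r : R' ⟶ R}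

/-- The restriction of a pre-equivalence relation gives an open subsheaf of the quotient. -/
theorem repWith_open_quot_restrict (hsq : IsPullback (prod.lift t' s') r (prod.map g g) (prod.lift t s))
    (hrel : IsPreEqvRelSp ((yon S).map s) ((yon S).map t)) (W : U.left.Opens)
    (hW₁ : ∀ {T : Over S} (b : T ⟶ U') (ρ : T ⟶ R), ρ ≫ t = b ≫ g → ∀ x, (ρ ≫ s).left x ∈ W)
    (hW₂ : ∀ {T : Over S} (a : T ⟶ U), (∀ x, a.left x ∈ W) →
      ∃ (κ : Type u) (C : κ → Over S) (c : ∀ i, C i ⟶ T), Sieve.ofArrows C c ∈ J S T ∧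
        ∀ i, ∃ (b : C i ⟶ U') (ρ : C i ⟶ R), ρ ≫ t = b ≫ g ∧ ρ ≫ s = c i ≫ a)
    (φ : QuotSh.quot Scheme.fppfPrecoverage s' t' ⟶ QuotSh.quot Scheme.fppfPrecoverage s t)
    (hφ : QuotSh.quotπ Scheme.fppfPrecoverage s' t' ≫ φ =
      QuotSh.repMap Scheme.fppfPrecoverage g ≫ QuotSh.quotπ Scheme.fppfPrecoverage s t) :
    RepWith @IsOpenImmersion φ := by
  let π := quotMap s t
  let π' := quotMap s' t'
  have hπ : π' ≫ φ = (yon S).map g ≫ π := by
    change ((QuotSh.repIsoUliftYoneda Scheme.fppfPrecoverage U').inv ≫ QuotSh.quotπ _ s' t') ≫ φ = _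
    rw [Category.assoc, hφ, repMap_quotπ_eq, Iso.inv_hom_id_assoc]
  have := epi_quotMap s t
  have := epi_quotMap s' t'
  have hJ : ∀ {A B : Over S} (k : B ⟶ A), fppfMor k.left →
      Sieve.ofArrows (fun _ : PUnit.{u + 1} => B) (fun _ => k) ∈ J S A := fun k hk =>
    ofArrows_mem_J _ (fun _ => hk.1.2) (fun _ => hk.2) fun a => ⟨⟨⟩, hk.1.1.surj a⟩
  have hmono : Mono φ := mono_of_yon fun T z z' e => by
    obtain ⟨T₁, d, l, hd, hl⟩ := exists_fppf_lift π' z
    obtain ⟨T₂, d', l', hd', hl'⟩ := exists_fppf_lift π' ((yon S).map d ≫ z')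
    obtain ⟨l, rfl⟩ := (yon S).map_surjective l
    obtain ⟨l', rfl⟩ := (yon S).map_surjective l'
    obtain ⟨κ, C, c, hc, hr⟩ := exists_local_rel_quot hrel ((d' ≫ l) ≫ g) (l' ≫ g) (by
      rw [Functor.map_comp, Functor.map_comp, Category.assoc, Category.assoc]
      change (yon S).map (d' ≫ l) ≫ (yon S).map g ≫ π = (yon S).map l' ≫ (yon S).map g ≫ π
      rw [← hπ, (yon S).map_comp d' l, Category.assoc, ← Category.assoc ((yon S).map l),
        ← Category.assoc ((yon S).map l'), hl, hl', Category.assoc, Category.assoc, Category.assoc, e])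
    refine hom_ext_of_cover _ (hJ d hd) fun _ => hom_ext_of_cover _ (hJ d' hd') fun _ =>
      hom_ext_of_cover c hc fun i => ?_
    obtain ⟨ρ, h₁, h₂⟩ := hr i
    obtain ⟨r', hr₁, -⟩ := hsq.exists_lift (prod.lift (c i ≫ d' ≫ l) (c i ≫ l')) ρ (by
      rw [prod.lift_map, prod.comp_lift, h₁, h₂]; simp)
    have k₁ : r' ≫ t' = c i ≫ d' ≫ l := by simpa using hr₁ =≫ prod.fst
    have k₂ : r' ≫ s' = c i ≫ l' := by simpa using hr₁ =≫ prod.snd
    rw [← hl, ← hl', ← Category.assoc ((yon S).map d'), ← Functor.map_comp, ← Category.assoc, ← Functor.map_comp,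
      ← Category.assoc ((yon S).map (c i)), ← Functor.map_comp, ← k₁, ← k₂, Functor.map_comp, Functor.map_comp,
      Category.assoc, Category.assoc, quotMap_condition]
  refine MorphismProperty.relative.of_exists fun T ξ => ?_
  obtain ⟨T', c, a', hc, ha⟩ := exists_fppf_lift π ξ
  obtain ⟨a, rfl⟩ := (yon S).map_surjective a'
  have : Flat c.left := hc.1.2
  have : LocallyOfFinitePresentation c.left := hc.2
  let O' : T'.left.Opens := a.left ⁻¹ᵁ W
  let V : T.left.Opens := ⟨c.left '' O', c.left.isOpenMap _ O'.2⟩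
  let j := (yon S).map (openIncl T V)
  have hj : RepWith @IsOpenImmersion j := (repWith_yon_map_iff _ _).2 (inferInstanceAs (IsOpenImmersion V.ι))
  have : Mono j := mono_of_openImmersion hj
  let m := pullback.snd φ ξ
  have key : ∀ {A : Over S} (z : (yon S).obj A ⟶ pullback φ ξ) (v : A ⟶ T), z ≫ m = (yon S).map v →
      ∀ x, v.left x ∈ V := by
    intro A z v hv x
    have sqA := IsPullback.of_hasPullback v c
    obtain ⟨y, hy⟩ := hc.1.1.surj (v.left x)
    obtain ⟨x', hx', -⟩ := Scheme.exists_preimage_of_isPullback (sqA.map (Over.forget S)) x y hy.symm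
    let z' := (yon S).map (pullback.fst v c) ≫ z ≫ pullback.fst φ ξ
    obtain ⟨B, d, l', hd, hl'⟩ := exists_fppf_lift π' z'
    obtain ⟨l, rfl⟩ := (yon S).map_surjective l'
    let a₁ : B ⟶ U := d ≫ pullback.snd v c ≫ a
    obtain ⟨κ, C, e, hC, hr⟩ := exists_local_rel_quot hrel (l ≫ g) a₁ (by
      change (yon S).map (l ≫ g) ≫ π = (yon S).map a₁ ≫ π
      simp only [a₁, Functor.map_comp, Category.assoc, ← hπ, reassoc_of% hl', z', ha, pullback.condition]
      rw [show z ≫ pullback.snd φ ξ ≫ ξ = (z ≫ m) ≫ ξ from (Category.assoc _ _ _).symm, hv, ← Category.assoc ((yon S).map (pullback.fst v c)), ← Functor.map_comp, sqA.w, Functor.map_comp, Category.assoc])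
    obtain ⟨w, hw⟩ := hd.1.1.surj x'
    obtain ⟨i, w', hw'⟩ := jointly_surjective_of_mem e hC w
    obtain ⟨ρ, h₁, h₂⟩ := hr i
    have hmem := hW₁ (e i ≫ l) ρ (by rw [Category.assoc]; exact h₁) w'
    rw [h₂] at hmem
    refine ⟨(pullback.snd v c).left x', ?_, ?_⟩
    · change a.left ((pullback.snd v c).left x') ∈ W
      have : (e i ≫ a₁).left w' = a.left ((pullback.snd v c).left x') := by
        simp only [a₁, Over.comp_left, Scheme.Hom.comp_apply, hw', hw]
      rw [← this]
      exact hmem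
    · rw [← Scheme.Hom.comp_apply, ← Over.comp_left, ← sqA.w, Over.comp_left, Scheme.Hom.comp_apply]
      exact congrArg v.left hx'
  have hfac : Set.range (Points.map m) ⊆ Set.range (Points.map j) := by
    rintro _ ⟨p, rfl⟩
    induction p using Points.ind with | h q => ?_
    obtain ⟨v, hv⟩ := (yon S).map_surjective (q.toHom ≫ m)
    have hx := key q.toHom v hv.symm (IsLocalRing.closedPoint q.K)
    refine ⟨Points.ofScheme (openOver T V) ⟨_, hx⟩, ?_⟩
    let t₀ : q.pt.left := IsLocalRing.closedPoint q.K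
    rw [← Points.ofPt_eq_map_ofScheme]
    conv_rhs => rw [← Points.ofPt_toHom q t₀, Points.map_ofPt, ← hv, ← Category.comp_id ((yon S).map v), ofPt_map]
    rw [← Category.comp_id j, ofPt_map]
    rfl
  obtain ⟨n, hn⟩ := exists_factor_open hj m hfac
  have : Mono m := inferInstance
  have : Mono n := by
    have : Mono (n ≫ j) := by rw [hn]; infer_instance
    exact mono_of_mono n j
  have : IsIso n := isIso_of_mono_of_local_lifts n fun A y => by
    obtain ⟨v, rfl⟩ := (yon S).map_surjective y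
    let k : openOver T' O' ⟶ T := openIncl T' O' ≫ c
    let B := pullback (v ≫ openIncl T V) k
    let p₁ : B ⟶ A := pullback.fst (v ≫ openIncl T V) k
    let p₂ : B ⟶ openOver T' O' := pullback.snd (v ≫ openIncl T V) k
    have sqB := (IsPullback.of_hasPullback (v ≫ openIncl T V) k).map (Over.forget S)
    have hp₁f : Flat p₁.left := MorphismProperty.of_isPullback sqB.flip (inferInstanceAs (Flat (O'.ι ≫ c.left)))
    have hp₁p : LocallyOfFinitePresentation p₁.left :=
      MorphismProperty.of_isPullback sqB.flip (inferInstanceAs (LocallyOfFinitePresentation (O'.ι ≫ c.left)))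
    obtain ⟨κ, C, e, hC, hb⟩ := hW₂ (p₂ ≫ openIncl T' O' ≫ a) fun x => (p₂.left x).2
    obtain ⟨κ', D, d, hf, hp, hs, hd⟩ := exists_cover_of_mem_J hC
    refine ⟨κ', D, fun i => d i ≫ p₁, ofArrows_mem_J _
      (fun i => have := hf i; inferInstanceAs (Flat ((d i).left ≫ p₁.left)))
      (fun i => have := hp i; inferInstanceAs (LocallyOfFinitePresentation ((d i).left ≫ p₁.left))) (fun x => ?_),
      fun i => ?_⟩
    · obtain ⟨y, hy, he⟩ := (v.left x).2
      obtain ⟨w, hw, -⟩ := Scheme.exists_preimage_of_isPullback sqB x ⟨y, hy⟩ he.symm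
      obtain ⟨i, w', rfl⟩ := hs w
      exact ⟨i, w', hw⟩
    · obtain ⟨B', l, e', ⟨i'⟩, he⟩ := hd i
      obtain ⟨b, ρ, h₁, h₂⟩ := hb i'
      refine ⟨pullback.lift ((yon S).map (l ≫ b) ≫ π') ((yon S).map ((d i ≫ p₁) ≫ v ≫ openIncl T V)) ?_, ?_⟩
      · rw [Category.assoc, hπ, ← he]
        have hk : p₁ ≫ v ≫ openIncl T V = p₂ ≫ openIncl T' O' ≫ c := pullback.condition
        rw [Category.assoc (l ≫ e i'), hk]
        simp only [Functor.map_comp, Category.assoc, ← ha]
        rw [← (yon S).map_comp_assoc b g, ← h₁, Functor.map_comp, Category.assoc, ← quotMap_condition,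
          ← Category.assoc ((yon S).map ρ), ← Functor.map_comp, h₂]
        simp only [Functor.map_comp, Category.assoc]
        rfl
      · rw [← cancel_mono j, Category.assoc, hn, pullback.lift_snd, Category.assoc, ← Functor.map_comp,
          ← Functor.map_comp]
        simp only [Category.assoc]
  refine ⟨openOver T V, inv n ≫ pullback.fst φ ξ, openIncl T V, IsPullback.of_iso_pullback ⟨?_⟩ (asIso (inv n)) rfl ?_,
    inferInstanceAs (IsOpenImmersion V.ι)⟩
  · rw [Category.assoc, pullback.condition, IsIso.inv_comp_eq, ← Category.assoc, hn]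
  · rw [asIso_hom, IsIso.inv_comp_eq]
    exact hn.symm

theorem isPreEqvRelSp_of_equivalence (h : ∀ T : Over S,
    _root_.Equivalence (fun a b : T ⟶ U => ∃ r : T ⟶ R, r ≫ t = a ∧ r ≫ s = b)) :
    IsPreEqvRelSp ((yon S).map s) ((yon S).map t) := by
  have key : ∀ {T : Over S} (a b : T ⟶ U), (∃ r : (yon S).obj T ⟶ (yon S).obj R,
      r ≫ (yon S).map t = (yon S).map a ∧ r ≫ (yon S).map s = (yon S).map b) ↔
      ∃ r : T ⟶ R, r ≫ t = a ∧ r ≫ s = b := by
    intro T a b
    constructor
    · rintro ⟨r, h₁, h₂⟩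
      obtain ⟨r, rfl⟩ := (yon S).map_surjective r
      exact ⟨r, (yon S).map_injective (by rw [Functor.map_comp, h₁]), (yon S).map_injective (by rw [Functor.map_comp, h₂])⟩
    · rintro ⟨r, rfl, rfl⟩
      exact ⟨(yon S).map r, (Functor.map_comp _ _ _).symm, (Functor.map_comp _ _ _).symm⟩
  intro T
  refine ⟨fun a => ?_, fun {a b} hab => ?_, fun {a b d} hab hbd => ?_⟩
  · obtain ⟨a, rfl⟩ := (yon S).map_surjective a
    exact (key a a).2 ((h T).refl a)
  · obtain ⟨a, rfl⟩ := (yon S).map_surjective a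
    obtain ⟨b, rfl⟩ := (yon S).map_surjective b
    exact (key b a).2 ((h T).symm ((key a b).1 hab))
  · obtain ⟨a, rfl⟩ := (yon S).map_surjective a
    obtain ⟨b, rfl⟩ := (yon S).map_surjective b
    obtain ⟨d, rfl⟩ := (yon S).map_surjective d
    exact (key a d).2 ((h T).trans ((key a b).1 hab) ((key b d).1 hbd))

/-- Restriction along a flat, lfp map gives an open subspace of the quotient. -/
theorem repWith_open_quot_restrict_flat (hsq : IsPullback (prod.lift t' s') r (prod.map g g) (prod.lift t s))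
    (hrel : IsPreEqvRelSp ((yon S).map s) ((yon S).map t))
    [Flat g.left] [LocallyOfFinitePresentation g.left] [Flat s.left] [LocallyOfFinitePresentation s.left]
    (φ : QuotSh.quot Scheme.fppfPrecoverage s' t' ⟶ QuotSh.quot Scheme.fppfPrecoverage s t)
    (hφ : QuotSh.quotπ Scheme.fppfPrecoverage s' t' ≫ φ =
      QuotSh.repMap Scheme.fppfPrecoverage g ≫ QuotSh.quotπ Scheme.fppfPrecoverage s t) :
    RepWith @IsOpenImmersion φ := by
  let P := pullback g t
  let h : P ⟶ U := pullback.snd g t ≫ s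
  have sqP := (IsPullback.of_hasPullback g t).map (Over.forget S)
  have hPf : Flat (pullback.snd g t).left := MorphismProperty.of_isPullback sqP ‹Flat g.left›
  have hPp : LocallyOfFinitePresentation (pullback.snd g t).left :=
    MorphismProperty.of_isPullback sqP ‹LocallyOfFinitePresentation g.left›
  have : Flat h.left := inferInstanceAs (Flat ((pullback.snd g t).left ≫ s.left))
  have : LocallyOfFinitePresentation h.left :=
    inferInstanceAs (LocallyOfFinitePresentation ((pullback.snd g t).left ≫ s.left))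
  refine repWith_open_quot_restrict hsq hrel ⟨Set.range h.left, h.left.isOpenMap.isOpen_range⟩
    (fun {T} b ρ e x => ⟨(pullback.lift b ρ e.symm).left x, ?_⟩) (fun {T} a ha => ?_) φ hφ
  · rw [← Scheme.Hom.comp_apply, ← Over.comp_left]
    exact congrArg (fun f : T ⟶ U => f.left x) (by simp [h])
  · let T' := pullback a h
    have sqT := (IsPullback.of_hasPullback a h).map (Over.forget S)
    have hf : Flat (pullback.fst a h).left := MorphismProperty.of_isPullback sqT.flip ‹Flat h.left›
    have hp : LocallyOfFinitePresentation (pullback.fst a h).left :=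
      MorphismProperty.of_isPullback sqT.flip ‹LocallyOfFinitePresentation h.left›
    refine ⟨PUnit, fun _ => T', fun _ => pullback.fst a h,
      ofArrows_mem_J _ (fun _ => hf) (fun _ => hp) (fun x => ?_),
      fun _ => ⟨pullback.snd a h ≫ pullback.fst g t, pullback.snd a h ≫ pullback.snd g t, ?_, ?_⟩⟩
    · obtain ⟨y, hy⟩ := ha x
      obtain ⟨w, hw, -⟩ := Scheme.exists_preimage_of_isPullback sqT x y hy.symm
      exact ⟨⟨⟩, w, hw⟩
    · rw [Category.assoc, Category.assoc, pullback.condition]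
    · rw [Category.assoc]
      exact pullback.condition.symm

end Groth.Agent.H12AlgSp
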