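import Groth.Agent.H12AlgSp.Bootstrap
import Groth.Agent.H12AlgSp.LQFScheme2
import Groth.Agent.H12AlgSp.LocPCancel

/-!
Bootstrap: sheaves covered by algebraic spaces through maps representable by algebraic spaces.
-/

universe u

open CategoryTheory CategoryTheory.Limits AlgebraicGeometry Opposite
open AlgSp Groth.Agent.H13AlgSp

namespace Groth.Agent.H12AlgSp

variable {S : Scheme.{u}}

/-- A map representable by algebraic spaces, flat, locally of finite presentation and surjective is an epimorphism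
of sheaves. -/
theorem epi_of_repBySp_fppf {X F : Sp S} (f : X ⟶ F)
    (h : ∀ ⦃U : Over S⦄ (ξ : (yon S).obj U ⟶ F) ⦃F' : Sp S⦄ (fst : F' ⟶ X) (snd : F' ⟶ (yon S).obj U),
      IsPullback fst snd f ξ → IsAlgSpace F' ∧
        (IsSurjectiveMor snd ∧ LocP @Flat snd ∧ LocP @LocallyOfFinitePresentation snd)) :
    Epi f := by
  refine epi_of_local_lifts f fun T y => ?_
  obtain ⟨hP, hs, hfl, hfp⟩ := h y _ _ (IsPullback.of_hasPullback f y)
  obtain ⟨V, d, hd, hds⟩ := hP.atlas
  obtain ⟨g, hg⟩ := (yon S).map_surjective (d ≫ pullback.snd f y)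
  have hT : RepWith @Etale (𝟙 ((yon S).obj T)) := repWith_of_isIso _
  have hw : d ≫ pullback.snd f y = (yon S).map g ≫ 𝟙 _ := by rw [Category.comp_id, hg]
  refine ⟨PUnit, fun _ => V, fun _ => g, ofArrows_mem_J _ (fun _ => hfl d (𝟙 _) g hd hT hw)
    (fun _ => hfp d (𝟙 _) g hd hT hw) (fun t => ⟨⟨⟩, ?_⟩),
    fun _ => ⟨d ≫ pullback.fst f y, by rw [Category.assoc, pullback.condition, hg, Category.assoc]⟩⟩
  obtain ⟨z, hz⟩ := hs (Points.ofScheme T t)
  obtain ⟨v, hv⟩ := surjective_map_of_repWith le_rfl hds z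
  obtain ⟨v, rfl⟩ := (Points.schemeEquiv V).surjective v
  refine ⟨v, ?_⟩
  have e : Points.map ((yon S).map g) (Points.ofScheme V v) = Points.ofScheme T t := by
    rw [hg, Points.map_comp, ← hz, ← hv]
    rfl
  have := congrArg (Points.toScheme T) e
  rwa [← Points.ofPt_eq_map_ofScheme, Points.toScheme_ofPt, Points.toScheme_ofScheme] at this

theorem epi_of_repBySp_etale {X F : Sp S} (f : X ⟶ F)
    (h : ∀ ⦃U : Over S⦄ (ξ : (yon S).obj U ⟶ F) ⦃F' : Sp S⦄ (fst : F' ⟶ X) (snd : F' ⟶ (yon S).obj U),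
      IsPullback fst snd f ξ → IsAlgSpace F' ∧ (IsSurjectiveMor ⊓ IsEtaleMor) snd) : Epi f :=
  epi_of_repBySp_fppf f fun _ ξ _ fst snd sq =>
    ⟨(h ξ fst snd sq).1, (h ξ fst snd sq).2.1,
      locP_mono (fun _ _ k (_ : Etale k) => inferInstanceAs (Flat k))
        (locP_etale_of_isEtaleMor (h ξ fst snd sq).2.2),
      locP_mono (fun _ _ k (_ : Etale k) => inferInstanceAs (LocallyOfFinitePresentation k))
        (locP_etale_of_isEtaleMor (h ξ fst snd sq).2.2)⟩

/-- An algebraic space with a monomorphism to `U × U`, etale over `U` by the second projection, is a scheme. -/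
theorem exists_scheme_etale_mono {P : Sp S} (hP : IsAlgSpace P) {U : Over S} (a b : P ⟶ (yon S).obj U)
    (hab : ∀ {W : Sp S} (x y : W ⟶ P), x ≫ a = y ≫ a → x ≫ b = y ≫ b → x = y) (hb : LocP @Etale b) :
    ∃ (R : Over S) (μ : (yon S).obj R ⟶ P) (t s : R ⟶ U), IsIso μ ∧ (yon S).map t = μ ≫ a ∧
      (yon S).map s = μ ≫ b ∧ Etale s.left := by
  have hU := IsAlgSpace.yon_obj (S := S) U
  let π : P ⟶ (yon S).obj (U ⨯ U) := prod.lift a b ≫ (PreservesLimitPair.iso (yon S) U U).inv
  have hπ₁ : π ≫ (yon S).map prod.fst = a := by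
    simp only [π, Category.assoc, PreservesLimitPair.iso_inv_fst]
    exact prod.lift_fst a b
  have hπ₂ : π ≫ (yon S).map prod.snd = b := by
    simp only [π, Category.assoc, PreservesLimitPair.iso_inv_snd]
    exact prod.lift_snd a b
  have : Mono π := ⟨fun x y e => by
    have e₁ : x ≫ a = y ≫ a := by
      rw [← hπ₁]; exact ((Category.assoc x π _).symm.trans (e =≫ _)).trans (Category.assoc y π _)
    have e₂ : x ≫ b = y ≫ b := by
      rw [← hπ₂]; exact ((Category.assoc x π _).symm.trans (e =≫ _)).trans (Category.assoc y π _)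
    exact hab x y e₁ e₂⟩
  have hqf : LocP (@LocallyQuasiFinite ⊓ @LocallyOfFiniteType) π := by
    refine locP_of_comp (etLocal_inf etLocal_lqf etLocal_lft) (fun A B C f g hfg => ?_) hU
      (g := (yon S).map prod.snd) ?_
    · obtain ⟨h₁, h₂⟩ := hfg
      exact ⟨LocallyQuasiFinite.of_comp f g, locallyOfFiniteType_of_comp f g⟩
    · rw [hπ₂]
      exact locP_mono (fun _ _ k (_ : Etale k) => ⟨lqf_of_etale k, inferInstanceAs (LocallyOfFiniteType k)⟩) hb
  obtain ⟨R, -, μ, hμ, -⟩ := exists_iso_of_lqf_separated hP (isSeparatedMor_of_mono π) hqf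
  obtain ⟨t, ht⟩ := (yon S).map_surjective (μ ≫ a)
  obtain ⟨s, hs⟩ := (yon S).map_surjective (μ ≫ b)
  exact ⟨R, μ, t, s, hμ, ht, hs,
    hb μ (𝟙 _) s (repWith_of_isIso μ) (repWith_of_isIso _) (by rw [Category.comp_id, hs])⟩

theorem surjective_left_of_map {T' T : Over S} (c : T' ⟶ T) (h : Function.Surjective (Points.map ((yon S).map c))) :
    Surjective c.left := ⟨fun t => by
  obtain ⟨z, hz⟩ := h (Points.ofScheme T t)
  obtain ⟨v, rfl⟩ := (Points.schemeEquiv T').surjective z
  refine ⟨v, ?_⟩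
  have := congrArg (Points.toScheme T) (show Points.map ((yon S).map c) (Points.ofScheme T' v) = _ from hz)
  rwa [← Points.ofPt_eq_map_ofScheme, Points.toScheme_ofPt, Points.toScheme_ofScheme] at this⟩

/-- A sheaf with a surjective etale map from an algebraic space, representable by algebraic spaces, is an
algebraic space. -/
theorem isAlgSpace_of_repBySp_etale {X F : Sp S} (hX : IsAlgSpace X) (f : X ⟶ F)
    (h : ∀ ⦃U : Over S⦄ (ξ : (yon S).obj U ⟶ F) ⦃F' : Sp S⦄ (fst : F' ⟶ X) (snd : F' ⟶ (yon S).obj U),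
      IsPullback fst snd f ξ → IsAlgSpace F' ∧ (IsSurjectiveMor ⊓ IsEtaleMor) snd) : IsAlgSpace F := by
  obtain ⟨U, d, hd, hds⟩ := hX.atlas
  let p : (yon S).obj U ⟶ F := d ≫ f
  have := epi_of_repBySp_etale f h
  have := epi_of_etale_surjective hd hds
  have : Epi p := epi_comp d f
  obtain ⟨hQ, -, hQe⟩ := h p _ _ (IsPullback.of_hasPullback f p)
  let sq₁ := IsPullback.of_hasPullback d (pullback.fst f p)
  let P := pullback d (pullback.fst f p)
  have hP : IsAlgSpace P := isAlgSpace_pullback hX.diag (IsAlgSpace.yon_obj U) hQ _ _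
  let a : P ⟶ (yon S).obj U := pullback.fst d (pullback.fst f p)
  let b : P ⟶ (yon S).obj U := pullback.snd d (pullback.fst f p) ≫ pullback.snd f p
  have sq : IsPullback a b p p := sq₁.paste_vert (IsPullback.of_hasPullback f p)
  have hU := IsAlgSpace.yon_obj (S := S) U
  have hb : LocP @Etale b :=
    locP_etale_precomp (repWith_of_isPullback sq₁ hd) (locP_etale_of_isEtaleMor hQe)
  have ha : LocP @Etale a := by
    have e : a = (sq.flip.isoIsPullback _ _ sq).hom ≫ b := (sq.flip.isoIsPullback_hom_snd _ _ sq).symm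
    rw [e]
    exact locP_etale_precomp (repWith_of_isIso _) hb
  obtain ⟨R, μ, t, s, hμ, ht, hs, hse⟩ := exists_scheme_etale_mono hP a b (fun x y => sq.hom_ext) hb
  have sqR : IsPullback ((yon S).map t) ((yon S).map s) p p :=
    sq.of_iso (asIso μ).symm (Iso.refl _) (Iso.refl _) (Iso.refl _) (by simp [ht]) (by simp [hs]) (by simp) (by simp)
  have hI : RepWith @Etale μ := repWith_of_isIso μ
  have hi : RepWith @Etale (𝟙 ((yon S).obj U)) := repWith_of_isIso _
  have : Etale t.left := ha μ (𝟙 _) t hI hi (by rw [Category.comp_id, ht])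
  have : Etale s.left := hse
  exact (isAlgSpace_of_epi_etale sqR).1

end Groth.Agent.H12AlgSp
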