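import Groth.Agent.H12AlgSp.Basic
import Groth.Agent.H14AlgSt.Bootstrap

/-!
Formal properties of maps of presheaves representable by algebraic spaces.
-/

universe u

open CategoryTheory CategoryTheory.Limits AlgebraicGeometry Opposite
open AlgSp

namespace Groth.Agent.H12AlgSp

variable {S : Scheme.{u}} {F G H : PSp S}

theorem repBySp_of_relRep {a : F ⟶ G} (ha : (pyon S).relativelyRepresentable a) : RepBySp a := by
  intro U ξ F' fst snd sq
  obtain ⟨W, w, l, hl⟩ := ha ξ
  exact ((isAlgSpaceP_obj_iff _).2 (IsAlgSpace.yon_obj W)).of_iso (hl.isoIsPullback _ _ sq)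

instance repBySp_isStableUnderBaseChange : (RepBySp (S := S)).IsStableUnderBaseChange where
  of_isPullback sq hg := fun U ξ _ fst snd sq' => hg (ξ ≫ _) (fst ≫ _) snd (sq'.paste_horiz sq)

instance repBySp_isStableUnderComposition : (RepBySp (S := S)).IsStableUnderComposition where
  comp_mem := by
    intro X Y Z a b ha hb U ξ F' fst snd sq
    obtain hY := hb ξ _ _ (IsPullback.of_hasPullback b ξ)
    have sq2 := IsPullback.of_hasPullback a (pullback.fst b ξ)
    have hQ : IsAlgSpaceP (pullback a (pullback.fst b ξ)) :=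
      H14AlgSt.isAlgSpaceP_of_repBySp (MorphismProperty.pullback_snd (P := RepBySp (S := S)) _ _ ha) hY
    exact hQ.of_iso ((sq2.paste_vert (IsPullback.of_hasPullback b ξ)).isoIsPullback _ _ sq)

/-- Two points with the same image under a map representable by spaces have a representable equalizer. -/
theorem exists_rep_equalizer {a : F ⟶ G} (ha : RepBySp a) {U : Over S} (x y : (pyon S).obj U ⟶ F)
    (e : x ≫ a = y ≫ a) :
    ∃ (E : Over S) (i : E ⟶ U) (w : (pyon S).map i ≫ x = (pyon S).map i ≫ y),
      Nonempty (IsLimit (Fork.ofι ((pyon S).map i) w)) := by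
  have sqW := IsPullback.of_hasPullback a (x ≫ a)
  obtain ⟨hs, hA⟩ := ha (x ≫ a) _ _ sqW
  let W : Sp S := ⟨pullback a (x ≫ a), hs⟩
  let σ₀ : (pyon S).obj U ⟶ pullback a (x ≫ a) := pullback.lift x (𝟙 _) (Category.id_comp _).symm
  let τ₀ : (pyon S).obj U ⟶ pullback a (x ≫ a) :=
    pullback.lift y (𝟙 _) (e.symm.trans (Category.id_comp _).symm)
  have hσ₁ : σ₀ ≫ pullback.fst a (x ≫ a) = x := pullback.lift_fst _ _ _
  have hτ₁ : τ₀ ≫ pullback.fst a (x ≫ a) = y := pullback.lift_fst _ _ _
  have hσ₂ : σ₀ ≫ pullback.snd a (x ≫ a) = 𝟙 _ := pullback.lift_snd _ _ _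
  have hτ₂ : τ₀ ≫ pullback.snd a (x ≫ a) = 𝟙 _ := pullback.lift_snd _ _ _
  let σ : (yon S).obj U ⟶ W := ObjectProperty.homMk σ₀
  let τ : (yon S).obj U ⟶ W := ObjectProperty.homMk τ₀
  obtain ⟨E, i, fst, sq⟩ := hA.diag (prod.lift σ τ)
  have h₁ := sq.w =≫ prod.fst
  have h₂ := sq.w =≫ prod.snd
  simp only [Category.assoc, prod.lift_fst, prod.lift_snd, Category.comp_id] at h₁ h₂
  have wστ : (yon S).map i ≫ σ = (yon S).map i ≫ τ := h₁.symm.trans h₂
  have : Mono ((yon S).map i) := PullbackCone.mono_snd_of_is_pullback_of_mono sq.isLimit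
  have key : ∀ {Z : Sp S} (l : Z ⟶ (yon S).obj U), l ≫ σ = l ≫ τ → ∃ k, k ≫ (yon S).map i = l := fun l hl =>
    ⟨sq.lift (l ≫ σ) l (by
      apply Limits.prod.hom_ext
      · simp only [Category.assoc, prod.lift_fst, Category.comp_id]
      · simp only [Category.assoc, prod.lift_snd, Category.comp_id]; exact hl), sq.lift_snd _ _ _⟩
  let hfork : IsLimit (Fork.ofι ((yon S).map i) wστ) := Fork.IsLimit.mk' _ fun s =>
    ⟨(key s.ι s.condition).choose, (key s.ι s.condition).choose_spec,
      fun hm => (cancel_mono ((yon S).map i)).1 (hm.trans (key s.ι s.condition).choose_spec.symm)⟩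
  have wP : (pyon S).map i ≫ σ₀ = (pyon S).map i ≫ τ₀ :=
    congrArg (sheafToPresheaf (J S) (Type (u + 1))).map wστ
  let hfork' : IsLimit (Fork.ofι ((pyon S).map i) wP) :=
    isLimitForkMapOfIsLimit (sheafToPresheaf (J S) (Type (u + 1))) wστ hfork
  have w : (pyon S).map i ≫ x = (pyon S).map i ≫ y := by
    rw [← hσ₁, ← hτ₁, ← Category.assoc, ← Category.assoc, wP]
  refine ⟨E, i, w, ⟨Fork.IsLimit.mk' _ fun s => ?_⟩⟩
  have hs' : s.ι ≫ σ₀ = s.ι ≫ τ₀ := by
    apply pullback.hom_ext
    · rw [Category.assoc, Category.assoc, hσ₁, hτ₁]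
      exact s.condition
    · rw [Category.assoc, Category.assoc, hσ₂, hτ₂]
  exact ⟨(Fork.IsLimit.lift' hfork' s.ι hs').1, (Fork.IsLimit.lift' hfork' s.ι hs').2,
    fun hm => Fork.IsLimit.hom_ext hfork' (hm.trans (Fork.IsLimit.lift' hfork' s.ι hs').2.symm)⟩

/-- The diagonal of a map representable by spaces is representable by schemes. -/
theorem relRep_diagonal_of_repBySp {a : F ⟶ G} (ha : RepBySp a) :
    (pyon S).relativelyRepresentable (pullback.diagonal a) := by
  intro U γ
  obtain ⟨E, i, w, ⟨hl⟩⟩ := exists_rep_equalizer ha (γ ≫ pullback.fst a a) (γ ≫ pullback.snd a a)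
    (by rw [Category.assoc, Category.assoc, pullback.condition])
  refine ⟨E, i, (pyon S).map i ≫ γ ≫ pullback.fst a a, ⟨⟨?_⟩, ⟨PullbackCone.isLimitAux' _ fun s => ?_⟩⟩⟩
  · apply pullback.hom_ext
    · rw [Category.assoc, pullback.diagonal_fst, Category.comp_id, Category.assoc]
    · rw [Category.assoc, pullback.diagonal_snd, Category.comp_id, Category.assoc, w]
  have h₁ := s.condition =≫ pullback.fst a a
  have h₂ := s.condition =≫ pullback.snd a a
  rw [Category.assoc, pullback.diagonal_fst, Category.comp_id, Category.assoc] at h₁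
  rw [Category.assoc, pullback.diagonal_snd, Category.comp_id, Category.assoc] at h₂
  let l := Fork.IsLimit.lift' hl s.snd (h₁.symm.trans h₂)
  have hk : l.1 ≫ (pyon S).map i = s.snd := l.2
  refine ⟨l.1, ?_, hk, fun {m} _ hm => Fork.IsLimit.hom_ext hl (hm.trans l.2.symm)⟩
  change l.1 ≫ (pyon S).map i ≫ γ ≫ pullback.fst a a = s.fst
  rw [← Category.assoc, hk]
  exact h₁.symm

theorem repBySp_diagonal {a : F ⟶ G} (ha : RepBySp a) : RepBySp (pullback.diagonal a) :=
  repBySp_of_relRep (relRep_diagonal_of_repBySp ha)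

theorem repBySp_prod_map {F₁ G₁ F₂ G₂ : PSp S} {a₁ : F₁ ⟶ G₁} {a₂ : F₂ ⟶ G₂} (h₁ : RepBySp a₁) (h₂ : RepBySp a₂) :
    RepBySp (prod.map a₁ a₂) := by
  have e : prod.map a₁ a₂ = prod.map a₁ (𝟙 F₂) ≫ prod.map (𝟙 G₁) a₂ := by simp
  rw [e]
  have sq₁ : IsPullback (prod.map a₁ (𝟙 F₂)) prod.fst prod.fst a₁ :=
    ⟨⟨prod.map_fst _ _⟩, ⟨PullbackCone.isLimitAux' _ fun s => ⟨prod.lift s.snd (s.fst ≫ prod.snd),
      by
        change prod.lift s.snd (s.fst ≫ prod.snd) ≫ prod.map a₁ (𝟙 F₂) = s.fst
        rw [prod.lift_map, Category.comp_id]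
        apply Limits.prod.hom_ext
        · rw [prod.lift_fst]; exact s.condition.symm
        · rw [prod.lift_snd],
      prod.lift_fst _ _, fun {m : s.pt ⟶ F₁ ⨯ F₂} (hm₁ : m ≫ prod.map a₁ (𝟙 F₂) = s.fst)
        (hm₂ : m ≫ prod.fst = s.snd) => by
        change m = prod.lift s.snd (s.fst ≫ prod.snd)
        apply Limits.prod.hom_ext
        · rw [prod.lift_fst, hm₂]
        · rw [prod.lift_snd, ← hm₁, Category.assoc, prod.map_snd, Category.comp_id]⟩⟩⟩
  have sq₂ : IsPullback (prod.map (𝟙 G₁) a₂) prod.snd prod.snd a₂ :=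
    ⟨⟨prod.map_snd _ _⟩, ⟨PullbackCone.isLimitAux' _ fun s => ⟨prod.lift (s.fst ≫ prod.fst) s.snd,
      by
        change prod.lift (s.fst ≫ prod.fst) s.snd ≫ prod.map (𝟙 G₁) a₂ = s.fst
        rw [prod.lift_map, Category.comp_id]
        apply Limits.prod.hom_ext
        · rw [prod.lift_fst]
        · rw [prod.lift_snd]; exact s.condition.symm,
      prod.lift_snd _ _, fun {m : s.pt ⟶ G₁ ⨯ F₂} (hm₁ : m ≫ prod.map (𝟙 G₁) a₂ = s.fst)
        (hm₂ : m ≫ prod.snd = s.snd) => by
        change m = prod.lift (s.fst ≫ prod.fst) s.snd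
        apply Limits.prod.hom_ext
        · rw [prod.lift_fst, ← hm₁, Category.assoc, prod.map_fst, Category.comp_id]
        · rw [prod.lift_snd, hm₂]⟩⟩⟩
  exact MorphismProperty.comp_mem _ _ _ (MorphismProperty.of_isPullback (P := RepBySp (S := S)) sq₁.flip h₁)
    (MorphismProperty.of_isPullback (P := RepBySp (S := S)) sq₂.flip h₂)

theorem repBySp_of_comp (a : F ⟶ G) (b : G ⟶ H) (hΔ : RepBySp (pullback.diagonal b)) (hab : RepBySp (a ≫ b)) :
    RepBySp a := by
  let φ : F ⟶ pullback (a ≫ b) b := pullback.lift (𝟙 F) a (Category.id_comp _)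
  have sq : IsPullback a φ (pullback.diagonal b) (pullback.map (a ≫ b) b b b a (𝟙 G) (𝟙 H) (by simp) (by simp)) := by
    have hφ₁ : φ ≫ pullback.fst (a ≫ b) b = 𝟙 F := pullback.lift_fst _ _ _
    have hφ₂ : φ ≫ pullback.snd (a ≫ b) b = a := pullback.lift_snd _ _ _
    let M : pullback (a ≫ b) b ⟶ pullback b b := pullback.map (a ≫ b) b b b a (𝟙 G) (𝟙 H) (by simp) (by simp)
    have hM₁ : M ≫ pullback.fst b b = pullback.fst (a ≫ b) b ≫ a := pullback.lift_fst _ _ _
    have hM₂ : M ≫ pullback.snd b b = pullback.snd (a ≫ b) b :=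
      (pullback.lift_snd _ _ _).trans (Category.comp_id _)
    change IsPullback a φ (pullback.diagonal b) M
    refine ⟨⟨?_⟩, ⟨PullbackCone.isLimitAux' _ fun s => ?_⟩⟩
    · apply pullback.hom_ext
      · rw [Category.assoc, pullback.diagonal_fst, Category.comp_id, Category.assoc, hM₁, ← Category.assoc, hφ₁,
          Category.id_comp]
      · rw [Category.assoc, pullback.diagonal_snd, Category.comp_id, Category.assoc, hM₂, hφ₂]
    have h₁ := s.condition =≫ pullback.fst b b
    have h₂ := s.condition =≫ pullback.snd b b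
    rw [Category.assoc, pullback.diagonal_fst, Category.comp_id, Category.assoc, hM₁] at h₁
    rw [Category.assoc, pullback.diagonal_snd, Category.comp_id, Category.assoc, hM₂] at h₂
    refine ⟨s.snd ≫ pullback.fst _ _, ?_, ?_, fun {m : s.pt ⟶ F} _ (hm₂ : m ≫ φ = s.snd) => ?_⟩
    · change (s.snd ≫ pullback.fst (a ≫ b) b) ≫ a = s.fst
      rw [Category.assoc]; exact h₁.symm
    · change (s.snd ≫ pullback.fst (a ≫ b) b) ≫ φ = s.snd
      apply pullback.hom_ext
      · rw [Category.assoc, hφ₁, Category.comp_id]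
      · rw [Category.assoc, hφ₂, Category.assoc]
        exact h₁.symm.trans h₂
    · change m = s.snd ≫ pullback.fst (a ≫ b) b
      rw [← hm₂, Category.assoc, hφ₁, Category.comp_id]
  have e : a = φ ≫ pullback.snd (a ≫ b) b := (pullback.lift_snd _ _ _).symm
  rw [e]
  exact MorphismProperty.comp_mem _ _ _ (MorphismProperty.of_isPullback (P := RepBySp (S := S)) sq hΔ)
    (MorphismProperty.pullback_snd (P := RepBySp (S := S)) _ _ hab)

theorem repBySp_terminal_from (U : Over S) : RepBySp (terminal.from ((pyon S).obj U)) := by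
  intro V ξ F' fst snd sq
  have sq' : IsPullback ((pyon S).map (prod.fst : U ⨯ V ⟶ U)) ((pyon S).map (prod.snd : U ⨯ V ⟶ V))
      (terminal.from ((pyon S).obj U)) ξ := by
    rw [terminalIsTerminal.hom_ext (terminal.from ((pyon S).obj U)) (terminalIsTerminal.from _),
      terminalIsTerminal.hom_ext ξ (terminalIsTerminal.from _)]
    exact IsPullback.of_is_product' (mapIsLimitOfPreservesOfIsLimit (pyon S) _ _ (prodIsProd U V)) terminalIsTerminal
  exact ((isAlgSpaceP_obj_iff _).2 (IsAlgSpace.yon_obj (U ⨯ V))).of_iso (sq'.isoIsPullback _ _ sq)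

theorem repBySp_diag_iff : RepBySp (Limits.diag F) ↔ ∀ (T : Over S) (ξ : (pyon S).obj T ⟶ F), RepBySp ξ := by
  constructor
  · intro h T ξ
    refine repBySp_of_comp ξ (terminal.from F) ?_ ?_
    · have sq : IsPullback (𝟙 F) (pullback.diagonal (terminal.from F)) (Limits.diag F)
          (prod.lift (pullback.fst _ _) (pullback.snd (terminal.from F) (terminal.from F))) := by
        refine ⟨⟨by apply Limits.prod.hom_ext <;> simp⟩, ⟨PullbackCone.isLimitAux' _ fun s => ?_⟩⟩
        have h₁ := s.condition =≫ prod.fst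
        have h₂ := s.condition =≫ prod.snd
        simp only [Category.assoc, prod.lift_fst, prod.lift_snd, Category.comp_id] at h₁ h₂
        refine ⟨s.fst, Category.comp_id _, ?_,
          fun {m : s.pt ⟶ F} (hm₁ : m ≫ 𝟙 F = s.fst) _ => (Category.comp_id m).symm.trans hm₁⟩
        change s.fst ≫ pullback.diagonal (terminal.from F) = s.snd
        apply pullback.hom_ext
        · rw [Category.assoc, pullback.diagonal_fst, Category.comp_id]; exact h₁
        · rw [Category.assoc, pullback.diagonal_snd, Category.comp_id]; exact h₂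
      exact MorphismProperty.of_isPullback (P := RepBySp (S := S)) sq h
    · rw [show ξ ≫ terminal.from F = terminal.from ((pyon S).obj T) from Subsingleton.elim _ _]
      exact repBySp_terminal_from T
  · intro h U γ F' fst snd sq
    let x := γ ≫ prod.fst
    let y := γ ≫ prod.snd
    have hP : IsAlgSpaceP (pullback x y) := h U x y _ _ (IsPullback.of_hasPullback x y)
    let t := terminal.from ((pyon S).obj U)
    let m : pullback x y ⟶ pullback t t :=
      pullback.lift (pullback.fst x y) (pullback.snd x y) (Subsingleton.elim _ _)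
    have hΔ : RepBySp (pullback.diagonal t) := repBySp_diagonal (repBySp_terminal_from U)
    have hE : IsAlgSpaceP (pullback (pullback.diagonal t) m) :=
      H14AlgSt.isAlgSpaceP_of_repBySp (MorphismProperty.pullback_snd (P := RepBySp (S := S)) _ _ hΔ) hP
    let k := pullback.snd (pullback.diagonal t) m
    let l := pullback.fst (pullback.diagonal t) m
    have hl₁ : l = k ≫ pullback.fst x y := by
      have := (pullback.condition (f := pullback.diagonal t) (g := m)) =≫ pullback.fst t t
      rw [Category.assoc, pullback.diagonal_fst, Category.comp_id, Category.assoc] at this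
      exact this.trans (congrArg (k ≫ ·) (pullback.lift_fst _ _ _))
    have hl₂ : l = k ≫ pullback.snd x y := by
      have := (pullback.condition (f := pullback.diagonal t) (g := m)) =≫ pullback.snd t t
      rw [Category.assoc, pullback.diagonal_snd, Category.comp_id, Category.assoc] at this
      exact this.trans (congrArg (k ≫ ·) (pullback.lift_snd _ _ _))
    have sqE : IsPullback (l ≫ x) l (Limits.diag F) γ := by
      refine ⟨⟨?_⟩, ⟨PullbackCone.isLimitAux' _ fun s => ?_⟩⟩
      · apply Limits.prod.hom_ext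
        · exact ((Category.assoc _ _ _).trans ((congrArg ((l ≫ x) ≫ ·) (prod.lift_fst _ _)).trans
            (Category.comp_id _))).trans (Category.assoc _ _ _).symm
        · simp only [Category.assoc, prod.lift_snd, Category.comp_id]
          change l ≫ x = l ≫ y
          conv_lhs => rw [hl₁, Category.assoc, pullback.condition]
          conv_rhs => rw [hl₂, Category.assoc]
      have h₁ := s.condition =≫ prod.fst
      have h₂ := s.condition =≫ prod.snd
      simp only [Category.assoc, prod.lift_fst, prod.lift_snd, Category.comp_id] at h₁ h₂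
      let z : s.pt ⟶ pullback x y := pullback.lift s.snd s.snd (h₁.symm.trans h₂)
      refine ⟨pullback.lift s.snd z ?_, ?_, pullback.lift_fst _ _ _, fun {n} _ hn => ?_⟩
      · apply pullback.hom_ext
        · rw [Category.assoc, pullback.diagonal_fst, Category.comp_id, Category.assoc]
          exact ((z ≫= pullback.lift_fst _ _ _).trans (pullback.lift_fst _ _ _)).symm
        · rw [Category.assoc, pullback.diagonal_snd, Category.comp_id, Category.assoc]
          exact ((z ≫= pullback.lift_snd _ _ _).trans (pullback.lift_snd _ _ _)).symm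
      · change pullback.lift s.snd z _ ≫ l ≫ x = s.fst
        rw [← Category.assoc, pullback.lift_fst]
        exact h₁.symm
      · change n ≫ l = s.snd at hn
        have key : ∀ n' : s.pt ⟶ pullback (pullback.diagonal t) m, n' ≫ l = s.snd →
            ∀ e, n' = pullback.lift s.snd z e := fun n' hn' e => by
          apply pullback.hom_ext
          · rw [pullback.lift_fst]; exact hn'
          · rw [pullback.lift_snd]
            apply pullback.hom_ext
            · rw [pullback.lift_fst, Category.assoc, ← hl₁]; exact hn'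
            · rw [pullback.lift_snd, Category.assoc, ← hl₂]; exact hn'
        exact key n hn _
    exact hE.of_iso (sqE.isoIsPullback _ _ sq)

end Groth.Agent.H12AlgSp
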