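import Groth.Agent.H12AlgSp.FppfQuot
import Groth.Agent.H12AlgSp.FieldCover
import Groth.Agent.H12AlgSp.ReducedPoint
import Groth.Agent.H12AlgSp.OnePointSpace
import Groth.Agent.H13AlgSp.EtaleLocally

/-!
Algebraic spaces with one point, residual spaces.
-/

set_option linter.unusedVariables false
set_option backward.isDefEq.respectTransparency false

universe u

open CategoryTheory CategoryTheory.Limits AlgebraicGeometry Opposite Topology
open AlgSp Groth.Agent.H13AlgSp

namespace Groth.Agent.H12AlgSp.Residual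

variable {S : Scheme.{u}}

theorem isField_stalk_of_reduced {X : Scheme.{u}} [IsReduced X] (x : X) (h : ∀ y, y ⤳ x → y = x) :
    IsField (X.presheaf.stalk x) := by
  refine PrimeSpectrum.subsingleton_iff_isField_of_isReduced.1 ⟨fun a b => ?_⟩
  apply (X.fromSpecStalk x).isEmbedding.injective
  have ha : X.fromSpecStalk x a ⤳ x :=
    (Scheme.range_fromSpecStalk (X := X) (x := x)).subset ⟨a, rfl⟩
  have hb : X.fromSpecStalk x b ⤳ x :=
    (Scheme.range_fromSpecStalk (X := X) (x := x)).subset ⟨b, rfl⟩
  rw [h _ ha, h _ hb]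

theorem eq_of_specializes_of_isField {X : Scheme.{u}} (x y : X) (hx : IsField (X.presheaf.stalk x))
    (h : y ⤳ x) : y = x := by
  obtain ⟨a, ha⟩ := (Scheme.range_fromSpecStalk (X := X) (x := x)).superset h
  obtain ⟨b, hb⟩ := (Scheme.range_fromSpecStalk (X := X) (x := x)).superset (specializes_rfl (x := x))
  have : Subsingleton (PrimeSpectrum (X.presheaf.stalk x)) := by
    let := hx.toField; infer_instance
  exact ha.symm.trans ((congrArg (X.fromSpecStalk x)
    (Subsingleton.elim (α := PrimeSpectrum (X.presheaf.stalk x)) a b)).trans hb)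

theorem isReduced_of_isField_stalk {X : Scheme.{u}} (h : ∀ x : X, IsField (X.presheaf.stalk x)) : IsReduced X := by
  have : ∀ x : X, _root_.IsReduced (X.presheaf.stalk x) := fun x => by
    let := (h x).toField; infer_instance
  exact isReduced_of_isReduced_stalk X

theorem isDiscrete_of_etale_field {W : Scheme.{u}} {K : Type u} [Field K] (w : W ⟶ Spec (CommRingCat.of K))
    [Etale w] : DiscreteTopology W ∧ IsReduced W ∧ ∀ x : W, IsField (W.presheaf.stalk x) := by
  have hr : IsReduced W := H13AlgSp.isReduced_of_smooth_mor w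
  have := lqf_of_etale w
  have hd : DiscreteTopology W := by
    rcases isEmpty_or_nonempty W with hW | ⟨⟨x⟩⟩
    · exact ⟨Subsingleton.elim _ _⟩
    · refine isDiscrete_univ_iff.1 ?_
      rw [show (Set.univ : Set W) = w ⁻¹' {w x} from (Set.eq_univ_of_forall fun y => Subsingleton.elim _ _).symm]
      exact w.isDiscrete_preimage_singleton _
  exact ⟨hd, hr, fun x => isField_stalk_of_reduced x fun y h => h.eq⟩

/-- A scheme with a flat surjective map from a scheme whose local rings are fields has the same property. -/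
theorem isField_stalk_of_flat_surjective {W U : Scheme.{u}} (f : W ⟶ U) [Flat f] [Surjective f]
    (hW : ∀ w : W, IsField (W.presheaf.stalk w)) (u : U) : IsField (U.presheaf.stalk u) := by
  obtain ⟨w, rfl⟩ := f.surjective u
  let φ := (f.stalkMap w).hom
  let := φ.toAlgebra
  have : Module.Flat (U.presheaf.stalk (f w)) (W.presheaf.stalk w) :=
    RingHom.flat_algebraMap_iff.1 (Flat.stalkMap f w)
  have : IsLocalHom (algebraMap (U.presheaf.stalk (f w)) (W.presheaf.stalk w)) :=
    inferInstanceAs (IsLocalHom (f.stalkMap w).hom)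
  have : Module.FaithfullyFlat (U.presheaf.stalk (f w)) (W.presheaf.stalk w) :=
    Module.FaithfullyFlat.of_flat_of_isLocalHom
  let := (hW w).toField
  refine ⟨⟨0, 1, zero_ne_one⟩, mul_comm, fun {a} ha => ?_⟩
  have : IsUnit a := isUnit_of_map_unit φ a (Ne.isUnit fun h0 =>
    ha (FaithfulSMul.algebraMap_injective (U.presheaf.stalk (f w)) (W.presheaf.stalk w)
      (h0.trans (map_zero _).symm)))
  exact this.exists_right_inv

/-- Charts of a space with a flat surjective field valued point have fields as local rings. -/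
theorem isField_stalk_chart {Z : Sp S} (hZ : IsAlgSpace Z) {k : Type u} [Field k]
    {str : Spec (CommRingCat.of k) ⟶ S} {p : (yon S).obj (Over.mk str) ⟶ Z}
    (hpf : LocP @Flat p) (hps : IsSurjectiveMor p) {U : Over S} {a : (yon S).obj U ⟶ Z} (ha : RepWith @Etale a)
    (u : U.left) : IsField (U.left.presheaf.stalk u) := by
  have hr := hZ.representable_from_yon p
  have hfl := repWith_of_locP etLocal_flat hZ hr hpf
  obtain ⟨W, w, fst, sq⟩ := hr a
  obtain ⟨f, rfl⟩ := (yon S).map_surjective fst
  have : Flat w.left := hfl.property a _ w sq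
  have : Surjective w.left := (repWith_surjective_of_map hr hps).property a _ w sq
  let f' : W.left ⟶ Spec (CommRingCat.of k) := f.left
  have : Etale f' := ha.property p _ f sq.flip
  exact isField_stalk_of_flat_surjective w.left (isDiscrete_of_etale_field f').2.2 u

theorem subsingleton_points {Z : Sp S} {k : Type u} [Field k] {str : Spec (CommRingCat.of k) ⟶ S}
    {p : (yon S).obj (Over.mk str) ⟶ Z} (hps : IsSurjectiveMor p) :
    Nonempty (Points Z) ∧ Subsingleton (Points Z) := by
  have : Subsingleton (Over.mk str).left := inferInstanceAs (Subsingleton (Spec (CommRingCat.of k)))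
  have : Subsingleton (Points ((yon S).obj (Over.mk str))) := (Points.schemeEquiv _).symm.subsingleton
  exact ⟨⟨Points.map p (Points.ofScheme _ (IsLocalRing.closedPoint k))⟩,
    Function.Surjective.subsingleton (f := Points.map p) hps⟩

/-- A point of a chart which is closed or generic enough gives a field valued point with the same property. -/
theorem exists_fieldPt_of_chart {Z : Sp S} (hZ : IsAlgSpace Z) [Subsingleton (Points Z)] {U : Over S}
    {a : (yon S).obj U ⟶ Z} (ha : RepWith @Etale a) (u : U.left)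
    (hu : IsField (U.left.presheaf.stalk u)) :
    ∃ (str : Spec (U.left.residueField u) ⟶ S) (q : (yon S).obj (Over.mk str) ⟶ Z)
      (ι : Over.mk str ⟶ U), ι.left = U.left.fromSpecResidueField u ∧ q = (yon S).map ι ≫ a ∧
      LocP @Flat q ∧ IsSurjectiveMor q := by
  let str := U.left.fromSpecResidueField u ≫ U.hom
  let ι : Over.mk str ⟶ U := Over.homMk (U.left.fromSpecResidueField u) rfl
  refine ⟨str, _, ι, rfl, rfl, ?_, fun z => ⟨Points.ofScheme (Over.mk str) (IsLocalRing.closedPoint _),
    Subsingleton.elim _ _⟩⟩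
  have hι : Flat ι.left := by
    refine (Flat.iff_flat_stalkMap _).2 fun y => ?_
    change ((U.left.fromSpecResidueField u).stalkMap y).hom.Flat
    have hy : U.left.fromSpecResidueField u y = u := U.left.fromSpecResidueField_apply u y
    let := (hy.symm ▸ hu : IsField (U.left.presheaf.stalk (U.left.fromSpecResidueField u y))).toField
    let := ((U.left.fromSpecResidueField u).stalkMap y).hom.toAlgebra
    exact RingHom.flat_algebraMap_iff.2 inferInstance
  exact locP_of_repWith etLocal_flat (repWith_comp ((repWith_yon_map_iff _ ι).2 hι)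
    (repWith_le (fun _ _ g (_ : Etale g) => inferInstanceAs (Flat g)) ha))

/-- (1) ⇔ (2) for one point spaces. -/
theorem reduced_onePoint_iff {Z : Sp S} (hZ : IsAlgSpace Z) :
    (EtaleLocally (fun U => IsReduced U) Z ∧ Nonempty (Points Z) ∧ Subsingleton (Points Z)) ↔
      ∃ (k : Type u) (_ : Field k) (str : Spec (CommRingCat.of k) ⟶ S) (p : (yon S).obj (Over.mk str) ⟶ Z),
        LocP @Flat p ∧ IsSurjectiveMor p := by
  constructor
  · rintro ⟨⟨U, a, ha, has, hred⟩, hne, hsub⟩
    obtain ⟨u₀, -⟩ := surjective_ofPt_of_repWith le_rfl has hne.some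
    obtain ⟨A, hA, hu₀, -⟩ := TopologicalSpace.Opens.isBasis_iff_nbhd.mp U.left.isBasis_affineOpens
      (TopologicalSpace.Opens.mem_top u₀)
    have hn : Nonempty (Spec Γ(U.left, A)) := by
      obtain ⟨b, -⟩ := hA.range_fromSpec.ge hu₀
      exact ⟨b⟩
    have : Nontrivial Γ(U.left, A) := PrimeSpectrum.nonempty_iff_nontrivial.1 hn
    obtain ⟨m, hm⟩ := Ideal.nonempty_minimalPrimes (I := (⊥ : Ideal Γ(U.left, A))) bot_ne_top
    let b : Spec Γ(U.left, A) := (⟨m, hm.1.1⟩ : PrimeSpectrum Γ(U.left, A))
    have hgen : ∀ y, y ⤳ b → y = b := fun y hy => by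
      have hle : y.asIdeal ≤ m := (PrimeSpectrum.le_iff_specializes y b).2 hy
      exact PrimeSpectrum.ext (le_antisymm hle (hm.2 ⟨y.2, bot_le⟩ hle))
    have hu : IsField (U.left.presheaf.stalk (hA.fromSpec b)) :=
      (asIso (hA.fromSpec.stalkMap b)).commRingCatIsoToRingEquiv.toMulEquiv.isField
        (by
          have : IsReduced (Spec Γ(U.left, A)) := isReduced_of_isOpenImmersion hA.fromSpec
          exact isField_stalk_of_reduced b hgen)
    obtain ⟨str, q, ι, -, -, h1, h2⟩ := exists_fieldPt_of_chart hZ ha _ hu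
    exact ⟨U.left.residueField (hA.fromSpec b), inferInstance, str, q, h1, h2⟩
  · rintro ⟨k, _, str, p, hpf, hps⟩
    obtain ⟨hn, hsub⟩ := subsingleton_points hps
    obtain ⟨U, a, ha, has⟩ := hZ.atlas
    exact ⟨⟨U, a, ha, has, isReduced_of_isField_stalk (isField_stalk_chart hZ hpf hps ha)⟩, hn, hsub⟩

/-- A flat surjective field valued point gives one locally of finite type. -/
theorem exists_lft_fieldPt {Z : Sp S} (hZ : IsAlgSpace Z) {k : Type u} [Field k]
    {str : Spec (CommRingCat.of k) ⟶ S} {p : (yon S).obj (Over.mk str) ⟶ Z}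
    (hpf : LocP @Flat p) (hps : IsSurjectiveMor p) :
    ∃ (k' : Type u) (_ : Field k') (str' : Spec (CommRingCat.of k') ⟶ S) (q : (yon S).obj (Over.mk str') ⟶ Z),
      LocP @LocallyOfFiniteType q ∧ LocP @Flat q ∧ IsSurjectiveMor q := by
  obtain ⟨hn, hsub⟩ := subsingleton_points hps
  obtain ⟨U, a, ha, has⟩ := hZ.atlas
  obtain ⟨u, -⟩ := surjective_ofPt_of_repWith le_rfl has hn.some
  have hf := isField_stalk_chart hZ hpf hps ha
  obtain ⟨str', q, ι, hι, rfl, h1, h2⟩ := exists_fieldPt_of_chart hZ ha u (hf u)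
  refine ⟨U.left.residueField u, inferInstance, str', _, ?_, h1, h2⟩
  have : IsClosed ({u} : Set U.left) := closure_subset_iff_isClosed.1 fun y hy =>
    (eq_of_specializes_of_isField y u (hf y) (specializes_iff_mem_closure.2 hy)).symm
  have hc : IsClosedImmersion (U.left.fromSpecResidueField u) := by
    refine IsClosedImmersion.of_isPreimmersion _ ?_
    rwa [Scheme.range_fromSpecResidueField]
  refine locP_of_repWith etLocal_lft (repWith_comp ((repWith_yon_map_iff _ ι).2 ?_)
    (repWith_le (fun _ _ g (_ : Etale g) => inferInstanceAs (LocallyOfFiniteType g)) ha))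
  rw [hι]
  infer_instance

theorem isOpenImmersion_fromSpecResidueField {U : Scheme.{u}} (u : U) (ho : IsOpen ({u} : Set U))
    (hu : IsField (U.presheaf.stalk u)) : IsOpenImmersion (U.fromSpecResidueField u) := by
  have h : ∀ y, IsIso ((U.fromSpecResidueField u).stalkMap y) := fun y => by
    rw [ConcreteCategory.isIso_iff_bijective]
    refine ⟨?_, (U.fromSpecResidueField u).stalkMap_surjective y⟩
    have hy : U.fromSpecResidueField u y = u := U.fromSpecResidueField_apply u y
    let := (hy.symm ▸ hu : IsField (U.presheaf.stalk (U.fromSpecResidueField u y))).toField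
    exact RingHom.injective ((U.fromSpecResidueField u).stalkMap y).hom
  exact IsOpenImmersion.of_isIso_stalkMap _
    ⟨(U.fromSpecResidueField u).isEmbedding, by rw [Scheme.range_fromSpecResidueField]; exact ho⟩

theorem isLocallyNoetherian_of_discrete {U : Scheme.{u}} [DiscreteTopology U]
    (h : ∀ u : U, IsField (U.presheaf.stalk u)) : IsLocallyNoetherian U := by
  have ho : ∀ u : U, IsOpenImmersion (U.fromSpecResidueField u) := fun u =>
    isOpenImmersion_fromSpecResidueField u (isOpen_discrete _) (h u)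
  let cov : U.OpenCover := Scheme.Cover.mkOfCovers U (fun u => Spec (U.residueField u))
    (fun u => U.fromSpecResidueField u)
    (fun u => ⟨u, IsLocalRing.closedPoint (U.residueField u), U.fromSpecResidueField_apply u _⟩) ho
  have : ∀ i, IsAffine (cov.X i) := fun i => inferInstanceAs (IsAffine (Spec (U.residueField i)))
  refine (isLocallyNoetherian_iff_of_affine_openCover cov).2 fun u => ?_
  exact isNoetherianRing_of_ringEquiv (U.residueField u)
    (Scheme.ΓSpecIso (U.residueField u)).commRingCatIsoToRingEquiv.symm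

theorem discrete_of_noetherian {U : Scheme.{u}} [IsLocallyNoetherian U] (h : ∀ u : U, IsField (U.presheaf.stalk u)) :
    DiscreteTopology U := by
  refine discreteTopology_iff_forall_isOpen.2 fun s => ?_
  rw [← Set.biUnion_of_singleton s]
  refine isOpen_biUnion fun u _ => ?_
  obtain ⟨A, hA, huA, -⟩ := TopologicalSpace.Opens.isBasis_iff_nbhd.mp U.isBasis_affineOpens
    (TopologicalSpace.Opens.mem_top u)
  obtain ⟨b, rfl⟩ := hA.range_fromSpec.ge huA
  have : IsNoetherianRing Γ(U, A) := IsLocallyNoetherian.component_noetherian ⟨A, hA⟩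
  have hmax : ∀ P : Ideal Γ(U, A), P.IsPrime → P.IsMaximal := fun P hP => by
    obtain ⟨m, hm, hle⟩ := Ideal.exists_le_maximal P hP.ne_top
    let x : Spec Γ(U, A) := (⟨m, hm.isPrime⟩ : PrimeSpectrum Γ(U, A))
    have := eq_of_specializes_of_isField x (⟨P, hP⟩ : PrimeSpectrum Γ(U, A))
      ((asIso (hA.fromSpec.stalkMap x)).commRingCatIsoToRingEquiv.symm.toMulEquiv.isField (h _))
      ((PrimeSpectrum.le_iff_specializes (⟨P, hP⟩ : PrimeSpectrum Γ(U, A)) x).1 hle)
    have e : P = m := congrArg PrimeSpectrum.asIdeal this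
    exact e ▸ hm
  have : Ring.KrullDimLE 0 Γ(U, A) := Ring.krullDimLE_zero_iff.2 hmax
  have : IsArtinianRing Γ(U, A) := isArtinianRing_iff_isNoetherianRing_krullDimLE_zero.2 ⟨‹_›, ‹_›⟩
  have : DiscreteTopology (Spec Γ(U, A)) := inferInstanceAs (DiscreteTopology (PrimeSpectrum Γ(U, A)))
  have := hA.fromSpec.isOpenEmbedding.isOpenMap _ (isOpen_discrete {b})
  rwa [Set.image_singleton] at this

/-- Charts of a space with an lfp flat surjective field valued point are discrete. -/
theorem discrete_chart {Z : Sp S} (hZ : IsAlgSpace Z) {k : Type u} [Field k]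
    {str : Spec (CommRingCat.of k) ⟶ S} {p : (yon S).obj (Over.mk str) ⟶ Z}
    (hpl : LocP @LocallyOfFinitePresentation p) (hpf : LocP @Flat p) (hps : IsSurjectiveMor p) {U : Over S}
    {a : (yon S).obj U ⟶ Z} (ha : RepWith @Etale a) : DiscreteTopology U.left := by
  have hr := hZ.representable_from_yon p
  obtain ⟨W, w, fst, sq⟩ := hr a
  obtain ⟨f, rfl⟩ := (yon S).map_surjective fst
  have : Flat w.left := (repWith_of_locP etLocal_flat hZ hr hpf).property a _ w sq
  have : LocallyOfFinitePresentation w.left := (repWith_of_locP etLocal_lfp hZ hr hpl).property a _ w sq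
  have : Surjective w.left := (repWith_surjective_of_map hr hps).property a _ w sq
  let f' : W.left ⟶ Spec (CommRingCat.of k) := f.left
  have : Etale f' := ha.property p _ f sq.flip
  have := (isDiscrete_of_etale_field f').1
  refine discreteTopology_iff_forall_isOpen.2 fun s => ?_
  rw [← Set.image_preimage_eq s w.left.surjective]
  exact w.left.isOpenMap _ (isOpen_discrete _)

/-- Reduced locally Noetherian one point spaces. -/
theorem noeth_onePoint_iff {Z : Sp S} (hZ : IsAlgSpace Z) :
    (EtaleLocally (fun U => IsReduced U) Z ∧ IsLocNoethSp Z ∧ Nonempty (Points Z) ∧ Subsingleton (Points Z)) ↔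
      ∃ (k : Type u) (_ : Field k) (str : Spec (CommRingCat.of k) ⟶ S) (p : (yon S).obj (Over.mk str) ⟶ Z),
        LocP @LocallyOfFinitePresentation p ∧ LocP @Flat p ∧ IsSurjectiveMor p := by
  constructor
  · rintro ⟨hred, ⟨U, a, ha, has, hU⟩, hn, hsub⟩
    obtain ⟨k, _, str, p, hpf, hps⟩ := (reduced_onePoint_iff hZ).1 ⟨hred, hn, hsub⟩
    have hf := isField_stalk_chart hZ hpf hps ha
    have := discrete_of_noetherian hf
    obtain ⟨u, -⟩ := surjective_ofPt_of_repWith le_rfl has hn.some
    obtain ⟨str', q, ι, hι, rfl, h1, h2⟩ := exists_fieldPt_of_chart hZ ha u (hf u)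
    refine ⟨U.left.residueField u, inferInstance, str', _, ?_, h1, h2⟩
    refine locP_of_repWith etLocal_lfp (repWith_comp ((repWith_yon_map_iff _ ι).2 ?_)
      (repWith_le (fun _ _ g (_ : Etale g) => inferInstanceAs (LocallyOfFinitePresentation g)) ha))
    rw [hι]
    have := isOpenImmersion_fromSpecResidueField u (isOpen_discrete _) (hf u)
    infer_instance
  · rintro ⟨k, _, str, p, hpl, hpf, hps⟩
    obtain ⟨hn, hsub⟩ := subsingleton_points hps
    obtain ⟨U, a, ha, has⟩ := hZ.atlas
    have hf := isField_stalk_chart hZ hpf hps ha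
    have := discrete_chart hZ hpl hpf hps ha
    exact ⟨⟨U, a, ha, has, isReduced_of_isField_stalk hf⟩,
      ⟨U, a, ha, has, isLocallyNoetherian_of_discrete hf⟩, hn, hsub⟩

theorem regular_onePoint {Z : Sp S} (hZ : IsAlgSpace Z)
    (hr : EtaleLocally (fun U => IsReduced U) Z) (hN : IsLocNoethSp Z) (hn : Nonempty (Points Z))
    (hs : Subsingleton (Points Z)) :
    EtaleLocally (fun U => IsLocallyNoetherian U ∧ ∀ u : ↥U, IsRegularLocalRing ↥(U.presheaf.stalk u)) Z := by
  obtain ⟨k, _, str, p, hpf, hps⟩ := (reduced_onePoint_iff hZ).1 ⟨hr, hn, hs⟩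
  obtain ⟨U, a, ha, has, hU⟩ := hN
  refine ⟨U, a, ha, has, hU, fun u => ?_⟩
  let := (isField_stalk_chart hZ hpf hps ha u).toField
  infer_instance

theorem isIso_of_mono_to_fieldSp {P : Sp S} (hP : IsAlgSpace P) {k : Type u} [Field k]
    {str : Spec (CommRingCat.of k) ⟶ S} (m : P ⟶ (yon S).obj (Over.mk str)) [Mono m] (hne : Nonempty (Points P)) :
    IsIso m := isIso_of_mono_to_field_space hP m

/-- A monomorphism to a residual space is trivial. -/
theorem isEmpty_or_isIso {Z' Z : Sp S} (hZ' : IsAlgSpace Z') (hZ : IsAlgSpace Z) (f : Z' ⟶ Z) [Mono f]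
    {k : Type u} [Field k] {str : Spec (CommRingCat.of k) ⟶ S} {p : (yon S).obj (Over.mk str) ⟶ Z}
    (hpl : LocP @LocallyOfFinitePresentation p) (hpf : LocP @Flat p) (hps : IsSurjectiveMor p) :
    IsEmpty (Points Z') ∨ IsIso f := by
  rcases isEmpty_or_nonempty (Points Z') with he | hne
  · exact Or.inl he
  right
  obtain ⟨-, hsub⟩ := subsingleton_points hps
  have hr := hZ.representable_from_yon p
  have hp : RepWith fppfMor p := repWith_inf_iff.2 ⟨repWith_inf_iff.2 ⟨repWith_surjective_of_map hr hps,
    repWith_of_locP etLocal_flat hZ hr hpf⟩, repWith_of_locP etLocal_lfp hZ hr hpl⟩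
  have := epi_of_repWith_fppf hp
  have sq := IsPullback.of_hasPullback f p
  have hP : IsAlgSpace (pullback f p) := isAlgSpace_pullback hZ.diag hZ' (IsAlgSpace.yon_obj _) f p
  have hPne : Nonempty (Points (pullback f p)) := by
    obtain ⟨w, -, -⟩ := exists_point_of_isPullback sq hne.some
      (Points.ofScheme (Over.mk str) (IsLocalRing.closedPoint k)) (Subsingleton.elim _ _)
    exact ⟨w⟩
  have := isIso_of_mono_to_fieldSp hP (pullback.snd f p) hPne
  have : Epi f := epi_of_epi_fac (h := p) (f := inv (pullback.snd f p) ≫ pullback.fst f p)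
    (by rw [Category.assoc, pullback.condition, IsIso.inv_hom_id_assoc])
  exact isIso_of_mono_of_epi f

/-- The residual space of the image of a point of an etale chart. -/
theorem exists_residual_chart {X : Sp S} (hX : IsAlgSpace X) {U : Over S} {a : (yon S).obj U ⟶ X}
    (ha : RepWith @Etale a) (u : U.left) :
    ∃ (Z : Sp S) (i : Z ⟶ X)
      (p : (yon S).obj (Over.mk (U.left.fromSpecResidueField u ≫ U.hom)) ⟶ Z),
      IsAlgSpace Z ∧ Mono i ∧ Set.range (Points.map i) = {Points.ofPt a u} ∧
        p ≫ i = (yon S).map (Over.homMk (U.left.fromSpecResidueField u) rfl) ≫ a ∧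
        LocP @LocallyOfFinitePresentation p ∧ LocP @Flat p ∧ IsSurjectiveMor p := by
  let str : Spec (U.left.residueField u) ⟶ S := U.left.fromSpecResidueField u ≫ U.hom
  let K : Over S := Over.mk str
  let ι : K ⟶ U := Over.homMk (U.left.fromSpecResidueField u) rfl
  let q := (yon S).map ι ≫ a
  obtain ⟨V, c, v', sqV⟩ := ha.rep q
  obtain ⟨v, rfl⟩ := (yon S).map_surjective v'
  let c' : V.left ⟶ Spec (U.left.residueField u) := c.left
  have : Etale c' := ha.property q _ c sqV
  obtain ⟨hdisc, -, hVf⟩ := isDiscrete_of_etale_field (K := U.left.residueField u) c'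
  let π := pullback.fst v.left (U.left.fromSpecResidueField u)
  have hπ : IsOpenImmersion π := by
    have hj : ∀ w : V.left, IsOpenImmersion (V.left.fromSpecResidueField w) := fun w =>
      isOpenImmersion_fromSpecResidueField w (isOpen_discrete _) (hVf w)
    let cov : V.left.OpenCover := Scheme.Cover.mkOfCovers V.left (fun w => Spec (V.left.residueField w))
      (fun w => V.left.fromSpecResidueField w)
      (fun w => ⟨w, IsLocalRing.closedPoint (V.left.residueField w), V.left.fromSpecResidueField_apply w _⟩) hj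
    refine IsZariskiLocalAtTarget.of_openCover cov fun w => ?_
    change IsOpenImmersion (pullback.snd π (V.left.fromSpecResidueField w))
    rcases isEmpty_or_nonempty ↥(pullback π (V.left.fromSpecResidueField w)) with he | ⟨⟨z⟩⟩
    · exact inferInstance
    · obtain ⟨y, hy⟩ : ∃ y, π y = w := ⟨pullback.fst π (V.left.fromSpecResidueField w) z, by
        rw [← Scheme.Hom.comp_apply, pullback.condition, Scheme.Hom.comp_apply]
        exact V.left.fromSpecResidueField_apply w _⟩
      have hvw : v.left w = u := by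
        rw [← hy, ← Scheme.Hom.comp_apply, pullback.condition, Scheme.Hom.comp_apply]
        exact U.left.fromSpecResidueField_apply u _
      obtain ⟨l, hl⟩ := exists_factor_fromSpecResidueField (V.left.fromSpecResidueField w ≫ v.left) u
        (fun s => by
          rw [Scheme.Hom.comp_apply, V.left.fromSpecResidueField_apply w s, hvw])
      let m : Spec (V.left.residueField w) ⟶ pullback v.left (U.left.fromSpecResidueField u) :=
        pullback.lift (V.left.fromSpecResidueField w) l hl.symm
      let σ : Spec (V.left.residueField w) ⟶ pullback π (V.left.fromSpecResidueField w) :=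
        pullback.lift m (𝟙 _) (by rw [Category.id_comp]; exact pullback.lift_fst _ _ _)
      have hσ : σ ≫ pullback.snd π (V.left.fromSpecResidueField w) = 𝟙 _ := pullback.lift_snd _ _ _
      have : IsIso (pullback.snd π (V.left.fromSpecResidueField w)) :=
        ⟨σ, by rw [← cancel_mono (pullback.snd π (V.left.fromSpecResidueField w)), Category.assoc, hσ,
          Category.comp_id, Category.id_comp], hσ⟩
      infer_instance
  let R := pullback v ι
  let π₁ : R ⟶ V := pullback.fst v ι
  let s : R ⟶ K := pullback.snd v ι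
  let t : R ⟶ K := π₁ ≫ c
  have sqR : IsPullback ((yon S).map s) ((yon S).map t) q q := by
    rw [Functor.map_comp]
    exact ((IsPullback.of_hasPullback v ι).flip.map (yon S)).paste_vert sqV
  have hπ₁ : IsOpenImmersion π₁.left := by
    have sq := (IsPullback.of_hasPullback v ι).map (Over.forget S)
    change IsOpenImmersion (pullback.fst v ι).left
    rw [show (pullback.fst v ι).left = sq.isoPullback.hom ≫ π from sq.isoPullback_hom_fst.symm]
    infer_instance
  have : Flat t.left := inferInstanceAs (Flat (π₁.left ≫ c'))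
  have : LocallyOfFinitePresentation t.left := inferInstanceAs (LocallyOfFinitePresentation (π₁.left ≫ c'))
  have hrel : IsEqvRel t s := isEqvRel_of_isPullback sqR
  let Z := QuotSh.quot Scheme.fppfPrecoverage t s
  let p := quotMap t s
  obtain ⟨sqp, hpe⟩ := isPullback_quotMap hrel
  have hp : RepWith fppfMor p := repWith_fppf_quotMap hrel
  have : Epi p := hpe
  have : IsRegularEpi p := IsRegularEpiCategory.regularEpiOfEpi p
  let hcol := IsKernelPair.toCoequalizer' sqp
  let i : Z ⟶ X := Cofork.IsColimit.desc hcol q sqR.w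
  have hi : p ≫ i = q := Cofork.IsColimit.π_desc' hcol _ _
  have him : Mono i := mono_of_yon fun T z z' e => by
    obtain ⟨T₁, d, l, hd, hl⟩ := exists_fppf_lift p z
    obtain ⟨T₂, d', l', hd', hl'⟩ := exists_fppf_lift p ((yon S).map d ≫ z')
    have hJ : ∀ {A B : Over S} (g : B ⟶ A), fppfMor g.left →
        Sieve.ofArrows (fun _ : PUnit.{u + 1} => B) (fun _ => g) ∈ J S A := fun g hg =>
      ofArrows_mem_J _ (fun _ => hg.1.2) (fun _ => hg.2) fun a => ⟨⟨⟩, hg.1.1.surj a⟩
    refine hom_ext_of_cover _ (hJ d hd) fun _ => hom_ext_of_cover _ (hJ d' hd') fun _ => ?_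
    have e1 : ((yon S).map d' ≫ l) ≫ q = l' ≫ q := by
      rw [← hi, Category.assoc, ← Category.assoc l, hl, ← Category.assoc l', hl', Category.assoc, Category.assoc,
        Category.assoc, e]
    obtain ⟨r, hr₁, hr₂⟩ := sqR.exists_lift _ _ e1
    rw [← hl, ← hl', ← Category.assoc, ← hr₁, ← hr₂, Category.assoc, Category.assoc, sqp.w]
  refine ⟨Z, i, p, isAlgSpace_quot_fppf hrel, him, Set.ext fun y => ⟨?_, fun hy => ?_⟩, hi, ?_, ?_, ?_⟩
  · rintro ⟨z, rfl⟩
    obtain ⟨z', rfl⟩ := surjective_map_of_repWith le_rfl (repWith_le (fun _ _ _ h => h.1.1) hp) z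
    obtain ⟨y', rfl⟩ := (Points.schemeEquiv K).surjective z'
    rw [Set.mem_singleton_iff, ← Points.map_comp, hi]
    change Points.map q (Points.ofScheme K y') = _
    rw [← Points.ofPt_eq_map_ofScheme, ofPt_map]
    exact congrArg (Points.ofPt a) (U.left.fromSpecResidueField_apply u y')
  · rw [Set.mem_singleton_iff.1 hy]
    refine ⟨Points.map p (Points.ofScheme K (IsLocalRing.closedPoint (U.left.residueField u))), ?_⟩
    rw [← Points.map_comp, hi, ← Points.ofPt_eq_map_ofScheme, ofPt_map]
    exact congrArg (Points.ofPt a) (U.left.fromSpecResidueField_apply u _)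
  · exact locP_of_repWith etLocal_lfp (repWith_le (fun _ _ _ h => h.2) hp)
  · exact locP_of_repWith etLocal_flat (repWith_le (fun _ _ _ h => h.1.2) hp)
  · exact surjective_map_of_repWith le_rfl (repWith_le (fun _ _ _ h => h.1.1) hp)

/-- The residual space of a point. -/
theorem exists_residual {X : Sp S} (hX : IsAlgSpace X) (x : Points X) :
    ∃ (Z : Sp S) (i : Z ⟶ X), IsAlgSpace Z ∧ Mono i ∧ Set.range (Points.map i) = {x} ∧
      ∃ (k : Type u) (_ : Field k) (str : Spec (CommRingCat.of k) ⟶ S) (p : (yon S).obj (Over.mk str) ⟶ Z),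
        LocP @LocallyOfFinitePresentation p ∧ LocP @Flat p ∧ IsSurjectiveMor p := by
  obtain ⟨U, a, ha, has⟩ := hX.atlas
  obtain ⟨u, rfl⟩ := surjective_ofPt_of_repWith le_rfl has x
  obtain ⟨Z, i, p, hZ, hi, hr, -, h1, h2, h3⟩ := exists_residual_chart hX ha u
  exact ⟨Z, i, hZ, hi, hr, U.left.residueField u, inferInstance, _, p, h1, h2, h3⟩

/-- Residual spaces are unique. -/
theorem residual_unique {X : Sp S} (hX : IsAlgSpace X) (x : Points X) {Z Z' : Sp S} (hZ : IsAlgSpace Z)
    (hZ' : IsAlgSpace Z') (i : Z ⟶ X) (i' : Z' ⟶ X) [Mono i] [Mono i']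
    (hi : Set.range (Points.map i) = {x}) (hi' : Set.range (Points.map i') = {x})
    (h : ∃ (k : Type u) (_ : Field k) (str : Spec (CommRingCat.of k) ⟶ S) (p : (yon S).obj (Over.mk str) ⟶ Z),
        LocP @LocallyOfFinitePresentation p ∧ LocP @Flat p ∧ IsSurjectiveMor p)
    (h' : ∃ (k : Type u) (_ : Field k) (str : Spec (CommRingCat.of k) ⟶ S) (p : (yon S).obj (Over.mk str) ⟶ Z'),
        LocP @LocallyOfFinitePresentation p ∧ LocP @Flat p ∧ IsSurjectiveMor p) :
    ∃ e : Z' ≅ Z, e.hom ≫ i = i' := by
  obtain ⟨k, _, str, p, h1, h2, h3⟩ := h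
  obtain ⟨k', _, str', p', h1', h2', h3'⟩ := h'
  obtain ⟨z, hz⟩ := hi.ge (Set.mem_singleton x)
  obtain ⟨z', hz'⟩ := hi'.ge (Set.mem_singleton x)
  have hP : IsAlgSpace (pullback i i') := isAlgSpace_pullback hX.diag hZ hZ' i i'
  obtain ⟨w, -, -⟩ := exists_point_of_isPullback (IsPullback.of_hasPullback i i') z z' (hz.trans hz'.symm)
  have hA : IsIso (pullback.fst i i') :=
    (isEmpty_or_isIso hP hZ _ h1 h2 h3).resolve_left fun h => h.false w
  have hB : IsIso (pullback.snd i i') :=
    (isEmpty_or_isIso hP hZ' _ h1' h2' h3').resolve_left fun h => h.false w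
  refine ⟨(asIso (pullback.snd i i')).symm ≪≫ asIso (pullback.fst i i'), ?_⟩
  simp [pullback.condition]

end Groth.Agent.H12AlgSp.Residual
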