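import Groth.Agent.H12AlgSp.LocP
import Groth.Prelude.Def_AlgSpGpd

/-!
Restriction of groupoids in algebraic spaces: the legs are composites of base changes.
-/

universe u

open CategoryTheory CategoryTheory.Limits AlgebraicGeometry
open AlgSp

namespace Groth.Agent.H12AlgSp

variable {S : Scheme.{u}}

/-- If `R'` has the universal property of `U' ×_{g,U,a} R ×_{b,U,g} U'` then `a'` is a composite of a base
change of `a` with a base change of `g ∘ (…)`. -/
theorem locP_leg_of_restrict {P : MorphismProperty Scheme.{u}} (hP : EtLocal P) {U U' R R' : Sp S}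
    (hU : IsAlgSpace U) (hU' : IsAlgSpace U') (hR : IsAlgSpace R) (hR' : IsAlgSpace R')
    {g : U' ⟶ U} {a b : R ⟶ U} {fR : R' ⟶ R} {a' b' : R' ⟶ U'}
    (wa : fR ≫ a = a' ≫ g) (wb : fR ≫ b = b' ≫ g)
    (hex : ∀ {T : Sp S} (r : T ⟶ R) (x y : T ⟶ U'), r ≫ a = x ≫ g → r ≫ b = y ≫ g →
      ∃ r' : T ⟶ R', r' ≫ fR = r ∧ r' ≫ a' = x ∧ r' ≫ b' = y)
    (huniq : ∀ {T : Sp S} (r₁ r₂ : T ⟶ R'), r₁ ≫ fR = r₂ ≫ fR → r₁ ≫ a' = r₂ ≫ a' →
      r₁ ≫ b' = r₂ ≫ b' → r₁ = r₂)
    (ha : LocP P a) (hg : LocP P g) : LocP P a' := by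
  have hW : IsAlgSpace (pullback a g) := isAlgSpace_pullback hU.diag hR hU' a g
  have sq : IsPullback b' (pullback.lift fR a' wa) g (pullback.fst a g ≫ b) := by
    have e₁ : pullback.lift fR a' wa ≫ pullback.fst a g = fR := pullback.lift_fst _ _ _
    have e₂ : pullback.lift fR a' wa ≫ pullback.snd a g = a' := pullback.lift_snd _ _ _
    have w : b' ≫ g = pullback.lift fR a' wa ≫ pullback.fst a g ≫ b := by
      rw [← Category.assoc, e₁, wb]
    have hcond : ∀ c : PullbackCone g (pullback.fst a g ≫ b),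
        ∃ r' : c.pt ⟶ R', r' ≫ b' = c.fst ∧ r' ≫ pullback.lift fR a' wa = c.snd := by
      intro c
      obtain ⟨r', h₁, h₂, h₃⟩ := hex (c.snd ≫ pullback.fst a g) (c.snd ≫ pullback.snd a g) c.fst
        (by rw [Category.assoc, Category.assoc, pullback.condition])
        (by rw [Category.assoc]; exact c.condition.symm)
      refine ⟨r', h₃, pullback.hom_ext ?_ ?_⟩
      · rw [Category.assoc, e₁, h₁]
      · rw [Category.assoc, e₂, h₂]
    choose lft h₁ h₂ using hcond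
    refine ⟨⟨w⟩, ⟨PullbackCone.IsLimit.mk w lft h₁ h₂ ?_⟩⟩
    intro c m hm₁ hm₂
    apply huniq
    · rw [← e₁, ← Category.assoc, ← Category.assoc, hm₂, h₂]
    · rw [← e₂, ← Category.assoc, ← Category.assoc, hm₂, h₂]
    · rw [hm₁, h₁]
  have h₁ : LocP P (pullback.lift fR a' wa) := locP_of_isPullback hP sq hU' hU hW hg
  have h₂ : LocP P (pullback.snd a g) :=
    locP_of_isPullback hP (IsPullback.of_hasPullback a g) hR hU hU' ha
  have := locP_comp hP hR' hW hU' h₁ h₂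
  rwa [pullback.lift_snd] at this

theorem locP_of_isRestriction {P : MorphismProperty Scheme.{u}} (hP : EtLocal P) {B : Sp S}
    {G G' : GroupoidSp B} (hU : IsAlgSpace G.U) (hR : IsAlgSpace G.R) (hU' : IsAlgSpace G'.U)
    (hR' : IsAlgSpace G'.R) {φ : GroupoidSp.Hom G' G} (hφ : φ.IsRestriction)
    (hs : LocP P G.s) (ht : LocP P G.t) (hg : LocP P φ.fU) : LocP P G'.s ∧ LocP P G'.t := by
  have hex : ∀ {T : Sp S} (r : T ⟶ G.R) (x y : T ⟶ G'.U), r ≫ G.t = x ≫ φ.fU → r ≫ G.s = y ≫ φ.fU →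
      ∃ r' : T ⟶ G'.R, r' ≫ φ.fR = r ∧ r' ≫ G'.t = x ∧ r' ≫ G'.s = y := by
    intro T r x y hx hy
    have hxy : x ≫ G'.pU = y ≫ G'.pU := by
      rw [← φ.fU_over, ← Category.assoc, ← Category.assoc, ← hx, ← hy, Category.assoc, Category.assoc,
        G.t_over, G.s_over]
    have hj : r ≫ G.j = pullback.lift x y hxy ≫ φ.prodMap := by
      apply pullback.hom_ext
      · simp only [GroupoidSp.Hom.prodMap, pullback.map, Category.assoc, GroupoidSp.j_fst,
          pullback.lift_fst, pullback.lift_fst_assoc]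
        exact hx
      · simp only [GroupoidSp.Hom.prodMap, pullback.map, Category.assoc, GroupoidSp.j_snd,
          pullback.lift_snd, pullback.lift_snd_assoc]
        exact hy
    refine ⟨hφ.lift r (pullback.lift x y hxy) hj, hφ.lift_fst _ _ _, ?_, ?_⟩
    · rw [← GroupoidSp.j_fst G', ← Category.assoc, hφ.lift_snd, pullback.lift_fst]
    · rw [← GroupoidSp.j_snd G', ← Category.assoc, hφ.lift_snd, pullback.lift_snd]
  have huniq : ∀ {T : Sp S} (r₁ r₂ : T ⟶ G'.R), r₁ ≫ φ.fR = r₂ ≫ φ.fR → r₁ ≫ G'.t = r₂ ≫ G'.t →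
      r₁ ≫ G'.s = r₂ ≫ G'.s → r₁ = r₂ := by
    intro T r₁ r₂ h h' h''
    refine hφ.hom_ext h (pullback.hom_ext ?_ ?_)
    · simp only [Category.assoc, GroupoidSp.j_fst]; exact h'
    · simp only [Category.assoc, GroupoidSp.j_snd]; exact h''
  constructor
  · exact locP_leg_of_restrict hP hU hU' hR hR' φ.comm_s φ.comm_t
      (fun r x y h h' => (hex r y x h' h).imp fun _ e => ⟨e.1, e.2.2, e.2.1⟩)
      (fun r₁ r₂ h h' h'' => huniq r₁ r₂ h h'' h') hs hg
  · exact locP_leg_of_restrict hP hU hU' hR hR' φ.comm_t φ.comm_s hex huniq ht hg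

end Groth.Agent.H12AlgSp
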