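import Mathlib.RingTheory.Valuation.ValuationSubring
import Mathlib.RingTheory.Valuation.LocalSubring
import Mathlib.RingTheory.Flat.TorsionFree
import Mathlib.RingTheory.TensorProduct.Nontrivial
import Mathlib.RingTheory.Ideal.MinimalPrime.Localization
import Mathlib.RingTheory.Spectrum.Prime.Topology

/-!
Extensions, composites and common dominations of valuation subrings.
-/

set_option linter.unusedVariables false

universe u

open IsLocalRing
open scoped TensorProduct

namespace Groth.Agent.H12AlgSp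

variable {k K L : Type u} [Field k] [Field K] [Field L]

/-- A valuation ring inside its fraction field, as a valuation subring. -/
def rangeValuationSubring (A : Type u) [CommRing A] [IsDomain A] [ValuationRing A] (K : Type u) [Field K]
    [Algebra A K] [IsFractionRing A K] : ValuationSubring K :=
  { (algebraMap A K).range with
    mem_or_inv_mem' := fun x => by
      rcases ValuationRing.isInteger_or_isInteger A x with ⟨y, hy⟩ | ⟨y, hy⟩
      · exact Or.inl ⟨y, hy⟩
      · exact Or.inr ⟨y, hy⟩ }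

theorem mem_rangeValuationSubring {A : Type u} [CommRing A] [IsDomain A] [ValuationRing A]
    [Algebra A K] [IsFractionRing A K] {x : K} :
    x ∈ rangeValuationSubring A K ↔ ∃ a, algebraMap A K a = x :=
  Iff.rfl

theorem mem_of_mem_of_inv_nonunit (A : ValuationSubring K) {x : K} (hx : x⁻¹ ∉ A) : x ∈ A :=
  (A.mem_or_inv_mem x).resolve_right hx

/-- A local ring map of valuation rings identifies the valuation rings inside the fraction fields. -/
theorem mem_rangeValuationSubring_iff_of_isLocalHom {A A' : Type u} [CommRing A] [IsDomain A] [ValuationRing A]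
    [Algebra A K] [IsFractionRing A K] [CommRing A'] [IsDomain A'] [ValuationRing A'] [Algebra A' L]
    [IsFractionRing A' L] (φ : A →+* A') (ψ : K →+* L) (comm : (algebraMap A' L).comp φ = ψ.comp (algebraMap A K))
    [IsLocalHom φ] (x : K) :
    ψ x ∈ rangeValuationSubring A' L ↔ x ∈ rangeValuationSubring A K := by
  constructor
  · rintro ⟨a', ha'⟩
    rcases (rangeValuationSubring A K).mem_or_inv_mem x with h | ⟨y, hy⟩
    · exact h
    · by_cases hx : x = 0
      · exact hx ▸ zero_mem _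
      have h1 : φ y * a' = 1 := by
        apply IsFractionRing.injective A' L
        have c := RingHom.congr_fun comm y
        simp only [RingHom.comp_apply] at c
        rw [map_mul, c, ha', ← map_mul, hy, inv_mul_cancel₀ hx, map_one, map_one]
      obtain ⟨u, rfl⟩ := IsUnit.of_map φ y (IsUnit.of_mul_eq_one _ h1)
      exact ⟨(u⁻¹ : Aˣ), by rw [map_units_inv, hy, inv_inv]⟩
  · rintro ⟨a, rfl⟩
    exact ⟨φ a, RingHom.congr_fun comm a⟩

/-- A subring map into a valuation subring restricting exactly is local. -/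
theorem isLocalHom_codRestrict {A : Type u} [CommRing A] [IsDomain A] [ValuationRing A] [Algebra A K]
    [IsFractionRing A K] (A' : ValuationSubring L) (ψ : K →+* L)
    (h : ∀ x, ψ x ∈ A' ↔ x ∈ rangeValuationSubring A K) (hmem : ∀ a, ψ (algebraMap A K a) ∈ A') :
    IsLocalHom ((ψ.comp (algebraMap A K)).codRestrict A'.toSubring hmem) := by
  refine ⟨fun a ha => ?_⟩
  obtain ⟨w, hw⟩ := ha
  have h0 : ψ (algebraMap A K a) ≠ 0 := fun h0 => by
    have : (w : A'.toSubring) = 0 := hw.trans (Subtype.ext h0)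
    exact w.ne_zero this
  have h1 : ψ (algebraMap A K a)⁻¹ ∈ A' := by
    rw [map_inv₀]
    have hmul : ψ (algebraMap A K a) * (((w⁻¹ : (A'.toSubring)ˣ) : A'.toSubring) : L) = 1 := by
      have := congrArg (fun z : A'.toSubring => (z : L)) w.mul_inv
      simp only [Subring.coe_mul, hw, OneMemClass.coe_one] at this
      exact this
    rw [← eq_inv_of_mul_eq_one_right hmul]
    exact Subtype.coe_prop _
  obtain ⟨c, hc⟩ := (h _).1 h1
  refine IsUnit.of_mul_eq_one c (IsFractionRing.injective A K ?_)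
  rw [map_mul, hc, map_one, mul_inv_cancel₀]
  intro h2
  exact h0 (by rw [h2, map_zero])

/-- A valuation subring extends to any larger field. -/
theorem exists_comap_eq (i : k →+* K) (A : ValuationSubring k) :
    ∃ A' : ValuationSubring K, ∀ x, i x ∈ A' ↔ x ∈ A := by
  obtain ⟨A', hA', hloc⟩ := exists_factor_valuationRing (i.comp A.subtype)
  refine ⟨A', fun x => ⟨fun hx => ?_, fun hx => hA' ⟨x, hx⟩⟩⟩
  by_contra hxA
  have hxi : x⁻¹ ∈ A := (A.mem_or_inv_mem x).resolve_left hxA
  have hx0 : x ≠ 0 := fun h => hxA (h ▸ zero_mem A)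
  have : IsUnit ((i.comp A.subtype).codRestrict A'.toSubring hA' ⟨x⁻¹, hxi⟩) :=
    IsUnit.of_mul_eq_one (⟨i x, hx⟩ : A'.toSubring) (Subtype.ext (by
      change i x⁻¹ * i x = 1
      rw [← map_mul, inv_mul_cancel₀ hx0, map_one]))
  obtain ⟨w, hw⟩ := hloc.map_nonunit _ this
  have h := congrArg (fun z : A => (z : k)) w.mul_inv
  simp only [MulMemClass.coe_mul, hw, OneMemClass.coe_one] at h
  have h' := (eq_inv_of_mul_eq_one_right h).trans (inv_inv x)
  exact hxA (h' ▸ SetLike.coe_mem _)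

/-- The composite of a valuation subring with a valuation subring of its residue field. -/
def composite (B : ValuationSubring K) (A : ValuationSubring (ResidueField B)) : ValuationSubring K :=
  { (A.toSubring.comap (residue B)).map B.subtype with
    mem_or_inv_mem' := fun x => by
      by_cases hx : x ∈ B
      · by_cases hu : IsUnit (⟨x, hx⟩ : B)
        · obtain ⟨w, hw⟩ := hu
          rcases A.mem_or_inv_mem (residue B ⟨x, hx⟩) with h | h
          · exact Or.inl ⟨⟨x, hx⟩, h, rfl⟩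
          · refine Or.inr ⟨((w⁻¹ : Bˣ) : B), ?_, ?_⟩
            · change residue B _ ∈ A
              rw [map_units_inv, hw]
              exact h
            · rw [map_units_inv, hw]
              rfl
        · refine Or.inl ⟨⟨x, hx⟩, ?_, rfl⟩
          change residue B _ ∈ A
          rw [(residue_eq_zero_iff _).2 hu]
          exact zero_mem A
      · have hxi : x⁻¹ ∈ B := (B.mem_or_inv_mem x).resolve_left hx
        refine Or.inr ⟨⟨x⁻¹, hxi⟩, ?_, rfl⟩
        change residue B _ ∈ A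
        rw [(residue_eq_zero_iff _).2 ?_]
        · exact zero_mem A
        · intro hu
          obtain ⟨w, hw⟩ := hu
          have h := congrArg (fun z : B => (z : K)) w.mul_inv
          simp only [MulMemClass.coe_mul, hw, OneMemClass.coe_one] at h
          have h' := (eq_inv_of_mul_eq_one_right h).trans (inv_inv x)
          exact hx (h' ▸ SetLike.coe_mem _) }

theorem mem_composite {B : ValuationSubring K} {A : ValuationSubring (ResidueField B)} {x : K} :
    x ∈ composite B A ↔ ∃ h : x ∈ B, residue B ⟨x, h⟩ ∈ A :=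
  ⟨fun ⟨y, hy, e⟩ => by subst e; exact ⟨y.2, hy⟩, fun ⟨h, hA⟩ => ⟨⟨x, h⟩, hA, rfl⟩⟩

theorem composite_le {B : ValuationSubring K} {A : ValuationSubring (ResidueField B)} {x : K}
    (h : x ∈ composite B A) : x ∈ B :=
  (mem_composite.1 h).1

/-- An overring of a valuation subring transported along an extension. -/
def transportOverring (ψ : K →+* L) (B : ValuationSubring K) (C' : ValuationSubring L)
    (h : ∀ b b' : K, b ∈ B → b' ∈ B → b ≠ 0 → b' ≠ 0 → ψ (b / b') ∈ C' ∨ ψ (b' / b) ∈ C') :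
    ValuationSubring L where
  carrier := {z | ∃ b ∈ B, ∃ c ∈ C', z = ψ b * c}
  one_mem' := ⟨1, one_mem B, 1, one_mem C', by simp⟩
  zero_mem' := ⟨1, one_mem B, 0, zero_mem C', by simp⟩
  mul_mem' := by
    rintro _ _ ⟨b, hb, c, hc, rfl⟩ ⟨b', hb', c', hc', rfl⟩
    exact ⟨b * b', mul_mem hb hb', c * c', mul_mem hc hc', by rw [map_mul]; ring⟩
  add_mem' := by
    rintro _ _ ⟨b, hb, c, hc, rfl⟩ ⟨b', hb', c', hc', rfl⟩
    by_cases h0 : b = 0
    · exact ⟨b', hb', c', hc', by simp [h0]⟩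
    by_cases h0' : b' = 0
    · exact ⟨b, hb, c, hc, by simp [h0']⟩
    rcases h b b' hb hb' h0 h0' with hq | hq
    · refine ⟨b', hb', ψ (b / b') * c + c', add_mem (mul_mem hq hc) hc', ?_⟩
      have : ψ b = ψ b' * ψ (b / b') := by rw [← map_mul, mul_div_cancel₀ _ h0']
      rw [this]; ring
    · refine ⟨b, hb, c + ψ (b' / b) * c', add_mem hc (mul_mem hq hc'), ?_⟩
      have : ψ b' = ψ b * ψ (b' / b) := by rw [← map_mul, mul_div_cancel₀ _ h0]
      rw [this]; ring
  neg_mem' := by
    rintro _ ⟨b, hb, c, hc, rfl⟩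
    exact ⟨b, hb, -c, neg_mem hc, by ring⟩
  mem_or_inv_mem' x := (C'.mem_or_inv_mem x).imp (fun hx => ⟨1, one_mem B, x, hx, by simp⟩)
    fun hx => ⟨1, one_mem B, x⁻¹, hx, by simp⟩

/-- Extending a composite valuation ring: an overring with exact restriction. -/
theorem exists_overring_extension (ψ : K →+* L) {B C : ValuationSubring K} (hCB : C ≤ B)
    (C' : ValuationSubring L) (hC : ∀ x, ψ x ∈ C' ↔ x ∈ C) :
    ∃ B' : ValuationSubring L, C' ≤ B' ∧ ∀ x, ψ x ∈ B' ↔ x ∈ B := by
  refine ⟨transportOverring ψ B C' fun b b' _ _ _ _ => ?_, fun c hc => ⟨1, one_mem B, c, hc, by simp⟩,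
    fun x => ⟨?_, fun hx => ⟨x, hx, 1, one_mem C', by simp⟩⟩⟩
  · refine (C.mem_or_inv_mem (b / b')).imp (hC _).2 fun h => ?_
    rw [inv_div] at h
    exact (hC _).2 h
  · rintro ⟨b, hb, c, hc, e⟩
    by_cases h0 : b = 0
    · rw [h0, map_zero, zero_mul, map_eq_zero] at e
      exact e ▸ zero_mem B
    have : ψ (x / b) = c := by
      rw [map_div₀, e, mul_div_cancel_left₀ _ (by simpa using h0)]
    have hxb : x / b ∈ B := hCB ((hC _).1 (this ▸ hc))
    have := mul_mem hb hxb
    rwa [mul_div_cancel₀ _ h0] at this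

/-- The image of a valuation subring in the residue field of an overring. -/
noncomputable def residueImage {C B : ValuationSubring K} (h : C ≤ B) : ValuationSubring (ResidueField B) :=
  { ((residue B).comp (Subring.inclusion (S := C.toSubring) (T := B.toSubring) h)).range with
    mem_or_inv_mem' := fun r => by
      obtain ⟨⟨x, hx⟩, rfl⟩ := residue_surjective r
      rcases C.mem_or_inv_mem x with hc | hc
      · exact Or.inl ⟨⟨x, hc⟩, rfl⟩
      · refine Or.inr ?_
        by_cases h0 : x = 0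
        · subst h0
          have : (⟨0, hx⟩ : B) = 0 := rfl
          rw [this, map_zero, inv_zero]
          exact Subring.zero_mem _
        · refine ⟨⟨x⁻¹, hc⟩, eq_inv_of_mul_eq_one_left ?_⟩
          change residue B ⟨x⁻¹, h hc⟩ * residue B ⟨x, hx⟩ = 1
          rw [← map_mul, ← map_one (residue B)]
          exact congrArg _ (Subtype.ext (inv_mul_cancel₀ h0)) }

theorem mem_residueImage {C B : ValuationSubring K} (h : C ≤ B) {x : K} (hx : x ∈ B) :
    residue B ⟨x, hx⟩ ∈ residueImage h ↔ x ∈ C := by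
  refine ⟨?_, fun hc => ⟨⟨x, hc⟩, rfl⟩⟩
  rintro ⟨⟨c, hc⟩, e⟩
  have hd : residue B (⟨x - c, sub_mem hx (h hc)⟩) = 0 := by
    have : (⟨x - c, sub_mem hx (h hc)⟩ : B) = ⟨x, hx⟩ - ⟨c, h hc⟩ := rfl
    rw [this, map_sub]
    exact sub_eq_zero.2 e.symm
  rcases C.mem_or_inv_mem (x - c) with hxc | hxc
  · simpa using add_mem hxc hc
  · by_cases h0 : x - c = 0
    · rw [sub_eq_zero.1 h0]; exact hc
    exfalso
    refine (residue_eq_zero_iff _).1 hd ?_
    exact IsUnit.of_mul_eq_one (⟨(x - c)⁻¹, h hxc⟩ : B) (Subtype.ext (mul_inv_cancel₀ h0))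

/-- A prime is dominated by a valuation ring on the residue field of a minimal prime below it. -/
theorem exists_valuation_of_prime {T : Type u} [CommRing T] (m : Ideal T) [m.IsPrime] :
    ∃ (Ω : Type u) (_ : Field Ω) (π : T →+* Ω) (A₃ : ValuationSubring Ω),
      (∀ t, π t ∈ A₃) ∧ (∀ t ∈ m, (π t)⁻¹ ∈ A₃ → π t = 0) ∧ ∀ t, π t = 0 → t ∉ nonZeroDivisors T := by
  obtain ⟨p, hp, hpm⟩ := Ideal.exists_minimalPrimes_le (I := (⊥ : Ideal T)) (J := m) bot_le
  have : p.IsPrime := hp.1.1
  let π : T →+* FractionRing (T ⧸ p) := (algebraMap _ _).comp (Ideal.Quotient.mk p)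
  have hπker : ∀ t, π t = 0 ↔ t ∈ p := fun t => by
    simp only [π, RingHom.comp_apply,
      map_eq_zero_iff _ (IsFractionRing.injective (T ⧸ p) (FractionRing (T ⧸ p))),
      Ideal.Quotient.eq_zero_iff_mem]
  have hpm' : ∀ y : m.primeCompl, IsUnit (π y) := fun y =>
    isUnit_iff_ne_zero.2 fun h => y.2 (hpm ((hπker _).1 h))
  obtain ⟨A₃, hA₃, hloc⟩ := exists_factor_valuationRing
    (IsLocalization.lift (S := Localization.AtPrime m) hpm')
  refine ⟨_, inferInstance, π, A₃, fun t => ?_, fun t ht hti => ?_, fun t ht hn => ?_⟩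
  · rw [← IsLocalization.lift_eq (S := Localization.AtPrime m) hpm' t]
    exact hA₃ _
  · by_contra h0
    have hu : IsUnit ((IsLocalization.lift (S := Localization.AtPrime m) hpm').codRestrict A₃.toSubring hA₃
        (algebraMap T _ t)) :=
      IsUnit.of_mul_eq_one (⟨(π t)⁻¹, hti⟩ : A₃.toSubring) (Subtype.ext (by
        change IsLocalization.lift hpm' (algebraMap T _ t) * (π t)⁻¹ = 1
        rw [IsLocalization.lift_eq, mul_inv_cancel₀ h0]))
    exact (IsLocalization.AtPrime.isUnit_to_map_iff _ m t).1 (hloc.map_nonunit _ hu) ht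
  · exact Set.disjoint_left.1 (Ideal.disjoint_nonZeroDivisors_of_mem_minimalPrimes
      (by rwa [minimalPrimes])) ((hπker _).1 ht) hn

/-- Two extensions of a valuation have a common extension. -/
theorem exists_common_extension {K₁ K₂ : Type u} [Field K₁] [Field K₂] (i : k →+* K₁) (j : k →+* K₂)
    (A₀ : ValuationSubring k) (A₁ : ValuationSubring K₁) (A₂ : ValuationSubring K₂)
    (h₁ : ∀ x, i x ∈ A₁ ↔ x ∈ A₀) (h₂ : ∀ x, j x ∈ A₂ ↔ x ∈ A₀) :
    ∃ (Ω : Type u) (_ : Field Ω) (i' : K₁ →+* Ω) (j' : K₂ →+* Ω) (A₃ : ValuationSubring Ω),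
      i'.comp i = j'.comp j ∧ (∀ x, i' x ∈ A₃ ↔ x ∈ A₁) ∧ (∀ x, j' x ∈ A₃ ↔ x ∈ A₂) := by
  let f₁ : A₀ →+* A₁ := (i.comp A₀.subtype).codRestrict A₁.toSubring fun a => (h₁ _).2 a.2
  let f₂ : A₀ →+* A₂ := (j.comp A₀.subtype).codRestrict A₂.toSubring fun a => (h₂ _).2 a.2
  let := f₁.toAlgebra
  let := f₂.toAlgebra
  have hl₁ : IsLocalHom f₁ := ⟨fun a ha => by
    obtain ⟨w, hw⟩ := ha
    have e := congrArg (fun z : A₁ => (z : K₁)) w.mul_inv
    simp only [MulMemClass.coe_mul, hw, OneMemClass.coe_one] at e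
    have e2 : i (a : k)⁻¹ ∈ A₁ := by
      rw [map_inv₀]
      exact (eq_inv_of_mul_eq_one_right e).symm ▸ SetLike.coe_mem _
    have e3 : (a : k) ≠ 0 := fun h0 => by
      have : (f₁ a : K₁) = 0 := by change i (a : k) = 0; rw [h0, map_zero]
      rw [this, zero_mul] at e
      exact zero_ne_one e
    exact IsUnit.of_mul_eq_one (⟨(a : k)⁻¹, (h₁ _).1 e2⟩ : A₀) (Subtype.ext (mul_inv_cancel₀ e3))⟩
  have hl₂ : IsLocalHom f₂ := ⟨fun a ha => by
    obtain ⟨w, hw⟩ := ha
    have e := congrArg (fun z : A₂ => (z : K₂)) w.mul_inv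
    simp only [MulMemClass.coe_mul, hw, OneMemClass.coe_one] at e
    have e2 : j (a : k)⁻¹ ∈ A₂ := by
      rw [map_inv₀]
      exact (eq_inv_of_mul_eq_one_right e).symm ▸ SetLike.coe_mem _
    have e3 : (a : k) ≠ 0 := fun h0 => by
      have : (f₂ a : K₂) = 0 := by change j (a : k) = 0; rw [h0, map_zero]
      rw [this, zero_mul] at e
      exact zero_ne_one e
    exact IsUnit.of_mul_eq_one (⟨(a : k)⁻¹, (h₂ _).1 e2⟩ : A₀) (Subtype.ext (mul_inv_cancel₀ e3))⟩
  have flat_of : ∀ (M : Type u) [AddCommGroup M] [Module A₀ M] [Module.IsTorsionFree A₀ M],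
      Module.Flat A₀ M := fun M _ _ _ => by
    rw [Module.Flat.flat_iff_torsion_eq_bot_of_isBezout]
    exact Submodule.isTorsionFree_iff_torsion_eq_bot.1 inferInstance
  have tf₁ : Module.IsTorsionFree A₀ A₁ := by
    have : FaithfulSMul A₀ A₁ := (faithfulSMul_iff_algebraMap_injective _ _).2 fun a b e =>
      Subtype.ext (i.injective (congrArg Subtype.val e))
    infer_instance
  have tf₂ : Module.IsTorsionFree A₀ A₂ := by
    have : FaithfulSMul A₀ A₂ := (faithfulSMul_iff_algebraMap_injective _ _).2 fun a b e =>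
      Subtype.ext (j.injective (congrArg Subtype.val e))
    infer_instance
  have := flat_of A₁
  have := flat_of A₂
  have : IsLocalHom (algebraMap A₀ A₁) := hl₁
  have : IsLocalHom (algebraMap A₀ A₂) := hl₂
  let T := A₁ ⊗[A₀] A₂
  let F := ResidueField A₁ ⊗[ResidueField A₀] ResidueField A₂
  have : Nontrivial F := inferInstance
  let g₁ : A₁ →+* F := (Algebra.TensorProduct.includeLeftRingHom).comp (residue A₁)
  let g₂ : A₂ →+* F := (Algebra.TensorProduct.includeRight (R := ResidueField A₀) (A := ResidueField A₁)).toRingHom.comp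
    (residue A₂)
  have hg : g₁.comp f₁ = g₂.comp f₂ := by
    refine RingHom.ext fun a => ?_
    change (residue A₁ (f₁ a)) ⊗ₜ[ResidueField A₀] (1 : ResidueField A₂) = (1 : ResidueField A₁) ⊗ₜ[ResidueField A₀] (residue A₂ (f₂ a))
    rw [← ResidueField.map_residue f₁, ← ResidueField.map_residue f₂]
    exact Algebra.TensorProduct.tmul_one_eq_one_tmul (residue A₀ a)
  have hF : ∀ a : A₀, g₁ (f₁ a) = algebraMap A₀ F a := fun a => rfl
  let gT : T →+* F :=
    (Algebra.TensorProduct.lift (⟨g₁, fun a => hF a⟩ : A₁ →ₐ[A₀] F)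
      (⟨g₂, fun a => (RingHom.congr_fun hg a).symm.trans (hF a)⟩ : A₂ →ₐ[A₀] F) (fun _ _ => Commute.all _ _)).toRingHom
  obtain ⟨M, hM⟩ := Ideal.exists_maximal F
  let m : Ideal T := M.comap gT
  have : m.IsPrime := Ideal.IsPrime.comap _
  obtain ⟨Ω, _, π, A₃, hmem, hmax, hnzd⟩ := exists_valuation_of_prime m
  let ι₁ : A₁ →+* T := Algebra.TensorProduct.includeLeftRingHom
  let ι₂ : A₂ →+* T := (Algebra.TensorProduct.includeRight (R := A₀) (A := A₁)).toRingHom
  have inj₁ : Function.Injective (π.comp ι₁) := by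
    rw [RingHom.injective_iff_ker_eq_bot, eq_bot_iff]
    intro a ha
    by_contra h0
    refine hnzd _ ha ?_
    have hinj := Module.Flat.rTensor_preserves_injective_linearMap (M := A₂) (LinearMap.mul A₀ A₁ a)
      (fun x y e => mul_left_cancel₀ h0 e)
    refine mem_nonZeroDivisors_iff_right.2 fun z hz => hinj ?_
    have key : ∀ z : T, LinearMap.rTensor A₂ (LinearMap.mul A₀ A₁ a) z = z * ι₁ a := fun z => by
      induction z using TensorProduct.induction_on with
      | zero => simp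
      | tmul x y =>
        refine Eq.trans ?_ (Algebra.TensorProduct.tmul_mul_tmul x a y 1).symm
        rw [LinearMap.rTensor_tmul, LinearMap.mul_apply', mul_one, mul_comm]
      | add x y hx hy => rw [map_add, add_mul, hx, hy]
    rw [map_zero, key]
    exact hz
  have inj₂ : Function.Injective (π.comp ι₂) := by
    rw [RingHom.injective_iff_ker_eq_bot, eq_bot_iff]
    intro a ha
    by_contra h0
    refine hnzd _ ha ?_
    have hinj := Module.Flat.lTensor_preserves_injective_linearMap (M := A₁) (LinearMap.mul A₀ A₂ a)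
      (fun x y e => mul_left_cancel₀ h0 e)
    refine mem_nonZeroDivisors_iff_right.2 fun z hz => hinj ?_
    have key : ∀ z : T, LinearMap.lTensor A₁ (LinearMap.mul A₀ A₂ a) z = z * ι₂ a := fun z => by
      induction z using TensorProduct.induction_on with
      | zero => simp
      | tmul x y =>
        refine Eq.trans ?_ (Algebra.TensorProduct.tmul_mul_tmul x 1 y a).symm
        rw [LinearMap.lTensor_tmul, LinearMap.mul_apply', mul_one, mul_comm]
      | add x y hx hy => rw [map_add, add_mul, hx, hy]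
    rw [map_zero, key]
    exact hz
  let i' : K₁ →+* Ω := IsFractionRing.lift inj₁
  let j' : K₂ →+* Ω := IsFractionRing.lift inj₂
  refine ⟨Ω, inferInstance, i', j', A₃, ?_, fun x => ⟨fun hx => ?_, fun hx => ?_⟩,
    fun x => ⟨fun hx => ?_, fun hx => ?_⟩⟩
  · refine IsFractionRing.ringHom_ext (A := A₀) fun a => ?_
    change i' (algebraMap A₁ K₁ (f₁ a)) = j' (algebraMap A₂ K₂ (f₂ a))
    rw [IsFractionRing.lift_algebraMap, IsFractionRing.lift_algebraMap]
    exact congrArg π (Algebra.TensorProduct.tmul_one_eq_one_tmul a)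
  · by_contra hxA
    have hxi : x⁻¹ ∈ A₁ := (A₁.mem_or_inv_mem x).resolve_left hxA
    have hnu : ¬ IsUnit (⟨x⁻¹, hxi⟩ : A₁) := fun hu => by
      obtain ⟨w, hw⟩ := hu
      have e := congrArg (fun z : A₁ => (z : K₁)) w.mul_inv
      simp only [MulMemClass.coe_mul, hw, OneMemClass.coe_one] at e
      exact hxA ((eq_inv_of_mul_eq_one_right e).trans (inv_inv x) ▸ SetLike.coe_mem _)
    have hm : ι₁ ⟨x⁻¹, hxi⟩ ∈ m := by
      change gT (_ ⊗ₜ 1) ∈ M
      rw [show gT ((⟨x⁻¹, hxi⟩ : A₁) ⊗ₜ[A₀] (1 : A₂)) = g₁ ⟨x⁻¹, hxi⟩ from (Algebra.TensorProduct.lift_tmul _ _ _ _ _).trans ((congrArg (g₁ ⟨x⁻¹, hxi⟩ * ·) g₂.map_one).trans (mul_one _))]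
      have h0 : g₁ ⟨x⁻¹, hxi⟩ = 0 := by
        simp [g₁, (residue_eq_zero_iff _).2 hnu]
      rw [h0]; exact zero_mem M
    have e : i' x⁻¹ = π (ι₁ ⟨x⁻¹, hxi⟩) := IsFractionRing.lift_algebraMap inj₁ ⟨x⁻¹, hxi⟩
    have := hmax _ hm (by rw [← e, map_inv₀, inv_inv]; exact hx)
    rw [← e, map_eq_zero] at this
    exact hxA (by rw [inv_eq_zero] at this; rw [this]; exact zero_mem A₁)
  · rw [show i' x = π (ι₁ ⟨x, hx⟩) from IsFractionRing.lift_algebraMap inj₁ ⟨x, hx⟩]
    exact hmem _
  · by_contra hxA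
    have hxi : x⁻¹ ∈ A₂ := (A₂.mem_or_inv_mem x).resolve_left hxA
    have hnu : ¬ IsUnit (⟨x⁻¹, hxi⟩ : A₂) := fun hu => by
      obtain ⟨w, hw⟩ := hu
      have e := congrArg (fun z : A₂ => (z : K₂)) w.mul_inv
      simp only [MulMemClass.coe_mul, hw, OneMemClass.coe_one] at e
      exact hxA ((eq_inv_of_mul_eq_one_right e).trans (inv_inv x) ▸ SetLike.coe_mem _)
    have hm : ι₂ ⟨x⁻¹, hxi⟩ ∈ m := by
      change gT (1 ⊗ₜ _) ∈ M
      rw [show gT ((1 : A₁) ⊗ₜ[A₀] (⟨x⁻¹, hxi⟩ : A₂)) = g₂ ⟨x⁻¹, hxi⟩ from (Algebra.TensorProduct.lift_tmul _ _ _ _ _).trans ((congrArg (· * g₂ ⟨x⁻¹, hxi⟩) g₁.map_one).trans (one_mul _))]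
      have h0 : g₂ ⟨x⁻¹, hxi⟩ = 0 := by
        simp [g₂, (residue_eq_zero_iff _).2 hnu]
      rw [h0]; exact zero_mem M
    have e : j' x⁻¹ = π (ι₂ ⟨x⁻¹, hxi⟩) := IsFractionRing.lift_algebraMap inj₂ ⟨x⁻¹, hxi⟩
    have := hmax _ hm (by rw [← e, map_inv₀, inv_inv]; exact hx)
    rw [← e, map_eq_zero] at this
    exact hxA (by rw [inv_eq_zero] at this; rw [this]; exact zero_mem A₂)
  · rw [show j' x = π (ι₂ ⟨x, hx⟩) from IsFractionRing.lift_algebraMap inj₂ ⟨x, hx⟩]
    exact hmem _

end Groth.Agent.H12AlgSp
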