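import Groth.Agent.H12AlgSp.Valuative
import Groth.Agent.H12AlgSp.ValExtension

/-!
Points of sheaves with values in rings over the base, and valuative squares in these terms.
-/

set_option linter.unusedVariables false

universe u

open CategoryTheory CategoryTheory.Limits AlgebraicGeometry Opposite
open AlgSp

namespace Groth.Agent.H12AlgSp

variable {S : Scheme.{u}} {X Y Z : Sp S}

/-- A point of a sheaf with values in a ring over the base. -/
structure RPt (X : Sp S) (R : Type u) [CommRing R] where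
  /-- the structure morphism -/
  str : Spec (CommRingCat.of R) ⟶ S
  /-- the morphism -/
  hom : (yon S).obj (Over.mk str) ⟶ X

namespace RPt

variable {R R' R'' : Type u} [CommRing R] [CommRing R'] [CommRing R'']

theorem ext' {p q : RPt X R} (hs : p.str = q.str)
    (hh : (yon S).map (Over.homMk (𝟙 _) (by simp [hs]) : Over.mk p.str ⟶ Over.mk q.str) ≫ q.hom = p.hom) :
    p = q := by
  obtain ⟨s, x⟩ := p
  obtain ⟨s', y⟩ := q
  dsimp only at hs
  subst hs
  dsimp only at hh
  congr 1
  rw [← hh]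
  exact (congrArg (· ≫ y) ((yon S).map_id _)).trans (Category.id_comp _)

theorem hom_eq_of_eq {p : RPt X R} {y : (yon S).obj (Over.mk p.str) ⟶ X} (h : p = ⟨p.str, y⟩) : p.hom = y := by
  obtain ⟨s, x⟩ := p
  injection h with h₁ h₂

/-- Restriction along a ring map. -/
noncomputable def res (g : R →+* R') (p : RPt X R) : RPt X R' :=
  ⟨Spec.map (CommRingCat.ofHom g) ≫ p.str,
    (yon S).map (Over.homMk (Spec.map (CommRingCat.ofHom g)) rfl :
      Over.mk (Spec.map (CommRingCat.ofHom g) ≫ p.str) ⟶ Over.mk p.str) ≫ p.hom⟩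

/-- Pushforward along a morphism of sheaves. -/
noncomputable def post (f : X ⟶ Y) (p : RPt X R) : RPt Y R :=
  ⟨p.str, p.hom ≫ f⟩

theorem res_res_aux (s : Spec (CommRingCat.of R) ⟶ S) (x : (yon S).obj (Over.mk s) ⟶ X)
    (a : Spec (CommRingCat.of R') ⟶ Spec (CommRingCat.of R))
    (b : Spec (CommRingCat.of R'') ⟶ Spec (CommRingCat.of R'))
    (c : Spec (CommRingCat.of R'') ⟶ Spec (CommRingCat.of R)) (hc : c = b ≫ a) :
    (⟨b ≫ a ≫ s, (yon S).map (Over.homMk b rfl : Over.mk (b ≫ a ≫ s) ⟶ Over.mk (a ≫ s)) ≫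
        (yon S).map (Over.homMk a rfl : Over.mk (a ≫ s) ⟶ Over.mk s) ≫ x⟩ : RPt X R'') =
      ⟨c ≫ s, (yon S).map (Over.homMk c rfl : Over.mk (c ≫ s) ⟶ Over.mk s) ≫ x⟩ := by
  subst hc
  refine ext' (Category.assoc _ _ _).symm ?_
  dsimp only
  rw [← Functor.map_comp_assoc, ← Functor.map_comp_assoc]
  refine congrArg (· ≫ x) (congrArg (yon S).map (Over.OverMorphism.ext ?_))
  exact Category.id_comp _

theorem res_res (g : R →+* R') (g' : R' →+* R'') (p : RPt X R) :
    res g' (res g p) = res (g'.comp g) p :=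
  res_res_aux p.str p.hom _ _ _ (specMap_comp g g')

theorem res_id (p : RPt X R) : res (RingHom.id R) p = p := by
  refine ext' (by simp [res]) ?_
  simp only [res]
  congr 2
  refine Over.OverMorphism.ext ?_
  simp

@[simp]
theorem post_res (f : X ⟶ Y) (g : R →+* R') (p : RPt X R) : post f (res g p) = res g (post f p) := by
  simp only [post, res, Category.assoc]

theorem post_post (f : X ⟶ Y) (g : Y ⟶ Z) (p : RPt X R) : post g (post f p) = post (f ≫ g) p := by
  simp only [post, Category.assoc]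

/-- The point of a scheme. -/
noncomputable def ofSch {O : Over S} (x : Spec (CommRingCat.of R) ⟶ O.left) : RPt ((yon S).obj O) R :=
  ⟨x ≫ O.hom, (yon S).map (Over.homMk x rfl : Over.mk (x ≫ O.hom) ⟶ O)⟩

theorem res_ofSch_aux {O : Over S} (a : Spec (CommRingCat.of R') ⟶ Spec (CommRingCat.of R))
    (x : Spec (CommRingCat.of R) ⟶ O.left) :
    (⟨a ≫ x ≫ O.hom, (yon S).map (Over.homMk a rfl : Over.mk (a ≫ x ≫ O.hom) ⟶ Over.mk (x ≫ O.hom)) ≫
        (yon S).map (Over.homMk x rfl : Over.mk (x ≫ O.hom) ⟶ O)⟩ : RPt ((yon S).obj O) R') =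
      ⟨(a ≫ x) ≫ O.hom, (yon S).map (Over.homMk (a ≫ x) rfl : Over.mk ((a ≫ x) ≫ O.hom) ⟶ O)⟩ := by
  refine ext' (Category.assoc _ _ _).symm ?_
  dsimp only
  rw [← Functor.map_comp, ← Functor.map_comp]
  exact congrArg (yon S).map (Over.OverMorphism.ext (Category.id_comp _))

theorem res_ofSch {O : Over S} (g : R →+* R') (x : Spec (CommRingCat.of R) ⟶ O.left) :
    res g (ofSch x) = ofSch (Spec.map (CommRingCat.ofHom g) ≫ x) :=
  res_ofSch_aux (Spec.map (CommRingCat.ofHom g)) x

theorem post_ofSch {O O' : Over S} (k : O ⟶ O') (x : Spec (CommRingCat.of R) ⟶ O.left) :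
    post ((yon S).map k) (ofSch x) = ofSch (x ≫ k.left) := by
  refine ext' (by simp [post, ofSch]) ?_
  simp only [post, ofSch]
  rw [← Functor.map_comp, ← Functor.map_comp]
  exact congrArg (yon S).map (Over.OverMorphism.ext (Category.id_comp _))

theorem ofSch_injective {O : Over S} {x y : Spec (CommRingCat.of R) ⟶ O.left}
    (h : ofSch x = ofSch y) : x = y := by
  have key : ∀ p : RPt ((yon S).obj O) R, ∀ z : Spec (CommRingCat.of R) ⟶ O.left, p = ofSch z →
      ((yon S).preimage p.hom).left = z := by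
    rintro p z rfl
    simp only [ofSch, Functor.preimage_map]
    rfl
  exact (key _ x rfl).symm.trans (key _ y h)

theorem exists_eq_ofSch {O : Over S} (p : RPt ((yon S).obj O) R) :
    ∃ x : Spec (CommRingCat.of R) ⟶ O.left, p = ofSch x := by
  obtain ⟨s, x⟩ := p
  obtain ⟨x, rfl⟩ := (yon S).map_surjective x
  refine ⟨x.left, ext' (Over.w x).symm ?_⟩
  simp only [ofSch]
  rw [← Functor.map_comp]
  exact congrArg (yon S).map (Over.OverMorphism.ext (Category.id_comp _))

end RPt

open RPt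

section square

variable {A K : Type u} [CommRing A] [IsDomain A] [ValuationRing A] [Field K] [Algebra A K] [IsFractionRing A K]

theorem valSq_comm {f : X ⟶ Y} (v : ValSq f) :
    post f (⟨_, v.top⟩ : RPt X v.K) = res (algebraMap v.A v.K) ⟨v.str, v.bot⟩ :=
  congrArg (RPt.mk _) v.comm

end square

/-- Liftability of a valuative square after an extension, in terms of points. -/
theorem domExt_hasLift_iff {f : X ⟶ Y} {v : ValSq f} (e : v.DomExt) :
    e.HasLift ↔ ∃ l : RPt X e.A', res (algebraMap e.A' e.K') l = res e.ψ ⟨_, v.top⟩ ∧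
      post f l = res e.φ ⟨v.str, v.bot⟩ := by
  have hstr : (jHom e ≫ phiHom e).left = (psiHom e ≫ v.j).left := congrArg (·.left) (jHom_phiHom e)
  constructor
  · intro he
    obtain ⟨l, h₁, h₂⟩ := (hasLift_iff e).1 he
    refine ⟨⟨_, l⟩, ?_, congrArg (RPt.mk _) h₂⟩
    refine RPt.ext' (Over.w (psiHom e)).symm ?_
    simp only [res]
    rw [h₁, ← Functor.map_comp_assoc]
    exact congrArg (· ≫ v.top) (congrArg (yon S).map (Over.OverMorphism.ext (Category.id_comp _)))
  · rintro ⟨⟨s, l⟩, h₁, h₂⟩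
    simp only [post, res] at h₂
    injection h₂ with c₁ c₂
    subst c₁
    refine (hasLift_iff e).2 ⟨l, ?_, eq_of_heq c₂⟩
    have key : ∀ (p q : RPt X e.K') (h : p = q),
        (yon S).map (Over.homMk (𝟙 _) (by rw [h]; exact Category.id_comp _) :
          Over.mk p.str ⟶ Over.mk q.str) ≫ q.hom = p.hom := by
      rintro p q rfl
      exact (congrArg (· ≫ p.hom) ((yon S).map_id _)).trans (Category.id_comp _)
    refine (key _ _ h₁).symm.trans ?_
    simp only [res]
    rw [← Functor.map_comp_assoc]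
    exact congrArg (· ≫ v.top) (congrArg (yon S).map (Over.OverMorphism.ext (Category.id_comp _)))

/-- A lift into a valuation subring dominating the given valuation ring gives a lift after extension. -/
theorem hasLiftExt_of_subring {f : X ⟶ Y} (v : ValSq f) {L : Type u} [Field L] (A' : ValuationSubring L)
    (ψ : v.K →+* L) (hA' : ∀ x, ψ x ∈ A' ↔ x ∈ rangeValuationSubring v.A v.K) (l : RPt X A')
    (φ : v.A →+* A') (hφ : ∀ a, (φ a : L) = ψ (algebraMap v.A v.K a))
    (h₁ : res (algebraMap A' L) l = res ψ ⟨_, v.top⟩) (h₂ : post f l = res φ ⟨v.str, v.bot⟩) :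
    v.HasLiftExt := by
  have hloc : IsLocalHom φ := by
    have e : φ = (ψ.comp (algebraMap v.A v.K)).codRestrict A'.toSubring fun a => (hA' _).2 ⟨a, rfl⟩ :=
      RingHom.ext fun a => Subtype.ext (hφ a)
    rw [e]
    exact isLocalHom_codRestrict A' ψ hA' _
  let e : v.DomExt :=
    { A' := A', K' := L, φ := φ, ψ := ψ, comm := RingHom.ext fun a => hφ a, isLocalHom := hloc }
  exact ⟨e, (domExt_hasLift_iff e).2 ⟨l, h₁, h₂⟩⟩

section square

variable {A K : Type u} [CommRing A] [IsDomain A] [ValuationRing A] [Field K] [Algebra A K] [IsFractionRing A K]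
variable {U : Sp S} {f : X ⟶ Y} {h : U ⟶ X}

theorem exists_square (b : RPt Y A) (t : RPt U K) (c : post (h ≫ f) t = res (algebraMap A K) b) :
    ∃ t₀ : (yon S).obj (Over.mk (Spec.map (CommRingCat.ofHom (algebraMap A K)) ≫ b.str)) ⟶ U,
      t = ⟨_, t₀⟩ ∧ (t₀ ≫ h) ≫ f =
        (yon S).map (Over.homMk (Spec.map (CommRingCat.ofHom (algebraMap A K))) rfl :
          Over.mk (Spec.map (CommRingCat.ofHom (algebraMap A K)) ≫ b.str) ⟶ Over.mk b.str) ≫ b.hom := by
  obtain ⟨ts, t₀⟩ := t
  simp only [post, res] at c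
  injection c with c₁ c₂
  subst c₁
  exact ⟨t₀, rfl, (Category.assoc _ _ _).trans (eq_of_heq c₂)⟩

/-- Uniqueness of lifts for squares through `h`, in terms of points. -/
theorem lift_unique (hv : ∀ sq : ValSq f, (∃ t, t ≫ h = sq.top) → sq.HasUniq)
    (t : RPt U K) (l l' : RPt X A) (h₁ : res (algebraMap A K) l = post h t)
    (h₂ : res (algebraMap A K) l' = post h t) (e : post f l = post f l') : l = l' := by
  obtain ⟨ls, x⟩ := l
  obtain ⟨ls', y⟩ := l'
  simp only [post] at e
  injection e with e₁ e₂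
  subst e₁
  obtain ⟨ts, t₀⟩ := t
  simp only [res, post] at h₁ h₂
  injection h₁ with a₁ a₂
  subst a₁
  injection h₂ with b₁ b₂
  refine congrArg _ (hv { A := A, K := K, str := ls, top := t₀ ≫ h, bot := x ≫ f, comm := ?_ }
    ⟨t₀, rfl⟩ x y (eq_of_heq a₂) rfl b₂ (eq_of_heq e₂).symm)
  rw [← eq_of_heq a₂, Category.assoc]

/-- Existence of lifts for squares through `h`, in terms of points. -/
theorem exists_lift_subring (hv : ∀ sq : ValSq f, (∃ t, t ≫ h = sq.top) → sq.HasLiftExt)
    (b : RPt Y A) (t : RPt U K) (c : post (h ≫ f) t = res (algebraMap A K) b) :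
    ∃ (L : Type u) (_ : Field L) (ψ : K →+* L) (A' : ValuationSubring L) (φ : A →+* A') (l : RPt X A'),
      (∀ x, ψ x ∈ A' ↔ x ∈ rangeValuationSubring A K) ∧ (∀ a, (φ a : L) = ψ (algebraMap A K a)) ∧
        res (algebraMap A' L) l = res ψ (post h t) ∧ post f l = res φ b := by
  obtain ⟨t₀, rfl, hc⟩ := exists_square b t c
  let v : ValSq f := { A := A, K := K, str := b.str, top := t₀ ≫ h, bot := b.hom, comm := hc }
  obtain ⟨e, he⟩ := hv v ⟨t₀, rfl⟩
  obtain ⟨l, h₁, h₂⟩ := (domExt_hasLift_iff e).1 he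
  let C := rangeValuationSubring e.A' e.K'
  let i : e.A' →+* C := (algebraMap e.A' e.K').codRestrict C.toSubring fun a => ⟨a, rfl⟩
  have hinj : Function.Injective i := fun a b hab =>
    IsFractionRing.injective e.A' e.K' (congrArg Subtype.val hab)
  let E : e.A' ≃+* C := RingEquiv.ofBijective i ⟨hinj, fun ⟨x, a, ha⟩ => ⟨a, Subtype.ext ha⟩⟩
  have := e.isLocalHom
  refine ⟨e.K', inferInstance, e.ψ, C, i.comp e.φ, res i l,
    fun x => mem_rangeValuationSubring_iff_of_isLocalHom e.φ e.ψ e.comm x,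
    fun a => RingHom.congr_fun e.comm a, ?_, ?_⟩
  · rw [res_res]
    exact h₁
  · rw [post_res, h₂, res_res]

end square

end Groth.Agent.H12AlgSp
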