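import Groth.Agent.H12AlgSp.SchImage
import Groth.Agent.H12AlgSp.DenseEtale
import Groth.Agent.H12AlgSp.RepBySp
import Groth.Agent.H26ModPair.Basic

/-!
Scheme theoretically dense open subspaces.
-/

set_option linter.unusedVariables false
set_option backward.isDefEq.respectTransparency false

universe u

open CategoryTheory CategoryTheory.Limits AlgebraicGeometry Opposite Topology
open AlgSp Groth.Agent.H13Cartier

namespace Groth.Agent.H12AlgSp

variable {S : Scheme.{u}} {X Y Z U' F G : Sp S}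

/-- The inverse image of an open subspace in a chart, as an open subscheme. -/
noncomputable def openPre {j : G ⟶ F} (hj : RepWith @IsOpenImmersion j) {V : Over S}
    (φ : (yon S).obj V ⟶ F) : V.left.Opens :=
  ⟨Points.ofPt φ ⁻¹' Set.range (Points.map j),
    ((isOpenMap_map_of_repWith (fun _ _ f (_ : IsOpenImmersion f) => inferInstanceAs (UniversallyOpen f)) hj).isOpen_range).preimage
      (Points.continuous_ofPt φ)⟩

theorem openPre_precomp {j : G ⟶ F} (hj : RepWith @IsOpenImmersion j) {V T : Over S} (a : T ⟶ V)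
    (φ : (yon S).obj V ⟶ F) : openPre hj ((yon S).map a ≫ φ) = a.left ⁻¹ᵁ openPre hj φ := by
  ext t
  change Points.ofPt ((yon S).map a ≫ φ) t ∈ Set.range (Points.map j) ↔
    Points.ofPt φ (a.left t) ∈ Set.range (Points.map j)
  rw [ofPt_map]

theorem exists_isPullback_openPre {j : G ⟶ F} (hj : RepWith @IsOpenImmersion j) {V : Over S}
    (φ : (yon S).obj V ⟶ F) :
    ∃ fst : (yon S).obj (Over.mk ((openPre hj φ).ι ≫ V.hom)) ⟶ G,
      IsPullback fst ((yon S).map (Over.homMk (openPre hj φ).ι rfl :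
        Over.mk ((openPre hj φ).ι ≫ V.hom) ⟶ V)) j φ := by
  obtain ⟨W, w, fst, sq⟩ := hj.rep φ
  have : IsOpenImmersion w.left := hj.2 φ _ w sq
  have hrange : Set.range w.left = Set.range (openPre hj φ).ι := by
    rw [Scheme.Opens.range_ι, ← preimage_ofPt_range sq]; rfl
  let e : W ≅ Over.mk ((openPre hj φ).ι ≫ V.hom) :=
    Over.isoMk (IsOpenImmersion.isoOfRangeEq w.left (openPre hj φ).ι hrange) (by
      change _ ≫ (openPre hj φ).ι ≫ V.hom = _
      rw [IsOpenImmersion.isoOfRangeEq_hom_fac_assoc]; exact Over.w w)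
  have he : e.hom ≫ (Over.homMk (openPre hj φ).ι rfl : Over.mk ((openPre hj φ).ι ≫ V.hom) ⟶ V) = w :=
    Over.OverMorphism.ext (IsOpenImmersion.isoOfRangeEq_hom_fac w.left (openPre hj φ).ι hrange)
  exact ⟨(yon S).map e.inv ≫ fst, sq.of_iso ((yon S).mapIso e) (Iso.refl _) (Iso.refl _) (Iso.refl _)
    (by simp [← Functor.map_comp_assoc]) (by simp [← Functor.map_comp, he]) (by simp) (by simp)⟩

theorem eq_openPre_of_isPullback {j : G ⟶ F} (hj : RepWith @IsOpenImmersion j) {V : Over S}
    {φ : (yon S).obj V ⟶ F} {W : V.left.Opens} {fst : (yon S).obj (Over.mk (W.ι ≫ V.hom)) ⟶ G}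
    (sq : IsPullback fst ((yon S).map (Over.homMk W.ι rfl : Over.mk (W.ι ≫ V.hom) ⟶ V)) j φ) :
    W = openPre hj φ := by
  ext1
  change (W : Set V.left) = Points.ofPt φ ⁻¹' Set.range (Points.map j)
  rw [preimage_ofPt_range sq]
  exact W.range_ι.symm

theorem isSchDense_iff {j : G ⟶ F} : IsSchDense j ↔ ∃ (hj : RepWith @IsOpenImmersion j) (V : Over S)
    (φ : (yon S).obj V ⟶ F), RepWith @Etale φ ∧ RepWith @Surjective φ ∧
      CInt.IsSchematicallyDense (openPre hj φ) := by
  constructor
  · rintro ⟨hj, V, φ, W, fst, hφ, hφs, sq, hW⟩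
    exact ⟨hj, V, φ, hφ, hφs, eq_openPre_of_isPullback hj sq ▸ hW⟩
  · rintro ⟨hj, V, φ, hφ, hφs, hW⟩
    obtain ⟨fst, sq⟩ := exists_isPullback_openPre hj φ
    exact ⟨hj, V, φ, _, fst, hφ, hφs, sq, hW⟩

/-- Schematic density holds on every etale chart. -/
theorem isSchematicallyDense_openPre {j : G ⟶ F} (hj : RepWith @IsOpenImmersion j) (h : IsSchDense j)
    {V : Over S} {φ : (yon S).obj V ⟶ F} (hφ : RepWith @Etale φ) :
    CInt.IsSchematicallyDense (openPre hj φ) := by
  obtain ⟨hj', V₁, φ₁, hφ₁, hφ₁s, hW⟩ := isSchDense_iff.1 h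
  obtain ⟨R, r, k', sq⟩ := hφ₁.rep φ
  obtain ⟨k, rfl⟩ := (yon S).map_surjective k'
  have : Etale r.left := hφ₁.property φ _ r sq
  have : Surjective r.left := hφ₁s.property φ _ r sq
  have : Etale k.left := hφ.property φ₁ _ k sq.flip
  refine Dense.of_flat_surjective r.left ?_
  rw [← openPre_precomp hj, ← sq.w, openPre_precomp hj]
  exact Dense.preimage_etale k.left hW

/-- Finite intersections of dense open subschemes are dense. -/
theorem isSchematicallyDense_inf {T : Scheme.{u}} {W₁ W₂ : T.Opens} (h₁ : CInt.IsSchematicallyDense W₁)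
    (h₂ : CInt.IsSchematicallyDense W₂) : CInt.IsSchematicallyDense (W₁ ⊓ W₂) := by
  rw [Dense.isSchematicallyDense_iff] at *
  intro V t ht
  refine h₁ V t fun x hx hx₁ => ?_
  have h0 := h₂ (V ⊓ W₁) (T.presheaf.map (homOfLE (inf_le_left : V ⊓ W₁ ≤ V)).op t) fun y hy hy₂ => by
    rw [Dense.germ_map]; exact ht y hy.1 ⟨hy.2, hy₂⟩
  rw [← Dense.germ_map (inf_le_left : V ⊓ W₁ ≤ V) x ⟨hx, hx₁⟩ t, h0, map_zero]

theorem quasiCompact_openPre_ι {j : U' ⟶ X} (hj : RepWith @IsOpenImmersion j) (hq : IsQuasiCompactMor j)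
    {V : Over S} (φ : (yon S).obj V ⟶ X) : QuasiCompact (openPre hj φ).ι := by
  rw [quasiCompact_iff_forall_isAffineOpen]
  intro O hO
  refine (openPre hj φ).ι.isEmbedding.isCompact_iff.2 ?_
  rw [Scheme.Hom.coe_preimage, Set.image_preimage_eq_inter_range, Scheme.Opens.range_ι]
  let T : Over S := Over.mk (O.ι ≫ V.hom)
  let t : T ⟶ V := Over.homMk O.ι rfl
  have : CompactSpace ↥T.left := isCompact_iff_compactSpace.mp hO.isCompact
  have sq := IsPullback.of_hasPullback j ((yon S).map t ≫ φ)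
  have := compactSpace_points_of_isQuasiCompactSp
    (hq (IsAlgSpace.yon_obj T) (isQuasiCompactSp_yon_iff.2 this) _ _ _ sq)
  have hc := (isCompact_range (Points.continuous_map (pullback.snd j ((yon S).map t ≫ φ)))).image
    (t.left.continuous.comp (Points.schemeHomeo T).symm.continuous)
  convert hc using 1
  rw [range_snd_of_isPullback sq]
  ext v
  constructor
  · rintro ⟨hv, hvW⟩
    refine ⟨Points.schemeHomeo T ⟨v, hv⟩, ?_, ?_⟩
    · rw [Set.mem_preimage, show Points.map ((yon S).map t ≫ φ) (Points.schemeHomeo T ⟨v, hv⟩) =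
        Points.ofPt ((yon S).map t ≫ φ) (⟨v, hv⟩ : ↥T.left) from (Points.ofPt_eq_map_ofScheme _ _).symm, ofPt_map]
      exact hvW
    · exact congrArg t.left ((Points.schemeHomeo T).symm_apply_apply _)
  · rintro ⟨y, hy, rfl⟩
    obtain ⟨y, rfl⟩ := (Points.schemeHomeo T).surjective y
    simp only [Function.comp_apply, Homeomorph.symm_apply_apply]
    refine ⟨y.2, ?_⟩
    rw [Set.mem_preimage, show Points.map ((yon S).map t ≫ φ) (Points.schemeHomeo T y) =
      Points.ofPt ((yon S).map t ≫ φ) y from (Points.ofPt_eq_map_ofScheme _ _).symm, ofPt_map] at hy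
    exact hy

theorem cutsOut_id {V : Over S} (φ : (yon S).obj V ⟶ X) : CutsOut (𝟙 X) φ ⊥ := by
  obtain ⟨J, hJ⟩ := exists_cutsOut (repWith_of_isIso (𝟙 X)) φ
  have : J.comap (𝟙 V : V ⟶ V).left = ⊥ := (factors_iff hJ (𝟙 V)).1
    ⟨φ, by rw [Category.comp_id, CategoryTheory.Functor.map_id, Category.id_comp]⟩
  rw [Over.id_left, Scheme.IdealSheafData.comap_id] at this
  exact this ▸ hJ

/-- For quasi-compact open subspaces density is the same as having everything as scheme theoretic
closure. -/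
theorem isSchDense_iff_isSchImage (hX : IsAlgSpace X) {j : U' ⟶ X} (hj : RepWith @IsOpenImmersion j)
    (hq : IsQuasiCompactMor j) : IsSchDense j ↔ IsSchImage j (𝟙 X) := by
  obtain ⟨U, p, hp, hps⟩ := hX.atlas
  obtain ⟨fst, sq⟩ := exists_isPullback_openPre hj p
  let w : Over.mk ((openPre hj p).ι ≫ U.hom) ⟶ U := Over.homMk (openPre hj p).ι rfl
  have : QuasiCompact w.left := quasiCompact_openPre_ι hj hq p
  have hA : IsBcAtlas j p sq.isoPullback.hom w :=
    ⟨repWith_of_isIso _, repWith_of_isIso _, sq.isoPullback_hom_snd⟩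
  constructor
  · intro hd
    have := H26ModPair.dominant_of_dense (isSchematicallyDense_openPre hj hd hp)
    refine hA.isSchImage hp hps hX (repWith_of_isIso _) ?_
    rw [show w.left.ker = ⊥ from (openPre hj p).ι.ker_eq_bot]
    exact cutsOut_id p
  · intro hi
    have h0 : (openPre hj p).ι.ker = ⊥ := (hA.cutsOut hX hp hps hX hi).unique (cutsOut_id p)
    have : IsSchemeTheoreticallyDominant (openPre hj p).ι := ⟨h0⟩
    have : QuasiCompact (openPre hj p).ι := quasiCompact_openPre_ι hj hq p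
    exact isSchDense_iff.2 ⟨hj, U, p, hp, hps, H26ModPair.dense_of_dominant⟩

/-- Inverse images of quasi-compact dense open subspaces under flat morphisms are dense. -/
theorem isSchDense_of_flat {X' U'' : Sp S} (hX' : IsAlgSpace X') {g : X' ⟶ X} (hg : LocP @Flat g)
    {j : U' ⟶ X} (hq : IsQuasiCompactMor j) (hd : IsSchDense j) {fst : U'' ⟶ U'} {j' : U'' ⟶ X'}
    (sq : IsPullback fst j' j g) : IsSchDense j' := by
  obtain ⟨hj, U, p, hp, hps, hW⟩ := isSchDense_iff.1 hd
  have hj' : RepWith @IsOpenImmersion j' := repWith_of_isPullback sq hj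
  obtain ⟨U₁, p₁, hp₁, hp₁s⟩ := hX'.atlas
  obtain ⟨R, r, u', sqR⟩ := hp.rep (p₁ ≫ g)
  obtain ⟨v, rfl⟩ := (yon S).map_surjective u'
  have hr : Etale r.left := hp.property (p₁ ≫ g) _ r sqR
  have hrs : Surjective r.left := hps.property (p₁ ≫ g) _ r sqR
  have hp' : RepWith @Etale ((yon S).map r ≫ p₁) := repWith_comp ((repWith_yon_map_iff _ _).2 hr) hp₁
  have hv : Flat v.left := hg _ p v hp' hp (by rw [sqR.w, Category.assoc])
  refine isSchDense_iff.2 ⟨hj', R, _, hp', repWith_comp ((repWith_yon_map_iff _ _).2 hrs) hp₁s, ?_⟩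
  have hpre : openPre hj' ((yon S).map r ≫ p₁) = v.left ⁻¹ᵁ openPre hj p := by
    rw [← openPre_precomp hj, sqR.w]
    ext t
    have h := range_snd_of_isPullback sq
    change Points.ofPt ((yon S).map r ≫ p₁) t ∈ Set.range (Points.map j') ↔
      Points.ofPt ((yon S).map r ≫ p₁ ≫ g) t ∈ Set.range (Points.map j)
    rw [h, Set.mem_preimage, Points.map_ofPt, Category.assoc]
  rw [hpre]
  have : QuasiCompact (openPre hj p).ι := quasiCompact_openPre_ι hj hq p
  have := H26ModPair.dominant_of_dense hW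
  have sqS := (isPullback_morphismRestrict v.left (openPre hj p)).flip
  have : QuasiCompact (v.left ⁻¹ᵁ openPre hj p).ι := MorphismProperty.of_isPullback sqS.flip inferInstance
  have hker : (v.left ⁻¹ᵁ openPre hj p).ι.ker = ⊥ := by
    rw [← comap_ker_of_flat sqS, (openPre hj p).ι.ker_eq_bot, Scheme.IdealSheafData.comap_bot]
  have : IsSchemeTheoreticallyDominant (v.left ⁻¹ᵁ openPre hj p).ι := ⟨hker⟩
  exact H26ModPair.dense_of_dominant

/-- Morphisms into a separated space agreeing on a subspace with scheme theoretic closure everything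
are equal. -/
theorem eq_of_eq_on_isSchImage_id {B : Sp S} (hX : IsAlgSpace X) {q : Y ⟶ B} (hq : IsSeparatedMor q)
    {f g : X ⟶ Y} (hfg : f ≫ q = g ≫ q) {j : U' ⟶ X} (hcl : IsSchImage j (𝟙 X)) (he : j ≫ f = j ≫ g) :
    f = g := by
  let p := pullback.lift f g hfg
  have sq := IsPullback.of_hasPullback (pullback.diagonal q) p
  have hc : RepWith @IsClosedImmersion (pullback.snd (pullback.diagonal q) p) := repWith_of_isPullback sq hq
  have hj : (j ≫ f) ≫ pullback.diagonal q = j ≫ p := by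
    apply pullback.hom_ext
    · simp [p]
    · simp [p, he]
  obtain ⟨k, hk⟩ := hcl.2.2 (pullback.snd (pullback.diagonal q) p)
    (isAlgSpace_of_representable _ hc.1 hX) hc ⟨sq.lift _ _ hj, sq.lift_snd _ _ _⟩
  have h1 : p = (k ≫ pullback.fst _ p) ≫ pullback.diagonal q := by
    rw [Category.assoc, pullback.condition, ← Category.assoc, hk, Category.id_comp]
  have hf := h1 =≫ pullback.fst q q
  have hg := h1 =≫ pullback.snd q q
  simp [p] at hf hg
  exact hf.trans hg.symm

/-- Factorization through a flat cover of a morphism to a separated space can be checked over a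
scheme theoretically dense quasi-compact open subspace. -/
theorem exists_factor_of_schDense {B V : Sp S} (hB : IsAlgSpace B) (hX : IsAlgSpace X) (hY : IsAlgSpace Y)
    (hZ : IsAlgSpace Z) {pY : Y ⟶ B} (hYs : IsSeparatedMor pY) {pZ : Z ⟶ B} {f : X ⟶ Y} {g : X ⟶ Z}
    (hc : g ≫ pZ = f ≫ pY) (hgs : IsSurjectiveMor g) (hgf : LocP @Flat g)
    (hgp : LocP @LocallyOfFinitePresentation g) {v : V ⟶ Z} (hv : IsSchDense v) (hvq : IsQuasiCompactMor v)
    (hfac : ∃ φ : V ⟶ Y, pullback.fst g v ≫ f = pullback.snd g v ≫ φ) : ∃ h : Z ⟶ Y, g ≫ h = f := by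
  have hepi : Epi g := epi_of_repBySp_fppf g fun T ξ F' fst snd sq => by
    refine ⟨isAlgSpace_of_isPullback hZ.diag hX (IsAlgSpace.yon_obj T) sq, ?_,
      locP_of_isPullback etLocal_flat sq hX hZ (IsAlgSpace.yon_obj T) hgf,
      locP_of_isPullback etLocal_lfp sq hX hZ (IsAlgSpace.yon_obj T) hgp⟩
    intro y
    obtain ⟨x, hx⟩ := hgs (Points.map ξ y)
    obtain ⟨z, -, hz⟩ := exists_point_of_isPullback sq x y hx
    exact ⟨z, hz⟩
  have sqK := IsPullback.of_hasPullback g g
  have hK := isAlgSpace_pullback hZ.diag hX hX g g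
  have hk₂ : LocP @Flat (pullback.snd g g) := locP_of_isPullback etLocal_flat sqK hX hZ hX hgf
  have hflat : LocP @Flat (pullback.snd g g ≫ g) := locP_comp etLocal_flat hK hX hZ hk₂ hgf
  have sqV := (IsPullback.of_hasPullback v (pullback.snd g g ≫ g))
  have hd := isSchDense_of_flat hK hflat hvq hv sqV
  have hj := repWith_of_isPullback sqV hv.1
  have hjq : IsQuasiCompactMor (pullback.snd v (pullback.snd g g ≫ g)) := isQuasiCompactMor_of_isPullback sqV hvq
  have hid := (isSchDense_iff_isSchImage hK hj hjq).1 hd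
  obtain ⟨φ, hφ⟩ := hfac
  have key : ∀ {K : Sp S} (k : K ⟶ X) (a : K ⟶ V), k ≫ g = a ≫ v → k ≫ f = a ≫ φ := fun k a e => by
    have := pullback.lift k a e ≫= hφ
    rwa [pullback.lift_fst_assoc, pullback.lift_snd_assoc] at this
  have heq : pullback.fst g g ≫ f = pullback.snd g g ≫ f := by
    refine eq_of_eq_on_isSchImage_id hK hYs ?_ hid ?_
    · simp only [Category.assoc, ← hc]
      rw [pullback.condition_assoc]
    · rw [← Category.assoc, ← Category.assoc]
      exact (key _ (pullback.fst v _) ((Category.assoc _ _ _).trans ((congrArg _ pullback.condition).trans pullback.condition.symm))).trans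
        (key _ (pullback.fst v _) ((Category.assoc _ _ _).trans pullback.condition.symm)).symm
  have : IsRegularEpi g := IsRegularEpiCategory.regularEpiOfEpi g
  exact ⟨(IsKernelPair.toCoequalizer' sqK).desc (Cofork.ofπ f heq),
    (IsKernelPair.toCoequalizer' sqK).fac _ WalkingParallelPair.one⟩

end Groth.Agent.H12AlgSp
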