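import Groth.Agent.H12AlgSp.SchDense
import Groth.Agent.H12AlgSp.EtUHomeo

/-!
Schematic density through the structure sheaf of the small etale site.
-/

set_option linter.unusedVariables false
set_option backward.isDefEq.respectTransparency false

universe u

open CategoryTheory CategoryTheory.Limits AlgebraicGeometry Opposite
open AlgSp

namespace Groth.Agent.H12AlgSp

variable {S : Scheme.{u}} {U X : Space S} (j : U ⟶ X) (hj : RepWith @IsOpenImmersion j.hom)

theorem bc_injective_iff (E : EtOver X.obj) :
    Function.Injective ((bcRingHom hj.1).hom.app (op E)) ↔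
      Function.Injective (openPre hj E.obj.hom).ι.appTop.hom := by
  obtain ⟨fst, sq⟩ := exists_isPullback_openPre hj E.obj.hom
  obtain ⟨e', he'⟩ : ∃ e' : hj.1.pullback E.obj.hom ≅ Over.mk ((openPre hj E.obj.hom).ι ≫ E.obj.left.hom),
      e'.hom ≫ Over.homMk (openPre hj E.obj.hom).ι rfl = hj.1.snd E.obj.hom := by
    let i := (hj.1.isPullback E.obj.hom).isoIsPullback _ _ sq
    refine ⟨(Functor.FullyFaithful.ofFullyFaithful (yon S)).preimageIso i, (yon S).map_injective ?_⟩
    rw [Functor.map_comp, Functor.FullyFaithful.preimageIso_hom, Functor.FullyFaithful.map_preimage]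
    exact IsPullback.isoIsPullback_hom_snd _ _ _ _
  have : IsIso e'.hom.left := inferInstanceAs (IsIso ((Over.forget S).map e'.hom))
  have hb : Function.Bijective e'.hom.left.appTop.hom :=
    (ConcreteCategory.isIso_iff_bijective e'.hom.left.appTop).1 inferInstance
  have happ : ∀ s : ULift.{u + 1} Γ(E.obj.left.left, ⊤), (bcRingHom hj.1).hom.app (op E) s =
      ULift.up (e'.hom.left.appTop.hom ((openPre hj E.obj.hom).ι.appTop.hom s.down)) := by
    intro s
    change ULift.up ((hj.1.snd E.obj.hom).left.appTop.hom s.down) = _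
    rw [← he']
    rfl
  constructor
  · intro h a b hab
    exact congrArg ULift.down (h (a₁ := ULift.up a) (a₂ := ULift.up b) (by
      rw [happ, happ]
      exact congrArg (fun v => ULift.up (e'.hom.left.appTop.hom v)) hab))
  · intro h a b hab
    rw [happ, happ] at hab
    exact ULift.ext _ _ (h (hb.1 (congrArg ULift.down hab)))

theorem isSchDense_iff_injective :
    IsSchDense j.hom ↔ ∀ E : EtOver X.obj, Function.Injective ((bcRingHom hj.1).hom.app (op E)) := by
  constructor
  · intro h E
    rw [bc_injective_iff j hj]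
    have hd := isSchematicallyDense_openPre hj h E.property ⊤
    let O := openPre hj E.obj.hom
    intro a b hab
    refine hd ?_
    have e : (homOfLE (inf_le_left : ⊤ ⊓ O ≤ ⊤)).op = (homOfLE (x := O.ι ''ᵁ ⊤) le_top).op ≫
        (homOfLE (x := ⊤ ⊓ O) (y := O.ι ''ᵁ ⊤) (by rw [Scheme.Opens.ι_image_top]; exact inf_le_right)).op :=
      Subsingleton.elim _ _
    rw [e, Functor.map_comp]
    rw [Scheme.Opens.ι_appTop] at hab
    exact congrArg (E.obj.left.left.presheaf.map _) hab
  · intro h
    obtain ⟨V, φ, hφ, hφs⟩ := X.property.atlas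
    refine isSchDense_iff.2 ⟨hj, V, φ, hφ, hφs, fun W => ?_⟩
    let E := EtUHomeo.openObj (EtOver.mk φ hφ) W
    have hi := (bc_injective_iff j hj E).1 (h E)
    have hW : openPre hj E.obj.hom = W.ι ⁻¹ᵁ openPre hj φ := openPre_precomp hj _ φ
    intro a b hab
    let ta : Γ(W.toScheme, ⊤) := W.topIso.inv a
    let tb : Γ(W.toScheme, ⊤) := W.topIso.inv b
    suffices ta = tb by
      exact ((ConcreteCategory.isIso_iff_bijective W.topIso.inv).1 inferInstance).1 this
    apply hi
    change (openPre hj E.obj.hom).ι.appTop.hom ta = (openPre hj E.obj.hom).ι.appTop.hom tb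
    rw [Scheme.Opens.ι_appTop]
    have key : ∀ c : Γ(V.left, W), W.toScheme.presheaf.map (homOfLE (x := (openPre hj E.obj.hom).ι ''ᵁ ⊤) le_top).op
        (W.topIso.inv c) = V.left.presheaf.map (homOfLE (x := W.ι ''ᵁ ((openPre hj E.obj.hom).ι ''ᵁ ⊤))
          (y := W ⊓ openPre hj φ) (by
            rw [Scheme.Opens.ι_image_top, hW, Scheme.Hom.image_preimage_eq_opensRange_inf,
              Scheme.Opens.opensRange_ι])).op
          (V.left.presheaf.map (homOfLE (inf_le_left : W ⊓ openPre hj φ ≤ W)).op c) := by
      intro c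
      rw [← CommRingCat.comp_apply, ← CommRingCat.comp_apply, ← Functor.map_comp]
      simp only [Scheme.Opens.topIso_inv, Scheme.Opens.toScheme_presheaf_map, ← Functor.map_comp]
      exact congrArg (fun k => V.left.presheaf.map k c) (Subsingleton.elim _ _)
    exact (key a).trans ((congrArg _ hab).trans (key b).symm)

end Groth.Agent.H12AlgSp
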