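import Groth.Agent.H12AlgSp.SchImageApps
import Groth.Agent.H13AlgSp.ProperImage

/-!
Scheme theoretic images of sections and of proper spaces.
-/

set_option linter.unusedVariables false
set_option backward.isDefEq.respectTransparency false

universe u

open CategoryTheory CategoryTheory.Limits AlgebraicGeometry Opposite Topology
open AlgSp Groth.Agent.H13Cartier

namespace Groth.Agent.H12AlgSp

variable {S : Scheme.{u}} {X Y Z B V Y' : Sp S}

/-- The scheme theoretic image of a section over a quasi-compact open is the section over that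
open. -/
theorem isIso_schImage_section (hX : IsAlgSpace X) (hY : IsAlgSpace Y) (hV : IsAlgSpace V)
    (hY' : IsAlgSpace Y') {f : X ⟶ Y} {j : V ⟶ Y} (hj : RepWith @IsOpenImmersion j)
    (hjq : IsQuasiCompactMor j) (hf : IsSeparatedMor f) {s : V ⟶ X} (hs : s ≫ f = j) {c : Y' ⟶ X}
    (hc : IsSchImage s c) {P : Sp S} {fst : P ⟶ Y'} {snd : P ⟶ V} (sq : IsPullback fst snd (c ≫ f) j) :
    IsIso snd := by
  have hsq : IsQuasiCompactMor s :=
    isQuasiCompactMor_of_comp hV hX hY (hs.symm ▸ hjq) (isQuasiSeparatedMor_of_isSeparatedMor hf)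
  have := mono_of_openImmersion hj
  have hXV := isAlgSpace_pullback hY.diag hX hV f j
  let g := pullback.fst f j
  let σ : V ⟶ pullback f j := pullback.lift s (𝟙 V) (by rw [hs, Category.id_comp])
  have hσ : σ ≫ pullback.snd f j = 𝟙 V := pullback.lift_snd _ _ _
  have hg : RepWith @IsOpenImmersion g := repWith_of_isPullback (IsPullback.of_hasPullback f j).flip hj
  have := mono_of_openImmersion hg
  have sqs : IsPullback (𝟙 V) σ s g := by
    refine IsPullback.of_horiz_isIso_mono ⟨?_⟩
    rw [Category.id_comp]; exact (pullback.lift_fst _ _ _).symm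
  have sqc := IsPullback.of_hasPullback c g
  have hi := isSchImage_flat_baseChange hV hX hXV hsq hY' hc
    (locP_of_repWith etLocal_flat (repWith_le (fun _ _ i (_ : IsOpenImmersion i) => inferInstanceAs (Flat i)) hg))
    sqs sqc
  have hσc : RepWith @IsClosedImmersion σ :=
    repWith_of_comp σ _ (isSeparatedMor_of_isPullback (IsPullback.of_hasPullback f j) hf)
      (hσ.symm ▸ repWith_of_isIso (𝟙 V))
  obtain ⟨k, hk⟩ := hi.2.2 σ hV hσc ⟨𝟙 V, Category.id_comp _⟩
  obtain ⟨l, hl⟩ := hi.2.1
  have := mono_of_closedImmersion hσc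
  have := mono_of_closedImmersion hi.1
  have hk' : IsIso k := ⟨l, (cancel_mono (pullback.snd c g)).1 (by rw [Category.assoc, hl, hk, Category.id_comp]),
    (cancel_mono σ).1 (by rw [Category.assoc, hk, hl, Category.id_comp])⟩
  have sq' := sqc.paste_vert (IsPullback.of_hasPullback f j)
  have e : snd = (sq.isoIsPullback _ _ sq').hom ≫ k := by
    refine (sq.isoIsPullback_hom_snd _ _ sq').symm.trans (congrArg _ ?_)
    rw [← hk, Category.assoc, hσ, Category.comp_id]
  rw [e]
  infer_instance

/-- The scheme theoretic image of a space proper over the base in a separated space is proper. -/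
theorem schImage_proper (hX : IsAlgSpace X) (hY : IsAlgSpace Y) (hZ : IsAlgSpace Z) (hB : IsAlgSpace B)
    {h : X ⟶ Y} {g : Y ⟶ B} (hf : IsProperMor (h ≫ g)) (hg : IsSeparatedMor g)
    (hg' : LocP @LocallyOfFiniteType g) {i : Z ⟶ Y} (hi : IsSchImage h i) {h' : X ⟶ Z} (fac : h' ≫ i = h) :
    IsProperMor (i ≫ g) ∧ IsSurjectiveMor h' := by
  have hp := isProperMor_of_comp hX hY hB hf hg
  have hqc : IsQuasiCompactMor h := hp.2.1.2
  have := mono_of_closedImmersion hi.1
  have hs : IsSurjectiveMor h' := by
    intro z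
    have hz : Points.map i z ∈ Set.range (Points.map h) :=
      (isClosed_range_of_isUnivClosedMor hY hp.2.2).closure_eq.le
        (range_schImage_subset hX hY hqc hZ hi ⟨z, rfl⟩)
    obtain ⟨x, hx⟩ := hz
    exact ⟨x, injective_map_of_mono i (by rw [← Points.map_comp, fac, hx])⟩
  have hfac : (h' ≫ i ≫ g) = h ≫ g := by rw [← Category.assoc, fac]
  refine ⟨H13AlgSp.isProperMor_of_family (κ := Unit) (fun _ => hX) hZ hB (fun _ => h') (fun z => ⟨(), hs z⟩)
    (fun _ => isUnivClosedMor_of_comp hX hZ hY (by rw [fac]; exact hp.2.2) (isSeparatedMor_of_mono i))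
    (H13AlgSp.lft_of_closedImmersion hZ hY hB hi.1 hg') (fun _ => by rw [hfac]; exact hf), hs⟩

end Groth.Agent.H12AlgSp
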