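import Groth.Agent.H12AlgSp.SchImageApps
import Groth.Agent.H12AlgSp.SchDense
import Groth.Agent.H12AlgSp.Immersion
import Groth.Agent.H17.Image
import Groth.Agent.S9385
import Groth.Agent.H17.SchDense
import Groth.Agent.H06Desc.SchDominant
import Groth.Agent.H21Diag.SchDense

/-!
Immersions into their scheme theoretic images.
-/

set_option linter.unusedVariables false
set_option backward.isDefEq.respectTransparency false

universe u

open CategoryTheory CategoryTheory.Limits AlgebraicGeometry Opposite Topology
open AlgSp Groth.Agent.H13Cartier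

namespace Groth.Agent.H12AlgSp

variable {S : Scheme.{u}} {X Y Z Zbar F G : Sp S}

/-- A quasi-compact morphism pulls back to quasi-compact morphisms of schemes. -/
theorem quasiCompact_of_isPullback {f : F ⟶ G} (hq : IsQuasiCompactMor f) {W T : Over S}
    {w : W ⟶ T} {a : (yon S).obj W ⟶ F} {g : (yon S).obj T ⟶ G}
    (sq : IsPullback a ((yon S).map w) f g) : QuasiCompact w.left := by
  rw [quasiCompact_iff_forall_isAffineOpen]
  intro O hO
  let To : Over S := Over.mk (O.ι ≫ T.hom)
  let t : To ⟶ T := Over.homMk O.ι rfl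
  let Wo : Over S := Over.mk ((w.left ⁻¹ᵁ O).ι ≫ W.hom)
  let wo : Wo ⟶ W := Over.homMk (w.left ⁻¹ᵁ O).ι rfl
  let m : Wo ⟶ To := Over.homMk (w.left ∣_ O) (by
    change (w.left ∣_ O) ≫ O.ι ≫ T.hom = (w.left ⁻¹ᵁ O).ι ≫ W.hom
    rw [← Category.assoc, morphismRestrict_ι, Category.assoc, Over.w w])
  have sqO : IsPullback wo m w t :=
    IsPullback.of_map (Over.forget S) (Over.OverMorphism.ext (morphismRestrict_ι _ _).symm)
      (isPullback_morphismRestrict w.left O).flip
  have : CompactSpace ↥To.left := isCompact_iff_compactSpace.mp hO.isCompact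
  have := isQuasiCompactSp_yon_iff.1 (hq (IsAlgSpace.yon_obj To) (isQuasiCompactSp_yon_iff.2 this) _ _ _
    ((sqO.map (yon S)).paste_horiz sq))
  exact isCompact_iff_compactSpace.mpr this

theorem isReducedSp_chart_sub {i : Z ⟶ X} (hZ : IsAlgSpace Z) (hred : IsReducedSp Z) {U : Over S}
    {p : (yon S).obj U ⟶ X} (hp : RepWith @Etale p) {J : U.left.IdealSheafData} (hJ : CutsOut i p J) :
    IsReduced J.subscheme := by
  obtain ⟨q, sq⟩ := hJ
  exact isReduced_of_chart hZ hred (repWith_of_isPullback sq.flip hp)

/-- The ideal of the image of a quasi-compact or reduced immersion in a chart. -/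
theorem cutsOut_immersion (hZ : IsAlgSpace Z) (hX : IsAlgSpace X) (hb : IsAlgSpace Zbar) {h : Z ⟶ X}
    (hq : IsQuasiCompactMor h ∨ IsReducedSp Z) {c : Zbar ⟶ X} (hc : IsSchImage h c)
    {U W : Over S} {p : (yon S).obj U ⟶ X} (hp : RepWith @Etale p) (hps : RepWith @Surjective p)
    {a : (yon S).obj W ⟶ Z} {w : W ⟶ U} (sq : IsPullback a ((yon S).map w) h p) :
    CutsOut c p w.left.ker ∧ (QuasiCompact w.left ∨ IsReduced W.left) := by
  rcases hq with hq | hred
  · have hwq := quasiCompact_of_isPullback hq sq
    exact ⟨IsBcAtlas.cutsOut hX hp hps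
      (⟨repWith_of_isIso _, repWith_of_isIso _, sq.isoPullback_hom_snd⟩ : IsBcAtlas h p sq.isoPullback.hom w)
      hb hc, Or.inl hwq⟩
  · have hW : IsReduced W.left := isReduced_of_chart hZ hred (repWith_of_isPullback sq.flip hp)
    refine ⟨?_, Or.inr hW⟩
    obtain ⟨J, hJ⟩ := exists_cutsOut hc.1 p
    have hR := isRedInduced_schImage hZ hX hred hb hc
    have := isReducedSp_chart_sub hb hR.2.2 hp hJ
    obtain ⟨q, sqc⟩ := hJ
    have hsupp : (J.support : Set U.left) = closure (Set.range w.left) := by
      rw [← J.range_subschemeι, show Set.range J.subschemeι = Set.range (subIncl U J).left from rfl,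
        ← preimage_ofPt_range sqc, hR.2.1,
        (isOpenMap_ofPt_of_repWith etale_le_universallyOpen hp).preimage_closure_eq_closure_preimage
          (Points.continuous_ofPt p), preimage_ofPt_range sq]
    have e : J = w.left.ker := by
      rw [Groth.Agent.H14AlgSt.eq_vanishingIdeal_of_isReduced J, H17.ker_eq_vanishingIdeal]
      exact congrArg _ (TopologicalSpace.Closeds.ext hsupp)
    exact e ▸ ⟨q, sqc⟩

/-- A quasi-compact or reduced immersion is a dense open immersion into its scheme theoretic image. -/
theorem immersion_into_schImage (hZ : IsAlgSpace Z) (hX : IsAlgSpace X) (hb : IsAlgSpace Zbar) {h : Z ⟶ X}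
    (hh : RepWith @IsImmersion h) (hq : IsQuasiCompactMor h ∨ IsReducedSp Z) {c : Zbar ⟶ X}
    (hc : IsSchImage h c) {h' : Z ⟶ Zbar} (fac : h' ≫ c = h) :
    RepWith @IsOpenImmersion h' ∧ IsSchDense h' ∧ Dense (Set.range (Points.map h')) := by
  obtain ⟨U, p, hp, hps⟩ := hX.atlas
  obtain ⟨W, w, a, sq⟩ := hh.rep p
  have hwi : IsImmersion w.left := hh.2 p _ w sq
  obtain ⟨⟨q, sqc⟩, hyp⟩ := cutsOut_immersion hZ hX hb hq hc hp hps sq
  let T := subOver U w.left.ker
  let t : W ⟶ T := Over.homMk w.left.toImage (by
    change w.left.toImage ≫ w.left.imageι ≫ U.hom = W.hom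
    rw [← Category.assoc, Scheme.Hom.toImage_imageι, Over.w w])
  have ht : t ≫ subIncl U w.left.ker = w := Over.OverMorphism.ext w.left.toImage_imageι
  have := mono_of_closedImmersion hc.1
  have sq' : IsPullback a ((yon S).map t) h' q := by
    refine IsPullback.of_bot ?_ ((cancel_mono c).1 ?_) sqc
    · rw [← Functor.map_comp, ht, fac]; exact sq
    · rw [Category.assoc, fac, sq.w, Category.assoc, sqc.w, ← Category.assoc, ← Functor.map_comp, ht]
  have hqe : RepWith @Etale q := repWith_of_isPullback sqc.flip hp
  have hqs : RepWith @Surjective q := repWith_of_isPullback sqc.flip hps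
  have hopen : IsOpenImmersion t.left := by
    rcases hyp with hwq | hW
    · exact inferInstanceAs (IsOpenImmersion w.left.toImage)
    · exact (S9385.result w.left (Or.inr hW)).1
  have hh' : RepWith @IsOpenImmersion h' :=
    repWith_of_etale_cover_immersions hZ hb (Or.inr (Or.inl rfl)) hqe hqs sq'
      ((repWith_yon_map_iff _ _).2 hopen)
  have hpre : (openPre hh' q : Set T.left) = Set.range t.left := preimage_ofPt_range sq'
  have hdense : CInt.IsSchematicallyDense (openPre hh' q) := by
    have e : openPre hh' q = t.left.opensRange := TopologicalSpace.Opens.ext hpre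
    rw [e]
    rcases hyp with hwq | hW
    · have : QuasiCompact w.left.toImage := inferInstance
      have hqc : QuasiCompact t.left.opensRange.ι := by
        have hti : QuasiCompact t.left := inferInstanceAs (QuasiCompact w.left.toImage)
        rw [← IsOpenImmersion.isoOfRangeEq_inv_fac t.left t.left.opensRange.ι (by simp)]
        exact (MorphismProperty.cancel_left_of_respectsIso @QuasiCompact _ _).2 hti
      have : IsSchemeTheoreticallyDominant t.left.opensRange.ι := ⟨by
        rw [← IsOpenImmersion.isoOfRangeEq_inv_fac t.left t.left.opensRange.ι (by simp),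
          Scheme.Hom.ker_comp_of_isIso]
        exact H17.ker_toImage w.left⟩
      exact H26ModPair.dense_of_dominant
    · have : IsReduced T.left := by
        change IsReduced w.left.ker.subscheme
        rw [H17.ker_eq_vanishingIdeal]
        exact Groth.Agent.H14AlgSt.isReduced_vanishingIdeal _
      rw [Dense.isSchematicallyDense_iff]
      intro V s hs
      refine Dense.eq_zero_of_germ fun x hx => ?_
      have h0 : s = 0 := H06Desc.injOn_sections_of_dense (fun _ : PUnit.{1} => t.left.opensRange.toScheme)
        (fun _ => t.left.opensRange.ι) (by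
          rw [Set.iUnion_const, Scheme.Opens.range_ι]
          exact (S9385.result w.left (Or.inr hW)).2.2) V s fun _ =>
        (H26ModPair.ker_app_ι V s).2 ((Dense.killed_iff s).1 hs)
      rw [h0, map_zero]
  refine ⟨hh', isSchDense_iff.2 ⟨hh', _, q, hqe, hqs, hdense⟩, ?_⟩
  have hd := H21Diag.dense_of_isSchematicallyDense hdense
  intro y
  obtain ⟨x, rfl⟩ := surjective_ofPt_of_repWith le_rfl hqs y
  exact map_mem_closure (Points.continuous_ofPt q) (hd x) fun z hz => hz

end Groth.Agent.H12AlgSp
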