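import Groth.Agent.H12AlgSp.FiniteSep
import Groth.Agent.H12AlgSp.EtaleModel
import Groth.Agent.H13AlgSp.Cover
import Mathlib.AlgebraicGeometry.Morphisms.FinitePresentation
import Mathlib.RingTheory.Etale.Descent

/-!
For separated morphisms, lifts in the valuative criterion descend along extensions of valuation rings.
-/

set_option linter.unusedVariables false

universe u

open CategoryTheory CategoryTheory.Limits AlgebraicGeometry Opposite Topology
open AlgSp
open scoped TensorProduct

namespace Groth.Agent.H12AlgSp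

open RPt

variable {S : Scheme.{u}} {X Y : Sp S}

theorem eq_post_hom {R : Type u} [CommRing R] (p : RPt X R) :
    p = post p.hom (ofSch (O := Over.mk p.str) (R := R) (𝟙 _)) := by
  refine RPt.ext' (Category.id_comp _).symm ?_
  simp only [post, ofSch]
  rw [← Functor.map_comp_assoc]
  refine Eq.trans (congrArg (· ≫ p.hom) (congrArg (yon S).map
    (show _ = 𝟙 (Over.mk p.str) from Over.OverMorphism.ext (Category.id_comp _)))) ?_
  exact (congrArg (· ≫ p.hom) ((yon S).map_id _)).trans (Category.id_comp _)

theorem res_ofSch_id {R R' : Type u} [CommRing R] [CommRing R'] (p : RPt X R) (g : R →+* R') :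
    res g p = post p.hom (ofSch (O := Over.mk p.str) (R := R') (Spec.map (CommRingCat.ofHom g))) := by
  conv_lhs => rw [eq_post_hom p]
  rw [← post_res, res_ofSch, Category.comp_id]

/-- Two points of a separated morphism agreeing below and on an injective extension are equal. -/
theorem eq_of_res_injective_of_separated {f : X ⟶ Y} (hf : IsSeparatedMor f) {R R' : Type u} [CommRing R]
    [CommRing R'] {g : R →+* R'} (hg : Function.Injective g) {p q : RPt X R} (he : post f p = post f q)
    (h : res g p = res g q) : p = q := by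
  obtain ⟨s, x⟩ := p
  obtain ⟨s', y⟩ := q
  simp only [post] at he
  injection he with e₁ e₂
  subst e₁
  have hxy := RPt.hom_eq_of_eq (p := res g ⟨s, x⟩) (y := (res g ⟨s, y⟩).hom) (h.trans rfl)
  simp only [res] at hxy
  obtain ⟨W, w, a, sq⟩ := hf.rep (pullback.lift x y (eq_of_heq e₂))
  have : IsClosedImmersion w.left := hf.property _ a w sq
  obtain ⟨σ, -, hσ⟩ := sq.exists_lift
    ((yon S).map (Over.homMk (Spec.map (CommRingCat.ofHom g)) rfl :
      Over.mk (Spec.map (CommRingCat.ofHom g) ≫ s) ⟶ Over.mk s) ≫ x)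
    ((yon S).map (Over.homMk (Spec.map (CommRingCat.ofHom g)) rfl)) (by
      apply pullback.hom_ext
      · simp only [Category.assoc, pullback.diagonal_fst, Category.comp_id, pullback.lift_fst]
      · simp only [Category.assoc, pullback.diagonal_snd, Category.comp_id, pullback.lift_snd]
        exact hxy)
  obtain ⟨σ, rfl⟩ := (yon S).map_surjective σ
  have hσw : σ.left ≫ w.left = Spec.map (CommRingCat.ofHom g) := by
    rw [← Over.comp_left, (yon S).map_injective ((Functor.map_comp _ _ _).trans hσ)]
    rfl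
  have : IsAffine (Over.mk s).left := inferInstanceAs (IsAffine (Spec (CommRingCat.of R)))
  have hw : IsIso w.left := by
    have : IsAffine W.left := isAffine_of_isAffineHom w.left
    have hsurj : Function.Surjective w.left.appTop :=
      ((HasAffineProperty.iff_of_isAffine (P := @IsClosedImmersion)).1 ‹IsClosedImmersion w.left›).2
    have hinj : Function.Injective w.left.appTop := by
      have h1 : Function.Injective (Spec.map (CommRingCat.ofHom g)).appTop := by
        intro a b hab
        have := congrArg (Scheme.ΓSpecIso (CommRingCat.of R')).hom hab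
        rw [← CommRingCat.comp_apply, ← CommRingCat.comp_apply, Scheme.ΓSpecIso_naturality] at this
        exact (Scheme.ΓSpecIso (CommRingCat.of R)).commRingCatIsoToRingEquiv.injective (hg this)
      intro a b hab
      apply h1
      rw [← hσw]
      change σ.left.appTop (w.left.appTop a) = σ.left.appTop (w.left.appTop b)
      rw [hab]
    have : IsIso w.left.appTop := (ConcreteCategory.isIso_iff_bijective w.left.appTop).2 ⟨hinj, hsurj⟩
    have e : w.left = W.left.isoSpec.hom ≫ Spec.map w.left.appTop ≫ (Over.mk s).left.isoSpec.inv := by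
      exact ((Scheme.isoSpec_hom_naturality_assoc w.left _).trans
        ((congrArg (w.left ≫ ·) (Iso.hom_inv_id _)).trans (Category.comp_id _))).symm
    rw [e]
    infer_instance
  have : IsIso w := by
    have : IsIso ((Over.forget S).map w) := hw
    exact isIso_of_reflects_iso w (Over.forget S)
  have e₁' := sq.w =≫ pullback.fst f f
  have e₂' := sq.w =≫ pullback.snd f f
  simp only [Category.assoc, pullback.diagonal_fst, pullback.diagonal_snd, Category.comp_id,
    pullback.lift_fst, pullback.lift_snd] at e₁' e₂'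
  rw [(cancel_epi ((yon S).map w)).1 (e₁'.symm.trans e₂')]

theorem map_hom_eq_of_eq {R : Type u} [CommRing R] {Z : Over S} {q q' : RPt X R} (h : q = q')
    (k : Z ⟶ Over.mk q.str) (k' : Z ⟶ Over.mk q'.str) (e : k.left = k'.left) :
    (yon S).map k ≫ q.hom = (yon S).map k' ≫ q'.hom := by
  subst h
  rw [Over.OverMorphism.ext e]

theorem map_comp_hom_eq {B C : Type u} [CommRing B] [CommRing C] {g₁ g₂ : B →+* C} {p : RPt X B}
    (h : res g₁ p = res g₂ p) {Z : Over S} (u : Z.left ⟶ Spec (CommRingCat.of C)) (a b : Z ⟶ Over.mk p.str)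
    (ha : u ≫ Spec.map (CommRingCat.ofHom g₁) = a.left) (hb : u ≫ Spec.map (CommRingCat.ofHom g₂) = b.left) :
    (yon S).map a ≫ p.hom = (yon S).map b ≫ p.hom := by
  let k₁ : Z ⟶ Over.mk (res g₁ p).str := Over.homMk u (by
    change u ≫ Spec.map (CommRingCat.ofHom g₁) ≫ p.str = _
    rw [reassoc_of% ha]
    exact Over.w a)
  let k₂ : Z ⟶ Over.mk (res g₂ p).str := Over.homMk u (by
    change u ≫ Spec.map (CommRingCat.ofHom g₂) ≫ p.str = _
    rw [reassoc_of% hb]
    exact Over.w b)
  have := map_hom_eq_of_eq h k₁ k₂ rfl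
  simp only [res] at this
  refine Eq.trans ?_ (this.trans ?_)
  · refine Eq.trans ?_ ((yon S).map_comp_assoc _ _ _)
    exact congrArg (· ≫ p.hom) (congrArg (yon S).map (Over.OverMorphism.ext ha.symm))
  · refine ((yon S).map_comp_assoc _ _ _).symm.trans ?_
    exact congrArg (· ≫ p.hom) (congrArg (yon S).map (Over.OverMorphism.ext hb))

/-- Points descend along faithfully flat ring maps of finite presentation. -/
theorem exists_descended {R B : Type u} [CommRing R] [CommRing B] [Algebra R B]
    (hff : (algebraMap R B).FaithfullyFlat) (hfp : (algebraMap R B).FinitePresentation)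
    (s : Spec (CommRingCat.of R) ⟶ S) (p : RPt X B)
    (hs : p.str = Spec.map (CommRingCat.ofHom (algebraMap R B)) ≫ s)
    (h : res (Algebra.TensorProduct.includeLeftRingHom : B →+* B ⊗[R] B) p =
      res ((Algebra.TensorProduct.includeRight (R := R) (A := B) (B := B)).toRingHom) p) :
    ∃ l : RPt X R, res (algebraMap R B) l = p := by
  obtain ⟨ps, x⟩ := p
  dsimp only at hs
  subst hs
  let T : Over S := Over.mk s
  let T' : Over S := Over.mk (Spec.map (CommRingCat.ofHom (algebraMap R B)) ≫ s)
  let c : T' ⟶ T := Over.homMk (Spec.map (CommRingCat.ofHom (algebraMap R B))) rfl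
  have hk : Flat c.left ∧ Surjective c.left := by
    change Flat (Spec.map (CommRingCat.ofHom (algebraMap R B))) ∧
      Surjective (Spec.map (CommRingCat.ofHom (algebraMap R B)))
    rwa [flat_and_surjective_SpecMap_iff]
  have hc : Sieve.ofArrows (fun _ : PUnit.{u + 1} => T') (fun _ => c) ∈ J S T :=
    H13AlgSp.ofArrows_mem_J _ (fun _ => hk.1)
      (fun _ => (HasRingHomProperty.Spec_iff (P := @LocallyOfFinitePresentation)).2 hfp)
      (fun t => ⟨⟨⟩, hk.2.surj t⟩)
  have hsh := (isSheaf_iff_isSheaf_of_type _ _).1 X.property _ hc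
  rw [Sieve.ofArrows, ← Presieve.isSheafFor_iff_generate, Presieve.isSheafFor_arrows_iff] at hsh
  obtain ⟨t, ht, -⟩ := hsh (fun _ => (J S).uliftYonedaEquiv x) (fun i j Z a b hab => by
    rw [GrothendieckTopology.uliftYonedaEquiv_naturality,
      GrothendieckTopology.uliftYonedaEquiv_naturality]
    congr 1
    let u := pullback.lift a.left b.left (congrArg CommaMorphism.left hab) ≫ (pullbackSpecIso R B B).hom
    have hu₁ : u ≫ Spec.map (CommRingCat.ofHom (Algebra.TensorProduct.includeLeftRingHom :
        B →+* B ⊗[R] B)) = a.left := by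
      simp only [u, Category.assoc]
      exact (congrArg (_ ≫ ·) (pullbackSpecIso_hom_fst R B B)).trans (pullback.lift_fst _ _ _)
    have hu₂ : u ≫ Spec.map (CommRingCat.ofHom
        (Algebra.TensorProduct.includeRight (R := R) (A := B) (B := B)).toRingHom) = b.left := by
      simp only [u, Category.assoc]
      exact (congrArg (_ ≫ ·) (pullbackSpecIso_hom_snd R B B)).trans (pullback.lift_snd _ _ _)
    exact map_comp_hom_eq h u a b hu₁ hu₂)
  refine ⟨⟨s, (J S).uliftYonedaEquiv.symm t⟩, congrArg (RPt.mk _) ?_⟩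
  apply (J S).uliftYonedaEquiv.injective
  have := ht ⟨⟩
  rw [← GrothendieckTopology.uliftYonedaEquiv_naturality, Equiv.apply_symm_apply]
  exact this

/-- The fibre of an affine etale chart over an affine point, for a separated morphism. -/
theorem exists_affine_fibre {T : Over S} [IsAffine T.left] {f : X ⟶ (yon S).obj T} (hf : IsSeparatedMor f)
    {O : Over S} [IsAffine O.left] {ao : (yon S).obj O ⟶ X} (hao : RepWith @Etale ao)
    {B : Type u} [CommRing B] (p : RPt X B) :
    ∃ (G : Type u) (_ : CommRing G) (u : B →+* G) (r : RPt ((yon S).obj O) G),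
      u.Etale ∧ post ao r = res u p ∧
      (∀ (B' : Type u) [CommRing B'] (g : B →+* B') (r' : RPt ((yon S).obj O) B'),
        post ao r' = res g p → ∃ h : G →+* B', h.comp u = g ∧ res h r = r') ∧
      (∀ (B' : Type u) [CommRing B'] (h h' : G →+* B'),
        h.comp u = h'.comp u → res h r = res h' r → h = h') ∧
      Subring.closure (Set.range u ∪ Set.range (vr r)) = ⊤ := by
  let Bo : Over S := Over.mk p.str
  have : IsAffine Bo.left := inferInstanceAs (IsAffine (Spec (CommRingCat.of B)))
  obtain ⟨W, wA, wO, sqW⟩ := hao.rep p.hom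
  obtain ⟨wO, rfl⟩ := (yon S).map_surjective wO
  obtain ⟨m, hm⟩ := (yon S).map_surjective (ao ≫ f)
  obtain ⟨bA, hbA⟩ := (yon S).map_surjective (p.hom ≫ f)
  have hmb : wO ≫ m = wA ≫ bA := (yon S).map_injective (by
    rw [Functor.map_comp, Functor.map_comp, hm, hbA, ← Category.assoc, sqW.w, Category.assoc])
  have sqQ := (IsPullback.of_hasPullback m bA).map (yon S)
  let Q := pullback m bA
  obtain ⟨d, hd₁, hd₂⟩ : ∃ d : (yon S).obj Q ⟶ pullback f f,
      d ≫ pullback.fst f f = (yon S).map (pullback.fst m bA) ≫ ao ∧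
      d ≫ pullback.snd f f = (yon S).map (pullback.snd m bA) ≫ p.hom :=
    ⟨pullback.lift _ _ (by rw [Category.assoc, Category.assoc, ← hm, ← hbA, sqQ.w]),
      pullback.lift_fst _ _ _, pullback.lift_snd _ _ _⟩
  let j : W ⟶ Q := pullback.lift wO wA hmb
  have hj₁ : (yon S).map j ≫ (yon S).map (pullback.fst m bA) = (yon S).map wO := by
    rw [← Functor.map_comp, pullback.lift_fst]
  have hj₂ : (yon S).map j ≫ (yon S).map (pullback.snd m bA) = (yon S).map wA := by
    rw [← Functor.map_comp, pullback.lift_snd]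
  have sqj : IsPullback ((yon S).map wA ≫ p.hom) ((yon S).map j) (pullback.diagonal f) d := by
    refine ⟨⟨?_⟩, ⟨PullbackCone.IsLimit.mk _ (fun c => sqW.lift (c.snd ≫ (yon S).map (pullback.fst m bA))
      (c.snd ≫ (yon S).map (pullback.snd m bA)) ?_) (fun c => ?_) (fun c => ?_) (fun c k h₁ h₂ => ?_)⟩⟩
    · apply pullback.hom_ext
      · simp only [Category.assoc, pullback.diagonal_fst, Category.comp_id, hd₁]
        rw [reassoc_of% hj₁, ← sqW.w]
      · simp only [Category.assoc, pullback.diagonal_snd, Category.comp_id, hd₂]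
        rw [reassoc_of% hj₂]
    · have e₁ := c.condition =≫ pullback.fst f f
      have e₂ := c.condition =≫ pullback.snd f f
      simp only [Category.assoc, pullback.diagonal_fst, pullback.diagonal_snd, Category.comp_id, hd₁, hd₂] at e₁ e₂
      simp only [Category.assoc]
      exact e₁.symm.trans e₂
    · have e₂ := c.condition =≫ pullback.snd f f
      simp only [Category.assoc, pullback.diagonal_snd, Category.comp_id, hd₂] at e₂
      rw [← Category.assoc, sqW.lift_snd, Category.assoc]
      exact e₂.symm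
    · apply sqQ.hom_ext
      · rw [Category.assoc, hj₁, sqW.lift_fst]
      · rw [Category.assoc, hj₂, sqW.lift_snd]
    · apply sqW.hom_ext
      · rw [sqW.lift_fst, ← h₂, Category.assoc, hj₁]
      · rw [sqW.lift_snd, ← h₂, Category.assoc, hj₂]
  have hjc : IsClosedImmersion j.left := hf.property d _ j sqj
  have sqQ' := (IsPullback.of_hasPullback m bA).map (Over.forget S)
  have : IsAffine (pullback m.left bA.left) := inferInstance
  have : IsAffine (pullback ((Over.forget S).map m) ((Over.forget S).map bA)) := this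
  have : IsAffine Q.left := IsAffine.of_isIso sqQ'.isoPullback.hom
  have : IsAffine W.left := isAffine_of_isAffineHom j.left
  have hwe : Etale wA.left := hao.property _ _ wA sqW
  obtain ⟨u, hu⟩ := Spec.map_surjective (R := CommRingCat.of B) (S := Γ(W.left, ⊤))
    (W.left.isoSpec.inv ≫ wA.left)
  let x : RPt ((yon S).obj W) Γ(W.left, ⊤) := ofSch W.left.isoSpec.inv
  have hux : Spec.map (CommRingCat.ofHom u.hom) = W.left.isoSpec.inv ≫ wA.left := by
    rw [CommRingCat.ofHom_hom, hu]
  let r : RPt ((yon S).obj O) Γ(W.left, ⊤) := post ((yon S).map wO) x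
  have hr : post ao r = res u.hom p := by
    simp only [r, x]
    rw [res_ofSch_id, hux, post_post, sqW.w, ← post_post, post_ofSch]
  have hlift : ∀ (B' : Type u) [CommRing B'] (g : B →+* B') (r' : RPt ((yon S).obj O) B'),
      post ao r' = res g p → ∃ h : Γ(W.left, ⊤) →+* B', h.comp u.hom = g ∧ res h r = r' := by
    intro B' _ g r' hr'
    obtain ⟨z, hz₁, hz₂⟩ := exists_lift_of_pullback sqW r'
      (ofSch (O := Bo) (R := B') (Spec.map (CommRingCat.ofHom g))) (by rw [hr', res_ofSch_id])
    obtain ⟨z, rfl⟩ := exists_eq_ofSch z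
    have hz : Spec.map (CommRingCat.ofHom (rmap z)) ≫ W.left.isoSpec.inv = z := by
      rw [specMap_rmap, Category.assoc, Iso.hom_inv_id, Category.comp_id]
    refine ⟨rmap z, ?_, ?_⟩
    · rw [post_ofSch] at hz₂
      have := ofSch_injective hz₂
      have h2 : Spec.map (CommRingCat.ofHom ((rmap z).comp u.hom)) = Spec.map (CommRingCat.ofHom g) := by
        rw [specMap_comp, hux, reassoc_of% hz, this]
      exact congrArg CommRingCat.Hom.hom (Spec.map_injective h2)
    · simp only [r, x]
      rw [← post_res, res_ofSch, hz, hz₁]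
  have huniq : ∀ (B' : Type u) [CommRing B'] (h h' : Γ(W.left, ⊤) →+* B'),
      h.comp u.hom = h'.comp u.hom → res h r = res h' r → h = h' := by
    intro B' _ h h' h₁ h₂
    have e : Spec.map (CommRingCat.ofHom h) ≫ W.left.isoSpec.inv =
        Spec.map (CommRingCat.ofHom h') ≫ W.left.isoSpec.inv := by
      rw [← cancel_mono j.left]
      have hO' : j.left ≫ (pullback.fst m bA).left = wO.left := by rw [← Over.comp_left, pullback.lift_fst]
      have hA' : j.left ≫ (pullback.snd m bA).left = wA.left := by rw [← Over.comp_left, pullback.lift_snd]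
      apply sqQ'.hom_ext
      · have := h₂
        simp only [r, x] at this
        rw [← post_res, ← post_res, res_ofSch, res_ofSch, post_ofSch, post_ofSch] at this
        refine (Category.assoc _ _ _).trans ((congrArg (_ ≫ ·) hO').trans ?_)
        exact (ofSch_injective this).trans ((congrArg (_ ≫ ·) hO'.symm).trans (Category.assoc _ _ _).symm)
      · refine (Category.assoc _ _ _).trans ((congrArg (_ ≫ ·) hA').trans ?_)
        refine Eq.trans ?_ ((congrArg (_ ≫ ·) hA'.symm).trans (Category.assoc _ _ _).symm)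
        rw [Category.assoc, Category.assoc, ← hux, ← specMap_comp, ← specMap_comp, h₁]
    exact congrArg CommRingCat.Hom.hom (Spec.map_injective ((cancel_mono W.left.isoSpec.inv).1 e))
  refine ⟨Γ(W.left, ⊤), inferInstance, u.hom, r, ?_, hr, hlift, huniq, ?_⟩
  · refine (HasRingHomProperty.Spec_iff (P := @Etale)).1 ?_
    rw [hu]
    exact inferInstanceAs (Etale (W.left.isoSpec.inv ≫ wA.left))
  · let G' := Subring.closure (Set.range u.hom ∪ Set.range (vr r))
    let u' : B →+* G' := u.hom.codRestrict G' fun b => Subring.subset_closure (Or.inl ⟨b, rfl⟩)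
    let r' : RPt ((yon S).obj O) G' :=
      ofSch (ofRmap ((vr r).codRestrict G' fun b => Subring.subset_closure (Or.inr ⟨b, rfl⟩)))
    have hr' : res G'.subtype r' = r := by
      refine vr_ext ?_
      rw [vr_res]
      simp only [r', vr, toSch_ofSch, rmap_ofRmap]
      rfl
    have hr'' : post ao r' = res u' p := by
      refine eq_of_res_injective_of_separated hf (g := G'.subtype) Subtype.val_injective ?_ ?_
      · refine eq_of_res_injective (g := G'.subtype) Subtype.val_injective ?_
        rw [← post_res, ← post_res, ← post_res, hr', hr, res_res]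
        rfl
      · rw [← post_res, hr', hr, res_res]
        rfl
    obtain ⟨h, h₁, h₂⟩ := hlift G' u' r' hr''
    have hid : G'.subtype.comp h = RingHom.id _ := huniq _ _ _
      (by rw [RingHom.comp_assoc, h₁]; rfl) (by rw [← res_res, h₂, hr', res_id])
    rw [eq_top_iff]
    intro z _
    rw [show z = (h z : Γ(W.left, ⊤)) from (RingHom.congr_fun hid z).symm]
    exact (h z).2

theorem ext_of_pullback {R : Type u} [CommRing R] {P A B C : Sp S} {k₂ : P ⟶ A} {k₁ : P ⟶ B}
    {f : A ⟶ C} {g : B ⟶ C} (sq : IsPullback k₂ k₁ f g) {p q : RPt P R} (h₂ : post k₂ p = post k₂ q)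
    (h₁ : post k₁ p = post k₁ q) : p = q := by
  obtain ⟨s, x⟩ := p
  obtain ⟨s', y⟩ := q
  simp only [post] at h₁ h₂
  injection h₂ with e₁ e₂
  subst e₁
  injection h₁ with _ e₃
  exact congrArg (RPt.mk s) (sq.hom_ext (eq_of_heq e₂) e₃)

theorem hasLift_of_rpt {f : X ⟶ Y} (v : ValSq f) (l : RPt X v.A)
    (h₁ : res (algebraMap v.A v.K) l = ⟨_, v.top⟩) (h₂ : post f l = ⟨v.str, v.bot⟩) : v.HasLift := by
  obtain ⟨s, l⟩ := l
  simp only [post] at h₂
  injection h₂ with c₁ c₂
  subst c₁
  simp only [res] at h₁
  injection h₁ with _ c₃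
  exact ⟨l, c₃, eq_of_heq c₂⟩

/-- Descent of lifts for a separated morphism to an affine scheme. -/
theorem exists_lift_affine (hX : IsAlgSpace X) {T : Over S} [IsAffine T.left] {f : X ⟶ (yon S).obj T}
    (hf : IsSeparatedMor f) (v : ValSq f) (e : v.DomExt) (he : e.HasLift) :
    ∃ l : RPt X v.A, res (algebraMap v.A v.K) l = ⟨_, v.top⟩ ∧ post f l = ⟨v.str, v.bot⟩ := by
  obtain ⟨O, ao, hO, e₀, q, hoe, hgen, hq⟩ := exists_chart_lift hX v e he
  let := e₀.φ.toAlgebra
  let := e₀.ψ.toAlgebra
  let := (e₀.ψ.comp (algebraMap v.A v.K)).toAlgebra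
  have : IsScalarTower v.A v.K e₀.K' := IsScalarTower.of_algebraMap_eq fun _ => rfl
  have : IsScalarTower v.A e₀.A' e₀.K' :=
    IsScalarTower.of_algebraMap_eq fun a => (RingHom.congr_fun e₀.comm a).symm
  obtain ⟨F, _, uF, rF, huF, hrF, hFlift, hFuniq, -⟩ := exists_affine_fibre hf hoe (⟨_, v.top⟩ : RPt X v.K)
  let := uF.toAlgebra
  let := (uF.comp (algebraMap v.A v.K)).toAlgebra
  have : IsScalarTower v.A v.K F := IsScalarTower.of_algebraMap_eq fun _ => rfl
  obtain ⟨G, _, uG, rG, huG, hrG, hGlift, hGuniq, hGgen⟩ := exists_affine_fibre hf hoe (post ao q)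
  let := uG.toAlgebra
  obtain ⟨σ, hσ₁, hσ₂⟩ := hFlift e₀.K' e₀.ψ (res (algebraMap e₀.A' e₀.K') q)
    (by rw [post_res, ← hgen, post_res])
  let inL : e₀.K' →+* e₀.K' ⊗[v.K] F := Algebra.TensorProduct.includeLeftRingHom
  let inR : F →+* e₀.K' ⊗[v.K] F :=
    (Algebra.TensorProduct.includeRight (R := v.K) (A := e₀.K') (B := F)).toRingHom
  have hLR : inL.comp e₀.ψ = inR.comp uF :=
    Algebra.TensorProduct.includeLeftRingHom_comp_algebraMap
  obtain ⟨g, hg₁, hg₂⟩ := hGlift _ (inL.comp (algebraMap e₀.A' e₀.K')) (res inR rF)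
    (by rw [post_res, hrF, res_res, ← res_res (algebraMap e₀.A' e₀.K') inL, ← post_res, hgen, res_res, hLR])
  let iG : G →+* G ⊗[e₀.A'] e₀.K' := Algebra.TensorProduct.includeLeftRingHom
  let iK : e₀.K' →+* G ⊗[e₀.A'] e₀.K' :=
    (Algebra.TensorProduct.includeRight (R := e₀.A') (A := G) (B := e₀.K')).toRingHom
  have hGK : iG.comp uG = iK.comp (algebraMap e₀.A' e₀.K') :=
    Algebra.TensorProduct.includeLeftRingHom_comp_algebraMap
  have hginj : Function.Injective g := by
    obtain ⟨h, hh₁, hh₂⟩ := hFlift _ (iK.comp e₀.ψ) (res iG rG)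
      (by rw [post_res, hrG, res_res, hGK, ← res_res, ← post_res, hgen, res_res])
    let := (iK.comp e₀.ψ).toAlgebra
    let hext : e₀.K' ⊗[v.K] F →ₐ[v.K] G ⊗[e₀.A'] e₀.K' := Algebra.TensorProduct.lift
      (⟨iK, fun _ => rfl⟩ : e₀.K' →ₐ[v.K] G ⊗[e₀.A'] e₀.K')
      (⟨h, fun k => RingHom.congr_fun hh₁ k⟩ : F →ₐ[v.K] G ⊗[e₀.A'] e₀.K') fun _ _ => Commute.all _ _
    have hL : hext.toRingHom.comp inL = iK := RingHom.ext fun a => by simp [hext, inL]
    have hR : hext.toRingHom.comp inR = h := RingHom.ext fun a => by simp [hext, inR]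
    have hc : hext.toRingHom.comp g = iG := hGuniq _ _ _
      (by rw [RingHom.comp_assoc, hg₁, ← RingHom.comp_assoc, hL, hGK])
      (by rw [← res_res, hg₂, res_res, hR, hh₂])
    have : Algebra.Etale e₀.A' G := huG
    have hiG : Function.Injective iG :=
      Algebra.TensorProduct.includeLeft_injective (S := e₀.A') (A := G)
        (IsFractionRing.injective e₀.A' e₀.K')
    rw [← hc] at hiG
    exact Function.Injective.of_comp hiG
  obtain ⟨B, hvB, hff, hfp, Ψ, hΨ, hΨt⟩ := exists_etale_model (K := v.K) e₀.isLocalHom uG huG (vr rG) (vr rF)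
    hGgen g hginj (fun a => RingHom.congr_fun hg₁ a)
    (fun c => by
      have := congrArg vr hg₂
      rw [vr_res, vr_res] at this
      exact RingHom.congr_fun this c)
    σ (fun a => RingHom.congr_fun hσ₁ a)
    (fun c => ⟨vr q c, by
      have := congrArg vr hσ₂
      rw [vr_res, vr_res] at this
      exact (RingHom.congr_fun this c).symm⟩)
  let val : B →+* F := B.val.toRingHom
  let r₀ : RPt ((yon S).obj O) B :=
    ofSch (ofRmap ((vr rF).codRestrict B fun c => hvB c))
  have hr₀ : res val r₀ = rF := by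
    refine vr_ext ?_
    rw [vr_res]
    simp only [r₀, vr, toSch_ofSch, rmap_ofRmap]
    rfl
  have hv : post f (⟨_, v.top⟩ : RPt X v.K) = res (algebraMap v.A v.K) ⟨v.str, v.bot⟩ := valSq_comm v
  have hb : post f (post ao r₀) = res (algebraMap v.A B) ⟨v.str, v.bot⟩ := by
    refine eq_of_res_injective (g := val) Subtype.val_injective ?_
    rw [← post_res, ← post_res, hr₀, hrF, post_res, hv, res_res, res_res]
    rfl
  obtain ⟨l, hl⟩ := exists_descended hff hfp v.str (post ao r₀) (congrArg RPt.str hb) (by
    refine eq_of_res_injective_of_separated hf hΨ ?_ ?_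
    · rw [post_res, post_res, hb, res_res, res_res,
        Algebra.TensorProduct.includeLeftRingHom_comp_algebraMap]
    · have e₁ : Ψ.comp (Algebra.TensorProduct.includeLeftRingHom : B →+* B ⊗[v.A] B) =
          (Algebra.TensorProduct.includeLeftRingHom : F →+* F ⊗[v.K] F).comp val :=
        RingHom.ext fun b => hΨt b 1
      have e₂ : Ψ.comp ((Algebra.TensorProduct.includeRight (R := v.A) (A := B) (B := B)).toRingHom) =
          (Algebra.TensorProduct.includeRight (R := v.K) (A := F) (B := F)).toRingHom.comp val :=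
        RingHom.ext fun b => hΨt 1 b
      rw [res_res, res_res, e₁, e₂, ← res_res, ← res_res, ← post_res, hr₀, hrF, res_res, res_res]
      exact congrArg (fun k => res k _) Algebra.TensorProduct.includeLeftRingHom_comp_algebraMap)
  have htop : res (algebraMap v.A v.K) l = ⟨_, v.top⟩ := by
    have : Nontrivial F := σ.domain_nontrivial
    have hF : uF.FaithfullyFlat := RingHom.faithfullyFlat_algebraMap_iff.2 (inferInstance : Module.FaithfullyFlat v.K F)
    refine eq_of_res_faithfullyFlat hX hF ?_
    rw [res_res, show uF.comp (algebraMap v.A v.K) = val.comp (algebraMap v.A B) from rfl, ← res_res, hl,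
      ← post_res, hr₀, hrF]
  refine ⟨l, htop, ?_⟩
  refine eq_of_res_injective (g := algebraMap v.A v.K) (IsFractionRing.injective _ _) ?_
  rw [← post_res, htop, hv]

/-- For a separated morphism of spaces a lift after an extension gives a lift. -/
theorem hasLift_of_domExt_of_separated (hX : IsAlgSpace X) (hY : IsAlgSpace Y) {f : X ⟶ Y}
    (hf : IsSeparatedMor f) (v : ValSq f) (e : v.DomExt) (he : e.HasLift) : v.HasLift := by
  obtain ⟨l, hl₁, hl₂⟩ := (domExt_hasLift_iff e).1 he
  let top' := pullback.lift v.top ((yon S).map v.j) v.comm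
  let v' : ValSq (pullback.snd f v.bot) :=
    { A := v.A, K := v.K, str := v.str, top := top', bot := 𝟙 _,
      comm := (pullback.lift_snd _ _ _).trans (Category.comp_id _).symm }
  let e' : v'.DomExt :=
    { A' := e.A', K' := e.K', φ := e.φ, ψ := e.ψ, comm := e.comm, isLocalHom := e.isLocalHom }
  have : IsAffine v.ptA.left := inferInstanceAs (IsAffine (Spec (CommRingCat.of v.A)))
  have hf' : IsSeparatedMor (pullback.snd f v.bot) :=
    MorphismProperty.pullback_snd (P := (RepWith (S := S) @IsClosedImmersion).diagonal) f v.bot hf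
  have hX' : IsAlgSpace (pullback f v.bot) := isAlgSpace_pullback hY.diag hX (IsAlgSpace.yon_obj _) f v.bot
  let q₀ : RPt ((yon S).obj v.ptA) e.A' := res e.φ ⟨v.str, 𝟙 _⟩
  have hq₀ : post f l = post v.bot q₀ := by
    refine hl₂.trans ?_
    rw [post_res]
    exact congrArg (res e.φ) (congrArg (RPt.mk v.str) (Category.id_comp _).symm)
  obtain ⟨l₀, h₂, h₁⟩ := exists_lift_of_pullback (IsPullback.of_hasPullback f v.bot) l q₀ hq₀
  have hfst : post (pullback.fst f v.bot) (⟨_, top'⟩ : RPt _ v.K) = ⟨_, v.top⟩ :=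
    congrArg (RPt.mk _) (pullback.lift_fst _ _ _)
  have hsnd : post (pullback.snd f v.bot) (⟨_, top'⟩ : RPt _ v.K) =
      res (algebraMap v.A v.K) ⟨v.str, 𝟙 _⟩ :=
    congrArg (RPt.mk _) ((pullback.lift_snd _ _ _).trans (Category.comp_id _).symm)
  obtain ⟨l', hl₁', hl₂'⟩ := exists_lift_affine hX' hf' v' e' ((domExt_hasLift_iff e').2 ⟨l₀, by
    change res (algebraMap e.A' e.K') l₀ = res e.ψ ⟨_, top'⟩
    refine ext_of_pullback (IsPullback.of_hasPullback f v.bot) ?_ ?_
    · rw [post_res, post_res, h₂, hfst, hl₁]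
    · rw [post_res, post_res, h₁, hsnd, res_res, res_res, e.comm], h₁⟩)
  refine hasLift_of_rpt v (post (pullback.fst f v.bot) l') ?_ ?_
  · rw [← post_res]
    exact (congrArg (post _) hl₁').trans hfst
  · refine (post_post _ _ _).trans ?_
    rw [pullback.condition, ← post_post]
    exact (congrArg (post v.bot) hl₂').trans (congrArg (RPt.mk v.str) (Category.id_comp _))

end Groth.Agent.H12AlgSp
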