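import Groth.Agent.H12AlgSp.Strata.ShrPoints
import Groth.Agent.H12AlgSp.EtRestrictDescent
import Groth.Agent.H12AlgSp.EtStalk

/-!
# The small etale site and its modules do not depend on the base scheme
-/

set_option autoImplicit false
set_option linter.style.haveILetI false
set_option maxHeartbeats 1600000
set_option backward.isDefEq.respectTransparency false
set_option backward.isDefEq.respectTransparency.types false
universe u

open CategoryTheory CategoryTheory.Limits AlgebraicGeometry Opposite
open AlgSp Groth.Agent.H12AlgSp Groth.Agent.H12AlgSp.Shriek Groth.Agent.H12AlgSp.Strata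

namespace Groth.Agent.H12AlgSp.ShrSite

variable {S S' : Scheme.{u}} (g : S ⟶ S') {X : Sp S}

theorem repWith_shrHom {T : Over S} {t : (yon S).obj T ⟶ X} (h : RepWith @Etale t) :
    RepWith @Etale (shrHom g t) :=
  MorphismProperty.RespectsIso.precomp (RepWith @Etale) _ _ ((repWith_shr_iff g @Etale t).2 h)

variable (X) in
/-- An etale chart, regarded over the other base. -/
noncomputable def siteFunctor : EtOver X ⥤ EtOver ((shr g).obj X) where
  obj E := EtOver.mk (shrHom g E.obj.hom) (repWith_shrHom g E.property)
  map {E E'} k := EtOver.homMk ((Over.map g).map k.hom.left) (by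
    change (yon S').map ((Over.map g).map k.hom.left) ≫ shrHom g E'.obj.hom = shrHom g E.obj.hom
    rw [← shrHom_comp, EtOver.w k])
  map_id E := EtOver.hom_ext _ _ ((Over.map g).map_id _)
  map_comp k l := EtOver.hom_ext _ _ ((Over.map g).map_comp _ _)

instance : (siteFunctor g X).Faithful where
  map_injective {E E' k k'} h := EtOver.hom_ext _ _ (Over.OverMorphism.ext
    (congrArg (fun m : (siteFunctor g X).obj E ⟶ (siteFunctor g X).obj E' => m.hom.left.left) h))

instance : (siteFunctor g X).Full where
  map_surjective {E E'} h := by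
    have hw := EtOver.w h
    change (yon S').map h.hom.left ≫ shrHom g E'.obj.hom = shrHom g E.obj.hom at hw
    have hbase : h.hom.left ≫ canS g E'.obj.left = canS g E.obj.left := (yon S').map_injective (by
      have h' := congrArg (· ≫ toBase g X) hw
      simp only [shrHom, Category.assoc, toBase_naturality] at h'
      rwa [← yonIso_toBase E.obj.left, ← yonIso_toBase E'.obj.left, Iso.inv_hom_id_assoc, Iso.inv_hom_id_assoc,
        ← Functor.map_comp] at h')
    let k₀ : E.obj.left ⟶ E'.obj.left := Over.homMk h.hom.left.left (congrArg CommaMorphism.left hbase)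
    have hk₀ : (Over.map g).map k₀ = h.hom.left := Over.OverMorphism.ext rfl
    refine ⟨EtOver.homMk k₀ ((shr g).map_injective ?_), EtOver.hom_ext _ _ hk₀⟩
    rw [← cancel_epi (yonIso g E.obj.left).inv]
    change shrHom g ((yon S).map k₀ ≫ E'.obj.hom) = shrHom g E.obj.hom
    rw [shrHom_comp, hk₀, hw]

instance : (siteFunctor g X).EssSurj where
  mem_essImage E' := by
    obtain ⟨T, e, t, ht⟩ := exists_presentation (g := g) E'.obj.hom
    have ht' : E'.obj.hom = (yon S').map e.hom ≫ shrHom g t := ht
    have hte : RepWith @Etale t := (repWith_shr_iff g @Etale t).1 (by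
      rw [show (shr g).map t = (yonIso g T).hom ≫ (yon S').map e.inv ≫ E'.obj.hom by
        rw [ht', ← Functor.map_comp_assoc, e.inv_hom_id, CategoryTheory.Functor.map_id, Category.id_comp, shrHom,
          Iso.hom_inv_id_assoc]]
      exact MorphismProperty.RespectsIso.precomp (RepWith @Etale) _ _
        (MorphismProperty.RespectsIso.precomp (RepWith @Etale) _ _ E'.property))
    refine ⟨EtOver.mk t hte, ⟨⟨EtOver.homMk e.inv ?_, EtOver.homMk e.hom ht'.symm,
      EtOver.hom_ext _ _ e.inv_hom_id, EtOver.hom_ext _ _ e.hom_inv_id⟩⟩⟩
    change (yon S').map e.inv ≫ E'.obj.hom = shrHom g t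
    rw [ht', ← Functor.map_comp_assoc, e.inv_hom_id, CategoryTheory.Functor.map_id, Category.id_comp]

instance : (siteFunctor g X).IsEquivalence where

instance : (siteFunctor g X).IsDenseSubsite (etTop X) (etTop ((shr g).obj X)) where
  functorPushforward_mem_iff {E R} := by
    constructor
    · intro h
      refine mem_etTop_of_forall_point R fun x => ?_
      obtain ⟨D', k', ⟨D, k, v, hk, hv⟩, y, hy⟩ := jointly_surjective_of_mem_etTop h x
      refine ⟨D, k, v.hom.left.left y, hk, ?_⟩
      rw [hv] at hy
      exact hy
    · intro h
      refine mem_etTop_of_forall_point _ fun x => ?_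
      obtain ⟨D, k, hk, y, hy⟩ := jointly_surjective_of_mem_etTop h x
      exact ⟨_, (siteFunctor g X).map k, y, Sieve.image_mem_functorPushforward _ _ hk, hy⟩

variable (X) in
/-- The site equivalence. -/
noncomputable def siteEquiv : EtOver X ≌ EtOver ((shr g).obj X) := (siteFunctor g X).asEquivalence

instance : (siteEquiv g X).functor.IsContinuous (etTop X) (etTop ((shr g).obj X)) :=
  inferInstanceAs ((siteFunctor g X).IsContinuous _ _)

instance : (siteEquiv g X).inverse.IsContinuous (etTop ((shr g).obj X)) (etTop X) := by
  haveI : (siteEquiv g X).functor.IsCocontinuous (etTop X) (etTop ((shr g).obj X)) :=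
    inferInstanceAs ((siteFunctor g X).IsCocontinuous _ _)
  exact (siteEquiv g X).toAdjunction.isContinuous_of_isCocontinuous _ _

variable (X) in
/-- The structure sheaves agree. -/
noncomputable def ringIso : OEtRing X ≅
    ((siteEquiv g X).functor.sheafPushforwardContinuous RingCat.{u + 1} (etTop X) (etTop ((shr g).obj X))).obj
      (OEtRing ((shr g).obj X)) :=
  ObjectProperty.isoMk _ (NatIso.ofComponents (fun A => Iso.refl _)
    (fun k => (Category.comp_id _).trans (Category.id_comp _).symm))

variable (X) in
/-- Modules do not depend on the base. -/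
noncomputable def modShr : ModEt ((shr g).obj X) ≌ ModEt X :=
  EtRes.modEquiv (siteEquiv g X) _ _ (ringIso g X)

end Groth.Agent.H12AlgSp.ShrSite
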