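import Groth.Agent.H12AlgSp.ShrSite

/-!
# Quasi-coherent and finitely presented modules do not depend on the base scheme
-/

set_option autoImplicit false
set_option linter.style.haveILetI false
set_option maxHeartbeats 1600000
set_option backward.isDefEq.respectTransparency false
set_option backward.isDefEq.respectTransparency.types false
universe u v₁ v₂ u₁ u₂

open CategoryTheory CategoryTheory.Limits AlgebraicGeometry Opposite
open AlgSp Groth.Agent.H12AlgSp Groth.Agent.H12AlgSp.Shriek

namespace Groth.Agent.H12AlgSp.ShrSite

theorem post_isContinuous {C : Type u₁} [Category.{v₁} C] {D : Type u₂} [Category.{v₂} D]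
    {J : GrothendieckTopology C} {K : GrothendieckTopology D} (G : C ⥤ D) [G.IsEquivalence]
    (h : CoverPreserving J K G) (A : C) : (Over.post (X := A) G).IsContinuous (J.over A) (K.over _) := by
  let e := (Over.post (X := A) G).asEquivalence
  have := (e.symm.toAdjunction.isCocontinuous_iff_coverPreserving (J := K.over _) (K := J.over A)).2
    (CoverPreserving.overPost A h)
  exact e.symm.toAdjunction.isContinuous_of_isCocontinuous _ _

variable {S S' : Scheme.{u}} (g : S ⟶ S') {X : Sp S}

theorem coverPreserving_functor : CoverPreserving (etTop X) (etTop ((shr g).obj X)) (siteEquiv g X).functor :=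
  ⟨fun {_ _} h => (Functor.functorPushforward_mem_iff (etTop X) (etTop ((shr g).obj X)) (siteFunctor g X)).2 h⟩

instance : (siteEquiv g X).functor.IsCocontinuous (etTop X) (etTop ((shr g).obj X)) :=
  inferInstanceAs ((siteFunctor g X).IsCocontinuous _ _)

theorem coverPreserving_inverse : CoverPreserving (etTop ((shr g).obj X)) (etTop X) (siteEquiv g X).inverse :=
  (Adjunction.isCocontinuous_iff_coverPreserving _ _ (siteEquiv g X).toAdjunction).1 inferInstance

instance : (siteEquiv g X).inverse.IsCocontinuous (etTop ((shr g).obj X)) (etTop X) :=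
  (Adjunction.isCocontinuous_iff_coverPreserving _ _ (siteEquiv g X).symm.toAdjunction).2 (coverPreserving_functor g)

/-- The unit of a pushforward along an isomorphism of rings. -/
theorem isIso_unitToPushforward {C : Type u₁} [Category.{v₁} C] {D : Type u₂} [Category.{v₂} D]
    {J : GrothendieckTopology C} {K : GrothendieckTopology D} {F : C ⥤ D} [F.IsContinuous J K]
    {R : Sheaf K RingCat.{u}} {R' : Sheaf J RingCat.{u}}
    (φ : R' ⟶ (F.sheafPushforwardContinuous RingCat.{u} J K).obj R) [IsIso φ] :
    IsIso (SheafOfModules.unitToPushforwardObjUnit φ) := by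
  haveI : IsIso φ.hom := inferInstanceAs (IsIso ((sheafToPresheaf _ _).map φ))
  have happ : ∀ A, IsIso ((SheafOfModules.unitToPushforwardObjUnit φ).val.app A) := fun A => by
    rw [ConcreteCategory.isIso_iff_bijective]
    exact (ConcreteCategory.bijective_of_isIso (φ.hom.app A) :)
  haveI : IsIso (SheafOfModules.unitToPushforwardObjUnit φ).val := by
    rw [← isIso_iff_of_reflects_iso _ (PresheafOfModules.toPresheaf _)]
    refine @NatIso.isIso_of_isIso_app _ _ _ _ _ _ _ fun A => ?_
    haveI := happ A
    exact inferInstanceAs (IsIso ((forget₂ (ModuleCat _) AddCommGrpCat).map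
      ((SheafOfModules.unitToPushforwardObjUnit φ).val.app A)))
  haveI : IsIso ((SheafOfModules.forget _).map (SheafOfModules.unitToPushforwardObjUnit φ)) := this
  exact isIso_of_reflects_iso _ (SheafOfModules.forget _)

theorem isQuasicoherent_push_inverse
    (ψ : OEtRing ((shr g).obj X) ⟶ ((siteEquiv g X).inverse.sheafPushforwardContinuous RingCat.{u + 1}
      (etTop ((shr g).obj X)) (etTop X)).obj (OEtRing X)) [IsIso ψ] (M : ModEt X) [M.IsQuasicoherent] :
    ((SheafOfModules.pushforward.{u + 1} ψ).obj M).IsQuasicoherent := by
  have : ∀ A, (Over.post (X := A) (siteEquiv g X).inverse).IsContinuous ((etTop ((shr g).obj X)).over A)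
      ((etTop X).over _) := post_isContinuous _ (coverPreserving_inverse g)
  haveI := isIso_unitToPushforward ψ
  exact SheafOfModules.isQuasicoherent_pushforward_of_isLeftAdjoint.{u + 1} (G := (siteEquiv g X).inverse)
    (φ := ψ) (asIso (SheafOfModules.unitToPushforwardObjUnit ψ)).symm

theorem isFinitePresentation_push_functor
    (φ : OEtRing X ⟶ ((siteEquiv g X).functor.sheafPushforwardContinuous RingCat.{u + 1}
      (etTop X) (etTop ((shr g).obj X))).obj (OEtRing ((shr g).obj X))) [IsIso φ]
    (M : ModEt ((shr g).obj X)) [M.IsFinitePresentation] :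
    ((SheafOfModules.pushforward.{u + 1} φ).obj M).IsFinitePresentation := by
  have : ∀ A, (Over.post (X := A) (siteEquiv g X).functor).IsContinuous ((etTop X).over A)
      ((etTop ((shr g).obj X)).over _) := post_isContinuous _ (coverPreserving_functor g)
  haveI := isIso_unitToPushforward φ
  obtain ⟨q, hq⟩ := SheafOfModules.IsFinitePresentation.exists_quasicoherentData M
  let G := (siteEquiv g X).functor
  have hpres : ∀ (A : EtOver X) (B : EtOver ((shr g).obj X)) (f : G.obj A ⟶ B),
      PreservesColimitsOfSize.{u + 1, u + 1} <|
      SheafOfModules.pushforward.{u + 1} (R := ((OEtRing ((shr g).obj X)).over B))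
        (F := Over.post (X := A) G ⋙ Over.map f)
        (((Over.forget A).sheafPushforwardContinuous RingCat.{u + 1} ((etTop X).over A) (etTop X)).map φ) := by
    intro A B f
    let G' := Over.post (X := A) G ⋙ Over.map f
    have : G'.IsContinuous ((etTop X).over A) ((etTop ((shr g).obj X)).over B) :=
      Functor.isContinuous_comp _ _ _ ((etTop ((shr g).obj X)).over _) _
    have : G'.IsCocontinuous ((etTop X).over A) ((etTop ((shr g).obj X)).over B) :=
      isCocontinuous_comp _ _ _ ((etTop ((shr g).obj X)).over _)
    let a : (OEtRing X).over A ⟶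
        (G'.sheafPushforwardContinuous RingCat.{u + 1} ((etTop X).over A) ((etTop ((shr g).obj X)).over B)).obj
          ((OEtRing ((shr g).obj X)).over B) :=
      ((Over.forget A).sheafPushforwardContinuous RingCat.{u + 1} ((etTop X).over A) (etTop X)).map φ
    have : (SheafOfModules.pushforward.{u + 1} a).IsLeftAdjoint :=
      SheafOfModules.isLeftAdjoint_pushforward_of_isIso a
    infer_instance
  let q' := SheafOfModules.QuasicoherentData.pushforward.{u + 1} G φ
    (asIso (SheafOfModules.unitToPushforwardObjUnit φ)).symm hpres q
  have hf : ∀ i : q'.I, (q'.presentation i).IsFinite := fun i => by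
    haveI := hq.isFinite_presentation i.2.1
    haveI : Finite (q.presentation i.2.1).generators.I :=
      SheafOfModules.GeneratingSections.IsFiniteType.finite
    haveI : Finite (q.presentation i.2.1).relations.I :=
      SheafOfModules.GeneratingSections.IsFiniteType.finite
    exact { isFiniteType_generators := ⟨‹Finite (q.presentation i.2.1).generators.I›⟩
            isFiniteType_relations := ⟨‹Finite (q.presentation i.2.1).relations.I›⟩ }
  have hq' : q'.shrink.IsFinitePresentation  := by
    constructor
    intro i
    exact hf _
  constructor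
  exact ⟨q'.shrink, hq'⟩

theorem isQuasicoherent_inverse (M : ModEt X) [M.IsQuasicoherent] :
    ((modShr g X).inverse.obj M).IsQuasicoherent := by
  refine @isQuasicoherent_push_inverse _ _ g X _ ?_ M _
  have hZ : ∀ Z : (EtOver ((shr g).obj X))ᵒᵖ, IsIso ((OEtRing ((shr g).obj X)).obj.map
      ((siteEquiv g X).counit.app (unop Z)).op ≫
        (ringIso g X).inv.hom.app (op ((siteEquiv g X).inverse.obj (unop Z)))) := fun Z => by
    haveI : IsIso (ringIso g X).inv.hom := inferInstanceAs (IsIso ((sheafToPresheaf _ _).map (ringIso g X).inv))
    infer_instance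
  refine (isIso_iff_of_reflects_iso _ (sheafToPresheaf _ _)).1 ?_
  exact @NatIso.isIso_of_isIso_app _ _ _ _ _ _ _ hZ

theorem isFinitePresentation_functor (M : ModEt ((shr g).obj X)) [M.IsFinitePresentation] :
    ((modShr g X).functor.obj M).IsFinitePresentation :=
  isFinitePresentation_push_functor g _ M

end Groth.Agent.H12AlgSp.ShrSite
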