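import Groth.Prelude.Def_AlgSp
import Groth.Prelude.Def_AlgSpRep
import Mathlib.CategoryTheory.Limits.Types.Pullbacks
import Mathlib.CategoryTheory.Sites.Pullback

/-!
The left adjoint of restriction of fppf sheaves along `Over.map g`: the explicit construction
`T' ↦ Σ φ : T' ⟶ S over S', F (T', φ)`.
-/

set_option linter.unusedVariables false
set_option backward.isDefEq.respectTransparency false

universe u

open CategoryTheory CategoryTheory.Limits AlgebraicGeometry Opposite
open AlgSp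

namespace Groth.Agent.H12AlgSp.Shriek

variable {S S' : Scheme.{u}} (g : S ⟶ S')

/-- Sections over `T'` of the extension of `P` along `g`. -/
abbrev El (P : PSp S) (T' : Over S') : Type (u + 1) :=
  Σ φ : T' ⟶ Over.mk g, P.obj (op (Over.mk φ.left))

variable {g}

/-- The value of a section on a scheme over `S` mapping to the base of the section. -/
def ev {P : PSp S} {T' : Over S'} (σ : El g P T') (W : Over S) (k : W.left ⟶ T'.left)
    (hk : k ≫ σ.1.left = W.hom) : P.obj (op W) :=
  P.map (Over.homMk k hk : W ⟶ Over.mk σ.1.left).op σ.2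

theorem ev_self {P : PSp S} {T' : Over S'} (σ : El g P T') :
    ev σ (Over.mk σ.1.left) (𝟙 T'.left) (Category.id_comp _) = σ.2 := by
  have : (Over.homMk (𝟙 T'.left) (Category.id_comp _) : Over.mk σ.1.left ⟶ Over.mk σ.1.left) = 𝟙 _ :=
    Over.OverMorphism.ext rfl
  exact (congrArg (fun t => P.map t.op σ.2) this).trans (FunctorToTypes.map_id_apply P σ.2)

theorem El.ext {P : PSp S} {T' : Over S'} {σ τ : El g P T'} (h₁ : σ.1 = τ.1)
    (h₂ : ∀ (W : Over S) (k : W.left ⟶ T'.left) (hk : k ≫ σ.1.left = W.hom) (hk' : k ≫ τ.1.left = W.hom),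
      ev σ W k hk = ev τ W k hk') : σ = τ := by
  obtain ⟨φ, a⟩ := σ
  obtain ⟨ψ, b⟩ := τ
  obtain rfl : φ = ψ := h₁
  have := h₂ (Over.mk φ.left) (𝟙 T'.left) (Category.id_comp _) (Category.id_comp _)
  rw [ev_self, ev_self] at this
  exact congrArg (Sigma.mk φ) this

theorem map_ev {P : PSp S} {T' : Over S'} (σ : El g P T') {W W₂ : Over S} (f : W₂ ⟶ W) (k : W.left ⟶ T'.left)
    (hk : k ≫ σ.1.left = W.hom) :
    P.map f.op (ev σ W k hk) = ev σ W₂ (f.left ≫ k) (by rw [Category.assoc, hk, Over.w]) := by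
  have : f ≫ (Over.homMk k hk : W ⟶ Over.mk σ.1.left) =
      Over.homMk (f.left ≫ k) (by rw [Category.assoc]; exact (congrArg (f.left ≫ ·) hk).trans (Over.w f)) :=
    Over.OverMorphism.ext rfl
  unfold ev
  rw [← FunctorToTypes.map_comp_apply, ← op_comp, this]

theorem ev_congr {P : PSp S} {T' : Over S'} {σ τ : El g P T'} (h : σ = τ) {W : Over S} {k k' : W.left ⟶ T'.left}
    (hkk : k = k') (hk : k ≫ σ.1.left = W.hom) (hk' : k' ≫ τ.1.left = W.hom) : ev σ W k hk = ev τ W k' hk' := by
  subst h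
  subst hkk
  rfl

/-- Restriction of sections. -/
def res {P : PSp S} {T T' : Over S'} (h : T ⟶ T') (σ : El g P T') : El g P T :=
  ⟨h ≫ σ.1, ev σ (Over.mk (h ≫ σ.1).left) h.left rfl⟩

theorem ev_res {P : PSp S} {T T' : Over S'} (h : T ⟶ T') (σ : El g P T') (W : Over S) (k : W.left ⟶ T.left)
    (hk : k ≫ (res h σ).1.left = W.hom) :
    ev (res h σ) W k hk = ev σ W (k ≫ h.left) ((Category.assoc _ _ _).trans hk) :=
  map_ev σ (Over.homMk k hk : W ⟶ Over.mk (h ≫ σ.1).left) h.left rfl

theorem res_id {P : PSp S} {T' : Over S'} (σ : El g P T') : res (𝟙 T') σ = σ :=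
  El.ext (Category.id_comp _) fun W k hk hk' => by
    rw [ev_res]
    exact ev_congr rfl (Category.comp_id _) _ _

theorem res_comp {P : PSp S} {T₁ T₂ T₃ : Over S'} (a : T₁ ⟶ T₂) (b : T₂ ⟶ T₃) (σ : El g P T₃) :
    res (a ≫ b) σ = res a (res b σ) :=
  El.ext (Category.assoc _ _ _) fun W k hk hk' => by
    rw [ev_res, ev_res, ev_res]
    exact ev_congr rfl (Category.assoc _ _ _).symm _ _

variable (g)

/-- The extension of a presheaf. -/
def psh (P : PSp S) : PSp S' where
  obj T := El g P T.unop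
  map h := TypeCat.ofHom (res h.unop)
  map_id T := ConcreteCategory.hom_ext _ _ fun σ => res_id σ
  map_comp a b := ConcreteCategory.hom_ext _ _ fun σ => res_comp b.unop a.unop σ

/-- The tautological section of `h_S` over a scheme over `S`. -/
def canS (T : Over S) : (Over.map g).obj T ⟶ Over.mk g := Over.homMk T.hom

theorem isSheaf_psh (F : Sp S) : Presheaf.IsSheaf (J S') (psh g F.obj) := by
  rw [isSheaf_iff_isSheaf_of_type]
  intro T' R hR x hx
  have hY : Presieve.IsSheafFor ((yon S').obj (Over.mk g)).obj R.arrows :=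
    (isSheaf_iff_isSheaf_of_type _ _).1 ((yon S').obj (Over.mk g)).property R hR
  let y : Presieve.FamilyOfElements ((yon S').obj (Over.mk g)).obj R.arrows := fun Z f hf => ULift.up (x f hf).1
  have hy : y.Compatible := fun Y₁ Y₂ Z g₁ g₂ f₁ f₂ h₁ h₂ e =>
    ULift.ext _ _ (congrArg Sigma.fst (hx g₁ g₂ h₁ h₂ e))
  obtain ⟨φ', hφ', hφu⟩ := hY y hy
  let φ : T' ⟶ Over.mk g := φ'.down
  have hφ : ∀ ⦃Z⦄ (f : Z ⟶ T') (hf : R.arrows f), f ≫ φ = (x f hf).1 := fun Z f hf =>
    congrArg ULift.down (hφ' f hf)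
  let e : (Over.map g).obj (Over.mk φ.left) ⟶ T' := Over.homMk (𝟙 T'.left) (by
    change 𝟙 T'.left ≫ T'.hom = φ.left ≫ g
    rw [Category.id_comp]
    exact (Over.w φ).symm)
  let R' : Sieve (Over.mk φ.left) := (R.pullback e).functorPullback (Over.map g)
  have hR' : R' ∈ J S (Over.mk φ.left) := (Over.map g).cover_lift (J S) (J S') ((J S').pullback_stable e hR)
  have hw : ∀ ⦃W⦄ (f : W ⟶ Over.mk φ.left) (hf : R'.arrows f),
      𝟙 W.left ≫ (x ((Over.map g).map f ≫ e) hf).1.left = W.hom := fun W f hf => by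
    rw [Category.id_comp, ← hφ _ hf]
    change (f.left ≫ 𝟙 T'.left) ≫ φ.left = W.hom
    exact (congrArg (· ≫ φ.left) (Category.comp_id f.left)).trans (Over.w f)
  let z : Presieve.FamilyOfElements F.obj R'.arrows := fun W f hf =>
    ev (x ((Over.map g).map f ≫ e) hf) W (𝟙 W.left) (hw f hf)
  have hxs : ∀ ⦃Z Z₂⦄ (f : Z ⟶ T') (hf : R.arrows f) (h : Z₂ ⟶ Z),
      x (h ≫ f) (R.downward_closed hf h) = res h (x f hf) := fun Z Z₂ f hf h =>
    (Presieve.compatible_iff_sieveCompatible x).1 hx f h hf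
  have hz : z.Compatible := (Presieve.compatible_iff_sieveCompatible z).2 fun W W₂ f h hf => by
    change ev _ _ _ _ = F.obj.map h.op (ev _ _ _ _)
    have he : (Over.map g).map (h ≫ f) ≫ e = (Over.map g).map h ≫ (Over.map g).map f ≫ e := by
      rw [Functor.map_comp, Category.assoc]
    have h2 : x ((Over.map g).map (h ≫ f) ≫ e) (R'.downward_closed hf h) =
        res ((Over.map g).map h) (x ((Over.map g).map f ≫ e) hf) := by
      rw [← hxs]
      congr 1
    rw [map_ev]
    refine (ev_congr h2 rfl _ (by rw [← h2]; exact hw (h ≫ f) (R'.downward_closed hf h))).trans ?_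
    rw [ev_res]
    exact ev_congr rfl ((Category.id_comp _).trans (Category.comp_id _).symm) _ _
  obtain ⟨a, ha, hau⟩ := (isSheaf_iff_isSheaf_of_type _ _).1 F.property R' hR' z hz
  have key : ∀ ⦃Z⦄ (f : Z ⟶ T') (hf : R.arrows f) (W : Over S) (k : W.left ⟶ Z.left)
      (hk : k ≫ (x f hf).1.left = W.hom), ∃ (f' : W ⟶ Over.mk φ.left) (hf' : R'.arrows f'),
        f'.left = k ≫ f.left ∧ z f' hf' = ev (x f hf) W k hk := fun Z f hf W k hk => by
    let f' : W ⟶ Over.mk φ.left := Over.homMk (k ≫ f.left) (by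
      rw [Category.assoc, ← hk, ← hφ f hf]
      rfl)
    have hW : W.hom ≫ g = k ≫ Z.hom := by
      rw [← hk, Category.assoc]
      exact congrArg (k ≫ ·) (Over.w (x f hf).1)
    let h : (Over.map g).obj W ⟶ Z := Over.homMk k hW.symm
    have hc : (Over.map g).map f' ≫ e = h ≫ f := Over.OverMorphism.ext (Category.comp_id _)
    have hf' : R'.arrows f' := by
      change R.arrows ((Over.map g).map f' ≫ e)
      rw [hc]
      exact R.downward_closed hf h
    refine ⟨f', hf', rfl, ?_⟩
    have h2 : x ((Over.map g).map f' ≫ e) hf' = res h (x f hf) := by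
      rw [← hxs f hf h]
      congr 1
    refine (ev_congr h2 rfl _ (by rw [← h2]; exact hw f' hf')).trans ?_
    rw [ev_res]
    exact ev_congr rfl (Category.id_comp _) _ _
  refine ⟨⟨φ, a⟩, fun Z f hf => El.ext (hφ f hf) fun W k hk hk' => ?_, fun τ hτ => ?_⟩
  · obtain ⟨f', hf', hl, hz'⟩ := key f hf W k hk'
    change ev (res f ⟨φ, a⟩) W k hk = _
    rw [ev_res, ← hz', ← ha f' hf']
    change F.obj.map (Over.homMk (k ≫ f.left) _ : W ⟶ Over.mk φ.left).op a = F.obj.map f'.op a
    refine congrArg (fun (t : W ⟶ Over.mk φ.left) => F.obj.map t.op a) ?_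
    exact Over.OverMorphism.ext hl.symm
  · obtain ⟨ψ, b⟩ := τ
    have : ULift.up ψ = φ' := hφu (ULift.up ψ) fun Z f hf => ULift.ext _ _ (congrArg Sigma.fst (hτ f hf))
    obtain rfl : ψ = φ := congrArg ULift.down this
    refine congrArg (Sigma.mk φ) (hau b fun W f hf => ?_)
    change F.obj.map f.op b = ev (x ((Over.map g).map f ≫ e) hf) W (𝟙 W.left) (hw f hf)
    refine Eq.trans ?_ (ev_congr (hτ _ hf) rfl
      (show 𝟙 W.left ≫ (res ((Over.map g).map f ≫ e) (⟨φ, b⟩ : El g F.obj T')).1.left = W.hom by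
        change 𝟙 W.left ≫ (f.left ≫ 𝟙 T'.left) ≫ φ.left = W.hom
        rw [Category.id_comp]
        exact (congrArg (· ≫ φ.left) (Category.comp_id f.left)).trans (Over.w f)) _)
    change _ = ev (res ((Over.map g).map f ≫ e) (⟨φ, b⟩ : El g F.obj T')) W (𝟙 W.left) _
    rw [ev_res]
    unfold ev
    refine congrArg (fun (t : W ⟶ Over.mk φ.left) => F.obj.map t.op b) ?_
    exact Over.OverMorphism.ext ((Category.id_comp _).trans (Category.comp_id f.left)).symm

/-- The value of a morphism on sections. -/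
def mapEl {F G : Sp S} (f : F ⟶ G) {T' : Over S'} (σ : El g F.obj T') : El g G.obj T' :=
  ⟨σ.1, f.hom.app _ σ.2⟩

theorem ev_mapEl {F G : Sp S} (f : F ⟶ G) {T' : Over S'} (σ : El g F.obj T') (W : Over S) (k : W.left ⟶ T'.left)
    (hk : k ≫ σ.1.left = W.hom) : ev (mapEl g f σ) W k hk = f.hom.app _ (ev σ W k hk) :=
  (NatTrans.naturality_apply f.hom _ _).symm

/-- The left adjoint of restriction along `Over.map g`. -/
def shr : Sp S ⥤ Sp S' where
  obj F := ⟨psh g F.obj, isSheaf_psh g F⟩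
  map {F G} f :=
    ⟨{ app := fun T => TypeCat.ofHom (mapEl g f)
       naturality := fun T₁ T₂ h => by
        ext σ
        exact El.ext rfl fun W k hk hk' => by
          change ev (mapEl g f (res h.unop σ)) W k hk = ev (res h.unop (mapEl g f σ)) W k hk'
          rw [ev_mapEl, ev_res, ev_res, ev_mapEl] }⟩
  map_id F := by ext T σ; rfl
  map_comp f h := by ext T σ; rfl

/-- The structure map to `h_S`. -/
def toBase (F : Sp S) : (shr g).obj F ⟶ (yon S').obj (Over.mk g) :=
  ⟨{ app := fun T => TypeCat.ofHom fun σ => ULift.up σ.1, naturality := fun _ _ _ => rfl }⟩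

theorem toBase_naturality {F G : Sp S} (f : F ⟶ G) : (shr g).map f ≫ toBase g G = toBase g F := rfl

end Groth.Agent.H12AlgSp.Shriek
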