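import Groth.Agent.H12AlgSp.Shriek
import Groth.Agent.H12AlgSp.Basic

/-!
Extension along `g : S ⟶ S'`: adjunction, representables, pullbacks.
-/

set_option linter.unusedVariables false
set_option backward.isDefEq.respectTransparency false

universe u

open CategoryTheory CategoryTheory.Limits AlgebraicGeometry Opposite
open AlgSp

namespace Groth.Agent.H12AlgSp.Shriek

variable {S S' : Scheme.{u}} {g : S ⟶ S'}

theorem isPullback_iff_sections {A B C D : Sp S} {fst : A ⟶ B} {snd : A ⟶ C} {f : B ⟶ D} {h : C ⟶ D} :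
    IsPullback fst snd f h ↔ fst ≫ f = snd ≫ h ∧ ∀ T : (Over S)ᵒᵖ,
      (∀ x y, fst.hom.app T x = fst.hom.app T y → snd.hom.app T x = snd.hom.app T y → x = y) ∧
      ∀ b c, f.hom.app T b = h.hom.app T c → ∃ a, fst.hom.app T a = b ∧ snd.hom.app T a = c := by
  constructor
  · intro sq
    refine ⟨sq.w, fun T => ?_⟩
    have h' := (Types.isPullback_iff _ _ _ _).1 ((sq.map (sheafToPresheaf _ _)).app T)
    exact ⟨fun x y h₁ h₂ => h'.2.1 x y ⟨h₁, h₂⟩, h'.2.2⟩
  · rintro ⟨w, hT⟩
    refine IsPullback.of_map (sheafToPresheaf _ _) w (IsPullback.of_forall_isPullback_app fun T => ?_)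
    exact (Types.isPullback_iff _ _ _ _).2 ⟨congr((sheafToPresheaf _ _).map $w |>.app T),
      fun x y hxy => (hT T).1 x y hxy.1 hxy.2, (hT T).2⟩

variable (g) in
/-- The tautological section over `T`. -/
def pt {P : PSp S} (T : Over S) (a : P.obj (op T)) : El g P ((Over.map g).obj T) :=
  ⟨canS g T, a⟩

theorem ev_pt {P : PSp S} (T : Over S) (a : P.obj (op T)) (W : Over S) (k : W.left ⟶ T.left)
    (hk : k ≫ (pt g T a).1.left = W.hom) : ev (pt g T a) W k hk = P.map (Over.homMk k hk : W ⟶ T).op a := rfl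

theorem ev_pt_self {P : PSp S} (T : Over S) (a : P.obj (op T)) (h) : ev (pt g T a) T (𝟙 T.left) h = a := by
  rw [ev_pt]
  exact (congrArg (fun t : T ⟶ T => P.map t.op a) (Over.OverMorphism.ext rfl)).trans
    (FunctorToTypes.map_id_apply P a)

theorem pt_injective {P : PSp S} (T : Over S) {a b : P.obj (op T)} (h : pt g T a = pt g T b) : a = b := by
  rw [← ev_pt_self (g := g) T a (Category.id_comp _), ← ev_pt_self (g := g) T b (Category.id_comp _)]
  exact ev_congr h rfl _ _

theorem res_map_pt {P : PSp S} {T T₂ : Over S} (h : T₂ ⟶ T) (a : P.obj (op T)) :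
    res ((Over.map g).map h) (pt g T a) = pt g T₂ (P.map h.op a) :=
  El.ext (Over.OverMorphism.ext (Over.w h)) fun W k hk hk' => by
    rw [ev_res, ev_pt, ev_pt, ← FunctorToTypes.map_comp_apply, ← op_comp]
    exact congrArg (fun t : W ⟶ T => P.map t.op a) (Over.OverMorphism.ext rfl)

/-- A scheme over `S'` mapping to `S`, as a scheme coming from `S`. -/
def eBase {T' : Over S'} (φ : T' ⟶ Over.mk g) : T' ≅ (Over.map g).obj (Over.mk φ.left) :=
  Over.isoMk (Iso.refl _) (by
    change 𝟙 T'.left ≫ φ.left ≫ g = T'.hom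
    rw [Category.id_comp]
    exact Over.w φ)

theorem eq_res_pt {P : PSp S} {T' : Over S'} (σ : El g P T') :
    σ = res (eBase σ.1).hom (pt g (Over.mk σ.1.left) σ.2) :=
  El.ext (Over.OverMorphism.ext (Category.id_comp _).symm) fun W k hk hk' => by
    rw [ev_res, ev_pt]
    exact congrArg (fun t : W ⟶ Over.mk σ.1.left => P.map t.op σ.2)
      (Over.OverMorphism.ext (Category.comp_id k).symm)

theorem shr_hom_ext {F : Sp S} {H : Sp S'} {f f' : (shr g).obj F ⟶ H}
    (h : ∀ (T : Over S) (a : F.obj.obj (op T)),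
      f.hom.app (op ((Over.map g).obj T)) (pt g T a) = f'.hom.app (op ((Over.map g).obj T)) (pt g T a)) :
    f = f' := by
  apply CategoryTheory.Sheaf.hom_ext
  apply NatTrans.ext
  funext T'
  refine ConcreteCategory.hom_ext _ _ fun σ => ?_
  obtain ⟨T'⟩ := T'
  have hn : ∀ q : (shr g).obj F ⟶ H, q.hom.app (op T') σ = H.obj.map (eBase σ.1).hom.op
      (q.hom.app (op ((Over.map g).obj (Over.mk σ.1.left))) (pt g (Over.mk σ.1.left) σ.2)) := fun q => by
    conv_lhs => rw [eq_res_pt σ]
    exact NatTrans.naturality_apply q.hom (eBase σ.1).hom.op (pt g (Over.mk σ.1.left) σ.2)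
  rw [hn f, hn f', h]

theorem ev_natural {F : Sp S} {T₂ T₁ : Over S'} (h : T₂ ⟶ T₁) (σ : El g F.obj T₁) {G : Sp S'}
    (k : F ⟶ (Scheme.fppfTopology.overMapPullback (Type (u + 1)) g).obj G) :
    G.obj.map (eBase (res h σ).1).hom.op (k.hom.app (op (Over.mk (res h σ).1.left)) (res h σ).2) =
      G.obj.map h.op (G.obj.map (eBase σ.1).hom.op (k.hom.app (op (Over.mk σ.1.left)) σ.2)) := by
  let j : Over.mk (res h σ).1.left ⟶ Over.mk σ.1.left := Over.homMk h.left rfl
  have h1 : k.hom.app (op (Over.mk (res h σ).1.left)) (res h σ).2 =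
      G.obj.map ((Over.map g).map j).op (k.hom.app (op (Over.mk σ.1.left)) σ.2) :=
    NatTrans.naturality_apply k.hom j.op σ.2
  rw [h1, ← FunctorToTypes.map_comp_apply, ← FunctorToTypes.map_comp_apply, ← op_comp, ← op_comp]
  exact congrArg (fun t : T₂ ⟶ (Over.map g).obj (Over.mk σ.1.left) =>
      G.obj.map t.op (k.hom.app (op (Over.mk σ.1.left)) σ.2))
    (Over.OverMorphism.ext ((Category.id_comp _).trans (Category.comp_id _).symm))

variable (g) in
/-- `shr g` is left adjoint to restriction. -/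
def adj : shr g ⊣ Scheme.fppfTopology.overMapPullback (Type (u + 1)) g :=
  Adjunction.mkOfHomEquiv
    { homEquiv := fun F G =>
        { toFun := fun f => ⟨{
            app := fun T => TypeCat.ofHom fun a => f.hom.app (op ((Over.map g).obj T.unop)) (pt g T.unop a)
            naturality := fun T T₂ h => ConcreteCategory.hom_ext _ _ fun a => by
              change f.hom.app _ (pt g T₂.unop (F.obj.map h a)) = G.obj.map ((Over.map g).map h.unop).op (f.hom.app _ (pt g T.unop a))
              exact (congrArg (fun x => f.hom.app (op ((Over.map g).obj T₂.unop)) x) (res_map_pt h.unop a).symm).trans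
                (NatTrans.naturality_apply f.hom ((Over.map g).map h.unop).op (pt g T.unop a)) }⟩
          invFun := fun k => ⟨{
            app := fun T => TypeCat.ofHom fun σ => G.obj.map (eBase σ.1).hom.op (k.hom.app (op (Over.mk σ.1.left)) σ.2)
            naturality := fun T₁ T₂ h => ConcreteCategory.hom_ext _ _ fun σ => ev_natural h.unop σ k }⟩
          left_inv := fun f => shr_hom_ext fun T a => by
            change G.obj.map _ (f.hom.app _ (pt g _ a)) = _
            refine (congrArg (fun t => G.obj.map t (f.hom.app _ (pt g T a)))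
              (show (eBase (canS g T)).hom.op = 𝟙 (op ((Over.map g).obj T)) from
                congrArg Quiver.Hom.op (Over.OverMorphism.ext rfl))).trans ?_
            exact FunctorToTypes.map_id_apply G.obj _
          right_inv := fun k => by
            apply CategoryTheory.Sheaf.hom_ext
            apply NatTrans.ext
            funext T
            refine ConcreteCategory.hom_ext _ _ fun a => ?_
            refine (congrArg (fun t => G.obj.map t (k.hom.app T a))
              (show (eBase (canS g T.unop)).hom.op = 𝟙 (op ((Over.map g).obj T.unop)) from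
                congrArg Quiver.Hom.op (Over.OverMorphism.ext rfl))).trans ?_
            exact FunctorToTypes.map_id_apply G.obj _ }
      homEquiv_naturality_left_symm := fun f k => shr_hom_ext fun T a => rfl
      homEquiv_naturality_right := fun f k => rfl }

theorem map_pt {F G : Sp S} (f : F ⟶ G) (T : Over S) (a : F.obj.obj (op T)) :
    ((shr g).map f).hom.app (op ((Over.map g).obj T)) (pt g T a) = pt g T (f.hom.app (op T) a) := rfl

variable (g) in
/-- `shr g` on representables. -/
def yonHom (X : Over S) : (shr g).obj ((yon S).obj X) ⟶ (yon S').obj ((Over.map g).obj X) :=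
  ⟨{ app := fun T => TypeCat.ofHom fun σ => ULift.up (Over.homMk σ.2.down.left (by
      change σ.2.down.left ≫ X.hom ≫ g = T.unop.hom
      rw [← Category.assoc, Over.w σ.2.down]
      exact Over.w σ.1))
     naturality := fun T₁ T₂ h => rfl }⟩

variable (g) in
/-- `shr g` takes `h_X` to `h` of `X` over `S'`. -/
def yonIso (X : Over S) : (shr g).obj ((yon S).obj X) ≅ (yon S').obj ((Over.map g).obj X) where
  hom := yonHom g X
  inv := (J S').uliftYonedaEquiv.symm (pt g (P := ((yon S).obj X).obj) X (ULift.up (𝟙 X)) :)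
  hom_inv_id := shr_hom_ext fun T a => by
    obtain ⟨a⟩ := a
    change res _ (pt g (P := ((yon S).obj X).obj) X (ULift.up (𝟙 X))) = pt g (P := ((yon S).obj X).obj) T (ULift.up a)
    refine (congrArg (fun t => res t (pt g (P := ((yon S).obj X).obj) X (ULift.up (𝟙 X))))
      (show _ = (Over.map g).map a from Over.OverMorphism.ext rfl)).trans ((res_map_pt a _).trans ?_)
    exact congrArg (pt g T) (ULift.ext _ _ (Category.comp_id a))
  inv_hom_id := (J S').uliftYonedaEquiv.injective (ULift.ext _ _ (Over.OverMorphism.ext (Category.id_comp _)))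

theorem yonIso_naturality {X Y : Over S} (f : X ⟶ Y) :
    (shr g).map ((yon S).map f) ≫ (yonIso g Y).hom = (yonIso g X).hom ≫ (yon S').map ((Over.map g).map f) :=
  shr_hom_ext fun T a => ULift.ext _ _ (Over.OverMorphism.ext (by rfl))

theorem yonIso_toBase (X : Over S) :
    (yonIso g X).hom ≫ (yon S').map (canS g X) = toBase g _ :=
  shr_hom_ext fun T a => ULift.ext _ _ (Over.OverMorphism.ext (by exact Over.w a.down))

theorem exists_map {F G : Sp S} (q : (shr g).obj F ⟶ (shr g).obj G) (hq : q ≫ toBase g G = toBase g F) :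
    ∃ r : F ⟶ G, (shr g).map r = q := by
  let σ : ∀ (T : Over S), F.obj.obj (op T) → El g G.obj ((Over.map g).obj T) := fun T a =>
    q.hom.app (op ((Over.map g).obj T)) (pt g T a)
  have h1 : ∀ T a, (σ T a).1 = canS g T := fun T a =>
    congrArg ULift.down (congr($(hq).hom.app (op ((Over.map g).obj T)) (pt g T a)))
  have hw : ∀ T a, 𝟙 T.left ≫ (σ T a).1.left = T.hom := fun T a => by
    rw [h1]
    exact Category.id_comp _
  have hn : ∀ {T₂ T : Over S} (h : T₂ ⟶ T) a, σ T₂ (F.obj.map h.op a) = res ((Over.map g).map h) (σ T a) :=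
    fun {T₂ T} h a => by
      change q.hom.app _ (pt g T₂ (F.obj.map h.op a)) = _
      exact (congrArg (fun x => q.hom.app (op ((Over.map g).obj T₂)) x) (res_map_pt h a).symm).trans
        (NatTrans.naturality_apply q.hom ((Over.map g).map h).op (pt g T a))
  refine ⟨⟨{ app := fun T => TypeCat.ofHom fun a => ev (σ T.unop a) T.unop (𝟙 _) (hw _ a)
             naturality := fun T T₂ h => ConcreteCategory.hom_ext _ _ fun a => ?_ }⟩, shr_hom_ext fun T a => ?_⟩
  · change ev (σ T₂.unop (F.obj.map h a)) T₂.unop (𝟙 _) _ = G.obj.map h (ev (σ T.unop a) T.unop (𝟙 _) _)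
    refine (ev_congr (hn h.unop a) rfl _ (by rw [← hn]; exact hw _ _)).trans ?_
    rw [ev_res]
    refine Eq.trans ?_ (map_ev (σ T.unop a) h.unop (𝟙 _) (hw _ a)).symm
    exact ev_congr rfl ((Category.id_comp _).trans (Category.comp_id _).symm) _ _
  · refine El.ext (h1 T a).symm fun W k hk hk' => ?_
    change ev (pt g T (ev (σ T a) T (𝟙 _) _)) W k hk = ev (σ T a) W k hk'
    rw [ev_pt, map_ev]
    exact ev_congr rfl (Category.comp_id k) _ _

instance : (shr g).Faithful where
  map_injective {F G} f f' h := by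
    apply CategoryTheory.Sheaf.hom_ext
    apply NatTrans.ext
    funext T
    exact ConcreteCategory.hom_ext _ _ fun a =>
      pt_injective T.unop (congrArg (fun q : (shr g).obj F ⟶ (shr g).obj G =>
        q.hom.app (op ((Over.map g).obj T.unop)) (pt g T.unop a)) h)

theorem isPullback_shr_iff {A B C D : Sp S} {fst : A ⟶ B} {snd : A ⟶ C} {f : B ⟶ D} {h : C ⟶ D} :
    IsPullback ((shr g).map fst) ((shr g).map snd) ((shr g).map f) ((shr g).map h) ↔ IsPullback fst snd f h := by
  rw [isPullback_iff_sections, isPullback_iff_sections]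
  constructor
  · rintro ⟨w, hT⟩
    refine ⟨(shr g).map_injective (by rw [Functor.map_comp, Functor.map_comp, w]), fun T => ⟨fun x y h₁ h₂ => ?_, fun b c e => ?_⟩⟩
    · exact pt_injective (g := g) T.unop ((hT (op ((Over.map g).obj T.unop))).1 _ _
        (congrArg (pt g T.unop) h₁) (congrArg (pt g T.unop) h₂))
    · obtain ⟨⟨φ, a⟩, h₁, h₂⟩ := (hT (op ((Over.map g).obj T.unop))).2 (pt g T.unop b) (pt g T.unop c)
        (congrArg (pt g T.unop) e)
      obtain rfl : φ = canS g T.unop := congrArg Sigma.fst h₁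
      exact ⟨a, pt_injective T.unop h₁, pt_injective T.unop h₂⟩
  · rintro ⟨w, hT⟩
    refine ⟨by rw [← Functor.map_comp, ← Functor.map_comp, w], fun T' => ⟨fun x y h₁ h₂ => ?_, fun b c e => ?_⟩⟩
    · obtain ⟨φ, a⟩ := x
      obtain ⟨ψ, a'⟩ := y
      obtain rfl : φ = ψ := congrArg Sigma.fst h₁
      exact congrArg (Sigma.mk φ) ((hT (op (Over.mk φ.left))).1 a a'
        (eq_of_heq (Sigma.mk.inj h₁).2) (eq_of_heq (Sigma.mk.inj h₂).2))
    · obtain ⟨φ, b⟩ := b
      obtain ⟨ψ, c⟩ := c
      obtain rfl : φ = ψ := congrArg Sigma.fst e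
      obtain ⟨a, h₁, h₂⟩ := (hT (op (Over.mk φ.left))).2 b c (eq_of_heq (Sigma.mk.inj e).2)
      exact ⟨⟨φ, a⟩, congrArg (Sigma.mk φ) h₁, congrArg (Sigma.mk φ) h₂⟩

theorem exists_presentation {G : Sp S} {T' : Over S'} (q : (yon S').obj T' ⟶ (shr g).obj G) :
    ∃ (T : Over S) (e : T' ≅ (Over.map g).obj T) (t : (yon S).obj T ⟶ G),
      q = (yon S').map e.hom ≫ (yonIso g T).inv ≫ (shr g).map t := by
  let σ : El g G.obj T' := (J S').uliftYonedaEquiv q
  refine ⟨Over.mk σ.1.left, eBase σ.1, ((J S).uliftYonedaEquiv.symm σ.2 : (yon S).obj (Over.mk σ.1.left) ⟶ G), (J S').uliftYonedaEquiv.injective ?_⟩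
  change σ = mapEl g ((J S).uliftYonedaEquiv.symm σ.2 : (yon S).obj (Over.mk σ.1.left) ⟶ G)
    (res (𝟙 T' ≫ (eBase σ.1).hom) (pt g (P := ((yon S).obj (Over.mk σ.1.left)).obj) (Over.mk σ.1.left) (ULift.up (𝟙 _))))
  rw [Category.id_comp]
  refine (eq_res_pt σ).trans (El.ext rfl fun W k hk hk' => ?_)
  rw [ev_mapEl, ev_res, ev_res, ev_pt, ev_pt]
  exact congrArg (fun t : W ⟶ Over.mk σ.1.left => G.obj.map t.op σ.2) (Category.comp_id _).symm

end Groth.Agent.H12AlgSp.Shriek
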