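import Groth.Agent.H29Slice.Core
import Groth.Agent.H17.Fibre
import Mathlib.RingTheory.Ideal.AssociatedPrime.Localization
import Mathlib.RingTheory.KrullDimension.NonZeroDivisors
import Mathlib.RingTheory.Jacobson.Ring
import Mathlib.RingTheory.Jacobson.Artinian

/-!
Choosing a slicing element inside a prescribed ring of functions.
-/

universe u

open CategoryTheory CategoryTheory.Limits AlgebraicGeometry

namespace Groth.Agent.H12AlgSp.SliceAlg

/-- A non-maximal prime not containing `z` is contained in infinitely many maximal ideals avoiding `z`. -/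
theorem infinite_maximal_above {F : Type u} [CommRing F] [IsJacobsonRing F] {P : Ideal F} (hP : P.IsPrime)
    (hPm : ¬ P.IsMaximal) {z : F} (hz : z ∉ P) : ¬ {m : Ideal F | P ≤ m ∧ m.IsMaximal ∧ z ∉ m}.Finite := by
  intro hfin
  have hle : hfin.toFinset.inf id ≤ P := by
    intro a ha
    have : z * a ∈ P := by
      rw [← IsJacobsonRing.out ‹IsJacobsonRing F› hP.isRadical]
      refine Ideal.mem_sInf.2 fun {m} hm => ?_
      by_cases hzm : z ∈ m
      · exact m.mul_mem_right a hzm
      · exact m.mul_mem_left z ((Finset.inf_le (f := id) (hfin.mem_toFinset.2 ⟨hm.1, hm.2, hzm⟩) : _ ≤ m) ha)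
    exact (hP.mem_or_mem this).resolve_left hz
  obtain ⟨m, hm, hmP⟩ := (Ideal.IsPrime.inf_le' hP).mp hle
  obtain ⟨hPm', hmmax, -⟩ := hfin.mem_toFinset.mp hm
  exact hPm (le_antisymm hmP hPm' ▸ hmmax)

/-- A slicing element: regular near a maximal ideal of positive height. -/
theorem exists_slice_elem {k F : Type u} [Field k] [CommRing F] [Algebra k F] [Algebra.FiniteType k F]
    {C : Type u} [CommRing C] (g : C →+* F)
    (hfin : ∀ m : Ideal F, m.IsMaximal → {m' : Ideal F | m'.IsMaximal ∧ m'.comap g = m.comap g}.Finite)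
    (hloc : ∀ m : Ideal F, m.IsMaximal → ∃ h ∉ m.comap g, ∀ Q : Ideal C, Q.IsPrime → m.comap g ≤ Q → h ∉ Q →
      Q = m.comap g)
    (hdim : ¬ Ring.KrullDimLE 0 F) :
    ∃ (m : Ideal F) (f h : C), m.IsMaximal ∧ g f ∈ m ∧ g h ∉ m ∧
      algebraMap F (Localization.Away (g h)) (g f) ∈ nonZeroDivisors (Localization.Away (g h)) := by
  classical
  have : IsNoetherianRing F := Algebra.FiniteType.isNoetherianRing k F
  have : IsJacobsonRing F := isJacobsonRing_of_finiteType (A := k)
  obtain ⟨P, hP, hPm⟩ : ∃ P : Ideal F, P.IsPrime ∧ ¬ P.IsMaximal := by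
    by_contra hh
    push Not at hh
    exact hdim (Ring.krullDimLE_zero_iff.2 hh)
  have h1 : (1 : F) ∉ P := fun h => hP.ne_top (P.eq_top_iff_one.2 h)
  let bad : Set (Ideal F) := ⋃ Q ∈ {Q ∈ associatedPrimes F F | Q.IsMaximal},
    {m' : Ideal F | m'.IsMaximal ∧ m'.comap g = Q.comap g}
  have hbad : bad.Finite := ((associatedPrimes.finite F F).subset fun Q hQ => hQ.1).biUnion fun Q hQ => hfin Q hQ.2
  obtain ⟨m, ⟨-, hm, -⟩, hmb⟩ := (Set.not_subset).mp fun hh => infinite_maximal_above hP hPm h1 (hbad.subset hh)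
  obtain ⟨h, hh, hhmax⟩ := hloc m hm
  let T := ((associatedPrimes.finite F F).subset (Set.sep_subset _ (fun Q => g h ∉ Q))).toFinset
  have havoid : ∀ Q ∈ T, ¬ m.comap g ≤ Q.comap g := by
    intro Q hQ hle
    rw [Set.Finite.mem_toFinset] at hQ
    have hQp : Q.IsPrime := (hQ.1 : IsAssociatedPrime Q F).isPrime
    have he : Q.comap g = m.comap g := hhmax _ inferInstance hle hQ.2
    by_cases hQm : Q.IsMaximal
    · exact hmb (Set.mem_biUnion (x := Q) ⟨hQ.1, hQm⟩ ⟨hm, he.symm⟩)
    · refine infinite_maximal_above hQp hQm (show g h ∉ Q from hQ.2) ((hfin m hm).subset ?_)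
      rintro m' ⟨hQm', hm', hhm'⟩
      refine ⟨hm', hhmax _ inferInstance ?_ hhm'⟩
      rw [← he]
      exact Ideal.comap_mono hQm'
  have hnot : ¬ ((m.comap g : Ideal C) : Set C) ⊆ ⋃ Q ∈ (T : Set (Ideal F)), ((Q.comap g : Ideal C) : Set C) := by
    intro hsub
    obtain ⟨Q, hQ, hle⟩ := (Ideal.subset_union_prime_finite T.finite_toSet (f := fun Q : Ideal F => Q.comap g) ⊥ ⊥
      (fun Q hQ _ _ => by
        have hQ' := (Set.Finite.mem_toFinset _).1 (Finset.mem_coe.1 hQ)
        have : Q.IsPrime := (hQ'.1 : IsAssociatedPrime Q F).isPrime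
        exact inferInstance)).mp hsub
    exact havoid Q hQ hle
  obtain ⟨f, hf, hfT⟩ := Set.not_subset.mp hnot
  refine ⟨m, f, h, hm, hf, hh, mem_nonZeroDivisors_iff_right.2 fun y hy => ?_⟩
  let L := Localization.Away (g h)
  have : IsNoetherianRing L := IsLocalization.isNoetherianRing (Submonoid.powers (g h)) L inferInstance
  by_contra hy0
  obtain ⟨P', hP', hle⟩ := exists_le_isAssociatedPrime_of_isNoetherianRing L y hy0
  have hfP' : algebraMap F L (g f) ∈ P' := hle (by
    rw [Submodule.mem_colon_singleton, smul_eq_mul, mul_comm, hy]; exact zero_mem _)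
  have hass : P'.comap (algebraMap F L) ∈ associatedPrimes F F :=
    Module.associatedPrimes.comap_mem_associatedPrimes_of_mem_associatedPrimes_of_isLocalizedModule_of_fg
      (Submonoid.powers (g h)) (Algebra.linearMap F L) P' hP' (IsNoetherian.noetherian _)
  have hgh : g h ∉ P'.comap (algebraMap F L) := fun hc => hP'.isPrime.ne_top
    (P'.eq_top_of_isUnit_mem hc (IsLocalization.Away.algebraMap_isUnit (g h)))
  exact hfT (Set.mem_biUnion (x := P'.comap (algebraMap F L))
    (Finset.mem_coe.2 ((Set.Finite.mem_toFinset _).2 ⟨hass, hgh⟩)) hfP')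

/-- The fibre over a maximal ideal of a finite type algebra, of dimension zero: all its points are quasi-finite. -/
theorem quasiFiniteAt_of_krullDimLE_zero {A B : Type u} [CommRing A] [CommRing B] [Algebra A B]
    [Algebra.FiniteType A B] (mA : Ideal A) [mA.IsMaximal] [Ring.KrullDimLE 0 (B ⧸ mA.map (algebraMap A B))]
    (q : PrimeSpectrum B) (hq : mA.map (algebraMap A B) ≤ q.asIdeal) :
    (Spec.map (CommRingCat.ofHom (algebraMap A B))).QuasiFiniteAt q := by
  let f := Spec.map (CommRingCat.ofHom (algebraMap A B))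
  have : LocallyOfFiniteType f := (HasRingHomProperty.Spec_iff (P := @LocallyOfFiniteType)).2
    (RingHom.finiteType_algebraMap.2 ‹_›)
  rw [H17.quasiFiniteAt_iff_isClosed_and_max]
  have hfib : ∀ z : f.fiber (f q), mA.map (algebraMap A B) ≤ (f.fiberι (f q) z).asIdeal ∧
      (f.fiberι (f q) z).asIdeal.IsMaximal := by
    intro z
    have hz : f (f.fiberι (f q) z) = f q := (f.range_fiberι (f q)).subset ⟨z, rfl⟩
    have hfq : (f q).asIdeal = mA := by
      change q.asIdeal.comap (algebraMap A B) = mA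
      exact ((Ideal.IsMaximal.eq_of_le ‹_› (Ideal.IsPrime.comap _).ne_top (Ideal.map_le_iff_le_comap.1 hq))).symm
    have hle : mA.map (algebraMap A B) ≤ (f.fiberι (f q) z).asIdeal := by
      rw [Ideal.map_le_iff_le_comap]
      exact hfq.symm.le.trans (congrArg PrimeSpectrum.asIdeal hz).symm.le
    refine ⟨hle, ?_⟩
    have := (f.fiberι (f q) z).2
    have hp : ((f.fiberι (f q) z).asIdeal.map (Ideal.Quotient.mk (mA.map (algebraMap A B)))).IsPrime :=
      Ideal.map_isPrime_of_surjective Ideal.Quotient.mk_surjective (by rw [Ideal.mk_ker]; exact hle)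
    have hmax := Ring.krullDimLE_zero_iff.1 ‹_› _ hp
    have := hmax
    have := Ideal.comap_isMaximal_of_surjective (Ideal.Quotient.mk (mA.map (algebraMap A B))) Ideal.Quotient.mk_surjective
      (K := (f.fiberι (f q) z).asIdeal.map (Ideal.Quotient.mk (mA.map (algebraMap A B))))
    rwa [Ideal.comap_map_of_surjective _ Ideal.Quotient.mk_surjective, ← RingHom.ker_eq_comap_bot, Ideal.mk_ker,
      sup_eq_left.2 hle] at this
  have hT1 : ∀ a b : f.fiber (f q), a ⤳ b → a = b := fun a b hab => by
    refine (f.fiberι (f q)).isEmbedding.injective (PrimeSpectrum.ext ?_)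
    exact (hfib a).2.eq_of_le (f.fiberι (f q) b).2.ne_top
      ((PrimeSpectrum.le_iff_specializes _ _).2 (hab.map (f.fiberι (f q)).continuous))
  refine ⟨?_, fun x' hx' => hT1 _ _ hx'⟩
  have : ({f.asFiber q} : Set (f.fiber (f q))) = f.fiberι (f q) ⁻¹' {q} := by
    ext z
    simp only [Set.mem_preimage, Set.mem_singleton_iff]
    refine ⟨fun e => by rw [e, Scheme.Hom.fiberι_asFiber]; rfl,
      fun e => (f.fiberι (f q)).isEmbedding.injective (by rw [e, Scheme.Hom.fiberι_asFiber])⟩
  rw [this]
  refine IsClosed.preimage (f.fiberι (f q)).continuous ?_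
  have hqm := (hfib (f.asFiber q)).2
  rw [Scheme.Hom.fiberι_asFiber] at hqm
  exact (PrimeSpectrum.isClosed_singleton_iff_isMaximal q).2 hqm

/-- Cutting by a function commutes with base change. -/
theorem isPullback_quotient {C B : Type u} [CommRing C] [CommRing B] (g : C →+* B) (f : C) :
    IsPullback (Spec.map (CommRingCat.ofHom (Ideal.Quotient.mk (Ideal.span {g f}))))
      (Spec.map (CommRingCat.ofHom (Ideal.Quotient.lift (Ideal.span {f}) ((Ideal.Quotient.mk (Ideal.span {g f})).comp g)
        (fun a ha => by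
          obtain ⟨c, rfl⟩ := Ideal.mem_span_singleton'.1 ha
          exact Ideal.Quotient.eq_zero_iff_mem.2 (Ideal.mem_span_singleton'.2 ⟨g c, (map_mul g c f).symm⟩)))))
      (Spec.map (CommRingCat.ofHom g)) (Spec.map (CommRingCat.ofHom (Ideal.Quotient.mk (Ideal.span {f})))) := by
  refine isPullback_SpecMap_of_isPushout _ _ _ _ ?_
  refine ⟨⟨CommRingCat.hom_ext (RingHom.ext fun c => rfl)⟩, ⟨PushoutCocone.isColimitAux' _ fun s => ?_⟩⟩
  have hs : ∀ c, s.inl.hom (g c) = s.inr.hom (Ideal.Quotient.mk _ c) := fun c =>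
    ConcreteCategory.congr_hom s.condition c
  refine ⟨CommRingCat.ofHom (Ideal.Quotient.lift (Ideal.span {g f}) s.inl.hom fun a ha => ?_), ?_, ?_, fun {m} h₁ _ => ?_⟩
  · obtain ⟨c, rfl⟩ := Ideal.mem_span_singleton'.1 ha
    rw [map_mul, hs, Ideal.Quotient.eq_zero_iff_mem.2 (Ideal.mem_span_singleton_self f), map_zero, mul_zero]
  · rfl
  · exact CommRingCat.hom_ext (Ideal.Quotient.ringHom_ext (RingHom.ext fun c => hs c))
  · exact CommRingCat.hom_ext (Ideal.Quotient.ringHom_ext (RingHom.ext fun b => ConcreteCategory.congr_hom h₁ b))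

/-- A map with injective map of spectra does not increase the dimension. -/
theorem ringKrullDim_le_of_injective_comap {R T : Type u} [CommRing R] [CommRing T] (φ : R →+* T)
    (h : Function.Injective (PrimeSpectrum.comap φ)) : ringKrullDim T ≤ ringKrullDim R :=
  Order.krullDim_le_of_strictMono (PrimeSpectrum.comap φ) fun a b hab =>
    lt_of_le_of_ne (Ideal.comap_mono hab.le) fun e => hab.ne (h e)

end Groth.Agent.H12AlgSp.SliceAlg
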