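import Groth.Agent.H12AlgSp.FppfSlice
import Groth.Agent.S1883
import Groth.Agent.H12AlgSp.FiniteTypePoints

/-!
Fibres of two field valued points of finite type in a sheaf with a flat chart are zero-dimensional.
-/

set_option linter.unusedVariables false
set_option backward.isDefEq.respectTransparency false

universe u

open CategoryTheory CategoryTheory.Limits AlgebraicGeometry Opposite TopologicalSpace
open AlgSp Groth.Agent.H13AlgSp

namespace Groth.Agent.H12AlgSp.Slice

variable {S : Scheme.{u}} {F : Sp S}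

theorem lqf_of_dim_le_zero {X : Scheme.{u}} {K : Type u} [Field K] (f : X ⟶ Spec (CommRingCat.of K))
    [LocallyOfFiniteType f] (h : topologicalKrullDim X ≤ 0) : LocallyQuasiFinite f := by
  have hT : ∀ a b : X, a ⤳ b → a = b := by
    intro a b hab
    by_contra hne
    let A : TopologicalSpace.IrreducibleCloseds X :=
      ⟨closure {b}, isIrreducible_singleton.closure, isClosed_closure⟩
    let B : TopologicalSpace.IrreducibleCloseds X :=
      ⟨closure {a}, isIrreducible_singleton.closure, isClosed_closure⟩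
    have hle : A ≤ B := specializes_iff_closure_subset.1 hab
    have hlt : A < B := lt_of_le_of_ne hle fun e => hne (hab.antisymm (by
      rw [specializes_iff_closure_subset]
      exact (congrArg (fun Z : TopologicalSpace.IrreducibleCloseds X => (Z : Set X)) e).ge)).eq
    exact absurd h (not_le.2 (Order.krullDim_pos_iff.2 ⟨A, B, hlt⟩))
  refine (f.quasiFiniteLocus_eq_top_iff).1 (top_unique fun x _ => ?_)
  change f.QuasiFiniteAt x
  rw [H17.quasiFiniteAt_iff_isClosed_and_max]
  have hι := (f.fiberι (f x)).isEmbedding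
  refine ⟨?_, fun x' hx' => hι.injective (hT _ _ (hx'.map (f.fiberι (f x)).continuous))⟩
  have hx : IsClosed ({x} : Set X) := closure_subset_iff_isClosed.1 fun y hy =>
    Set.mem_singleton_iff.2 (hT x y (specializes_iff_mem_closure.2 hy)).symm
  have : ({f.asFiber x} : Set (f.fiber (f x))) = f.fiberι (f x) ⁻¹' {x} := by
    ext z
    simp only [Set.mem_preimage, Set.mem_singleton_iff]
    exact ⟨fun e => by rw [e, Scheme.Hom.fiberι_asFiber],
      fun e => hι.injective (by rw [e, Scheme.Hom.fiberι_asFiber])⟩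
  rw [this]
  exact hx.preimage (f.fiberι (f x)).continuous

/-- The relation of a finite type field valued point with itself is zero-dimensional. -/
theorem lqf_relation {K : Type u} [Field K] {x R : Over S} (eK : x.left ≅ Spec (CommRingCat.of K))
    {e : (yon S).obj x ⟶ F} (he : RepWith @LocallyOfFiniteType e) {t s : R ⟶ x}
    (sq : IsPullback ((yon S).map t) ((yon S).map s) e e) : LocallyQuasiFinite s.left := by
  have hsl : LocallyOfFiniteType s.left := he.property _ _ s sq
  have htl : LocallyOfFiniteType t.left := he.property _ _ t sq.flip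
  obtain ⟨Γ, hΓU, hΓR, hpU, hs, ht, hj⟩ := Hilb.exists_groupoid sq
  obtain ⟨U₀, R₀, pU, pR, s₀, t₀, e₀, i₀, c₀, sO, tO, cs, ct, as, es, et, ce, ec, is', it', ci, ic⟩ := Γ
  dsimp only at hΓU hΓR hpU hs ht
  subst hΓU hΓR
  simp only [eqToHom_refl, Category.id_comp, Category.comp_id] at hpU hs ht
  subst hpU hs ht
  let Γ : Grpd.GroupoidScheme S := ⟨x.left, R.left, x.hom, pR, s.left, t.left, e₀, i₀, c₀, sO, tO, cs, ct, as, es, et,
    ce, ec, is', it', ci, ic⟩
  have : LocallyOfFiniteType Γ.s := hsl
  have : LocallyOfFiniteType Γ.t := htl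
  have hmj : Mono Γ.j := hj
  have hdim := S1883.result S Γ K eK
  have : Mono Γ.stabilizerToU := inferInstanceAs (Mono (pullback.snd Γ.j Γ.diag))
  have hsec : Γ.eStab ≫ Γ.stabilizerToU = 𝟙 _ := pullback.lift_snd _ _ _
  have : IsIso Γ.stabilizerToU :=
    ⟨Γ.eStab, by rw [← cancel_mono Γ.stabilizerToU, Category.assoc, hsec, Category.comp_id, Category.id_comp], hsec⟩
  let φ := asIso Γ.stabilizerToU ≪≫ eK
  have h0 : topologicalKrullDim Γ.stabilizer ≤ 0 := by
    refine le_trans φ.hom.homeomorph.isInducing.topologicalKrullDim_le ?_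
    exact (PrimeSpectrum.topologicalKrullDim_eq_ringKrullDim K).le.trans (ringKrullDim_eq_zero_of_field K).le
  have hR : topologicalKrullDim R.left ≤ 0 := hdim.le.trans h0
  have hq : LocallyQuasiFinite (s.left ≫ eK.hom) := lqf_of_dim_le_zero (s.left ≫ eK.hom) hR
  exact LocallyQuasiFinite.of_comp s.left eK.hom

/-- The fibre product of two field valued points, one of them of finite type, is locally quasi-finite over the
other, provided it is locally of finite type over it. -/
theorem lqf_fibreProduct {K k : Type u} [Field K] [Field k] {x y P : Over S}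
    (eK : x.left ≅ Spec (CommRingCat.of K)) (ek : y.left ≅ Spec (CommRingCat.of k))
    {e : (yon S).obj x ⟶ F} {β : (yon S).obj y ⟶ F} (he : RepWith @LocallyOfFiniteType e) {π₁ : P ⟶ x} {π₂ : P ⟶ y}
    (sqP : IsPullback ((yon S).map π₁) ((yon S).map π₂) e β) : LocallyQuasiFinite π₂.left := by
  have hl : LocallyOfFiniteType π₂.left := he.property _ _ π₂ sqP
  rcases isEmpty_or_nonempty P.left with hP | ⟨⟨z⟩⟩
  · exact (π₂.left.quasiFiniteLocus_eq_top_iff).1 (top_unique fun z _ => (hP.false z).elim)
  obtain ⟨R, ρ₁, ρ₂', sqR⟩ := he.rep e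
  obtain ⟨ρ₂, rfl⟩ := (yon S).map_surjective ρ₂'
  have hρ := lqf_relation eK he sqR
  let Q := pullback π₂ π₂
  let q₂ : Q ⟶ P := pullback.fst π₂ π₂
  let q₁ : Q ⟶ P := pullback.snd π₂ π₂
  have sqQ : IsPullback ((yon S).map (q₂ ≫ π₁)) ((yon S).map q₁) e ((yon S).map π₁ ≫ e) := by
    rw [sqP.w, Functor.map_comp]
    exact ((IsPullback.of_hasPullback π₂ π₂).map (yon S)).paste_horiz sqP
  let l' := sqR.lift ((yon S).map (q₂ ≫ π₁)) ((yon S).map (q₁ ≫ π₁))
    (by rw [sqQ.w, (yon S).map_comp q₁ π₁, Category.assoc])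
  have sql : IsPullback l' ((yon S).map q₁) ((yon S).map ρ₁) ((yon S).map π₁) :=
    IsPullback.of_right (by rw [IsPullback.lift_fst]; exact sqQ)
      (by rw [IsPullback.lift_snd, (yon S).map_comp q₁ π₁]) sqR
  obtain ⟨l, hl'⟩ := (yon S).map_surjective l'
  rw [← hl'] at sql
  have sql' : IsPullback l.left q₁.left ρ₁.left π₁.left :=
    (IsPullback.of_map_of_faithful (yon S) sql).map (Over.forget S)
  have hq₁ : LocallyQuasiFinite q₁.left := MorphismProperty.of_isPullback sql' hρ
  let f := π₂.left ≫ ek.hom
  have : LocallyOfFiniteType f := inferInstance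
  have : Flat f := inferInstance
  have hs : Subsingleton (Spec (CommRingCat.of k)) := inferInstanceAs (Subsingleton (PrimeSpectrum k))
  have hfp : LocallyOfFinitePresentation f := inferInstance
  have hsur : Surjective f := ⟨fun v => ⟨z, Subsingleton.elim _ _⟩⟩
  have hQ : IsPullback q₁.left (q₂).left π₂.left π₂.left :=
    ((IsPullback.of_hasPullback π₂ π₂).map (Over.forget S)).flip
  have hff : fppfMor π₂.left := by
    rw [show π₂.left = f ≫ ek.inv by simp [f]]
    exact ⟨⟨inferInstance, inferInstance⟩, inferInstance⟩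
  exact MorphismProperty.of_isPullback_of_descendsAlong hQ hff hq₁

end Groth.Agent.H12AlgSp.Slice
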