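import Groth.Agent.H12AlgSp.SliceStep

/-!
A flat, lfp, surjective chart can be replaced by a quasi-finite one.
-/

set_option linter.unusedVariables false
set_option backward.isDefEq.respectTransparency false

universe u

open CategoryTheory CategoryTheory.Limits AlgebraicGeometry Opposite TopologicalSpace
open AlgSp Groth.Agent.H13AlgSp

namespace Groth.Agent.H12AlgSp.Slice

variable {S : Scheme.{u}} {F : Sp S} {U : Over S} {p : (yon S).obj U ⟶ F}

theorem hasLqfNbhd_of_maximal (hp : RepWith fppfMor p) {A : Type u} [CommRing A]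
    (jA : Spec (CommRingCat.of A) ⟶ U.left) [IsOpenImmersion jA] (mA : Ideal A) [hmA : mA.IsMaximal] :
    HasLqfNbhd p (jA ⟨mA, hmA.isPrime⟩) := by
  obtain ⟨R, t, s', sq'⟩ := hp.rep p
  obtain ⟨s, rfl⟩ := (yon S).map_surjective s'
  have hid : (yon S).map (𝟙 U) ≫ p = p := by rw [CategoryTheory.Functor.map_id, Category.id_comp]
  have sq : IsPullback ((yon S).map s) ((yon S).map t) ((yon S).map (𝟙 U) ≫ p) p := by rw [hid]; exact sq'
  obtain ⟨⟨ht, -⟩, -⟩ := hp.property p ((yon S).map s) t sq'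
  have : Surjective t.left := ht
  let u : Spec (CommRingCat.of A) := (⟨mA, hmA.isPrime⟩ : PrimeSpectrum A)
  obtain ⟨r, hr⟩ := t.left.surjective (jA u)
  obtain ⟨_, ⟨O, hO, rfl⟩, hrO, -⟩ := U.left.isBasis_affineOpens.exists_subset_of_mem_open
    (Set.mem_univ (s.left r)) isOpen_univ
  obtain ⟨_, ⟨V, hV, rfl⟩, hrV, hVle⟩ := R.left.isBasis_affineOpens.exists_subset_of_mem_open
    (show r ∈ (t.left ⁻¹ᵁ jA.opensRange ⊓ s.left ⁻¹ᵁ O : R.left.Opens) from ⟨⟨u, hr.symm⟩, hrO⟩)
    (t.left ⁻¹ᵁ jA.opensRange ⊓ s.left ⁻¹ᵁ O : R.left.Opens).2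
  let B : Type u := Γ(R.left, V)
  let C : Type u := Γ(U.left, O)
  let jB : Spec (CommRingCat.of B) ⟶ R.left := hV.fromSpec
  let jC : Spec (CommRingCat.of C) ⟶ U.left := hO.fromSpec
  let g : C →+* B := (s.left.appLE O V fun x hx => (hVle hx).2).hom
  have hC : jB ≫ s.left = Spec.map (CommRingCat.ofHom g) ≫ jC :=
    (IsAffineOpen.SpecMap_appLE_fromSpec s.left hO hV (fun x hx => (hVle hx).2)).symm
  let l : Spec (CommRingCat.of B) ⟶ Spec (CommRingCat.of A) := IsOpenImmersion.lift jA (jB ≫ t.left) (by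
    rintro _ ⟨b, rfl⟩
    refine (hVle (?_ : jB b ∈ V)).1
    exact hV.range_fromSpec.le ⟨b, rfl⟩)
  have hl : l ≫ jA = jB ≫ t.left := IsOpenImmersion.lift_fac _ _ _
  obtain ⟨a, ha⟩ := Spec.map_surjective l
  let := a.hom.toAlgebra
  have hB : jB ≫ t.left = Spec.map (CommRingCat.ofHom (algebraMap A B)) ≫ jA := by
    rw [← hl, ← ha]; rfl
  obtain ⟨b, hb⟩ : ∃ b, jB b = r := hV.range_fromSpec.ge hrV
  have hbu : b.asIdeal.comap (algebraMap A B) = mA := by
    have : Spec.map (CommRingCat.ofHom (algebraMap A B)) b = u := jA.injective (by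
      rw [← Scheme.Hom.comp_apply, ← hB, Scheme.Hom.comp_apply, hb, hr])
    exact congrArg PrimeSpectrum.asIdeal this
  have hne : mA.map (algebraMap A B) ≠ ⊤ :=
    ne_top_of_le_ne_top b.2.ne_top (Ideal.map_le_iff_le_comap.2 hbu.ge)
  have hfp : RepWith (@Flat ⊓ @LocallyOfFinitePresentation) p := repWith_le (fun _ _ _ h => ⟨h.1.2, h.2⟩) hp
  have : LocallyOfFinitePresentation t.left := (hfp.property p ((yon S).map s) t sq').2
  have : LocallyOfFiniteType l := by
    have : LocallyOfFiniteType (l ≫ jA) := by rw [hl]; infer_instance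
    exact locallyOfFiniteType_of_comp l jA
  have : Algebra.FiniteType A B := RingHom.finiteType_algebraMap.1
    ((HasRingHomProperty.Spec_iff (P := @LocallyOfFiniteType)).1
      (show LocallyOfFiniteType (Spec.map (CommRingCat.ofHom (algebraMap A B))) from ha ▸ ‹LocallyOfFiniteType l›))
  let := Ideal.Quotient.field mA
  have : Algebra.FiniteType (A ⧸ mA) (B ⧸ mA.map (algebraMap A B)) := by
    have : Algebra.FiniteType A (B ⧸ mA.map (algebraMap A B)) :=
      Algebra.FiniteType.of_surjective (Ideal.Quotient.mkₐ A _) Ideal.Quotient.mk_surjective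
    exact Algebra.FiniteType.of_restrictScalars_finiteType A (A ⧸ mA) _
  obtain ⟨n, hn⟩ := ringKrullDim_finiteType (A ⧸ mA) (B ⧸ mA.map (algebraMap A B))
  exact hasLqfNbhd_of_dim_le hp jA mA n U R (𝟙 U) t s sq (by rw [hid]; exact hfp) B C g jB jC hB hC hne hn

/-- The set of points with a quasi-finite neighbourhood contains every point. -/
theorem hasLqfNbhd (hp : RepWith fppfMor p) (x : U.left) : HasLqfNbhd p x := by
  obtain ⟨_, ⟨O, hO, rfl⟩, hxO, -⟩ := U.left.isBasis_affineOpens.exists_subset_of_mem_open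
    (Set.mem_univ x) isOpen_univ
  let A : Type u := Γ(U.left, O)
  let jA : Spec (CommRingCat.of A) ⟶ U.left := hO.fromSpec
  obtain ⟨a, ha⟩ : ∃ a, jA a = x := hO.range_fromSpec.ge hxO
  obtain ⟨m, hm, hle⟩ := Ideal.exists_le_maximal a.asIdeal a.2.ne_top
  obtain ⟨W, R, ι, t, s, sq, hw, hu⟩ := hasLqfNbhd_of_maximal hp jA m
  refine ⟨W, R, ι, t, s, sq, hw, ?_⟩
  obtain ⟨⟨htf, htp⟩, -⟩ := hw.property p ((yon S).map s) t sq
  have : Flat t.left := htf
  have : LocallyOfFinitePresentation t.left := htp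
  have hs : x ⤳ jA ⟨m, hm.isPrime⟩ := by
    rw [← ha]
    exact ((PrimeSpectrum.le_iff_specializes a (⟨m, hm.isPrime⟩ : PrimeSpectrum A)).1 hle).map jA.continuous
  exact hs.mem_open t.left.isOpenMap.isOpen_range hu

/-- A flat, lfp, surjective chart may be replaced by a locally quasi-finite one over it. -/
theorem exists_lqf_chart (hp : RepWith fppfMor p) :
    ∃ (U' : Over S) (g : U' ⟶ U),
      RepWith ((@Flat ⊓ @LocallyOfFinitePresentation : MorphismProperty Scheme.{u}) ⊓ @LocallyQuasiFinite)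
        ((yon S).map g ≫ p) ∧ RepWith @Surjective ((yon S).map g ≫ p) := by
  have hall := hasLqfNbhd hp
  choose W Rx ι tx sx sqx hwx hux using hall
  let X : U.left → Scheme.{u} := fun x => (W x).left
  let U' : Over S := Over.mk (Sigma.desc fun x => (W x).hom)
  let inc : ∀ x, W x ⟶ U' := fun x => Over.homMk (Sigma.ι X x) (Sigma.ι_desc _ _)
  let g : U' ⟶ U := Over.homMk (Sigma.desc fun x => (ι x).left) (Sigma.hom_ext _ _ fun x => by
    rw [← Category.assoc, Sigma.ι_desc]
    exact (Over.w (ι x)).trans (Sigma.ι_desc (fun x => (W x).hom) x).symm)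
  have hg : ∀ x, inc x ≫ g = ι x := fun x => Over.OverMorphism.ext (Sigma.ι_desc _ _)
  obtain ⟨R, t, s₀', sq₀⟩ := hp.rep p
  obtain ⟨s₀, rfl⟩ := (yon S).map_surjective s₀'
  let R' := pullback g s₀
  let s' : R' ⟶ U' := pullback.fst g s₀
  let t' : R' ⟶ U := pullback.snd g s₀ ≫ t
  have sq' : IsPullback ((yon S).map s') ((yon S).map t') ((yon S).map g ≫ p) p := by
    rw [Functor.map_comp]
    exact ((IsPullback.of_hasPullback g s₀).map (yon S)).paste_vert sq₀
  let cov := (sigmaOpenCover X).pullback₁ s'.left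
  have piece : ∀ x, ((@Flat ⊓ @LocallyOfFinitePresentation : MorphismProperty Scheme.{u}) ⊓ @LocallyQuasiFinite)
      ((pullback.fst s' (inc x)).left ≫ t'.left) := by
    intro x
    refine (hwx x).property p ((yon S).map (pullback.snd s' (inc x))) (pullback.fst s' (inc x) ≫ t') ?_
    rw [(yon S).map_comp (pullback.fst s' (inc x)) t', ← hg x, (yon S).map_comp (inc x) g, Category.assoc]
    exact ((IsPullback.of_hasPullback s' (inc x)).flip.map (yon S)).paste_vert sq'
  have pieceP : ∀ (P : MorphismProperty Scheme.{u}) [IsZariskiLocalAtSource P] [P.RespectsIso],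
      (∀ x, P ((pullback.fst s' (inc x)).left ≫ t'.left)) → P t'.left := by
    intro P _ _ h
    refine IsZariskiLocalAtSource.of_openCover cov fun x => ?_
    have sq : IsPullback (pullback.fst s' (inc x)).left (pullback.snd s' (inc x)).left s'.left (Sigma.ι X x) :=
      (IsPullback.of_hasPullback s' (inc x)).map (Over.forget S)
    change P (pullback.fst s'.left (Sigma.ι X x) ≫ t'.left)
    have e : sq.isoPullback.inv ≫ (pullback.fst s' (inc x)).left = pullback.fst s'.left (Sigma.ι X x) :=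
      sq.isoPullback_inv_fst
    rw [← e, Category.assoc]
    exact (P.cancel_left_of_respectsIso _ _).2 (h x)
  have hrep : Representable ((yon S).map g ≫ p) := MorphismProperty.comp_mem _ _ _ (representable_yon_map g) hp.1
  have hsur : Surjective t'.left := ⟨fun x => by
    obtain ⟨r, hr⟩ := hux x
    obtain ⟨l', hl₁, hl₂⟩ := sq'.exists_lift ((yon S).map (sx x ≫ inc x)) ((yon S).map (tx x)) (by
      rw [← Category.assoc, ← Functor.map_comp, Category.assoc (sx x), hg, (yon S).map_comp (sx x) (ι x),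
        Category.assoc, (sqx x).w])
    obtain ⟨l, rfl⟩ := (yon S).map_surjective l'
    have hl : l ≫ t' = tx x := (yon S).map_injective (by rw [Functor.map_comp, hl₂])
    refine ⟨l.left r, ?_⟩
    rw [← Scheme.Hom.comp_apply, ← Over.comp_left, hl, hr]⟩
  refine ⟨U', g, repWith_inf_iff.2 ⟨repWith_inf_iff.2 ⟨?_, ?_⟩, ?_⟩, ?_⟩
  · exact repWith_of_saturated hrep hp sq' _ (pieceP @Flat fun x => (piece x).1.1)
  · exact repWith_of_saturated hrep hp sq' _ (pieceP @LocallyOfFinitePresentation fun x => (piece x).1.2)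
  · exact repWith_of_saturated hrep hp sq' _ (pieceP @LocallyQuasiFinite fun x => (piece x).2)
  · exact repWith_of_saturated hrep hp sq' _ hsur

/-- Artin's theorem for a chart: a sheaf with a flat, lfp, surjective representable chart is an algebraic space. -/
theorem isAlgSpace_of_fppf_chart (hp : RepWith fppfMor p) : IsAlgSpace F := by
  obtain ⟨U', g, h, hs⟩ := exists_lqf_chart hp
  exact isAlgSpace_of_lqf_chart _ h hs

end Groth.Agent.H12AlgSp.Slice
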