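import Groth.Agent.H12AlgSp.SliceFibre
import Groth.Agent.H12AlgSp.SliceAlg
import Groth.Agent.H13AlgSp.LocPDescent
import Mathlib.RingTheory.KrullDimension.Polynomial

/-!
Slicing a flat, locally finitely presented map `h_W ⟶ F` down to a quasi-finite one.
-/

set_option linter.unusedVariables false
set_option backward.isDefEq.respectTransparency false

universe u

open CategoryTheory CategoryTheory.Limits AlgebraicGeometry Opposite TopologicalSpace
open AlgSp Groth.Agent.H13AlgSp

namespace Groth.Agent.H12AlgSp.Slice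

variable {S : Scheme.{u}} {F : Sp S} {U : Over S}

/-- There is a flat, lfp, quasi-finite map from a scheme over `U` whose image contains `u`. -/
def HasLqfNbhd (p : (yon S).obj U ⟶ F) (u : U.left) : Prop :=
  ∃ (W R : Over S) (ι : W ⟶ U) (t : R ⟶ U) (s : R ⟶ W),
    IsPullback ((yon S).map s) ((yon S).map t) ((yon S).map ι ≫ p) p ∧
    RepWith ((@Flat ⊓ @LocallyOfFinitePresentation : MorphismProperty Scheme.{u}) ⊓ @LocallyQuasiFinite)
      ((yon S).map ι ≫ p) ∧ u ∈ Set.range t.left

theorem add_one_cancel {a : WithBot ℕ∞} {n : ℕ} (h : a + 1 ≤ ((n + 1 : ℕ) : WithBot ℕ∞)) :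
    a ≤ (n : WithBot ℕ∞) := by
  induction a with
  | bot => exact bot_le
  | coe a =>
    change ((a + 1 : ℕ∞) : WithBot ℕ∞) ≤ (((n + 1 : ℕ) : ℕ∞) : WithBot ℕ∞) at h
    change ((a : ℕ∞) : WithBot ℕ∞) ≤ (((n : ℕ) : ℕ∞) : WithBot ℕ∞)
    rw [WithBot.coe_le_coe] at h ⊢
    exact (ENat.add_le_add_iff_right ENat.one_ne_top).1 (by exact_mod_cast h)

theorem ringKrullDim_finiteType (k F : Type u) [Field k] [CommRing F] [Algebra k F] [Algebra.FiniteType k F] :
    ∃ n : ℕ, ringKrullDim F ≤ n := by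
  obtain ⟨n, f, hf⟩ := Algebra.FiniteType.iff_quotient_mvPolynomial''.1 ‹Algebra.FiniteType k F›
  refine ⟨n, (ringKrullDim_le_of_surjective f.toRingHom hf).trans ?_⟩
  rw [MvPolynomial.ringKrullDim_of_isNoetherianRing, ringKrullDim_eq_zero_of_field k]
  simp

/-- Flatness at the points of an open subscheme on which the map is flat. -/
theorem flat_stalkMap_of_comp {X Y Z : Scheme.{u}} (i : X ⟶ Y) [IsOpenImmersion i] (f : Y ⟶ Z)
    [Flat (i ≫ f)] (x : X) : (f.stalkMap (i x)).hom.Flat := by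
  have h := Flat.stalkMap (i ≫ f) x
  rw [Scheme.Hom.stalkMap_comp, CommRingCat.hom_comp] at h
  exact (RingHom.Flat.respectsIso.cancel_right_isIso (f.stalkMap (i x)) (i.stalkMap x)).1 h

theorem representable_open {W : Over S} (O : W.left.Opens) {w : (yon S).obj W ⟶ F} (hw : Representable w) :
    Representable ((yon S).map (openIncl W O) ≫ w) :=
  MorphismProperty.comp_mem _ _ _ (representable_yon_map _) hw

variable {p : (yon S).obj U ⟶ F}

/-- The base case: the fibre has dimension zero. -/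
theorem hasLqfNbhd_of_dim_zero (hp : RepWith fppfMor p) {W R : Over S} {ι : W ⟶ U} {t : R ⟶ U} {s : R ⟶ W}
    (sq : IsPullback ((yon S).map s) ((yon S).map t) ((yon S).map ι ≫ p) p)
    (hw : RepWith (@Flat ⊓ @LocallyOfFinitePresentation) ((yon S).map ι ≫ p))
    {A B : Type u} [CommRing A] [CommRing B] [Algebra A B] [Algebra.FiniteType A B]
    (jA : Spec (CommRingCat.of A) ⟶ U.left) [IsOpenImmersion jA]
    (jB : Spec (CommRingCat.of B) ⟶ R.left) [IsOpenImmersion jB]
    (hB : jB ≫ t.left = Spec.map (CommRingCat.ofHom (algebraMap A B)) ≫ jA)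
    (mA : Ideal A) [hmA : mA.IsMaximal] (hne : mA.map (algebraMap A B) ≠ ⊤)
    [Ring.KrullDimLE 0 (B ⧸ mA.map (algebraMap A B))] :
    HasLqfNbhd p (jA ⟨mA, hmA.isPrime⟩) := by
  obtain ⟨htf, htp⟩ := hw.property p ((yon S).map s) t sq
  obtain ⟨⟨-, hsf⟩, hsp⟩ := hp.property ((yon S).map ι ≫ p) ((yon S).map t) s sq.flip
  have : Flat t.left := htf
  have : LocallyOfFinitePresentation t.left := htp
  have : Flat s.left := hsf
  have : LocallyOfFinitePresentation s.left := hsp
  obtain ⟨q, hq, hle⟩ := Ideal.exists_le_maximal _ hne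
  let x : Spec (CommRingCat.of B) := ⟨q, hq.isPrime⟩
  have hqf : t.left.QuasiFiniteAt (jB x) := by
    rw [← Scheme.Hom.quasiFiniteAt_comp_iff_of_isOpenImmersion, hB, Scheme.Hom.quasiFiniteAt_comp_iff]
    exact SliceAlg.quasiFiniteAt_of_krullDimLE_zero mA _ hle
  let O : W.left.Opens := ⟨s.left '' (t.left.quasiFiniteLocus : Set R.left),
    s.left.isOpenMap _ t.left.quasiFiniteLocus.2⟩
  obtain ⟨s', -, sq'⟩ := exists_restrict sq O
  let t' := openIncl R (s.left ⁻¹ᵁ O) ≫ t
  have hqft : LocallyQuasiFinite t'.left := by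
    have : LocallyOfFiniteType t'.left := inferInstanceAs (LocallyOfFiniteType ((s.left ⁻¹ᵁ O).ι ≫ t.left))
    refine (t'.left.quasiFiniteLocus_eq_top_iff).1 (top_unique fun z _ => ?_)
    change ((s.left ⁻¹ᵁ O).ι ≫ t.left).QuasiFiniteAt z
    rw [Scheme.Hom.quasiFiniteAt_comp_iff_of_isOpenImmersion]
    obtain ⟨z', hz', e⟩ := z.2
    exact qf_saturated (repWith_le (fun _ _ _ h => h.1.2) hp) sq e hz'
  have hrep := representable_open O hw.1
  refine ⟨_, _, openIncl W O ≫ ι, t', s', ?_, ?_, ?_⟩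
  · rw [(yon S).map_comp (openIncl W O) ι, Category.assoc]
    exact sq'
  · rw [(yon S).map_comp (openIncl W O) ι, Category.assoc]
    exact repWith_inf_iff.2 ⟨repWith_comp ((repWith_yon_map_iff _ _).2
      (⟨inferInstanceAs (Flat O.ι), inferInstanceAs (LocallyOfFinitePresentation O.ι)⟩ :
        (@Flat ⊓ @LocallyOfFinitePresentation : MorphismProperty Scheme.{u}) (openIncl W O).left)) hw,
      repWith_of_saturated hrep hp sq' _ hqft⟩
  · refine ⟨⟨jB x, ⟨jB x, hqf, rfl⟩⟩, ?_⟩
    change ((s.left ⁻¹ᵁ O).ι ≫ t.left) ⟨jB x, _⟩ = _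
    rw [Scheme.Hom.comp_apply]
    change t.left (jB x) = _
    rw [← Scheme.Hom.comp_apply, hB, Scheme.Hom.comp_apply]
    refine congrArg jA (PrimeSpectrum.ext ?_)
    exact (Ideal.IsMaximal.eq_of_le hmA (Ideal.IsPrime.comap _).ne_top (Ideal.map_le_iff_le_comap.1 hle)).symm

/-- Finiteness and local maximality of the images of the closed points of a fibre. -/
theorem fibre_conditions {W R : Over S} {ι : W ⟶ U} {t : R ⟶ U} {s : R ⟶ W}
    (sq : IsPullback ((yon S).map s) ((yon S).map t) ((yon S).map ι ≫ p) p)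
    (hw : RepWith @LocallyOfFiniteType ((yon S).map ι ≫ p)) [LocallyOfFiniteType s.left]
    {A B C : Type u} [CommRing A] [CommRing B] [CommRing C] [Algebra A B]
    (jA : Spec (CommRingCat.of A) ⟶ U.left)
    (jB : Spec (CommRingCat.of B) ⟶ R.left) [IsOpenImmersion jB]
    (jC : Spec (CommRingCat.of C) ⟶ W.left) [IsOpenImmersion jC] (g : C →+* B)
    (hB : jB ≫ t.left = Spec.map (CommRingCat.ofHom (algebraMap A B)) ≫ jA)
    (hC : jB ≫ s.left = Spec.map (CommRingCat.ofHom g) ≫ jC)
    (mA : Ideal A) [hmA : mA.IsMaximal] [Algebra.FiniteType A B]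
    (m : Ideal (B ⧸ mA.map (algebraMap A B))) (hm : m.IsMaximal) :
    (∃ h ∉ m.comap ((Ideal.Quotient.mk _).comp g), ∀ Q : Ideal C, Q.IsPrime →
      m.comap ((Ideal.Quotient.mk _).comp g) ≤ Q → h ∉ Q → Q = m.comap ((Ideal.Quotient.mk _).comp g)) ∧
    {m' : Ideal (B ⧸ mA.map (algebraMap A B)) | m'.IsMaximal ∧ m'.comap ((Ideal.Quotient.mk _).comp g) =
      m.comap ((Ideal.Quotient.mk _).comp g)}.Finite := by
  let I := mA.map (algebraMap A B)
  let g' : C →+* B ⧸ I := (Ideal.Quotient.mk I).comp g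
  let K := (B ⧸ I) ⧸ m
  let := Ideal.Quotient.field m
  let π : B →+* K := (Ideal.Quotient.mk m).comp (Ideal.Quotient.mk I)
  let φ : C →+* K := (Ideal.Quotient.mk m).comp g'
  let iK := Spec.map (CommRingCat.ofHom π)
  let iF := Spec.map (CommRingCat.ofHom (Ideal.Quotient.mk I))
  let cF := Spec.map (CommRingCat.ofHom g')
  let cK := Spec.map (CommRingCat.ofHom φ)
  have hcF : cF ≫ jC = iF ≫ jB ≫ s.left := by
    rw [hC, ← Category.assoc, ← Spec.map_comp, ← CommRingCat.ofHom_comp]
  have hcK : cK ≫ jC = iK ≫ jB ≫ s.left := by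
    rw [hC, ← Category.assoc, ← Spec.map_comp, ← CommRingCat.ofHom_comp]
    rfl
  have : IsClosedImmersion iK := IsClosedImmersion.spec_of_surjective _
    (Ideal.Quotient.mk_surjective.comp Ideal.Quotient.mk_surjective)
  have : IsClosedImmersion iF := IsClosedImmersion.spec_of_surjective _ Ideal.Quotient.mk_surjective
  have : LocallyOfFiniteType (cK ≫ jC) := by rw [hcK]; infer_instance
  have hcKl : LocallyOfFiniteType cK := locallyOfFiniteType_of_comp cK jC
  constructor
  · have hφ : φ.FiniteType := (HasRingHomProperty.Spec_iff (P := @LocallyOfFiniteType)).1 hcKl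
    obtain ⟨c, hc, hmax⟩ := exists_away_maximal φ hφ
    have hker : m.comap g' = RingHom.ker φ := by
      rw [← RingHom.comap_ker, Ideal.mk_ker]
    refine ⟨c, fun h => hc ((RingHom.mem_ker).1 (hker ▸ h)), fun Q hQ hle hcQ => ?_⟩
    exact (hmax Q hQ (hker ▸ hle) hcQ).trans hker.symm
  · let := Ideal.Quotient.field mA
    let k := A ⧸ mA
    let x : Over S := Over.mk ((cK ≫ jC) ≫ W.hom)
    let xW : x ⟶ W := Over.homMk (cK ≫ jC) rfl
    let cy := Spec.map (CommRingCat.ofHom (Ideal.Quotient.mk mA)) ≫ jA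
    let y : Over S := Over.mk (cy ≫ U.hom)
    let yU : y ⟶ U := Over.homMk cy rfl
    have he : RepWith @LocallyOfFiniteType ((yon S).map xW ≫ (yon S).map ι ≫ p) :=
      repWith_comp ((repWith_yon_map_iff _ _).2 (show LocallyOfFiniteType xW.left from ‹_›)) hw
    obtain ⟨P, π₂, π₁', sqP⟩ := he.rep ((yon S).map yU ≫ p)
    obtain ⟨π₁, rfl⟩ := (yon S).map_surjective π₁'
    have hqf := lqf_fibreProduct (K := K) (k := k) (Iso.refl _) (Iso.refl _) he sqP
    let ρ' := sq.lift ((yon S).map (π₁ ≫ xW)) ((yon S).map (π₂ ≫ yU)) (by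
      rw [Functor.map_comp, Functor.map_comp, Category.assoc, Category.assoc, sqP.w])
    obtain ⟨ρ, hρ⟩ := (yon S).map_surjective ρ'
    let Z₀ := pullback cF cK
    let zF := pullback.fst cF cK
    let zK := pullback.snd cF cK
    let Z : Over S := Over.mk ((zF ≫ iF ≫ jB) ≫ R.hom)
    let zR : Z ⟶ R := Over.homMk (zF ≫ iF ≫ jB) rfl
    have hzW : zR.left ≫ s.left = zK ≫ cK ≫ jC := by
      change (zF ≫ iF ≫ jB) ≫ s.left = _
      rw [Category.assoc, Category.assoc, ← hcF, ← Category.assoc, pullback.condition, Category.assoc]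
    let kF : Spec (CommRingCat.of (B ⧸ I)) ⟶ Spec (CommRingCat.of k) :=
      Spec.map (CommRingCat.ofHom (algebraMap k (B ⧸ I)))
    have hzU : zR.left ≫ t.left = (zF ≫ kF) ≫ cy := by
      change (zF ≫ iF ≫ jB) ≫ t.left = _
      simp only [Category.assoc, hB, cy, iF, kF, ← Spec.map_comp_assoc, ← CommRingCat.ofHom_comp]
      rfl
    let zx : Z ⟶ x := Over.homMk (U := Z) (V := x) zK (by
      change zK ≫ (cK ≫ jC) ≫ W.hom = (zF ≫ iF ≫ jB) ≫ R.hom
      rw [← Over.w s, ← Category.assoc, ← Category.assoc (zF ≫ iF ≫ jB)]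
      exact congrArg (· ≫ W.hom) hzW.symm)
    let zy : Z ⟶ y := Over.homMk (U := Z) (V := y) (zF ≫ kF) (by
      change (zF ≫ kF) ≫ cy ≫ U.hom = (zF ≫ iF ≫ jB) ≫ R.hom
      rw [← Over.w t, ← Category.assoc, ← Category.assoc (zF ≫ iF ≫ jB)]
      exact congrArg (· ≫ U.hom) hzU.symm)
    have ex : zx ≫ xW = zR ≫ s := Over.OverMorphism.ext hzW.symm
    have ey : zy ≫ yU = zR ≫ t := Over.OverMorphism.ext hzU.symm
    have hz : (yon S).map zx ≫ (yon S).map xW ≫ (yon S).map ι ≫ p = (yon S).map zy ≫ (yon S).map yU ≫ p := by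
      rw [← Category.assoc, ← Functor.map_comp, ex, ← Category.assoc ((yon S).map zy), ← Functor.map_comp, ey,
        Functor.map_comp, Functor.map_comp, Category.assoc, Category.assoc, sq.w]
    obtain ⟨l', hl₁, hl₂⟩ := sqP.exists_lift ((yon S).map zx) ((yon S).map zy) hz
    obtain ⟨l, rfl⟩ := (yon S).map_surjective l'
    have hlρ : l ≫ ρ = zR := (yon S).map_injective (sq.hom_ext
      (by rw [Functor.map_comp, Category.assoc, hρ, sq.lift_fst, Functor.map_comp, ← Category.assoc, hl₁,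
            ← Functor.map_comp, ← Functor.map_comp, ex])
      (by rw [Functor.map_comp, Category.assoc, hρ, sq.lift_snd, Functor.map_comp, ← Category.assoc, hl₂,
            ← Functor.map_comp, ← Functor.map_comp, ey]))
    have : CompactSpace Z.left := inferInstanceAs (CompactSpace (pullback cF cK : Scheme.{u}))
    have hfinP : (Set.range l.left).Finite := by
      have hs : Subsingleton y.left := inferInstanceAs (Subsingleton (PrimeSpectrum k))
      have hd : _root_.IsDiscrete (Set.univ : Set P.left) := by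
        rcases isEmpty_or_nonempty P.left with h | ⟨⟨v⟩⟩
        · exact Set.Subsingleton.isDiscrete fun a _ => (h.false a).elim
        · rw [show (Set.univ : Set P.left) = π₂.left ⁻¹' {π₂.left v} from
            (Set.eq_univ_of_forall fun a => hs.elim (π₂.left a) _).symm]
          exact π₂.left.isDiscrete_preimage_singleton _
      have : DiscreteTopology P.left := isDiscrete_univ_iff.1 hd
      exact (isCompact_range l.left.continuous).finite_of_discrete
    let jF : Spec (CommRingCat.of (B ⧸ I)) ⟶ R.left := iF ≫ jB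
    refine Set.Finite.of_finite_image (f := fun m' : Ideal (B ⧸ I) => m') ?_ (Set.injOn_id _)
    have hpts : {z : Spec (CommRingCat.of (B ⧸ I)) | z.asIdeal.comap g' = m.comap g'}.Finite := by
      refine ((hfinP.image ρ.left).preimage jF.injective.injOn).subset fun z hz => ?_
      let w : Spec (CommRingCat.of K) := (⟨⊥, Ideal.isPrime_bot⟩ : PrimeSpectrum K)
      have hzw : cF z = cK w := PrimeSpectrum.ext (by
        change z.asIdeal.comap g' = (⊥ : Ideal K).comap φ
        rw [hz, ← RingHom.ker_eq_comap_bot, ← RingHom.comap_ker, Ideal.mk_ker])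
      obtain ⟨v, hv, -⟩ := Scheme.Pullback.exists_preimage_pullback z w hzw
      refine ⟨l.left v, ⟨v, rfl⟩, ?_⟩
      rw [← Scheme.Hom.comp_apply, ← Over.comp_left, hlρ]
      change jF (zF v) = jF z
      rw [hv]
    rw [Set.image_id']
    refine (hpts.image fun z => z.asIdeal).subset fun m' hm' => ⟨⟨m', hm'.1.isPrime⟩, hm'.2, rfl⟩

end Groth.Agent.H12AlgSp.Slice
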