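import Groth.Agent.H12AlgSp.SliceMain

/-!
The inductive slicing step.
-/

set_option linter.unusedVariables false
set_option backward.isDefEq.respectTransparency false

universe u

open CategoryTheory CategoryTheory.Limits AlgebraicGeometry Opposite TopologicalSpace
open AlgSp Groth.Agent.H13AlgSp

namespace Groth.Agent.H12AlgSp.Slice

variable {S : Scheme.{u}} {F : Sp S} {U : Over S} {p : (yon S).obj U ⟶ F}

theorem isPullback_comp_mono {C : Type*} [Category C] {P X Y W Z : C} {fst : P ⟶ X} {snd : P ⟶ Y}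
    {f : X ⟶ W} {g : Y ⟶ W} (h : IsPullback fst snd f g) (i : W ⟶ Z) [Mono i] :
    IsPullback fst snd (f ≫ i) (g ≫ i) :=
  ⟨⟨by rw [← Category.assoc, h.w, Category.assoc]⟩,
    ⟨PullbackCone.isLimitOfCompMono f g i h.cone h.isLimit⟩⟩

theorem ringKrullDim_away_le {F : Type u} [CommRing F] (a : F) :
    ringKrullDim (Localization.Away a) ≤ ringKrullDim F :=
  SliceAlg.ringKrullDim_le_of_injective_comap (algebraMap F _)
    (PrimeSpectrum.localization_comap_injective _ (Submonoid.powers a))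

/-- A slicing function together with a neighbourhood on which the slice is flat over the base. -/
theorem exists_slice_data {A B C : Type u} [CommRing A] [CommRing B] [CommRing C] [Algebra A B]
    [Algebra.FinitePresentation A B] [Module.Flat A B] (g : C →+* B) (mA : Ideal A) [mA.IsMaximal] {n : ℕ}
    (hn : ringKrullDim (B ⧸ mA.map (algebraMap A B)) ≤ n)
    (h0 : ¬ Ring.KrullDimLE 0 (B ⧸ mA.map (algebraMap A B)))
    (hcond : ∀ m : Ideal (B ⧸ mA.map (algebraMap A B)), m.IsMaximal →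
      (∃ h ∉ m.comap ((Ideal.Quotient.mk _).comp g), ∀ Q : Ideal C, Q.IsPrime →
        m.comap ((Ideal.Quotient.mk _).comp g) ≤ Q → h ∉ Q → Q = m.comap ((Ideal.Quotient.mk _).comp g)) ∧
      {m' : Ideal (B ⧸ mA.map (algebraMap A B)) | m'.IsMaximal ∧ m'.comap ((Ideal.Quotient.mk _).comp g) =
        m.comap ((Ideal.Quotient.mk _).comp g)}.Finite) :
    ∃ (n' : ℕ) (q : PrimeSpectrum B) (f h : C) (b : B), n = n' + 1 ∧ mA.map (algebraMap A B) ≤ q.asIdeal ∧
      g f ∈ q.asIdeal ∧ g h ∉ q.asIdeal ∧ b ∉ q.asIdeal ∧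
      Module.Flat A (Localization.Away b ⧸ Ideal.span {algebraMap B (Localization.Away b) (g f)}) ∧
      ∀ (T : Type u) [CommRing T] (χ : B →+* T), Function.Injective (PrimeSpectrum.comap χ) →
        χ (g f) = 0 → IsUnit (χ (g h)) → (mA.map (algebraMap A B)).map χ = ⊥ → ringKrullDim T ≤ n' := by
  let I := mA.map (algebraMap A B)
  let := Ideal.Quotient.field mA
  have : Algebra.FiniteType (A ⧸ mA) (B ⧸ I) := by
    have : Algebra.FiniteType A (B ⧸ I) :=
      Algebra.FiniteType.of_surjective (Ideal.Quotient.mkₐ A I) Ideal.Quotient.mk_surjective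
    exact Algebra.FiniteType.of_restrictScalars_finiteType A (A ⧸ mA) (B ⧸ I)
  obtain ⟨m, f, h, hm, hf, hh, hnzd⟩ := SliceAlg.exists_slice_elem (k := A ⧸ mA)
    ((Ideal.Quotient.mk I).comp g) (fun m hm => (hcond m hm).2) (fun m hm => (hcond m hm).1) h0
  let q : PrimeSpectrum B := ⟨m.comap (Ideal.Quotient.mk I), Ideal.IsPrime.comap _⟩
  have hqI : I ≤ q.asIdeal := fun a ha => by
    change Ideal.Quotient.mk I a ∈ m
    rw [Ideal.Quotient.eq_zero_iff_mem.2 ha]
    exact zero_mem _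
  have hqA : q.asIdeal.comap (algebraMap A B) = mA :=
    (Ideal.IsMaximal.eq_of_le ‹_› (Ideal.IsPrime.comap _).ne_top (Ideal.map_le_iff_le_comap.1 hqI)).symm
  let L := Localization.Away (Ideal.Quotient.mk I (g h))
  have hreg : ∀ c t : B, t ∉ q.asIdeal →
      t * (g f * c) ∈ (q.asIdeal.comap (algebraMap A B)).map (algebraMap A B) →
      ∃ t' ∉ q.asIdeal, t' * c ∈ (q.asIdeal.comap (algebraMap A B)).map (algebraMap A B) := by
    rw [hqA]
    intro c t ht hct
    have e : algebraMap (B ⧸ I) L (Ideal.Quotient.mk I (t * c)) * algebraMap (B ⧸ I) L (Ideal.Quotient.mk I (g f)) = 0 := by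
      rw [← map_mul, ← map_mul, show t * c * g f = t * (g f * c) by ring, Ideal.Quotient.eq_zero_iff_mem.2 hct,
        map_zero]
    have e' := (mem_nonZeroDivisors_iff_right.1 hnzd) _ e
    obtain ⟨⟨_, N, rfl⟩, hN⟩ := (IsLocalization.map_eq_zero_iff (Submonoid.powers (Ideal.Quotient.mk I (g h))) L _).1 e'
    refine ⟨g h ^ N * t, fun hc => (q.2.mem_or_mem hc).elim (fun hc => hh (q.2.mem_of_pow_mem N hc)) ht, ?_⟩
    rw [← Ideal.Quotient.eq_zero_iff_mem, mul_assoc, map_mul, map_pow]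
    exact hN
  obtain ⟨b, hb, hbf⟩ := H29Slice.exists_slice (A := A) (g f) q hf hreg
  let b' := algebraMap (B ⧸ I) L (Ideal.Quotient.mk I (g f))
  have hd : ringKrullDim (L ⧸ Ideal.span {b'}) + 1 ≤ n :=
    ((ringKrullDim_quotient_succ_le_of_nonZeroDivisor hnzd).trans (ringKrullDim_away_le _)).trans hn
  obtain ⟨n', rfl⟩ : ∃ n', n = n' + 1 := by
    cases n with
    | zero => exact (h0 (Ring.krullDimLE_iff.2 hn)).elim
    | succ k => exact ⟨k, rfl⟩
  refine ⟨n', q, f, h, b, rfl, hqI, hf, hh, hb, (hbf (Localization.Away b)).2, ?_⟩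
  intro T _ χ hχ hχf hχh hχI
  have hI : ∀ a ∈ I, χ a = 0 := fun a ha => by
    rw [← Ideal.mem_bot, ← hχI]
    exact Ideal.mem_map_of_mem χ ha
  let χ₁ : L →+* T := IsLocalization.Away.lift (Ideal.Quotient.mk I (g h)) (g := Ideal.Quotient.lift I χ hI)
    (show IsUnit (Ideal.Quotient.lift I χ hI (Ideal.Quotient.mk I (g h))) from hχh)
  have hχ₁ : ∀ a, χ₁ (algebraMap (B ⧸ I) L a) = Ideal.Quotient.lift I χ hI a := fun a =>
    IsLocalization.Away.lift_eq _ _ a
  let ψ : L ⧸ Ideal.span {b'} →+* T := Ideal.Quotient.lift _ χ₁ fun a ha => by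
    obtain ⟨c, rfl⟩ := Ideal.mem_span_singleton'.1 ha
    rw [map_mul, hχ₁, Ideal.Quotient.lift_mk, hχf, mul_zero]
  have hψ : χ = ψ.comp (((Ideal.Quotient.mk (Ideal.span {b'})).comp (algebraMap (B ⧸ I) L)).comp
      (Ideal.Quotient.mk I)) := RingHom.ext fun a =>
        ((hχ₁ (Ideal.Quotient.mk I a)).trans (Ideal.Quotient.lift_mk I χ hI)).symm
  refine (SliceAlg.ringKrullDim_le_of_injective_comap ψ ?_).trans (add_one_cancel hd)
  refine Function.Injective.of_comp (f := PrimeSpectrum.comap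
    (((Ideal.Quotient.mk (Ideal.span {b'})).comp (algebraMap (B ⧸ I) L)).comp (Ideal.Quotient.mk I))) ?_
  rw [hψ, PrimeSpectrum.comap_comp] at hχ
  exact hχ

/-- Data for slicing: a flat lfp map from a scheme over `U`, an affine chart, a bound on the fibre dimension. -/
theorem hasLqfNbhd_of_dim_le (hp : RepWith fppfMor p) {A : Type u} [CommRing A]
    (jA : Spec (CommRingCat.of A) ⟶ U.left) [IsOpenImmersion jA] (mA : Ideal A) [hmA : mA.IsMaximal] (n : ℕ) :
    ∀ (W R : Over S) (ι : W ⟶ U) (t : R ⟶ U) (s : R ⟶ W),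
      IsPullback ((yon S).map s) ((yon S).map t) ((yon S).map ι ≫ p) p →
      RepWith (@Flat ⊓ @LocallyOfFinitePresentation) ((yon S).map ι ≫ p) →
      ∀ (B C : Type u) [CommRing B] [CommRing C] [Algebra A B] (g : C →+* B)
        (jB : Spec (CommRingCat.of B) ⟶ R.left) (jC : Spec (CommRingCat.of C) ⟶ W.left) [IsOpenImmersion jB]
        [IsOpenImmersion jC], jB ≫ t.left = Spec.map (CommRingCat.ofHom (algebraMap A B)) ≫ jA →
        jB ≫ s.left = Spec.map (CommRingCat.ofHom g) ≫ jC → mA.map (algebraMap A B) ≠ ⊤ →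
        ringKrullDim (B ⧸ mA.map (algebraMap A B)) ≤ n → HasLqfNbhd p (jA ⟨mA, hmA.isPrime⟩) := by
  induction n using Nat.strong_induction_on with
  | _ n ih =>
  intro W R ι t s sq hw B C _ _ _ g jB jC _ _ hB hC hne hn
  obtain ⟨htf, htp⟩ := hw.property p ((yon S).map s) t sq
  obtain ⟨⟨-, hsf⟩, hsp⟩ := hp.property ((yon S).map ι ≫ p) ((yon S).map t) s sq.flip
  have : Flat t.left := htf
  have : LocallyOfFinitePresentation t.left := htp
  have : Flat s.left := hsf
  have : LocallyOfFinitePresentation s.left := hsp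
  let a := Spec.map (CommRingCat.ofHom (algebraMap A B))
  have haj : Flat (a ≫ jA) ∧ LocallyOfFinitePresentation (a ≫ jA) := by
    rw [← hB]; exact ⟨inferInstance, inferInstance⟩
  have hmono : IsPullback (𝟙 _) a (a ≫ jA) jA := by
    have := isPullback_comp_mono (IsPullback.of_horiz_isIso ⟨by simp⟩ : IsPullback (𝟙 _) a a (𝟙 _)) jA
    rwa [Category.id_comp] at this
  have : Algebra.FinitePresentation A B := RingHom.finitePresentation_algebraMap.1
    ((HasRingHomProperty.Spec_iff (P := @LocallyOfFinitePresentation)).1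
      (MorphismProperty.of_isPullback (P := @LocallyOfFinitePresentation) hmono haj.2))
  have : Flat a := MorphismProperty.of_isPullback (P := @Flat) hmono haj.1
  have : Module.Flat A B := RingHom.flat_algebraMap_iff.1 ((HasRingHomProperty.Spec_iff (P := @Flat)).1 this)
  by_cases h0 : Ring.KrullDimLE 0 (B ⧸ mA.map (algebraMap A B))
  · exact hasLqfNbhd_of_dim_zero hp sq hw jA jB hB mA hne
  obtain ⟨n', q, f, h, b, rfl, hqI, hf, hh, hb, hflat, hdim⟩ := exists_slice_data g mA hn h0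
    (fun m hm => fibre_conditions sq (repWith_le (fun _ _ k hk =>
      have : LocallyOfFinitePresentation k := hk.2
      (inferInstance : LocallyOfFiniteType k)) hw) jA jB jC g hB hC mA m hm)
  let C₁ := C ⧸ Ideal.span {f}
  let B₁ := B ⧸ Ideal.span {g f}
  let g₁ : C₁ →+* B₁ := Ideal.Quotient.lift (Ideal.span {f}) ((Ideal.Quotient.mk (Ideal.span {g f})).comp g)
    fun x hx => by
      obtain ⟨c, rfl⟩ := Ideal.mem_span_singleton'.1 hx
      exact Ideal.Quotient.eq_zero_iff_mem.2 (Ideal.mem_span_singleton'.2 ⟨g c, (map_mul g c f).symm⟩)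
  let iC := Spec.map (CommRingCat.ofHom (Ideal.Quotient.mk (Ideal.span {f})))
  let iB := Spec.map (CommRingCat.ofHom (Ideal.Quotient.mk (Ideal.span {g f})))
  let W₁ : Over S := Over.mk ((iC ≫ jC) ≫ W.hom)
  let k : W₁ ⟶ W := Over.homMk (iC ≫ jC) rfl
  let R₁ := pullback s k
  let s₁ : R₁ ⟶ W₁ := pullback.snd s k
  let t₁ : R₁ ⟶ U := pullback.fst s k ≫ t
  have hbc := IsPullback.of_hasPullback s k
  have sq₁ : IsPullback ((yon S).map s₁) ((yon S).map t₁) ((yon S).map (k ≫ ι) ≫ p) p := by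
    rw [Functor.map_comp, Functor.map_comp, Category.assoc]
    exact (hbc.flip.map (yon S)).paste_vert sq
  have hbc' : IsPullback (pullback.fst s k).left s₁.left s.left (iC ≫ jC) := hbc.map (Over.forget S)
  have hq₀ := SliceAlg.isPullback_quotient g f
  have houter : IsPullback iB (Spec.map (CommRingCat.ofHom g₁)) (jB ≫ s.left) (iC ≫ jC) := by
    rw [hC]; exact isPullback_comp_mono hq₀ jC
  let j₁ : Spec (CommRingCat.of B₁) ⟶ R₁.left := hbc'.lift (iB ≫ jB) (Spec.map (CommRingCat.ofHom g₁))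
    (by rw [Category.assoc, houter.w])
  have hj₁s : j₁ ≫ s₁.left = Spec.map (CommRingCat.ofHom g₁) := hbc'.lift_snd _ _ _
  have hj₁f : j₁ ≫ (pullback.fst s k).left = iB ≫ jB := hbc'.lift_fst _ _ _
  have sqj : IsPullback iB j₁ jB (pullback.fst s k).left :=
    IsPullback.of_bot (by rw [hj₁s]; exact houter) hj₁f.symm hbc'
  have : IsOpenImmersion j₁ := MorphismProperty.of_isPullback sqj ‹IsOpenImmersion jB›
  let a₁ := Spec.map (CommRingCat.ofHom (algebraMap A B₁))
  have hj₁t : j₁ ≫ t₁.left = a₁ ≫ jA := by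
    change j₁ ≫ (pullback.fst s k).left ≫ t.left = _
    rw [← Category.assoc, hj₁f, Category.assoc, hB, ← Category.assoc, ← Spec.map_comp, ← CommRingCat.ofHom_comp]
    rfl
  have : LocallyOfFinitePresentation iC := (HasRingHomProperty.Spec_iff (P := @LocallyOfFinitePresentation)).2
    (RingHom.FinitePresentation.of_surjective _ Ideal.Quotient.mk_surjective (by
      simp only [CommRingCat.hom_ofHom, Ideal.mk_ker]; exact Submodule.fg_span_singleton f))
  have hw₁ : RepWith @LocallyOfFinitePresentation ((yon S).map (k ≫ ι) ≫ p) := by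
    rw [Functor.map_comp, Category.assoc]
    exact repWith_comp ((repWith_yon_map_iff _ _).2 (inferInstanceAs (LocallyOfFinitePresentation (iC ≫ jC))))
      (repWith_le inf_le_right hw)
  have : LocallyOfFinitePresentation t₁.left := hw₁.property p ((yon S).map s₁) t₁ sq₁
  obtain ⟨⟨-, hs₁f⟩, hs₁p⟩ := hp.property ((yon S).map (k ≫ ι) ≫ p) ((yon S).map t₁) s₁ sq₁.flip
  have : Flat s₁.left := hs₁f
  have : LocallyOfFinitePresentation s₁.left := hs₁p
  -- the slice is flat at the chosen point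
  let Bb := Localization.Away b
  let ib := Spec.map (CommRingCat.ofHom (algebraMap B Bb))
  have : IsOpenImmersion ib := IsOpenImmersion.of_isLocalization b
  have hib := SliceAlg.isPullback_quotient (algebraMap B Bb) (g f)
  let ib₁ := Spec.map (CommRingCat.ofHom (Ideal.Quotient.lift (Ideal.span {g f})
    ((Ideal.Quotient.mk (Ideal.span {algebraMap B Bb (g f)})).comp (algebraMap B Bb)) (fun x hx => by
      obtain ⟨c, rfl⟩ := Ideal.mem_span_singleton'.1 hx
      exact Ideal.Quotient.eq_zero_iff_mem.2 (Ideal.mem_span_singleton'.2 ⟨_, (map_mul _ c (g f)).symm⟩))))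
  have : IsOpenImmersion ib₁ := MorphismProperty.of_isPullback hib ‹IsOpenImmersion ib›
  let q₁ : Spec (CommRingCat.of B₁) :=
    (⟨q.asIdeal.map (Ideal.Quotient.mk _), Ideal.map_isPrime_of_surjective Ideal.Quotient.mk_surjective
      (by rw [Ideal.mk_ker]; exact (Ideal.span_singleton_le_iff_mem _).2 hf)⟩ : PrimeSpectrum B₁)
  have hq₁ : q₁.asIdeal.comap (Ideal.Quotient.mk (Ideal.span {g f})) = q.asIdeal := by
    change (q.asIdeal.map _).comap _ = _
    rw [Ideal.comap_map_of_surjective' _ Ideal.Quotient.mk_surjective, Ideal.mk_ker, sup_eq_left]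
    exact (Ideal.span_singleton_le_iff_mem _).2 hf
  have hiq : iB q₁ = q := PrimeSpectrum.ext hq₁
  obtain ⟨qb, hqb⟩ : ∃ z, ib z = q := by
    have : q ∈ Set.range (PrimeSpectrum.comap (algebraMap B Bb)) := by
      rw [PrimeSpectrum.localization_away_comap_range Bb b]; exact hb
    exact this
  obtain ⟨z, -, hz⟩ := exists_point_over hib qb q₁ (hqb.trans hiq.symm)
  have hflat₁ : (t₁.left.stalkMap (j₁ q₁)).hom.Flat := by
    have : Flat ((ib₁ ≫ j₁) ≫ t₁.left) := by
      rw [Category.assoc, hj₁t, ← Category.assoc, ← Spec.map_comp, ← CommRingCat.ofHom_comp]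
      have : Flat (Spec.map (CommRingCat.ofHom (algebraMap A (Bb ⧸ Ideal.span {algebraMap B Bb (g f)})))) :=
        (HasRingHomProperty.Spec_iff (P := @Flat)).2 (RingHom.flat_algebraMap_iff.2 hflat)
      exact MorphismProperty.comp_mem @Flat _ jA this inferInstance
    have := flat_stalkMap_of_comp (ib₁ ≫ j₁) t₁.left z
    rwa [Scheme.Hom.comp_apply, hz] at this
  let O₁ : W₁.left.Opens := ⟨s₁.left '' {r | (t₁.left.stalkMap r).hom.Flat},
    s₁.left.isOpenMap _ (H8Props.FlatLocus.isOpen_setOf_flat_stalkMap t₁.left)⟩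
  obtain ⟨s₂, hs₂, sq₂⟩ := exists_restrict sq₁ O₁
  let t₂ := openIncl R₁ (s₁.left ⁻¹ᵁ O₁) ≫ t₁
  have ht₂ : Flat t₂.left := (Flat.iff_flat_stalkMap _).2 fun y => by
    change (((s₁.left ⁻¹ᵁ O₁).ι ≫ t₁.left).stalkMap y).hom.Flat
    rw [Scheme.Hom.stalkMap_comp, CommRingCat.hom_comp]
    obtain ⟨z', hz', e⟩ := y.2
    exact RingHom.Flat.comp (flat_saturated (repWith_le (fun _ _ _ hk => hk.1.2) hp) sq₁ e hz')
      (RingHom.Flat.of_bijective (ConcreteCategory.bijective_of_isIso _))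
  have hw₂ : RepWith (@Flat ⊓ @LocallyOfFinitePresentation) ((yon S).map (openIncl W₁ O₁) ≫ (yon S).map (k ≫ ι) ≫ p) :=
    repWith_inf_iff.2 ⟨repWith_of_saturated (representable_open O₁ hw₁.1) hp sq₂ _ ht₂,
      repWith_comp ((repWith_yon_map_iff _ _).2 (inferInstanceAs (LocallyOfFinitePresentation O₁.ι))) hw₁⟩
  -- a smaller affine chart
  let x₁ : PrimeSpectrum C₁ := Spec.map (CommRingCat.ofHom g₁) q₁
  have hx₁ : (x₁ : Spec (CommRingCat.of C₁)) ∈ O₁ :=
    ⟨j₁ q₁, hflat₁, by rw [← Scheme.Hom.comp_apply, hj₁s]; rfl⟩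
  obtain ⟨_, ⟨e₀, rfl⟩, he₀, hle₀⟩ := PrimeSpectrum.isTopologicalBasis_basic_opens.exists_subset_of_mem_open
    (show x₁ ∈ (O₁.carrier : Set (Spec (CommRingCat.of C₁))) from hx₁) O₁.2
  let e : C₁ := e₀ * Ideal.Quotient.mk _ h
  let C₂ := Localization.Away e
  let B₂ := Localization.Away (g₁ e)
  let g₂ : C₂ →+* B₂ := IsLocalization.Away.map C₂ B₂ g₁ e
  let lC : Spec (CommRingCat.of C₂) ⟶ W₁.left := Spec.map (CommRingCat.ofHom (algebraMap C₁ C₂))
  let lB := Spec.map (CommRingCat.ofHom (algebraMap B₁ B₂))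
  have : IsOpenImmersion lC := IsOpenImmersion.of_isLocalization e
  have : IsOpenImmersion lB := IsOpenImmersion.of_isLocalization (g₁ e)
  have hsqg : lB ≫ Spec.map (CommRingCat.ofHom g₁) = Spec.map (CommRingCat.ofHom g₂) ≫ lC := by
    rw [← Spec.map_comp, ← CommRingCat.ofHom_comp, ← Spec.map_comp, ← CommRingCat.ofHom_comp]
    exact congrArg (fun φ => Spec.map (CommRingCat.ofHom φ)) (RingHom.ext fun c =>
      (IsLocalization.map_eq (M := Submonoid.powers e) (T := Submonoid.powers (g₁ e)) (S := C₂) (Q := B₂) (g := g₁)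
        (fun x ⟨n, hn⟩ => ⟨n, show g₁ e ^ n = g₁ x by rw [← map_pow]; exact congrArg g₁ hn⟩) c).symm)
  have hrC : Set.range lC ⊆ Set.range O₁.ι := by
    rw [Scheme.Opens.range_ι]
    rintro _ ⟨w, rfl⟩
    refine hle₀ (show e₀ ∉ (lC w).asIdeal from fun hmem => w.2.ne_top (Ideal.eq_top_of_isUnit_mem _ (x := algebraMap C₁ C₂ e) ?_
      (IsLocalization.Away.algebraMap_isUnit e)))
    rw [map_mul]
    exact Ideal.mul_mem_right _ _ hmem
  let jC₂ : Spec (CommRingCat.of C₂) ⟶ (openOver W₁ O₁).left := IsOpenImmersion.lift O₁.ι lC hrC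
  have hjC₂ : jC₂ ≫ O₁.ι = lC := IsOpenImmersion.lift_fac _ _ _
  have : IsOpenImmersion (jC₂ ≫ O₁.ι) := by rw [hjC₂]; infer_instance
  have : IsOpenImmersion jC₂ := IsOpenImmersion.of_comp jC₂ O₁.ι
  have hrB : Set.range (lB ≫ j₁) ⊆ Set.range (s₁.left ⁻¹ᵁ O₁).ι := by
    rw [Scheme.Opens.range_ι]
    rintro _ ⟨w, rfl⟩
    change s₁.left ((lB ≫ j₁) w) ∈ O₁
    rw [← Scheme.Hom.comp_apply, Category.assoc, hj₁s, hsqg, Scheme.Hom.comp_apply]
    exact (Scheme.Opens.range_ι O₁).le (hrC ⟨_, rfl⟩)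
  let jB₂ : Spec (CommRingCat.of B₂) ⟶ (openOver R₁ (s₁.left ⁻¹ᵁ O₁)).left := IsOpenImmersion.lift _ (lB ≫ j₁) hrB
  have hjB₂ : jB₂ ≫ (s₁.left ⁻¹ᵁ O₁).ι = lB ≫ j₁ := IsOpenImmersion.lift_fac _ _ _
  have : IsOpenImmersion (jB₂ ≫ (s₁.left ⁻¹ᵁ O₁).ι) := by rw [hjB₂]; infer_instance
  have : IsOpenImmersion jB₂ := IsOpenImmersion.of_comp jB₂ (s₁.left ⁻¹ᵁ O₁).ι
  have hs₂' : s₂.left ≫ O₁.ι = (s₁.left ⁻¹ᵁ O₁).ι ≫ s₁.left :=
    congrArg (fun φ : openOver R₁ (s₁.left ⁻¹ᵁ O₁) ⟶ W₁ => φ.left) hs₂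
  refine ih n' (Nat.lt_succ_self n') _ _ (openIncl W₁ O₁ ≫ k ≫ ι) t₂ s₂ (by
      rw [(yon S).map_comp (openIncl W₁ O₁) (k ≫ ι), Category.assoc]; exact sq₂) (by
      rw [(yon S).map_comp (openIncl W₁ O₁) (k ≫ ι), Category.assoc]; exact hw₂)
    B₂ C₂ g₂ jB₂ jC₂ ?_ ?_ ?_ ?_
  · change jB₂ ≫ (s₁.left ⁻¹ᵁ O₁).ι ≫ t₁.left = _
    rw [← Category.assoc, hjB₂, Category.assoc, hj₁t, ← Category.assoc, ← Spec.map_comp, ← CommRingCat.ofHom_comp,
      ← IsScalarTower.algebraMap_eq A B₁ B₂]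
  · rw [← cancel_mono O₁.ι, Category.assoc, Category.assoc, hs₂', hjC₂, ← Category.assoc, hjB₂, Category.assoc,
      hj₁s, hsqg]
  · obtain ⟨q₂, hq₂⟩ : q₁ ∈ Set.range lB := by
      change (q₁ : PrimeSpectrum B₁) ∈ Set.range (PrimeSpectrum.comap (algebraMap B₁ B₂))
      rw [PrimeSpectrum.localization_away_comap_range B₂ (g₁ e)]
      change g₁ e ∉ q₁.asIdeal
      rw [map_mul]
      refine fun hc => (q₁.2.mem_or_mem hc).elim he₀ fun hc => hh ?_
      rw [← hq₁]
      exact hc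
    refine ne_top_of_le_ne_top q₂.2.ne_top (Ideal.map_le_iff_le_comap.2 fun x hx => ?_)
    have : algebraMap B₁ B₂ (Ideal.Quotient.mk _ (algebraMap A B x)) ∈ q₂.asIdeal := by
      change Ideal.Quotient.mk _ (algebraMap A B x) ∈ (lB q₂).asIdeal
      rw [hq₂]
      exact Ideal.mem_map_of_mem _ (hqI (Ideal.mem_map_of_mem _ hx))
    exact this
  · let J := mA.map (algebraMap A B₂)
    let χ : B →+* B₂ ⧸ J := (Ideal.Quotient.mk J).comp ((algebraMap B₁ B₂).comp (Ideal.Quotient.mk (Ideal.span {g f})))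
    refine hdim _ χ ?_ ?_ ?_ ?_
    · simp only [χ, PrimeSpectrum.comap_comp]
      exact ((PrimeSpectrum.comap_injective_of_surjective _ Ideal.Quotient.mk_surjective).comp
        (PrimeSpectrum.localization_comap_injective _ (Submonoid.powers (g₁ e)))).comp
        (PrimeSpectrum.comap_injective_of_surjective _ Ideal.Quotient.mk_surjective)
    · change Ideal.Quotient.mk J (algebraMap B₁ B₂ (Ideal.Quotient.mk _ (g f))) = 0
      rw [Ideal.Quotient.eq_zero_iff_mem.2 (Ideal.mem_span_singleton_self (g f)), map_zero, map_zero]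
    · refine IsUnit.map (Ideal.Quotient.mk J) ?_
      have hu : IsUnit (algebraMap B₁ B₂ (g₁ e)) := IsLocalization.Away.algebraMap_isUnit _
      have hu' : IsUnit (algebraMap B₁ B₂ (g₁ e₀) * algebraMap B₁ B₂ (g₁ (Ideal.Quotient.mk _ h))) := by
        rw [← map_mul, ← map_mul]; exact hu
      exact isUnit_of_mul_isUnit_right hu'
    · rw [Ideal.map_map, eq_bot_iff, Ideal.map_le_iff_le_comap]
      intro x hx
      exact Ideal.Quotient.eq_zero_iff_mem.2 (Ideal.mem_map_of_mem (algebraMap A B₂) hx)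

end Groth.Agent.H12AlgSp.Slice
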