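import Mathlib.RingTheory.AdjoinRoot
import Mathlib.RingTheory.Flat.FaithfullyFlat.Algebra
import Mathlib.RingTheory.LocalRing.ResidueField.Ideal
import Mathlib.RingTheory.Spectrum.Prime.Topology
import Mathlib.FieldTheory.IsAlgClosed.AlgebraicClosure
import Mathlib.Algebra.Polynomial.Roots
import Mathlib.Logic.Equiv.Fin.Basic
import Mathlib.RingTheory.RingHom.Flat

/-!
The universal splitting algebra of a monic polynomial, with the action of the symmetric group,
whose orbits on the spectrum are the fibres over the base.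
-/

universe u

open Polynomial TensorProduct

namespace Groth.Agent.H12AlgSp.Split

variable {R : Type u} [CommRing R]

/-- `r` lists the roots of `f` in `A` and is universal among such lists. -/
structure IsSplit (f : R[X]) {n : ℕ} (A : Type u) [CommRing A] [Algebra R A] (r : Fin n → A) : Prop where
  split : f.map (algebraMap R A) = ∏ i, (X - C (r i))
  existsUnique : ∀ (B : Type u) [CommRing B] [Algebra R B] (b : Fin n → B),
    f.map (algebraMap R B) = ∏ i, (X - C (b i)) → ∃! φ : A →ₐ[R] B, ∀ i, φ (r i) = b i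

theorem exists_isSplit : ∀ (n : ℕ) (R : Type u) [CommRing R] (f : R[X]), f.Monic → f.natDegree = n →
    ∃ (A : Type u) (_ : CommRing A) (_ : Algebra R A) (r : Fin n → A),
      Module.Finite R A ∧ Module.Free R A ∧ Module.FaithfullyFlat R A ∧ IsSplit f A r ∧
        (0 < n → ∃ φ : AdjoinRoot f →ₐ[R] A, φ.toRingHom.Flat ∧
          Function.Surjective (PrimeSpectrum.comap φ.toRingHom)) := by
  intro n
  induction n with
  | zero =>
    intro R _ f hf hd
    refine ⟨R, inferInstance, inferInstance, Fin.elim0, inferInstance, inferInstance, inferInstance,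
      ⟨by simp [hf.natDegree_eq_zero.mp hd], fun B _ _ b _ => ?_⟩, fun h => absurd h (lt_irrefl 0)⟩
    exact ⟨Algebra.ofId R B, fun i => i.elim0, fun φ _ => Subsingleton.elim φ _⟩
  | succ n ih =>
    intro R _ f hf hd
    have : Nontrivial R := by
      by_contra h
      rw [not_nontrivial_iff_subsingleton] at h
      rw [natDegree_of_subsingleton] at hd
      omega
    let A₁ := AdjoinRoot f
    have := hf.free_adjoinRoot
    have := hf.finite_adjoinRoot
    have : Nontrivial A₁ :=
      ⟨⟨(AdjoinRoot.powerBasis' hf).basis ⟨0, by simp [hd]⟩, 0, Module.Basis.ne_zero _ _⟩⟩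
    let r₀ := AdjoinRoot.root f
    let f₁ := f.map (algebraMap R A₁)
    have hroot : f₁.IsRoot r₀ := by
      rw [IsRoot.def, eval_map, AdjoinRoot.algebraMap_eq, AdjoinRoot.eval₂_root]
    let h := f₁ /ₘ (X - C r₀)
    have hfh : (X - C r₀) * h = f₁ := mul_divByMonic_eq_iff_isRoot.mpr hroot
    have hm : h.Monic := (monic_X_sub_C r₀).of_mul_monic_left (hfh ▸ hf.map _)
    have hdh : h.natDegree = n := by
      rw [natDegree_divByMonic _ (monic_X_sub_C r₀), natDegree_X_sub_C]
      rw [show f₁.natDegree = f.natDegree from hf.natDegree_map _, hd]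
      omega
    obtain ⟨A, _, _, r, _, _, _, hr, -⟩ := ih A₁ h hm hdh
    let _ : Algebra R A := ((algebraMap A₁ A).comp (algebraMap R A₁)).toAlgebra
    have : IsScalarTower R A₁ A := IsScalarTower.of_algebraMap_eq fun _ ↦ rfl
    refine ⟨A, inferInstance, inferInstance, Fin.cons (algebraMap A₁ A r₀) r, Module.Finite.trans A₁ A,
      Module.Free.trans (S := A₁), Module.FaithfullyFlat.trans R A₁ A, ⟨?_, ?_⟩,
      fun _ => ⟨IsScalarTower.toAlgHom R A₁ A, RingHom.flat_algebraMap_iff.2 inferInstance,
        PrimeSpectrum.comap_surjective_of_faithfullyFlat⟩⟩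
    · rw [Fin.prod_univ_succ, IsScalarTower.algebraMap_eq R A₁ A, ← Polynomial.map_map,
        show f.map (algebraMap R A₁) = _ from hfh.symm, Polynomial.map_mul, hr.split]
      simp
    · intro B _ _ b hb
      have hb0 : aeval (b 0) f = 0 := by
        rw [← eval_map_algebraMap, hb, eval_prod]
        exact Finset.prod_eq_zero (Finset.mem_univ 0) (by simp)
      let φ₁ : A₁ →ₐ[R] B := AdjoinRoot.liftAlgHom f _ (b 0) hb0
      letI : Algebra A₁ B := φ₁.toRingHom.toAlgebra
      have : IsScalarTower R A₁ B := IsScalarTower.of_algebraMap_eq fun x => (φ₁.commutes x).symm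
      have hφ₁ : algebraMap A₁ B r₀ = b 0 := AdjoinRoot.liftAlgHom_root f _ _ hb0
      have hhb : h.map (algebraMap A₁ B) = ∏ i, (X - C (Fin.tail b i)) := by
        refine (monic_X_sub_C (b 0)).isRegular.left ?_
        change (X - C (b 0)) * _ = (X - C (b 0)) * _
        rw [show (X - C (b 0)) * ∏ i, (X - C (Fin.tail b i)) = ∏ i, (X - C (b i)) from
          (Fin.prod_univ_succ fun i => X - C (b i)).symm, ← hb,
          IsScalarTower.algebraMap_eq R A₁ B, ← Polynomial.map_map,
          show f.map (algebraMap R A₁) = _ from hfh.symm, Polynomial.map_mul]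
        simp [hφ₁]
      obtain ⟨ψ, hψ, huniq⟩ := hr.existsUnique B (Fin.tail b) hhb
      refine ⟨ψ.restrictScalars R, fun i => ?_, fun χ hχ => ?_⟩
      · induction i using Fin.cases with
        | zero => rw [Fin.cons_zero, AlgHom.restrictScalars_apply, AlgHom.commutes, hφ₁]
        | succ i => rw [Fin.cons_succ, AlgHom.restrictScalars_apply]; exact hψ i
      · have hχ₁ : χ.comp (IsScalarTower.toAlgHom R A₁ A) = φ₁ := by
          refine AdjoinRoot.algHom_ext ?_
          refine (?_ : χ (algebraMap A₁ A r₀) = φ₁ r₀)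
          rw [show φ₁ r₀ = b 0 from hφ₁]
          simpa using hχ 0
        let χ' : A →ₐ[A₁] B :=
          { χ.toRingHom with commutes' := fun x => DFunLike.congr_fun hχ₁ x }
        have : χ' = ψ := huniq χ' fun i => by
          change χ (r i) = _
          simpa [Fin.tail] using hχ i.succ
        exact AlgHom.ext fun x => DFunLike.congr_fun this x

variable {f : R[X]} {n : ℕ} {A : Type u} [CommRing A] [Algebra R A] {r : Fin n → A}

/-- Permuting the roots. -/
noncomputable def IsSplit.act (h : IsSplit f A r) (σ : Equiv.Perm (Fin n)) : A →ₐ[R] A :=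
  (h.existsUnique A (r ∘ σ) (by
    rw [h.split]; exact (Equiv.prod_comp σ fun i => X - C (r i)).symm)).exists.choose

theorem IsSplit.act_apply (h : IsSplit f A r) (σ : Equiv.Perm (Fin n)) (i : Fin n) :
    h.act σ (r i) = r (σ i) :=
  (h.existsUnique A (r ∘ σ) (by
    rw [h.split]; exact (Equiv.prod_comp σ fun i => X - C (r i)).symm)).exists.choose_spec i

theorem IsSplit.hom_ext (h : IsSplit f A r) {B : Type u} [CommRing B] [Algebra R B]
    {φ ψ : A →ₐ[R] B} (e : ∀ i, φ (r i) = ψ (r i)) : φ = ψ := by
  have hb : f.map (algebraMap R B) = ∏ i, (X - C (ψ (r i))) := by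
    rw [← ψ.comp_algebraMap, ← Polynomial.map_map, h.split, Polynomial.map_prod]
    simp
  exact (h.existsUnique B _ hb).unique e fun _ => rfl

theorem IsSplit.act_mul (h : IsSplit f A r) (σ τ : Equiv.Perm (Fin n)) :
    h.act (σ * τ) = (h.act σ).comp (h.act τ) :=
  h.hom_ext fun i => by simp [h.act_apply, Equiv.Perm.mul_apply]

theorem IsSplit.act_one (h : IsSplit f A r) : h.act 1 = AlgHom.id R A :=
  h.hom_ext fun i => by simp [h.act_apply]

/-- The symmetric group acts transitively on the fibres. -/
theorem IsSplit.exists_act_comap (h : IsSplit f A r) (p q : PrimeSpectrum A)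
    (e : PrimeSpectrum.comap (algebraMap R A) p = PrimeSpectrum.comap (algebraMap R A) q) :
    ∃ σ, PrimeSpectrum.comap (h.act σ).toRingHom p = q := by
  classical
  let P := PrimeSpectrum.comap (algebraMap R A) p
  let K := p.asIdeal.ResidueField
  let L := q.asIdeal.ResidueField
  let k := P.asIdeal.ResidueField
  have : p.asIdeal.LiesOver P.asIdeal := ⟨rfl⟩
  have : q.asIdeal.LiesOver P.asIdeal := ⟨congrArg PrimeSpectrum.asIdeal e⟩
  let _ := Localization.AtPrime.algebraOfLiesOver P.asIdeal p.asIdeal
  let _ := Localization.AtPrime.algebraOfLiesOver P.asIdeal q.asIdeal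
  obtain ⟨m, hm⟩ := Ideal.exists_maximal (K ⊗[k] L)
  have := hm
  let M := (K ⊗[k] L) ⧸ m
  let _ : Field M := Ideal.Quotient.field m
  let ψp : A →ₐ[R] M := (((Ideal.Quotient.mkₐ k m).comp (Algebra.TensorProduct.includeLeft :
    K →ₐ[k] K ⊗[k] L)).restrictScalars R).comp (IsScalarTower.toAlgHom R A K)
  let ψq : A →ₐ[R] M := (((Ideal.Quotient.mkₐ k m).comp (Algebra.TensorProduct.includeRight :
    L →ₐ[k] K ⊗[k] L)).restrictScalars R).comp (IsScalarTower.toAlgHom R A L)
  have hsplit : ∀ ψ : A →ₐ[R] M, f.map (algebraMap R M) = ∏ i, (X - C (ψ (r i))) := fun ψ => by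
    rw [← ψ.comp_algebraMap, ← Polynomial.map_map, h.split, Polynomial.map_prod]
    simp
  have hperm : (List.ofFn fun i => ψq (r i)).Perm (List.ofFn fun i => ψp (r i)) := by
    refine Multiset.coe_eq_coe.1 ?_
    have key : ∀ ψ : A →ₐ[R] M, (f.map (algebraMap R M)).roots = ↑(List.ofFn fun i => ψ (r i)) := fun ψ => by
      rw [hsplit ψ, show (∏ i, (X - C (ψ (r i)))) =
          ((Finset.univ.1.map fun i => ψ (r i)).map fun a => X - C a).prod by
        rw [Multiset.map_map]; rfl, Polynomial.roots_multiset_prod_X_sub_C, Fin.univ_val_map]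
    rw [← key, ← key]
  obtain ⟨σ, hσ⟩ : ∃ σ : Equiv.Perm (Fin n), ∀ i, ψp (r (σ i)) = ψq (r i) := by
    have hsym : (Finset.univ.1.map fun i => ψq (r i)) = Finset.univ.1.map fun i => ψp (r i) := by
      simpa [Fin.univ_val_map] using Multiset.coe_eq_coe.2 hperm
    exact exists_perm_of_map_eq hsym
  refine ⟨σ, ?_⟩
  have hψ : ψp.comp (h.act σ) = ψq := h.hom_ext fun i => by
    rw [AlgHom.comp_apply, h.act_apply, hσ]
  refine PrimeSpectrum.ext (Ideal.ext fun a => ?_)
  rw [PrimeSpectrum.comap_asIdeal, Ideal.mem_comap,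
    ← Ideal.algebraMap_residueField_eq_zero, ← Ideal.algebraMap_residueField_eq_zero]
  have ha := DFunLike.congr_fun hψ a
  constructor
  · intro ha0
    refine ((Ideal.Quotient.mk m).comp (Algebra.TensorProduct.includeRight :
      L →ₐ[k] K ⊗[k] L).toRingHom).injective ?_
    rw [map_zero]
    refine ha.symm.trans ?_
    exact (congrArg ((Ideal.Quotient.mk m).comp (Algebra.TensorProduct.includeLeft :
      K →ₐ[k] K ⊗[k] L).toRingHom) ha0).trans (map_zero _)
  · intro ha0
    refine ((Ideal.Quotient.mk m).comp (Algebra.TensorProduct.includeLeft :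
      K →ₐ[k] K ⊗[k] L).toRingHom).injective ?_
    rw [map_zero]
    refine ha.trans ?_
    exact (congrArg ((Ideal.Quotient.mk m).comp (Algebra.TensorProduct.includeRight :
      L →ₐ[k] K ⊗[k] L).toRingHom) ha0).trans (map_zero _)
where
  exists_perm_of_map_eq {α : Type u} {n : ℕ} {a b : Fin n → α}
      (e : Finset.univ.1.map a = Finset.univ.1.map b) : ∃ σ : Equiv.Perm (Fin n), ∀ i, b (σ i) = a i := by
    classical
    have hc : ∀ x, Fintype.card { i // a i = x } = Fintype.card { i // b i = x } := fun x => by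
      have h1 := congrArg (Multiset.count x) e
      rw [Multiset.count_map, Multiset.count_map] at h1
      rw [Fintype.card_subtype, Fintype.card_subtype, Finset.card_def, Finset.card_def]
      simpa only [Finset.filter_val, eq_comm] using h1
    let σ : Equiv.Perm (Fin n) := Equiv.ofFiberEquiv (f := a) (g := b) fun x => Fintype.equivOfCardEq (hc x)
    exact ⟨σ, fun i => Equiv.ofFiberEquiv_map _ i⟩

end Groth.Agent.H12AlgSp.Split
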