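import Groth.Agent.H12AlgSp.GroupoidFormal
import Groth.Agent.H12AlgSp.Diagonal
import Groth.Agent.H12AlgSp.QC
import Groth.Prelude.Def_AlgSp3

/-!
Separation of a groupoid and of its stabilizer.
-/

set_option backward.isDefEq.respectTransparency false

universe u

open CategoryTheory CategoryTheory.Limits AlgebraicGeometry
open AlgSp

namespace Groth.Agent.H12AlgSp.Gpd

variable {S : Scheme.{u}} {B : Sp S} (G : GroupoidSp B)

theorem stab_t : G.stabilizerι ≫ G.t = G.stabilizerToU := by
  have h := pullback.condition (f := G.j) (g := G.diag) =≫ pullback.fst G.pU G.pU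
  rw [Category.assoc, Category.assoc, GroupoidSp.j_fst] at h
  refine h.trans ?_
  simp only [GroupoidSp.diag, pullback.lift_fst, Category.comp_id]
  rfl

theorem stab_s : G.stabilizerι ≫ G.s = G.stabilizerToU := by
  have h := pullback.condition (f := G.j) (g := G.diag) =≫ pullback.snd G.pU G.pU
  rw [Category.assoc, Category.assoc, GroupoidSp.j_snd] at h
  refine h.trans ?_
  simp only [GroupoidSp.diag, pullback.lift_snd, Category.comp_id]
  rfl

variable {G} {eG : G.U ⟶ G.stabilizer} (heG : eG ≫ G.stabilizerι = G.e)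
include heG

theorem unit_toU : eG ≫ G.stabilizerToU = 𝟙 G.U := by
  rw [← stab_s, ← Category.assoc, heG, G.e_s]

/-- The unit is a base change of the diagonal of the stabilizer. -/
theorem isPullback_unit_diag_stab :
    IsPullback eG eG (pullback.diagonal G.stabilizerToU)
      (pullback.lift (𝟙 _) (G.stabilizerToU ≫ eG) (by simp [unit_toU heG])) := by
  refine ⟨⟨by apply pullback.hom_ext <;> simp [reassoc_of% unit_toU heG]⟩,
    ⟨PullbackCone.isLimitAux' _ fun c => ?_⟩⟩
  have h₁ := c.condition =≫ pullback.fst _ _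
  have h₂ := c.condition =≫ pullback.snd _ _
  simp only [Category.assoc, pullback.diagonal_fst, pullback.diagonal_snd, pullback.lift_fst,
    pullback.lift_snd, Category.comp_id] at h₁ h₂
  refine ⟨c.snd ≫ G.stabilizerToU, ?_, ?_, fun {m : c.pt ⟶ G.U} _ (hm : m ≫ eG = c.snd) => ?_⟩
  · exact (Category.assoc _ _ _).trans h₂.symm
  · exact (Category.assoc _ _ _).trans (h₂.symm.trans h₁)
  · refine Eq.trans ?_ (congrArg (· ≫ G.stabilizerToU) hm)
    exact ((congrArg (m ≫ ·) (unit_toU heG)).trans (Category.comp_id m)).symm.trans (Category.assoc _ _ _).symm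

/-- The unit is a base change of the diagonal of `j`. -/
theorem exists_isPullback_unit_diag_j :
    ∃ γ : G.stabilizer ⟶ pullback G.j G.j,
      IsPullback (eG ≫ G.stabilizerι) eG (pullback.diagonal G.j) γ := by
  have hγ : G.stabilizerι ≫ G.j = (G.stabilizerToU ≫ G.e) ≫ G.j := by
    apply pullback.hom_ext <;> simp [stab_t, stab_s, G.e_t, G.e_s]
  refine ⟨pullback.lift G.stabilizerι (G.stabilizerToU ≫ G.e) hγ, ⟨?_⟩,
    ⟨PullbackCone.isLimitAux' _ fun c => ?_⟩⟩
  · apply pullback.hom_ext <;> simp [reassoc_of% unit_toU heG, heG]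
  have h₁ := c.condition =≫ pullback.fst _ _
  have h₂ := c.condition =≫ pullback.snd _ _
  simp only [Category.assoc, pullback.diagonal_fst, pullback.diagonal_snd, pullback.lift_fst,
    pullback.lift_snd, Category.comp_id] at h₁ h₂
  refine ⟨c.snd ≫ G.stabilizerToU, ?_, ?_, fun {m : c.pt ⟶ G.U} _ (hm : m ≫ eG = c.snd) => ?_⟩
  · change (c.snd ≫ G.stabilizerToU) ≫ eG ≫ G.stabilizerι = c.fst
    rw [heG, Category.assoc, h₂]
  · change (c.snd ≫ G.stabilizerToU) ≫ eG = c.snd
    refine pullback.hom_ext ?_ ?_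
    · change ((c.snd ≫ G.stabilizerToU) ≫ eG) ≫ G.stabilizerι = c.snd ≫ G.stabilizerι
      rw [Category.assoc, heG, Category.assoc, ← h₂, h₁]
    · change ((c.snd ≫ G.stabilizerToU) ≫ eG) ≫ G.stabilizerToU = c.snd ≫ G.stabilizerToU
      rw [Category.assoc, unit_toU heG, Category.comp_id]
  · refine Eq.trans ?_ (congrArg (· ≫ G.stabilizerToU) hm)
    exact ((congrArg (m ≫ ·) (unit_toU heG)).trans (Category.comp_id m)).symm.trans (Category.assoc _ _ _).symm

/-- The diagonal of `j` is a base change of the unit. -/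
theorem exists_isPullback_diag_j_unit :
    ∃ δ : pullback G.j G.j ⟶ G.stabilizer, IsPullback G.s (pullback.diagonal G.j) eG δ := by
  let α : pullback G.j G.j ⟶ G.R := pullback.fst G.j G.j
  let β : pullback G.j G.j ⟶ G.R := pullback.snd G.j G.j
  have hj : α ≫ G.j = β ≫ G.j := pullback.condition
  have ht : α ≫ G.t = β ≫ G.t := by simpa using hj =≫ pullback.fst G.pU G.pU
  have hs : α ≫ G.s = β ≫ G.s := by simpa using hj =≫ pullback.snd G.pU G.pU
  have hc : (β ≫ G.i) ≫ G.s = α ≫ G.t := (inv_s β).trans ht.symm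
  let γ := mul G (β ≫ G.i) α hc
  let δ : pullback G.j G.j ⟶ G.stabilizer := pullback.lift γ (α ≫ G.s) (by
    apply pullback.hom_ext
    · simp only [Category.assoc, GroupoidSp.j_fst, GroupoidSp.diag, pullback.lift_fst, Category.comp_id]
      rw [mul_t, inv_t, hs]
    · simp only [Category.assoc, GroupoidSp.j_snd, GroupoidSp.diag, pullback.lift_snd, Category.comp_id]
      rw [mul_s])
  have hδι : δ ≫ G.stabilizerι = γ := pullback.lift_fst _ _ _
  have hδσ : δ ≫ G.stabilizerToU = α ≫ G.s := pullback.lift_snd _ _ _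
  refine ⟨δ, ⟨?_⟩, ⟨PullbackCone.isLimitAux' _ fun c => ?_⟩⟩
  · refine pullback.hom_ext ?_ ?_
    · change (G.s ≫ eG) ≫ G.stabilizerι = (pullback.diagonal G.j ≫ δ) ≫ G.stabilizerι
      rw [Category.assoc, heG, Category.assoc, hδι, comp_mul]
      have e1 : pullback.diagonal G.j ≫ β ≫ G.i = 𝟙 G.R ≫ G.i := by
        rw [← Category.assoc, pullback.diagonal_snd]
      refine Eq.trans ?_ (mul_congr e1.symm (pullback.diagonal_fst G.j).symm (inv_s _))
      refine Eq.trans ?_ (inv_mul (G := G) (𝟙 G.R)).symm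
      exact (Category.id_comp _).symm
    · change (G.s ≫ eG) ≫ G.stabilizerToU = (pullback.diagonal G.j ≫ δ) ≫ G.stabilizerToU
      rw [Category.assoc, unit_toU heG, Category.assoc, hδσ, pullback.diagonal_fst_assoc, Category.comp_id]
  have h₁ := c.condition =≫ G.stabilizerι
  have h₂ := c.condition =≫ G.stabilizerToU
  simp only [Category.assoc, heG, hδι, hδσ, unit_toU heG, Category.comp_id] at h₁ h₂
  have hab : c.snd ≫ β = c.snd ≫ α := by
    have h3 : (c.snd ≫ β) ≫ G.t = (c.snd ≫ α) ≫ G.t := by rw [Category.assoc, Category.assoc, ht]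
    have h4 := mul_inv_cancel_left (c.snd ≫ β) (c.snd ≫ α) h3
    refine Eq.trans ?_ h4
    have h5 : mul G ((c.snd ≫ β) ≫ G.i) (c.snd ≫ α) ((inv_s _).trans h3) = (c.snd ≫ β) ≫ G.s ≫ G.e := by
      refine Eq.trans (Eq.trans ?_ (comp_mul c.snd (β ≫ G.i) α hc).symm) ?_
      · exact mul_congr (Category.assoc _ _ _) rfl _
      · rw [← h₁, h₂, hs]
        simp only [Category.assoc]
    refine Eq.trans ?_ (mul_congr rfl h5.symm (by simp only [Category.assoc]; rw [G.e_t, Category.comp_id]))
    exact (mul_one _ _ rfl _).symm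
  refine ⟨c.snd ≫ α, ?_, ?_, fun {m : c.pt ⟶ G.R} _ (hm : m ≫ pullback.diagonal G.j = c.snd) => ?_⟩
  · change (c.snd ≫ α) ≫ G.s = c.fst
    rw [Category.assoc, h₂]
  · change (c.snd ≫ α) ≫ pullback.diagonal G.j = c.snd
    apply pullback.hom_ext
    · simp [α]
    · rw [Category.assoc, pullback.diagonal_snd, Category.comp_id]; exact hab.symm
  · exact ((Category.comp_id m).symm.trans ((congrArg (m ≫ ·) (pullback.diagonal_fst G.j).symm).trans
      (Category.assoc _ _ _).symm)).trans (congrArg (· ≫ α) hm)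

theorem separation_iff {P : MorphismProperty Scheme.{u}} [P.IsStableUnderBaseChange] :
    (RepWith P (pullback.diagonal G.j) ↔ RepWith P eG) ∧
    (RepWith P (pullback.diagonal G.stabilizerToU) ↔ RepWith P eG) ∧
    (RepWith P (pullback.diagonal G.j) ↔ RepWith P (pullback.diagonal G.stabilizerToU)) := by
  obtain ⟨γ, sq₁⟩ := exists_isPullback_unit_diag_j heG
  obtain ⟨δ, sq₂⟩ := exists_isPullback_diag_j_unit heG
  have sq₃ := Groth.Agent.H12AlgSp.isPullback_diagonal
    (show IsPullback G.stabilizerι G.stabilizerToU G.j G.diag from IsPullback.of_hasPullback G.j G.diag)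
  have a1 : RepWith P (pullback.diagonal G.j) ↔ RepWith P eG :=
    ⟨fun h => repWith_of_isPullback sq₁ h, fun h => repWith_of_isPullback sq₂ h⟩
  have a2 : RepWith P (pullback.diagonal G.j) ↔ RepWith P (pullback.diagonal G.stabilizerToU) :=
    ⟨fun h => repWith_of_isPullback sq₃ h,
      fun h => a1.2 (repWith_of_isPullback (isPullback_unit_diag_stab heG) h)⟩
  exact ⟨a1, a2.symm.trans a1, a2⟩

theorem representable_unit (hR : IsAlgSpace G.R) : Representable eG := by
  obtain ⟨γ, sq₁⟩ := exists_isPullback_unit_diag_j heG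
  exact representable_of_isPullback sq₁ (representable_diagonal G.j hR.diag)

end Groth.Agent.H12AlgSp.Gpd
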