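import Groth.Prelude.Def_AlgSpRep
import Groth.Agent.H13AlgSp.Refinement
import Groth.Agent.H13AlgSp.RelRep

/-!
A Zariski sheaf covered, fppf locally, by fppf subsheaves whose inclusions are representable by algebraic spaces is an
fppf sheaf.
-/

set_option backward.isDefEq.respectTransparency false

universe u v

open CategoryTheory CategoryTheory.Limits AlgebraicGeometry Opposite
open AlgSp Groth.Agent.H13AlgSp

namespace Groth.Agent.H12AlgSp.SubfunctorGlue

variable {S : Scheme.{u}}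

/-- Open covers generate covering sieves of the big Zariski site. -/
theorem zariski_mem_J {T : Over S} {κ : Type u} (V : κ → T.left.Opens) (h : ∀ t : T.left, ∃ k, t ∈ V k) :
    Sieve.ofArrows (fun k => openOver T (V k)) (fun k => openIncl T (V k))
      ∈ QuotSh.J Scheme.zariskiPrecoverage S T := by
  rw [GrothendieckTopology.mem_over_iff, Sieve.overEquiv_ofArrows]
  refine Precoverage.generate_mem_toGrothendieck ?_
  rw [Scheme.ofArrows_mem_precoverage_iff]
  exact ⟨fun t => by obtain ⟨k, hk⟩ := h t; exact ⟨k, ⟨t, hk⟩, rfl⟩,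
    fun k => inferInstanceAs (IsOpenImmersion (V k).ι)⟩

/-- Open covers generate covering sieves of the big fppf site. -/
theorem open_mem_J {T : Over S} {κ : Type u} (V : κ → T.left.Opens) (h : ∀ t : T.left, ∃ k, t ∈ V k) :
    Sieve.ofArrows (fun k => openOver T (V k)) (fun k => openIncl T (V k)) ∈ AlgSp.J S T :=
  ofArrows_mem_J _ (fun k => inferInstanceAs (Flat (V k).ι))
    (fun k => inferInstanceAs (LocallyOfFinitePresentation (V k).ι))
    (fun t => by obtain ⟨k, hk⟩ := h t; exact ⟨k, ⟨t, hk⟩, rfl⟩)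

/-- The restriction of a morphism over an open of the target. -/
noncomputable def resHom {C T : Over S} (h : C ⟶ T) (O : T.left.Opens) :
    openOver C (h.left ⁻¹ᵁ O) ⟶ openOver T O :=
  Over.homMk (h.left ∣_ O) (by
    change (h.left ∣_ O) ≫ O.ι ≫ T.hom = (h.left ⁻¹ᵁ O).ι ≫ C.hom
    rw [morphismRestrict_ι_assoc, Over.w h])

theorem resHom_incl {C T : Over S} (h : C ⟶ T) (O : T.left.Opens) :
    resHom h O ≫ openIncl T O = openIncl C (h.left ⁻¹ᵁ O) ≫ h :=
  Over.OverMorphism.ext (morphismRestrict_ι h.left O)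

/-- The open image of a flat morphism locally of finite presentation, with the induced cover. -/
theorem exists_image {C T : Over S} (c : C ⟶ T) [Flat c.left] [LocallyOfFinitePresentation c.left] :
    ∃ (O : T.left.Opens), (∀ z, c.left z ∈ O) ∧
      ∃ (C' : Over S) (c' : C' ⟶ openOver T O) (j : C' ⟶ C), c' ≫ openIncl T O = j ≫ c ∧
        Sieve.ofArrows (fun _ : PUnit.{u + 1} => C') (fun _ => c') ∈ AlgSp.J S (openOver T O) := by
  let O : T.left.Opens := ⟨Set.range c.left, c.left.isOpenMap.isOpen_range⟩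
  refine ⟨O, fun z => ⟨z, rfl⟩, _, resHom c O, openIncl C _, resHom_incl c O, ?_⟩
  refine ofArrows_mem_J (fun _ : PUnit.{u + 1} => resHom c O) (fun _ => ?_) (fun _ => ?_) fun t => ⟨⟨⟩, ?_⟩
  · exact IsZariskiLocalAtTarget.restrict (P := @Flat) inferInstance O
  · exact IsZariskiLocalAtTarget.restrict (P := @LocallyOfFinitePresentation) inferInstance O
  · obtain ⟨z, hz⟩ := t.2
    refine ⟨⟨z, ⟨z, rfl⟩⟩, Subtype.ext ?_⟩
    change ((c.left ∣_ O) _).1 = t.1
    exact (congrArg Subtype.val (show (c.left ∣_ O) ⟨z, ⟨z, rfl⟩⟩ = ⟨c.left z, ⟨z, rfl⟩⟩ from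
      Subtype.ext (morphismRestrict_base_coe _ _ _))).trans hz

variable {F : PSp S} {G : PSp S} (m : G ⟶ F) [Mono m]

theorem app_injective {Z : Over S} {a b : G.obj (op Z)} (h : m.app (op Z) a = m.app (op Z) b) : a = b :=
  have : Mono (m.app (op Z)) := inferInstance
  ((mono_iff_injective _).1 this) h

/-- A section that lies locally in a relatively representable subsheaf lies in it. -/
theorem mem_range_of_local (hb : RepBySp m) {T : Over S} (s : F.obj (op T)) {R : Sieve T}
    (hR : R ∈ AlgSp.J S T)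
    (h : ∀ ⦃Z : Over S⦄ (g : Z ⟶ T), R.arrows g → F.map g.op s ∈ Set.range (m.app (op Z))) :
    s ∈ Set.range (m.app (op T)) := by
  let ξ : (pyon S).obj T ⟶ F := uliftYonedaEquiv.{u + 1}.symm s
  have hξ : ∀ {Z : Over S} (g : Z ⟶ T), ξ.app (op Z) (ULift.up g) = F.map g.op s := fun g => rfl
  have sq := IsPullback.of_hasPullback m ξ
  have sqZ := fun Z : Over S => sq.map ((evaluation (Over S)ᵒᵖ (Type (u + 1))).obj (op Z))
  obtain ⟨hP, -⟩ := hb ξ _ _ sq
  have key : ∀ ⦃Z : Over S⦄ (g : Z ⟶ T), R.arrows g → ∃ p, ((pullback.snd m ξ).app (op Z) p).down = g := by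
    intro Z g hg
    obtain ⟨a, ha⟩ := h g hg
    obtain ⟨p, -, hp⟩ := Types.exists_of_isPullback (sqZ Z) a (ULift.up g) (ha.trans (hξ g).symm)
    exact ⟨p, congrArg ULift.down hp⟩
  choose p hp using key
  have hw : ∀ (Z : Over S) q, m.app (op Z) ((pullback.fst m ξ).app (op Z) q)
      = ξ.app (op Z) ((pullback.snd m ξ).app (op Z) q) := fun Z q =>
    congrArg (fun t : _ ⟶ F => t.app (op Z) q) sq.w
  have hext : ∀ {Z : Over S} (q q' : (pullback m ξ).obj (op Z)),
      (pullback.snd m ξ).app (op Z) q = (pullback.snd m ξ).app (op Z) q' → q = q' := by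
    intro Z q q' e
    refine Types.ext_of_isPullback (sqZ Z) (app_injective m ?_) e
    exact (hw Z q).trans ((congrArg _ e).trans (hw Z q').symm)
  let x : Presieve.FamilyOfElements (pullback m ξ) R.arrows := fun Z g hg => p g hg
  have hnat : ∀ {Z Z' : Over S} (k : Z' ⟶ Z) (q : (pullback m ξ).obj (op Z)),
      ((pullback.snd m ξ).app (op Z') ((pullback m ξ).map k.op q)).down
        = k ≫ ((pullback.snd m ξ).app (op Z) q).down := fun k q =>
    congrArg ULift.down (NatTrans.naturality_apply (pullback.snd m ξ) k.op q)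
  have hx : x.Compatible := by
    intro Y₁ Y₂ Z g₁ g₂ f₁ f₂ h₁ h₂ e
    refine hext _ _ (ULift.ext _ _ ?_)
    rw [hnat, hnat, hp, hp, e]
  obtain ⟨q, hq, -⟩ := (((isSheaf_iff_isSheaf_of_type _ _).1 hP) R hR) x hx
  refine ⟨(pullback.fst m ξ).app (op T) q, ?_⟩
  have hid : (pullback.snd m ξ).app (op T) q = ULift.up (𝟙 T) := by
    refine ((((isSheaf_iff_isSheaf_of_type _ _).1 ((yon S).obj T).property) R hR).isSeparatedFor).ext ?_
    intro Z g hg
    refine ULift.ext _ _ ?_
    change (((yon S).obj T).obj.map g.op _).down = (((yon S).obj T).obj.map g.op (ULift.up (𝟙 T))).down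
    change _ = g ≫ 𝟙 T
    rw [Category.comp_id]
    refine ((hnat g q).symm.trans ?_)
    exact (congrArg (fun r => ((pullback.snd m ξ).app (op Z) r).down) (hq g hg)).trans (hp g hg)
  rw [hw, hid, hξ, op_id, Functor.map_id_apply]

end Groth.Agent.H12AlgSp.SubfunctorGlue

namespace Groth.Agent.H12AlgSp.SubfunctorGlue

variable {S : Scheme.{u}} {F : PSp S} {ι : Type v} {Fi : ι → PSp S}

theorem map_map (F : PSp S) {A B C : Over S} (f : B ⟶ A) (g : C ⟶ B) (x : F.obj (op A)) :
    F.map g.op (F.map f.op x) = F.map (g ≫ f).op x := by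
  rw [op_comp, Functor.map_comp_apply]

variable (m : ∀ i, Fi i ⟶ F) [∀ i, Mono (m i)] (hb : ∀ i, RepBySp (m i))
  (hc : ∀ (T : Over S) (x : F.obj (op T)), ∃ R ∈ (AlgSp.J S) T,
      ∀ ⦃T' : Over S⦄ (f : T' ⟶ T), R.arrows f → ∃ i, F.map f.op x ∈ Set.range ((m i).app (op T')))

include hb hc in
theorem exists_nbhd (T : Over S) (s : F.obj (op T)) (t : T.left) :
    ∃ O : T.left.Opens, t ∈ O ∧ ∃ i, F.map (openIncl T O).op s ∈ Set.range ((m i).app _) := by
  obtain ⟨R, hR, h⟩ := hc T s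
  obtain ⟨κ, C, c, hfl, hfp, hsur, hcR⟩ := exists_cover_of_mem_J hR
  obtain ⟨k, z, hz⟩ := hsur t
  obtain ⟨i, a, ha⟩ := h (c k) (hcR k)
  have := hfl k
  have := hfp k
  obtain ⟨O, hO, C', c', j, hj, hcov⟩ := exists_image (c k)
  refine ⟨O, hz ▸ hO z, i, mem_range_of_local (m i) (hb i) _ hcov fun Z g hg => ?_⟩
  obtain ⟨_, l, _, ⟨_⟩, rfl⟩ := hg
  refine ⟨(Fi i).map (l ≫ j).op a, ?_⟩
  rw [NatTrans.naturality_apply, ha, map_map, map_map, Category.assoc, Category.assoc, hj]

variable (h1 : Presheaf.IsSheaf (QuotSh.J Scheme.zariskiPrecoverage S) F)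
  (ha : ∀ i, Presheaf.IsSheaf (AlgSp.J S) (Fi i))

include hb hc h1 ha in
theorem ext_of_fppf {T : Over S} {R : Sieve T} (hR : R ∈ AlgSp.J S T) (s t : F.obj (op T))
    (h : ∀ ⦃Z : Over S⦄ (g : Z ⟶ T), R.arrows g → F.map g.op s = F.map g.op t) : s = t := by
  choose O hO i hi using exists_nbhd m hb hc T s
  refine ((((isSheaf_iff_isSheaf_of_type _ _).1 h1) _ (zariski_mem_J O fun x => ⟨x, hO x⟩)).isSeparatedFor).ext ?_
  intro Z g hg
  obtain ⟨_, l, _, ⟨x⟩, rfl⟩ := hg
  rw [← map_map, ← map_map]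
  refine congrArg _ ?_
  obtain ⟨a, ha'⟩ := hi x
  have hR' := (AlgSp.J S).pullback_stable (openIncl T (O x)) hR
  obtain ⟨b, hb'⟩ := mem_range_of_local (m (i x)) (hb _) (F.map (openIncl T (O x)).op t) hR'
    (fun Z g hg => ⟨(Fi (i x)).map g.op a, by
      rw [NatTrans.naturality_apply, ha', map_map, map_map]; exact h _ hg⟩)
  rw [← ha', ← hb']
  refine congrArg _ ?_
  refine ((((isSheaf_iff_isSheaf_of_type _ _).1 (ha (i x))) _ hR').isSeparatedFor).ext fun Z g hg => ?_
  refine app_injective (m (i x)) ?_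
  rw [NatTrans.naturality_apply, NatTrans.naturality_apply, ha', hb', map_map, map_map]
  exact h _ hg

include hb hc h1 ha in
theorem exists_local_glue {T : Over S} {R : Sieve T} (hR : R ∈ AlgSp.J S T)
    (x : Presieve.FamilyOfElements F R.arrows) (hx : x.Compatible) (p : T.left) :
    ∃ O : T.left.Opens, p ∈ O ∧ ∃ y : F.obj (op (openOver T O)),
      ∀ ⦃Z : Over S⦄ (g : Z ⟶ openOver T O) (hg : R.arrows (g ≫ openIncl T O)),
        F.map g.op y = x _ hg := by
  obtain ⟨κ, C, c, hfl, hfp, hsur, hcR⟩ := exists_cover_of_mem_J hR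
  obtain ⟨k, z, hz⟩ := hsur p
  obtain ⟨W, hW, i, a, ha'⟩ := exists_nbhd m hb hc (C k) (x (c k) (hcR k)) z
  have := hfl k
  have := hfp k
  have : Flat (openIncl (C k) W ≫ c k).left := inferInstanceAs (Flat (W.ι ≫ (c k).left))
  have : LocallyOfFinitePresentation (openIncl (C k) W ≫ c k).left :=
    inferInstanceAs (LocallyOfFinitePresentation (W.ι ≫ (c k).left))
  obtain ⟨O, hO, C', c', j, hj, hcov⟩ := exists_image (openIncl (C k) W ≫ c k)
  refine ⟨O, hz ▸ hO ⟨z, hW⟩, ?_⟩
  have hmem : ∀ ⦃Z : Over S⦄ (g : Z ⟶ openOver T O), (R.pullback (openIncl T O)).arrows g →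
      ∃ b, ∀ hg : R.arrows (g ≫ openIncl T O), (m i).app (op Z) b = x _ hg := by
    intro Z g hg
    obtain ⟨b, hb'⟩ := mem_range_of_local (m i) (hb i) (x _ hg) ((AlgSp.J S).pullback_stable g hcov)
      (fun Z' l hl => by
        obtain ⟨_, q, _, ⟨_⟩, hq⟩ := hl
        refine ⟨(Fi i).map (q ≫ j).op a, ?_⟩
        rw [NatTrans.naturality_apply, ha', map_map]
        refine hx _ _ (hcR k) hg ?_
        rw [Category.assoc, Category.assoc, ← hj, ← Category.assoc, hq, Category.assoc])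
    exact ⟨b, fun _ => hb'⟩
  choose b hb' using hmem
  have hR' := (AlgSp.J S).pullback_stable (openIncl T O) hR
  let xb : Presieve.FamilyOfElements (Fi i) (R.pullback (openIncl T O)).arrows := b
  have hxb : xb.Compatible := by
    intro Y₁ Y₂ Z g₁ g₂ f₁ f₂ h₁ h₂ e
    refine app_injective (m i) ?_
    change (m i).app _ ((Fi i).map g₁.op (b f₁ h₁)) = (m i).app _ ((Fi i).map g₂.op (b f₂ h₂))
    rw [NatTrans.naturality_apply, NatTrans.naturality_apply, hb' f₁ h₁ h₁, hb' f₂ h₂ h₂]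
    exact hx _ _ h₁ h₂ (by rw [← Category.assoc, ← Category.assoc, e])
  obtain ⟨a', ha'', -⟩ := (((isSheaf_iff_isSheaf_of_type _ _).1 (ha i)) _ hR') xb hxb
  refine ⟨(m i).app _ a', fun Z g hg => ?_⟩
  rw [← NatTrans.naturality_apply, show (Fi i).map g.op a' = xb g hg from ha'' g hg]
  exact hb' g hg hg

include hb hc h1 ha in
theorem isSheaf_fppf : Presheaf.IsSheaf (AlgSp.J S) F := by
  rw [isSheaf_iff_isSheaf_of_type]
  intro T R hR x hx
  choose O hO y hy using exists_local_glue m hb hc h1 ha hR x hx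
  obtain ⟨s, hs, -⟩ := (Presieve.isSheafFor_arrows_iff _ _).1
    ((Presieve.isSheafFor_iff_generate _).2
      (((isSheaf_iff_isSheaf_of_type _ _).1 h1) _ (zariski_mem_J O fun p => ⟨p, hO p⟩)))
    y (fun p q W g₁ g₂ e => ext_of_fppf m hb hc h1 ha
      ((AlgSp.J S).pullback_stable (g₁ ≫ openIncl T (O p)) hR) _ _ fun Z g hg => by
        rw [map_map, map_map]
        have hg₁ : R.arrows ((g ≫ g₁) ≫ openIncl T (O p)) := by rw [Category.assoc]; exact hg
        have hg₂ : R.arrows ((g ≫ g₂) ≫ openIncl T (O q)) := by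
          rw [Category.assoc, ← e]; exact hg
        rw [hy p _ hg₁, hy q _ hg₂]
        congr 1
        rw [Category.assoc, Category.assoc, e])
  refine ⟨s, fun Z h hh => ?_, fun s' hs' => ?_⟩
  · refine ext_of_fppf m hb hc h1 ha
      (open_mem_J (fun p : T.left => h.left ⁻¹ᵁ O p) fun z => ⟨h.left z, hO _⟩) _ _ fun Z' g hg => ?_
    obtain ⟨_, l, _, ⟨p⟩, rfl⟩ := hg
    have hR₁ : R.arrows ((l ≫ resHom h (O p)) ≫ openIncl T (O p)) := by
      rw [Category.assoc, resHom_incl, ← Category.assoc]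
      exact R.downward_closed hh _
    rw [map_map, Category.assoc, ← resHom_incl, ← Category.assoc, ← map_map, hs p, hy p _ hR₁]
    exact ((hx (𝟙 _) (l ≫ openIncl Z _) hR₁ hh (by
      rw [Category.id_comp, Category.assoc, Category.assoc, resHom_incl])).symm.trans
        (by rw [op_id, Functor.map_id_apply])).symm
  · refine ext_of_fppf m hb hc h1 ha hR _ _ fun Z h hh => ?_
    rw [hs' h hh]
    refine (ext_of_fppf m hb hc h1 ha
      (open_mem_J (fun p : T.left => h.left ⁻¹ᵁ O p) fun z => ⟨h.left z, hO _⟩) _ _ fun Z' g hg => ?_).symm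
    obtain ⟨_, l, _, ⟨p⟩, rfl⟩ := hg
    have hR₁ : R.arrows ((l ≫ resHom h (O p)) ≫ openIncl T (O p)) := by
      rw [Category.assoc, resHom_incl, ← Category.assoc]
      exact R.downward_closed hh _
    rw [map_map, Category.assoc, ← resHom_incl, ← Category.assoc, ← map_map, hs p, hy p _ hR₁]
    exact ((hx (𝟙 _) (l ≫ openIncl Z _) hR₁ hh (by
      rw [Category.id_comp, Category.assoc, Category.assoc, resHom_incl])).symm.trans
        (by rw [op_id, Functor.map_id_apply])).symm

end Groth.Agent.H12AlgSp.SubfunctorGlue
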