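import Groth.Agent.H12AlgSp.Codim
import Groth.Agent.H12AlgSp.GeomLift
import Mathlib.FieldTheory.IsAlgClosed.AlgebraicClosure

/-!
Surjectivity on geometric points.
-/

universe u

open CategoryTheory CategoryTheory.Limits AlgebraicGeometry Topology
open AlgSp

namespace Groth.Agent.H12AlgSp

variable {S : Scheme.{u}}

theorem surjective_iff_geometric {X Y : Sp S} (hX : IsAlgSpace X) (hY : IsAlgSpace Y) (f : X ⟶ Y)
    (hf : LocP @LocallyOfFiniteType f) :
    IsSurjectiveMor f ↔ ∀ (k : Type u) [Field k] [IsAlgClosed k] (str : Spec (CommRingCat.of k) ⟶ S)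
        (y : (yon S).obj (Over.mk str) ⟶ Y), ∃ x : (yon S).obj (Over.mk str) ⟶ X, x ≫ f = y := by
  constructor
  · intro hs k _ _ str y
    obtain ⟨z, hz⟩ := hs (Points.map y (Points.ofScheme (Over.mk str) (IsLocalRing.closedPoint k)))
    obtain ⟨r, -, -⟩ := exists_point_of_isPullback (IsPullback.of_hasPullback f y) z
      (Points.ofScheme (Over.mk str) (IsLocalRing.closedPoint k)) hz
    obtain ⟨W, p, hp, hps⟩ := (isAlgSpace_pullback hY.diag hX (IsAlgSpace.yon_obj _) f y).atlas
    obtain ⟨w₀, -⟩ := surjective_ofPt_of_repWith le_rfl hps r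
    obtain ⟨w, hw⟩ := (yon S).map_surjective (p ≫ pullback.snd f y)
    let w' : W.left ⟶ Spec (CommRingCat.of k) := w.left
    have hls := locP_of_isPullback etLocal_lft (IsPullback.of_hasPullback f y) hX hY (IsAlgSpace.yon_obj _) hf
    have : LocallyOfFiniteType w' := hls p (𝟙 _) w hp (repWith_id _ (Over.mk str)) (by rw [hw, Category.comp_id])
    have : JacobsonSpace W.left := LocallyOfFiniteType.jacobsonSpace w'
    obtain ⟨p₀, -, hp₀⟩ := nonempty_inter_closedPoints (Z := (Set.univ : Set W.left)) ⟨w₀, trivial⟩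
      isClosed_univ.isLocallyClosed
    let σ := pointOfClosedPoint w' p₀ hp₀
    let s : Over.mk str ⟶ W := Over.homMk σ (by
      change σ ≫ W.hom = str
      rw [← Over.w w, ← Category.assoc]
      exact (congrArg (· ≫ str) (pointOfClosedPoint_comp w' p₀ hp₀)).trans (Category.id_comp _))
    have hs' : s ≫ w = 𝟙 _ := Over.OverMorphism.ext (pointOfClosedPoint_comp w' p₀ hp₀)
    refine ⟨(yon S).map s ≫ p ≫ pullback.fst f y, ?_⟩
    rw [Category.assoc, Category.assoc, pullback.condition, ← Category.assoc p, ← hw, ← Category.assoc,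
      ← Functor.map_comp, hs', CategoryTheory.Functor.map_id, Category.id_comp]
  · intro h z
    obtain ⟨p, rfl⟩ := Points.mk_surjective z
    let K := AlgebraicClosure p.K
    let ι : Spec (CommRingCat.of K) ⟶ Spec (CommRingCat.of p.K) := Spec.map (CommRingCat.ofHom (algebraMap p.K K))
    let j : Over.mk (ι ≫ p.str) ⟶ p.pt := Over.homMk ι rfl
    obtain ⟨x, hx⟩ := h K (ι ≫ p.str) ((yon S).map j ≫ p.toHom)
    refine ⟨Points.ofPt x (IsLocalRing.closedPoint K), ?_⟩
    rw [Points.map_ofPt, hx, ofPt_map, Points.ofPt_toHom]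

end Groth.Agent.H12AlgSp
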