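import Groth.Agent.H13AlgSp.ThickRep
import Groth.Agent.H7Lim.IdealDescent
import Groth.Agent.S13997

/-!
A morphism which is a closed immersion after base change to a bijective closed subspace.
-/

universe u

open CategoryTheory CategoryTheory.Limits AlgebraicGeometry Opposite
open AlgSp Groth.Agent.H13AlgSp

set_option backward.isDefEq.respectTransparency false

namespace Groth.Agent.H12AlgSp

theorem fg_and_nilpotent_ker {X Y : Scheme.{u}} (i : X ⟶ Y) [IsClosedImmersion i] [Surjective i]
    [LocallyOfFinitePresentation i] (U : Y.affineOpens) :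
    (i.ker.ideal U).FG ∧ IsNilpotent (i.ker.ideal U) := by
  have hfg : (i.ker.ideal U).FG := Groth.Agent.H7Lim.ker_fg_of_locallyOfFinitePresentation i U
  refine ⟨hfg, (Ideal.FG.isNilpotent_iff_le_nilradical hfg).2 fun f hf => ?_⟩
  rw [mem_nilradical, nilpotent_iff_mem_prime]
  intro P hP
  have hz : Y.zeroLocus (U := U.1) (i.ker.ideal U : Set Γ(Y, U.1)) ∩ U = U := by
    rw [← Scheme.IdealSheafData.coe_support_inter, Scheme.Hom.support_ker, i.surjective.range_eq,
      closure_univ, Set.univ_inter]
  have hx : U.2.fromSpec ⟨P, hP⟩ ∈ Y.zeroLocus (U := U.1) (i.ker.ideal U : Set Γ(Y, U.1)) ∩ U := by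
    rw [hz, ← U.2.range_fromSpec]
    exact ⟨_, rfl⟩
  rw [← U.2.fromSpec_image_zeroLocus] at hx
  obtain ⟨q, hq, e⟩ := hx
  rw [U.2.fromSpec.isOpenEmbedding.injective e] at hq
  exact hq hf

variable {S : Scheme.{u}}

theorem closedImmersion_of_bijective_baseChange {X B B' : AlgSp.Space S} (f : X ⟶ B) (g : B' ⟶ B)
    (hg : RepWith @IsClosedImmersion g.hom) (hbij : Function.Surjective (Points.map g.hom))
    {X' : Sp S} {fst : X' ⟶ X.obj} {snd : X' ⟶ B'.obj} (sq : IsPullback fst snd f.hom g.hom)
    (hsnd : RepWith @IsClosedImmersion snd) (hor : IsFiniteTypeMor f.hom ∨ IsFinitePresentationMor g.hom) :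
    RepWith @IsClosedImmersion f.hom := by
  have hgs : RepWith @Surjective g.hom := repWith_surjective_of_map hg.rep hbij
  have hj : IsThickMor g.hom := repWith_inf_iff.2 ⟨hg, hgs⟩
  have hX' : IsAlgSpace X' := isAlgSpace_of_representable snd hsnd.rep B'.property
  let Xs : Space S := ⟨X', hX'⟩
  let i : Xs ⟶ X := ObjectProperty.homMk fst
  let f₁ : Xs ⟶ B' := ObjectProperty.homMk snd
  have hsl : LocP @LocallyOfFiniteType snd := locP_of_repWith etLocal_lft
    (repWith_le (fun _ _ k (_ : IsClosedImmersion k) => inferInstanceAs (LocallyOfFiniteType k)) hsnd)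
  have hl : LocP @LocallyOfFiniteType snd ↔ LocP @LocallyOfFiniteType f.hom := by
    rcases hor with h | h
    · exact ⟨fun _ => h.1, fun _ => hsl⟩
    · obtain ⟨c⟩ := Groth.Agent.H13AlgSp.ThickCharts.exists_charts X.property B.property hj sq
      refine c.locP_iff etLocal_lft ?_
      haveI := c.thickV.1
      haveI := c.thickV.2
      haveI := c.thickU.1
      haveI := c.thickU.2
      haveI : LocallyOfFinitePresentation c.jV.left :=
        (locP_of_isPullback etLocal_lfp c.sqj B'.property B.property (IsAlgSpace.yon_obj _) h.1)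
          (𝟙 _) (𝟙 _) c.jV (repWith_id _ _) (repWith_id _ _) (by rw [Category.id_comp, Category.comp_id])
      haveI : LocallyOfFinitePresentation c.iU.left :=
        MorphismProperty.of_isPullback (P := @LocallyOfFinitePresentation) c.sq.flip inferInstance
      exact (Groth.Agent.S13997.result c.h'.left c.h.left c.iU.left c.jV.left c.thickU c.thickV
        (fun U => (fg_and_nilpotent_ker c.iU.left U).2) (fun U => (fg_and_nilpotent_ker c.jV.left U).2)
        (fun U => (fg_and_nilpotent_ker c.iU.left U).1) c.sq.w.symm).symm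
  exact (Groth.Agent.H13AlgSp.ThickRep.closedImmersion_iff (i := i) (j := g) (f := f₁) (f' := f) hj sq hl).1 hsnd

end Groth.Agent.H12AlgSp
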