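import Groth.Agent.H12AlgSp.AffineLimit
import Groth.Agent.H12AlgSp.Charts
import Groth.Agent.H12AlgSp.PointsTop

/-!
The topology of a limit of algebraic spaces with affine transition maps.
-/

universe u

open CategoryTheory CategoryTheory.Limits AlgebraicGeometry Opposite Topology
open AlgSp Groth.Agent.H13AlgSp

set_option backward.isDefEq.respectTransparency false

attribute [local instance] CategoryTheory.isConnected_of_hasTerminal

namespace Groth.Agent.H12AlgSp

variable {S : Scheme.{u}}

/-- In a cofiltered limit of affine schemes every neighbourhood contains a basic open from a finite stage. -/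
theorem exists_stage_open {J : Type u} [SmallCategory J] [IsCofiltered J] (D : J ⥤ Scheme.{u})
    (c : Cone D) (hc : IsLimit c) [∀ j, IsAffine (D.obj j)] [IsAffine c.pt] {x : c.pt} {W : Set c.pt}
    (hW : IsOpen W) (hx : x ∈ W) :
    ∃ (j : J) (O : (D.obj j).Opens), c.π.app j x ∈ O ∧ (c.π.app j) ⁻¹' (O : Set (D.obj j)) ⊆ W := by
  obtain ⟨_, ⟨_, ⟨a, rfl⟩, rfl⟩, hxa, haW⟩ :=
    (isBasis_basicOpen c.pt).exists_subset_of_mem_open hx hW
  obtain ⟨j, b, rfl⟩ := exists_appTop_π_eq_of_isAffine_of_isLimit D c hc a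
  have e : (c.π.app j) ⁻¹ᵁ (D.obj j).basicOpen b = c.pt.basicOpen ((c.π.app j).appTop b) :=
    Scheme.preimage_basicOpen _ _
  exact ⟨j, (D.obj j).basicOpen b, e.ge hxa, fun y hy => haW (e.le hy)⟩

variable {I : Type u} [SmallCategory I] [IsCofiltered I] {D : I ⥤ Sp S}

theorem topology_limit (hD : ∀ i, IsAlgSpace (D.obj i)) (hDa : ∀ (i j : I) (φ : i ⟶ j), IsAffineMor (D.map φ))
    {c : Cone D} (hc : IsLimit c) :
    Points.topologicalSpace c.pt =
      ⨅ i, TopologicalSpace.induced (Points.map (c.π.app i)) (Points.topologicalSpace (D.obj i)) := by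
  refine le_antisymm (le_iInf fun i => continuous_iff_le_induced.1 (Points.continuous_map (c.π.app i))) ?_
  intro W hW
  have hW' : IsOpen W := hW
  rw [@isOpen_iff_forall_mem_open _ (⨅ i, TopologicalSpace.induced (Points.map (c.π.app i))
    (Points.topologicalSpace (D.obj i)))]
  intro x hx
  let i : I := IsCofiltered.nonempty.some
  obtain ⟨ι, T, a, hT, ha, -, hcov⟩ := exists_affine_family_over (hD i)
  obtain ⟨k, z, hz⟩ := hcov (Points.map (c.π.app i) x)
  obtain ⟨K, cK, hcK, w, fst, f, p, sq, haff, hfst, hw, hK⟩ := exists_pullback_proj_data hDa hc i (hT k) (a k)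
  have sqj : ∀ j : Over i, IsPullback fst ((yon S).map (cK.π.app j)) (c.π.app j.left) (f j) := fun j =>
    IsPullback.of_bot (by rw [c.w, ← Functor.map_comp, hw]; exact sq) (hfst j) (hK j).2
  obtain ⟨v, hv, -⟩ := exists_point_of_isPullback sq x (Points.ofScheme (T k) z)
    ((Points.ofPt_eq_map_ofScheme (a k) z).symm.trans hz).symm
  obtain ⟨v, rfl⟩ := (Points.schemeEquiv cK.pt).surjective v
  have hv' : Points.ofPt fst v = x := (Points.ofPt_eq_map_ofScheme fst v).trans hv
  have : ∀ j, IsAffine ((K ⋙ Over.forget S).obj j) := fun j => (hK j).1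
  have : IsAffine ((Over.forget S).mapCone cK).pt := haff
  have hlim : IsLimit ((Over.forget S).mapCone cK) := isLimitOfPreserves _ hcK
  obtain ⟨j, O', hO, hOW⟩ := exists_stage_open _ _ hlim (x := v) (W := Points.ofPt fst ⁻¹' W)
    (hW'.preimage (Points.continuous_ofPt fst)) (by show Points.ofPt fst v ∈ W; rw [hv']; exact hx)
  let O : (K.obj j).left.Opens := O'
  let B : Set (Points (D.obj j.left)) := Points.ofPt (f j) '' (O : Set (K.obj j).left)
  have hB : IsOpen B := isOpenMap_ofPt_of_repWith etale_le_universallyOpen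
    (repWith_of_isPullback (hK j).2.flip (ha k)) _ O.2
  refine ⟨Points.map (c.π.app j.left) ⁻¹' B, fun x' ⟨z', hz', e⟩ => ?_, ?_, ?_⟩
  · obtain ⟨v', hv₁, hv₂⟩ := exists_point_of_isPullback (sqj j) x' (Points.ofScheme (K.obj j) z')
      ((Points.ofPt_eq_map_ofScheme (f j) z').symm.trans e).symm
    obtain ⟨v', rfl⟩ := (Points.schemeEquiv cK.pt).surjective v'
    rw [← hv₁]
    refine Eq.mp (congrArg (· ∈ W) (Points.ofPt_eq_map_ofScheme fst v')) (hOW ?_)
    show (cK.π.app j).left v' ∈ O
    have : (cK.π.app j).left v' = z' := by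
      apply (Points.schemeEquiv (K.obj j)).injective
      refine Eq.trans ?_ hv₂
      change Points.ofScheme _ _ = Points.map _ (Points.ofScheme _ _)
      rw [← Points.ofPt_eq_map_ofScheme, ← Category.comp_id ((yon S).map (cK.π.app j)), ofPt_map,
        Points.ofPt_eq_map_ofScheme, Points.map_id]
      rfl
    rwa [this]
  · exact (@Continuous.isOpen_preimage _ _ (TopologicalSpace.induced (Points.map (c.π.app j.left)) _) _ _
      continuous_induced_dom _ hB) |> iInf_le (fun i => TopologicalSpace.induced (Points.map (c.π.app i))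
        (Points.topologicalSpace (D.obj i))) j.left _
  · show Points.map (c.π.app j.left) x ∈ B
    rw [← hv', Points.map_ofPt, hfst, ofPt_map]
    exact ⟨_, hO, rfl⟩

end Groth.Agent.H12AlgSp
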