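import Groth.Agent.H12AlgSp.EtSupport
import Groth.Agent.H12AlgSp.EtOpens
import Mathlib.AlgebraicGeometry.Morphisms.QuasiFinite
import Mathlib.AlgebraicGeometry.Morphisms.FlatMono
import Mathlib.CategoryTheory.Sites.Point.Category

/-!
Points of the small etale site of an algebraic space come from geometric points.
-/

set_option backward.isDefEq.respectTransparency false

universe u

open CategoryTheory CategoryTheory.Limits AlgebraicGeometry Opposite Topology
open AlgSp

namespace Groth.Agent.H12AlgSp.ToposPoints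

variable {S : Scheme.{u}} {X : Sp S} (P : GrothendieckTopology.Point.{u} (etTop X))

/-- The points of the topos given by a fibre functor form a category of neighbourhoods. -/
abbrev Nb := P.fiber.Elements

theorem fiber_map_comp {A B C : EtOver X} (f : A ⟶ B) (g : B ⟶ C) (a : P.fiber.obj A) :
    P.fiber.map (f ≫ g) a = P.fiber.map g (P.fiber.map f a) := by
  rw [Functor.map_comp]; rfl

/-- Factorisation of a morphism of the site through an open subscheme. -/
theorem exists_factor_etOpen {A E : EtOver X} (f : A ⟶ E) (O : E.obj.left.left.Opens)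
    (h : Set.range f.hom.left.left ⊆ (O : Set ↥E.obj.left.left)) :
    ∃ k : A ⟶ etOpen E O, k ≫ etOpenι E O = f := by
  have h' : Set.range f.hom.left.left ⊆ Set.range O.ι := by rwa [Scheme.Opens.range_ι]
  let k : A.obj.left ⟶ (etOpen E O).obj.left := Over.homMk (IsOpenImmersion.lift O.ι f.hom.left.left h') (by
    change IsOpenImmersion.lift O.ι f.hom.left.left h' ≫ O.ι ≫ E.obj.left.hom = _
    rw [IsOpenImmersion.lift_fac_assoc]
    exact Over.w f.hom.left)
  have hk : k ≫ (etOpenι E O).hom.left = f.hom.left :=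
    Over.OverMorphism.ext (IsOpenImmersion.lift_fac O.ι f.hom.left.left h')
  refine ⟨EtOver.homMk k ?_, EtOver.hom_ext _ _ hk⟩
  change (yon S).map k ≫ (yon S).map (etOpenι E O).hom.left ≫ E.obj.hom = _
  rw [← Category.assoc, ← Functor.map_comp, hk]
  exact EtOver.w f

theorem range_etOpenι (E : EtOver X) (O : E.obj.left.left.Opens) :
    Set.range (etOpenι E O).hom.left.left = (O : Set ↥E.obj.left.left) :=
  Scheme.Opens.range_ι O

/-- The opens through which an element of the fibre factors. -/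
def InOpen (N : Nb P) (O : N.1.obj.left.left.Opens) : Prop :=
  ∃ a : P.fiber.obj (etOpen N.1 O), P.fiber.map (etOpenι N.1 O) a = N.2

theorem inOpen_of_hom {N M : Nb P} (g : M ⟶ N) (O : N.1.obj.left.left.Opens)
    (h : Set.range g.val.hom.left.left ⊆ (O : Set ↥N.1.obj.left.left)) : InOpen P N O := by
  obtain ⟨k, hk⟩ := exists_factor_etOpen g.val O h
  exact ⟨P.fiber.map k M.2, by rw [← fiber_map_comp, hk]; exact g.property⟩

theorem exists_hom_of_inOpen {N : Nb P} {O : N.1.obj.left.left.Opens} (h : InOpen P N O) :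
    ∃ (M : Nb P) (g : M ⟶ N), Set.range g.val.hom.left.left ⊆ (O : Set ↥N.1.obj.left.left) := by
  obtain ⟨a, ha⟩ := h
  exact ⟨⟨etOpen N.1 O, a⟩, CategoryOfElements.homMk _ _ (etOpenι N.1 O) ha, (range_etOpenι N.1 O).le⟩

theorem inOpen_mono {N : Nb P} {O O' : N.1.obj.left.left.Opens} (hle : O ≤ O') (h : InOpen P N O) :
    InOpen P N O' := by
  obtain ⟨M, g, hg⟩ := exists_hom_of_inOpen P h
  exact inOpen_of_hom P g O' (hg.trans hle)

theorem inOpen_inf {N : Nb P} {O O' : N.1.obj.left.left.Opens} (h : InOpen P N O) (h' : InOpen P N O') :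
    InOpen P N (O ⊓ O') := by
  obtain ⟨M, g, hg⟩ := exists_hom_of_inOpen P h
  obtain ⟨M', g', hg'⟩ := exists_hom_of_inOpen P h'
  obtain ⟨L, l, l', hl⟩ := IsCofiltered.cospan g g'
  refine inOpen_of_hom P (l ≫ g) _ fun y hy => ⟨?_, ?_⟩
  · obtain ⟨z, rfl⟩ := hy
    exact hg ⟨l.val.hom.left.left z, rfl⟩
  · rw [hl] at hy
    obtain ⟨z, rfl⟩ := hy
    exact hg' ⟨l'.val.hom.left.left z, rfl⟩

theorem exists_lift_of_cover {N : Nb P} {ι : Type*} (Y : ι → EtOver X) (g : ∀ i, Y i ⟶ N.1)
    (h : ∀ x : ↥N.1.obj.left.left, ∃ i, x ∈ Set.range (g i).hom.left.left) :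
    ∃ (i : ι) (a : P.fiber.obj (Y i)), P.fiber.map (g i) a = N.2 := by
  obtain ⟨Z, f, ⟨_, k, _, ⟨i⟩, rfl⟩, z, hz⟩ := P.jointly_surjective _ (ofArrows_mem_etTop Y g h) N.2
  exact ⟨i, P.fiber.map k z, (fiber_map_comp P k (g i) z).symm.trans hz⟩

theorem exists_inOpen_of_cover {N : Nb P} {ι : Type*} (O : ι → N.1.obj.left.left.Opens)
    (h : InOpen P N (⨆ i, O i)) : ∃ i, InOpen P N (O i) := by
  obtain ⟨M, g, hg⟩ := exists_hom_of_inOpen P h
  obtain ⟨i, a, ha⟩ := exists_lift_of_cover P (N := M)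
    (fun i => etOpen M.1 (g.val.hom.left.left ⁻¹ᵁ O i)) (fun i => etOpenι M.1 _) (fun x => by
      obtain ⟨i, hi⟩ := TopologicalSpace.Opens.mem_iSup.1 (hg ⟨x, rfl⟩)
      exact ⟨i, (range_etOpenι M.1 _).ge hi⟩)
  refine ⟨i, inOpen_of_hom P (M := ⟨_, a⟩) (CategoryOfElements.homMk _ _ (etOpenι M.1 _ ≫ g.val) ?_) _ ?_⟩
  · change P.fiber.map (etOpenι M.1 _ ≫ g.val) a = N.2
    rw [fiber_map_comp, ha]
    exact g.property
  · rintro _ ⟨z, rfl⟩
    exact ((range_etOpenι M.1 (g.val.hom.left.left ⁻¹ᵁ O i)).le ⟨z, rfl⟩ :)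

theorem exists_point (N : Nb P) : ∃ x : ↥N.1.obj.left.left, ∀ O, InOpen P N O ↔ x ∈ O := by
  let V : N.1.obj.left.left.Opens := ⨆ O : {O : N.1.obj.left.left.Opens // ¬ InOpen P N O}, O.1
  have hV : ¬ InOpen P N V := fun h => by
    obtain ⟨⟨O, hO⟩, h'⟩ := exists_inOpen_of_cover P _ h
    exact hO h'
  have key : ∀ O : N.1.obj.left.left.Opens, ((V : Set ↥N.1.obj.left.left)ᶜ ∩ O).Nonempty ↔ InOpen P N O := by
    intro O
    constructor
    · rintro ⟨y, hyV, hyO⟩
      by_contra hO
      exact hyV (TopologicalSpace.Opens.mem_iSup.2 ⟨⟨O, hO⟩, hyO⟩)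
    · intro hO
      by_contra hne
      refine hV (inOpen_mono P (fun y hy => ?_) hO)
      by_contra hyV
      exact hne ⟨y, hyV, hy⟩
  have htop : InOpen P N ⊤ := inOpen_of_hom P (𝟙 N) ⊤ fun _ _ => trivial
  have hirr : IsIrreducible (V : Set ↥N.1.obj.left.left)ᶜ := by
    refine ⟨((key ⊤).2 htop).mono Set.inter_subset_left, fun O O' hO hO' h h' => ?_⟩
    exact (key (⟨O, hO⟩ ⊓ ⟨O', hO'⟩)).2 (inOpen_inf P ((key ⟨O, hO⟩).1 h) ((key ⟨O', hO'⟩).1 h'))
  refine ⟨hirr.genericPoint, fun O => ?_⟩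
  exact (key O).symm.trans ((hirr.isGenericPoint_genericPoint V.isOpen.isClosed_compl).mem_open_set_iff O.isOpen).symm

/-- The point of a neighbourhood singled out by the fibre functor. -/
noncomputable def pt (N : Nb P) : ↥N.1.obj.left.left := (exists_point P N).choose

theorem inOpen_iff (N : Nb P) (O : N.1.obj.left.left.Opens) : InOpen P N O ↔ pt P N ∈ O :=
  (exists_point P N).choose_spec O

theorem pt_map {M N : Nb P} (g : M ⟶ N) : g.val.hom.left.left (pt P M) = pt P N := by
  have h : ∀ O : N.1.obj.left.left.Opens, g.val.hom.left.left (pt P M) ∈ O ↔ pt P N ∈ O := by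
    intro O
    rw [← inOpen_iff P N O]
    change pt P M ∈ g.val.hom.left.left ⁻¹ᵁ O ↔ _
    rw [← inOpen_iff P M]
    constructor
    · intro hO
      obtain ⟨L, l, hl⟩ := exists_hom_of_inOpen P hO
      exact inOpen_of_hom P (l ≫ g) O (by rintro _ ⟨z, rfl⟩; exact hl ⟨z, rfl⟩)
    · intro hO
      obtain ⟨L, l, hl⟩ := exists_hom_of_inOpen P hO
      obtain ⟨K, k, k', hk⟩ := IsCofiltered.cospan l g
      refine inOpen_of_hom P k' _ ?_
      rintro _ ⟨z, rfl⟩
      change (k' ≫ g).val.hom.left.left z ∈ O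
      rw [← hk]
      exact hl ⟨k.val.hom.left.left z, rfl⟩
  exact (inseparable_iff_forall_isOpen.2 fun O hO => h ⟨O, hO⟩).eq

/-- The transition maps of residue fields. -/
noncomputable def resMap {M N : Nb P} (g : M ⟶ N) :
    N.1.obj.left.left.residueField (pt P N) ⟶ M.1.obj.left.left.residueField (pt P M) :=
  (Scheme.residueFieldCongr (pt_map P g)).inv ≫ g.val.hom.left.left.residueFieldMap (pt P M)

@[reassoc]
theorem specMap_resMap {M N : Nb P} (g : M ⟶ N) :
    Spec.map (resMap P g) ≫ N.1.obj.left.left.fromSpecResidueField (pt P N) =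
      M.1.obj.left.left.fromSpecResidueField (pt P M) ≫ g.val.hom.left.left := by
  rw [resMap, Spec.map_comp, Category.assoc]
  change _ ≫ Spec.map (Scheme.residueFieldCongr (pt_map P g).symm).hom ≫ _ = _
  rw [Scheme.residueFieldCongr_fromSpecResidueField]
  exact g.val.hom.left.left.SpecMap_residueFieldMap_fromSpecResidueField _

/-- The diagram of residue fields. -/
noncomputable def resFunctor : (Nb P)ᵒᵖ ⥤ CommRingCat.{u} where
  obj N := N.unop.1.obj.left.left.residueField (pt P N.unop)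
  map g := resMap P g.unop
  map_id N := by
    refine Spec.map_injective ((cancel_mono (N.unop.1.obj.left.left.fromSpecResidueField (pt P N.unop))).1 ?_)
    rw [specMap_resMap, Spec.map_id, Category.id_comp]
    exact Category.comp_id _
  map_comp {L M N} f g := by
    refine Spec.map_injective ((cancel_mono (L.unop.1.obj.left.left.fromSpecResidueField (pt P L.unop))).1 ?_)
    rw [specMap_resMap, Spec.map_comp, Category.assoc, specMap_resMap, specMap_resMap_assoc]
    rfl

instance : HasColimitsOfShape (Nb P)ᵒᵖ CommRingCat.{u} := hasColimitsOfShape_of_finallySmall _ _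

theorem nontrivial_colimit : Nontrivial ↥(colimit (resFunctor P)) := by
  have : PreservesColimitsOfShape (Nb P)ᵒᵖ (forget CommRingCat.{u}) :=
    Functor.Final.preservesColimitsOfShape_of_final (FinallySmall.fromFilteredFinalModel.{u} (Nb P)ᵒᵖ) _
  refine ⟨⟨0, 1, fun h => ?_⟩⟩
  obtain ⟨N⟩ := (IsFiltered.nonempty : Nonempty (Nb P)ᵒᵖ)
  have h' : (colimit.ι (resFunctor P) N).hom (0 : ((resFunctor P).obj N : Type u)) =
      (colimit.ι (resFunctor P) N).hom 1 := by
    rw [map_zero, map_one]; exact h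
  obtain ⟨M, g, hg⟩ := ((colimit.isColimit (resFunctor P)).eq_iff' _ _).1 h'
  change (resMap P g.unop).hom (0 : ↥(N.unop.1.obj.left.left.residueField (pt P N.unop))) =
    (resMap P g.unop).hom 1 at hg
  rw [map_zero, map_one] at hg
  exact zero_ne_one hg

theorem exists_field : ∃ (K : Type u) (_ : Field K) (_ : IsAlgClosed K),
    Nonempty (↥(colimit (resFunctor P)) →+* K) := by
  have := nontrivial_colimit P
  obtain ⟨M, hM⟩ := Ideal.exists_maximal ↥(colimit (resFunctor P))
  let : Field (↥(colimit (resFunctor P)) ⧸ M) := Ideal.Quotient.field M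
  exact ⟨AlgebraicClosure (↥(colimit (resFunctor P)) ⧸ M), inferInstance, inferInstance,
    ⟨(algebraMap _ _).comp (Ideal.Quotient.mk M)⟩⟩

section Field

variable {K : Type u} [Field K] (j : ↥(colimit (resFunctor P)) →+* K)

/-- The geometric lift attached to an element of the fibre. -/
noncomputable def liftMor (N : Nb P) : Spec (CommRingCat.of K) ⟶ N.1.obj.left.left :=
  Spec.map (colimit.ι (resFunctor P) (op N) ≫ CommRingCat.ofHom j) ≫
    N.1.obj.left.left.fromSpecResidueField (pt P N)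

theorem liftMor_map {M N : Nb P} (g : M ⟶ N) :
    liftMor P j M ≫ g.val.hom.left.left = liftMor P j N := by
  rw [liftMor, liftMor, Category.assoc, ← specMap_resMap P g, ← Category.assoc, ← Spec.map_comp]
  congr 2
  rw [← Category.assoc]
  exact congrArg (· ≫ CommRingCat.ofHom j) (colimit.w (resFunctor P) g.op)

theorem liftMor_apply (N : Nb P) (s : ↥(Spec (CommRingCat.of K))) : liftMor P j N s = pt P N := by
  rw [liftMor, Scheme.Hom.comp_apply]
  exact Scheme.fromSpecResidueField_apply _ _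

variable (N₀ : Nb P)

/-- The geometric point attached to the fibre functor. -/
noncomputable def fieldPt : FieldPt X :=
  fieldPtOfHom (str := liftMor P j N₀ ≫ N₀.1.obj.left.hom)
    ((yon S).map (Over.homMk (liftMor P j N₀) rfl) ≫ N₀.1.obj.hom)

theorem liftMor_hom (N : Nb P) : liftMor P j N ≫ N.1.obj.left.hom = (fieldPt P j N₀).str := by
  obtain ⟨M, g, g₀, -⟩ := IsCofilteredOrEmpty.cone_objs N N₀
  change _ = liftMor P j N₀ ≫ N₀.1.obj.left.hom
  rw [← liftMor_map P j g, ← liftMor_map P j g₀, Category.assoc, Category.assoc]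
  exact congrArg (liftMor P j M ≫ ·) ((Over.w g.val.hom.left).trans (Over.w g₀.val.hom.left).symm)

theorem liftMor_comp (N : Nb P) :
    (yon S).map (Over.homMk (liftMor P j N) (liftMor_hom P j N₀ N) : (fieldPt P j N₀).pt ⟶ N.1.obj.left) ≫
      N.1.obj.hom = (fieldPt P j N₀).toHom := by
  rw [show (fieldPt P j N₀).toHom = (yon S).map (Over.homMk (liftMor P j N₀) rfl) ≫ N₀.1.obj.hom from
    toHom_fieldPtOfHom _]
  obtain ⟨M, g, g₀, -⟩ := IsCofilteredOrEmpty.cone_objs N N₀
  let m : Over.mk (liftMor P j N₀ ≫ N₀.1.obj.left.hom) ⟶ M.1.obj.left :=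
    Over.homMk (liftMor P j M) (liftMor_hom P j N₀ M)
  have h₁ : m ≫ g.val.hom.left = Over.homMk (liftMor P j N) (liftMor_hom P j N₀ N) :=
    Over.OverMorphism.ext (liftMor_map P j g)
  have h₀ : m ≫ g₀.val.hom.left = Over.homMk (liftMor P j N₀) rfl :=
    Over.OverMorphism.ext (liftMor_map P j g₀)
  rw [← h₁, ← h₀, Functor.map_comp, Functor.map_comp, Category.assoc, Category.assoc, EtOver.w g.val,
    EtOver.w g₀.val]

/-- The lift attached to an element of the fibre. -/
noncomputable def theta (N : Nb P) : (FieldPt.liftsTo (fieldPt P j N₀)).obj N.1 :=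
  ⟨Over.homMk (liftMor P j N) (liftMor_hom P j N₀ N), liftMor_comp P j N₀ N⟩

theorem theta_map {M N : Nb P} (g : M ⟶ N) :
    (FieldPt.liftsTo (fieldPt P j N₀)).map g.val (theta P j N₀ M) = theta P j N₀ N :=
  Subtype.ext (Over.OverMorphism.ext (liftMor_map P j g))

theorem theta_injective {E : EtOver X} (a a' : P.fiber.obj E)
    (h : theta P j N₀ ⟨E, a⟩ = theta P j N₀ ⟨E, a'⟩) : a = a' := by
  obtain ⟨W, f, f', -⟩ := IsCofilteredOrEmpty.cone_objs (C := Nb P) ⟨E, a⟩ ⟨E, a'⟩
  let lim := EtOver.prodIsLimit E E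
  let ff : W.1 ⟶ EtOver.prodObj E E := lim.lift (BinaryFan.mk f.val f'.val)
  let Δ : E ⟶ EtOver.prodObj E E := lim.lift (BinaryFan.mk (𝟙 E) (𝟙 E))
  have hf₁ : ff ≫ EtOver.prodFst E E = f.val := lim.fac (BinaryFan.mk f.val f'.val) ⟨WalkingPair.left⟩
  have hf₂ : ff ≫ EtOver.prodSnd E E = f'.val := lim.fac (BinaryFan.mk f.val f'.val) ⟨WalkingPair.right⟩
  have hΔ₁ : Δ ≫ EtOver.prodFst E E = 𝟙 E := lim.fac (BinaryFan.mk (𝟙 E) (𝟙 E)) ⟨WalkingPair.left⟩
  have hΔ₂ : Δ ≫ EtOver.prodSnd E E = 𝟙 E := lim.fac (BinaryFan.mk (𝟙 E) (𝟙 E)) ⟨WalkingPair.right⟩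
  have hd₁ : Δ.hom.left.left ≫ (EtOver.prodFst E E).hom.left.left = 𝟙 _ :=
    congrArg (fun k => k.hom.left.left) hΔ₁
  have hΔ' : IsOpenImmersion Δ.hom.left.left := by
    have := EtOver.etale_left Δ
    have : Mono Δ.hom.left.left := (SplitMono.mk _ hd₁).mono
    exact IsOpenImmersion.of_flat_of_mono _
  -- the lift lands in the equaliser
  let l := theta P j N₀ W
  have h₁ : l.1.left ≫ f.val.hom.left.left = (theta P j N₀ ⟨E, a⟩).1.left := liftMor_map P j f
  have h₂ : l.1.left ≫ f'.val.hom.left.left = (theta P j N₀ ⟨E, a⟩).1.left := by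
    rw [h]; exact liftMor_map P j f'
  have hmem : pt P W ∈ ff.hom.left.left ⁻¹ᵁ Δ.hom.left.left.opensRange := by
    have e : l.1 ≫ ff.hom.left = (theta P j N₀ ⟨E, a⟩).1 ≫ Δ.hom.left := by
      apply Functor.relativelyRepresentable.hom_ext'
      · change (_ ≫ _) ≫ (EtOver.prodSnd E E).hom.left = (_ ≫ _) ≫ (EtOver.prodSnd E E).hom.left
        rw [Category.assoc, Category.assoc]
        exact ((congrArg (fun k => l.1 ≫ k.hom.left) hf₂).trans (Over.OverMorphism.ext h₂)).trans
          ((congrArg (fun k => (theta P j N₀ ⟨E, a⟩).1 ≫ k.hom.left) hΔ₂).trans (Category.comp_id _)).symm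
      · change (_ ≫ _) ≫ (EtOver.prodFst E E).hom.left = (_ ≫ _) ≫ (EtOver.prodFst E E).hom.left
        rw [Category.assoc, Category.assoc]
        exact ((congrArg (fun k => l.1 ≫ k.hom.left) hf₁).trans (Over.OverMorphism.ext h₁)).trans
          ((congrArg (fun k => (theta P j N₀ ⟨E, a⟩).1 ≫ k.hom.left) hΔ₁).trans (Category.comp_id _)).symm
    change ff.hom.left.left (pt P W) ∈ Set.range Δ.hom.left.left
    refine ⟨pt P ⟨E, a⟩, ?_⟩
    have e' := congrArg (fun k : (fieldPt P j N₀).pt ⟶ _ => k.left (default : Spec (CommRingCat.of K))) e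
    change ff.hom.left.left (liftMor P j W _) = Δ.hom.left.left (liftMor P j ⟨E, a⟩ _) at e'
    rw [liftMor_apply, liftMor_apply] at e'
    exact e'.symm
  obtain ⟨M, g, hg⟩ := exists_hom_of_inOpen P ((inOpen_iff P W _).2 hmem)
  have heq : g.val ≫ f.val = g.val ≫ f'.val := by
    have hr : Set.range (g.val ≫ ff).hom.left.left ⊆ Set.range Δ.hom.left.left := by
      rintro _ ⟨z, rfl⟩; exact hg ⟨z, rfl⟩
    have hd₂ : Δ.hom.left.left ≫ (EtOver.prodSnd E E).hom.left.left = 𝟙 _ :=
      congrArg (fun k => k.hom.left.left) hΔ₂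
    rw [← hf₁, ← hf₂]
    refine EtOver.hom_ext _ _ (Over.OverMorphism.ext ?_)
    change (g.val ≫ ff).hom.left.left ≫ (EtOver.prodFst E E).hom.left.left =
      (g.val ≫ ff).hom.left.left ≫ (EtOver.prodSnd E E).hom.left.left
    rw [← IsOpenImmersion.lift_fac Δ.hom.left.left _ hr, Category.assoc, Category.assoc, hd₁, hd₂]
  calc a = P.fiber.map (g.val ≫ f.val) M.2 := by rw [fiber_map_comp, g.property, f.property]
    _ = P.fiber.map (g.val ≫ f'.val) M.2 := by rw [heq]
    _ = a' := by rw [fiber_map_comp, g.property, f'.property]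

theorem finite_lifts {Q W : EtOver X} (g : Q ⟶ W) [IsAffine Q.obj.left.left] [IsAffine W.obj.left.left]
    (s : (fieldPt P j N₀).pt ⟶ W.obj.left) :
    {m : (fieldPt P j N₀).pt ⟶ Q.obj.left | m ≫ g.hom.left = s}.Finite := by
  have := EtOver.etale_left g
  have : QuasiCompact g.hom.left.left := inferInstance
  let π : pullback g.hom.left.left s.left ⟶ Spec (CommRingCat.of K) := pullback.snd g.hom.left.left s.left
  have : Etale π := inferInstanceAs (Etale (pullback.snd g.hom.left.left s.left))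
  have : QuasiCompact π := inferInstanceAs (QuasiCompact (pullback.snd g.hom.left.left s.left))
  have := lqf_of_etale π
  have hfin : Finite ↥(pullback g.hom.left.left s.left) := by
    refine Set.finite_univ_iff.1 ((π.finite_preimage_singleton (default : Spec (CommRingCat.of K))).subset ?_)
    intro y _
    exact Subsingleton.elim (α := ↥(Spec (CommRingCat.of K))) _ _
  let sec : {m : (fieldPt P j N₀).pt ⟶ Q.obj.left | m ≫ g.hom.left = s} →
      (Spec (CommRingCat.of K) ⟶ pullback g.hom.left.left s.left) := fun m =>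
    pullback.lift m.1.left (𝟙 _) (by rw [Category.id_comp]; exact congrArg CommaMorphism.left m.2)
  refine Set.finite_coe_iff.1 (Finite.of_injective (fun m => sec m (default : Spec (CommRingCat.of K))) ?_)
  intro m m' hmm
  have hs : ∀ m, sec m ≫ π = 𝟙 _ := fun m => pullback.lift_snd _ _ _
  have ho : ∀ m, IsOpenImmersion (sec m) := fun m => by
    have : Mono (sec m) := (SplitMono.mk _ (hs m)).mono
    have : Etale (sec m) := MorphismProperty.HasOfPostcompProperty.of_postcomp (W := @Etale) (sec m) π ‹Etale π›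
      (by rw [hs]; infer_instance)
    exact IsOpenImmersion.of_flat_of_mono _
  have := ho m'
  have hr : Set.range (sec m) ⊆ Set.range (sec m') := by
    rintro _ ⟨z, rfl⟩
    exact ⟨default, hmm.symm.trans (congrArg (sec m) (Subsingleton.elim (α := ↥(Spec (CommRingCat.of K))) _ _))⟩
  have h1 := IsOpenImmersion.lift_fac (sec m') (sec m) hr
  have h2 : IsOpenImmersion.lift (sec m') (sec m) hr = 𝟙 _ := by
    have h3 := congrArg (· ≫ π) h1
    simp only [Category.assoc, hs, Category.comp_id] at h3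
    exact h3
  rw [h2, Category.id_comp] at h1
  apply Subtype.ext
  refine Over.OverMorphism.ext ?_
  have h4 := congrArg (· ≫ pullback.fst g.hom.left.left s.left) h1
  simp only [sec, pullback.lift_fst] at h4
  exact h4.symm

theorem exists_new_lift {Q : EtOver X} (W : Nb P) (g : Q ⟶ W.1) [IsAffine Q.obj.left.left]
    [IsAffine W.1.obj.left.left] (m : (fieldPt P j N₀).pt ⟶ Q.obj.left)
    (hm : m ≫ g.hom.left = (theta P j N₀ W).1) :
    ∃ a : P.fiber.obj Q, P.fiber.map g a = W.2 ∧ (theta P j N₀ ⟨Q, a⟩).1 = m := by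
  classical
  let L := {m' : (fieldPt P j N₀).pt ⟶ Q.obj.left | m' ≫ g.hom.left = (theta P j N₀ W).1}
  let T := {m' : L | ∃ a : P.fiber.obj Q, P.fiber.map g a = W.2 ∧ (theta P j N₀ ⟨Q, a⟩).1 = m'.1}
  by_contra hc
  have : Finite L := (finite_lifts P j N₀ g (theta P j N₀ W).1).to_subtype
  choose a ha haT using fun t : T => t.2
  -- a common refinement of the lifts achieved
  have href : ∀ A : Finset T, ∃ (M : Nb P) (h : M ⟶ W),
      ∀ t ∈ A, ∃ σ : M.1 ⟶ Q, σ ≫ g = h.val ∧ P.fiber.map σ M.2 = a t := by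
    intro A
    induction A using Finset.induction with
    | empty => exact ⟨W, 𝟙 W, by simp⟩
    | insert t A _ ih =>
      obtain ⟨M, h, hA⟩ := ih
      obtain ⟨M', k, k', hk⟩ := IsCofiltered.cospan h
        (CategoryOfElements.homMk (F := P.fiber) ⟨Q, a t⟩ W g (ha t))
      refine ⟨M', k ≫ h, fun t' ht' => ?_⟩
      rcases Finset.mem_insert.1 ht' with rfl | ht'
      · exact ⟨k'.val, (congrArg Subtype.val hk).symm, k'.property⟩
      · obtain ⟨σ, hσ, hσ'⟩ := hA t' ht'
        refine ⟨k.val ≫ σ, ?_, ?_⟩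
        · rw [Category.assoc, hσ]; rfl
        · rw [fiber_map_comp, k.property, hσ']
  have : Fintype T := Fintype.ofFinite T
  obtain ⟨M, h, hσ⟩ := href Finset.univ
  choose σ hσg hσa using fun t : T => hσ t (Finset.mem_univ t)
  let lM := (theta P j N₀ M).1
  have hlM : lM ≫ h.val.hom.left = (theta P j N₀ W).1 := congrArg Subtype.val (theta_map P j N₀ h)
  let Q' := EtOver.pullbackObj h.val g
  let sec : T → (M.1.obj.left ⟶ Q'.obj.left) := fun t =>
    pullback.lift (𝟙 _) (σ t).hom.left (by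
      rw [Category.id_comp]; exact (congrArg (fun k => k.hom.left) (hσg t)).symm)
  let π : Q'.obj.left ⟶ M.1.obj.left := (EtOver.pullbackFst h.val g).hom.left
  have hπ : ∀ t, sec t ≫ π = 𝟙 _ := fun t => pullback.lift_fst _ _ _
  have hπe : Etale π.left := EtOver.etale_left (EtOver.pullbackFst h.val g)
  have hπs : IsSeparated π.left :=
    MorphismProperty.of_isPullback (P := @IsSeparated)
      ((IsPullback.of_hasPullback h.val.hom.left g.hom.left).map (Over.forget S)).flip
      (inferInstanceAs (IsSeparated g.hom.left.left))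
  have hπl : ∀ t, (sec t).left ≫ π.left = 𝟙 _ := fun t => congrArg CommaMorphism.left (hπ t)
  have hcl : ∀ t, IsClosed (Set.range (sec t).left) := fun t => by
    have : IsClosedImmersion ((sec t).left ≫ π.left) := by rw [hπl]; infer_instance
    have := IsClosedImmersion.of_comp (sec t).left π.left
    exact (sec t).left.isClosedEmbedding.isClosed_range
  let R : Q'.obj.left.left.Opens := ⟨(⋃ t, Set.range (sec t).left)ᶜ, (isClosed_iUnion_of_finite hcl).isOpen_compl⟩
  -- the given lift gives a point of R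
  let m' : (fieldPt P j N₀).pt ⟶ Q'.obj.left := pullback.lift lM m (hlM.trans hm.symm)
  have hsecl : ∀ (t : T) (q : (fieldPt P j N₀).pt ⟶ Q'.obj.left), q ≫ π = lM →
      q.left (default : Spec (CommRingCat.of K)) ∈ Set.range (sec t).left → q = lM ≫ sec t := by
    intro t q hq hmem
    have : IsOpenImmersion (sec t).left := by
      have : Mono (sec t).left := (SplitMono.mk _ (hπl t)).mono
      have : Etale (sec t).left := MorphismProperty.HasOfPostcompProperty.of_postcomp (W := @Etale) (sec t).left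
        π.left hπe (by rw [hπl]; infer_instance)
      exact IsOpenImmersion.of_flat_of_mono _
    have hr : Set.range q.left ⊆ Set.range (sec t).left := by
      rintro _ ⟨z, rfl⟩
      rwa [Subsingleton.elim (α := ↥(Spec (CommRingCat.of K))) z default]
    have h1 := IsOpenImmersion.lift_fac (sec t).left q.left hr
    refine Over.OverMorphism.ext ?_
    change q.left = lM.left ≫ (sec t).left
    refine h1.symm.trans (congrArg (· ≫ (sec t).left) ?_)
    have h2 := congrArg (· ≫ π.left) h1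
    rw [Category.assoc, hπl, Category.comp_id] at h2
    exact h2.trans (congrArg CommaMorphism.left hq)
  have hmR : m'.left (default : Spec (CommRingCat.of K)) ∈ R := by
    intro hmem
    obtain ⟨t, ht⟩ := Set.mem_iUnion.1 hmem
    have h1 := congrArg (· ≫ pullback.snd h.val.hom.left g.hom.left) (hsecl t m' (pullback.lift_fst _ _ _) ht)
    simp only [Category.assoc, m', sec, pullback.lift_snd] at h1
    refine hc ⟨a t, ha t, ?_⟩
    rw [h1]
    exact (congrArg Subtype.val (theta_map P j N₀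
      (CategoryOfElements.homMk (F := P.fiber) M ⟨Q, a t⟩ (σ t) (hσa t)))).symm
  -- an element over R
  let ρ : etOpen Q' R ⟶ M.1 := etOpenι Q' R ≫ EtOver.pullbackFst h.val g
  have hOpen : IsOpen (Set.range ρ.hom.left.left) := (isOpenMap_etOver ρ).isOpen_range
  have hMO : InOpen P M ⟨_, hOpen⟩ := by
    rw [inOpen_iff]
    refine ⟨⟨_, hmR⟩, ?_⟩
    change π.left (m'.left (default : Spec (CommRingCat.of K))) = pt P M
    rw [← Scheme.Hom.comp_apply]
    have : m'.left ≫ π.left = lM.left := congrArg CommaMorphism.left (pullback.lift_fst _ _ _ : m' ≫ π = lM)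
    rw [this]
    exact liftMor_apply P j M _
  obtain ⟨M', k, hk⟩ := exists_hom_of_inOpen P hMO
  obtain ⟨-, r, hr⟩ := exists_lift_of_cover P (N := M') (fun _ : PUnit.{1} => EtOver.pullbackObj k.val ρ)
    (fun _ => EtOver.pullbackFst k.val ρ) (fun x => by
      obtain ⟨z, hz⟩ := hk ⟨x, rfl⟩
      obtain ⟨y, hy, -⟩ := Scheme.Pullback.exists_preimage_pullback
        (f := k.val.hom.left.left) (g := ρ.hom.left.left) x z hz.symm
      let e : (pullback k.val.hom.left ρ.hom.left).left ≅ pullback k.val.hom.left.left ρ.hom.left.left :=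
        ((IsPullback.of_hasPullback k.val.hom.left ρ.hom.left).map (Over.forget S)).isoPullback
      refine ⟨⟨⟩, e.inv y, ?_⟩
      change (e.inv ≫ (pullback.fst k.val.hom.left ρ.hom.left).left) y = x
      rw [show e.inv ≫ (pullback.fst k.val.hom.left ρ.hom.left).left =
        pullback.fst k.val.hom.left.left ρ.hom.left.left from IsPullback.isoPullback_inv_fst _]
      exact hy)
  let q := P.fiber.map (EtOver.pullbackSnd k.val ρ) r
  have hqM : P.fiber.map ρ q = M.2 := by
    rw [← fiber_map_comp, ← EtOver.pullback_condition, fiber_map_comp, hr, k.property]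
  let q' := P.fiber.map (etOpenι Q' R) q
  have hq'M : P.fiber.map (EtOver.pullbackFst h.val g) q' = M.2 :=
    (fiber_map_comp P (etOpenι Q' R) (EtOver.pullbackFst h.val g) q).symm.trans hqM
  let b := P.fiber.map (EtOver.pullbackSnd h.val g) q'
  have hb : P.fiber.map g b = W.2 := by
    rw [← fiber_map_comp, ← EtOver.pullback_condition, fiber_map_comp, hq'M, h.property]
  have hb1 : (theta P j N₀ ⟨Q, b⟩).1 ≫ g.hom.left = (theta P j N₀ W).1 :=
    congrArg Subtype.val (theta_map P j N₀ (CategoryOfElements.homMk (F := P.fiber) ⟨Q, b⟩ W g hb))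
  let t : T := ⟨⟨_, hb1⟩, b, hb, rfl⟩
  let lq := (theta P j N₀ ⟨Q', q'⟩).1
  have hlq₁ : lq ≫ π = lM :=
    congrArg Subtype.val (theta_map P j N₀
      (CategoryOfElements.homMk (F := P.fiber) ⟨Q', q'⟩ M (EtOver.pullbackFst h.val g) hq'M))
  have hlq₂ : lq ≫ pullback.snd h.val.hom.left g.hom.left = (theta P j N₀ ⟨Q, b⟩).1 :=
    congrArg Subtype.val (theta_map P j N₀
      (CategoryOfElements.homMk (F := P.fiber) ⟨Q', q'⟩ ⟨Q, b⟩ (EtOver.pullbackSnd h.val g) rfl))
  have heq : lq = lM ≫ sec t := pullback.hom_ext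
    (hlq₁.trans (by rw [Category.assoc, pullback.lift_fst, Category.comp_id]))
    (hlq₂.trans (by
      rw [Category.assoc, pullback.lift_snd]
      exact ((congrArg Subtype.val (theta_map P j N₀
        (CategoryOfElements.homMk (F := P.fiber) M ⟨Q, a t⟩ (σ t) (hσa t)))).trans (haT t)).symm))
  have hout : lq.left (default : Spec (CommRingCat.of K)) ∈ R := by
    have h1 : InOpen P ⟨Q', q'⟩ R := ⟨q, rfl⟩
    rw [inOpen_iff] at h1
    change liftMor P j ⟨Q', q'⟩ _ ∈ R
    rw [liftMor_apply]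
    exact h1
  exact hout (Set.mem_iUnion.2 ⟨t, by rw [heq]; exact ⟨_, rfl⟩⟩)

theorem theta_surjective {E : EtOver X} (l : (FieldPt.liftsTo (fieldPt P j N₀)).obj E) :
    ∃ a : P.fiber.obj E, theta P j N₀ ⟨E, a⟩ = l := by
  obtain ⟨O, hO, hxO, -⟩ := TopologicalSpace.Opens.isBasis_iff_nbhd.mp
    N₀.1.obj.left.left.isBasis_affineOpens (TopologicalSpace.Opens.mem_top (pt P N₀))
  obtain ⟨w, hw⟩ := (inOpen_iff P N₀ O).2 hxO
  let W : Nb P := ⟨etOpen N₀.1 O, w⟩
  have : IsAffine W.1.obj.left.left := hO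
  let Q₁ := EtOver.prodObj W.1 E
  let s := E.property.1.lift' l.1 (theta P j N₀ W).1 (l.2.trans (theta P j N₀ W).2.symm)
  obtain ⟨O₁, hO₁, hsO, -⟩ := TopologicalSpace.Opens.isBasis_iff_nbhd.mp
    Q₁.obj.left.left.isBasis_affineOpens
    (TopologicalSpace.Opens.mem_top (s.left (default : Spec (CommRingCat.of K))))
  let Q := etOpen Q₁ O₁
  have : IsAffine Q.obj.left.left := hO₁
  have hr : Set.range s.left ⊆ Set.range (Scheme.Opens.ι O₁) := by
    rintro _ ⟨z, rfl⟩
    rw [Scheme.Opens.range_ι, Subsingleton.elim (α := ↥(Spec (CommRingCat.of K))) z default]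
    exact hsO
  let m : (fieldPt P j N₀).pt ⟶ Q.obj.left := Over.homMk (IsOpenImmersion.lift (Scheme.Opens.ι O₁) s.left hr) (by
    change IsOpenImmersion.lift (Scheme.Opens.ι O₁) s.left hr ≫ Scheme.Opens.ι O₁ ≫ Q₁.obj.left.hom = _
    rw [IsOpenImmersion.lift_fac_assoc]
    exact Over.w s)
  have hm : m ≫ (etOpenι Q₁ O₁).hom.left = s := Over.OverMorphism.ext (IsOpenImmersion.lift_fac _ _ _)
  obtain ⟨b, -, hb⟩ := exists_new_lift P j N₀ W (etOpenι Q₁ O₁ ≫ EtOver.prodFst W.1 E) m (by
    change m ≫ (etOpenι Q₁ O₁).hom.left ≫ (EtOver.prodFst W.1 E).hom.left = _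
    rw [← Category.assoc, hm]
    exact Functor.relativelyRepresentable.lift'_snd _ _ _ _)
  refine ⟨P.fiber.map (etOpenι Q₁ O₁ ≫ EtOver.prodSnd W.1 E) b, Subtype.ext ?_⟩
  rw [← theta_map P j N₀ (CategoryOfElements.homMk (F := P.fiber) ⟨Q, b⟩
    ⟨E, P.fiber.map (etOpenι Q₁ O₁ ≫ EtOver.prodSnd W.1 E) b⟩ (etOpenι Q₁ O₁ ≫ EtOver.prodSnd W.1 E) rfl)]
  change (theta P j N₀ ⟨Q, b⟩).1 ≫ (etOpenι Q₁ O₁).hom.left ≫ (EtOver.prodSnd W.1 E).hom.left = _
  rw [hb, ← Category.assoc, hm]
  exact Functor.relativelyRepresentable.lift'_fst _ _ _ _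

end Field

/-- A point of the small etale topos is isomorphic to a geometric point. -/
theorem exists_fiber_iso : ∃ p : FieldPt X, p.IsGeometric ∧ Nonempty (P.fiber ≅ FieldPt.liftsTo p) := by
  obtain ⟨K, _, hK, ⟨j⟩⟩ := exists_field P
  obtain ⟨N₀⟩ := (IsCofiltered.nonempty : Nonempty (Nb P))
  let θ : ∀ E, P.fiber.obj E → (FieldPt.liftsTo (fieldPt P j N₀)).obj E := fun E a => theta P j N₀ ⟨E, a⟩
  have hθ : ∀ E, Function.Bijective (θ E) := fun E =>
    ⟨fun a a' h => theta_injective P j N₀ a a' h, fun l => theta_surjective P j N₀ l⟩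
  refine ⟨fieldPt P j N₀, hK, ⟨NatIso.ofComponents (fun E => (Equiv.ofBijective _ (hθ E)).toIso) fun {E E'} g => ?_⟩⟩
  ext a
  exact (theta_map P j N₀ (CategoryOfElements.homMk (F := P.fiber) ⟨E, a⟩ ⟨E', P.fiber.map g a⟩ g rfl)).symm

end Groth.Agent.H12AlgSp.ToposPoints
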