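import Groth.Agent.H12AlgSp.UnivClosedQC
import Groth.Agent.H12AlgSp.PointsTop
import Mathlib.AlgebraicGeometry.AffineSpace
import Mathlib.RingTheory.TensorProduct.MvPolynomial

/-!
A quasi-compact morphism of algebraic spaces is universally closed as soon as it is closed after
base change to affine spaces over a scheme covering the target.
-/

set_option linter.unusedVariables false
set_option backward.isDefEq.respectTransparency false

universe u

open CategoryTheory CategoryTheory.Limits AlgebraicGeometry Opposite Topology TensorProduct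
open AlgSp

namespace Groth.Agent.H12AlgSp

/-- If a closed subset of `Spec (B ⊗ A)` misses the fibre over a prime of `A`, this is already seen
over a polynomial ring in finitely many variables. -/
theorem exists_finite_witness {R A B : Type u} [CommRing R] [CommRing A] [CommRing B] [Algebra R A]
    [Algebra R B] (J : Ideal (B ⊗[R] A)) (p : PrimeSpectrum A)
    (h : ∀ q ∈ PrimeSpectrum.zeroLocus (J : Set (B ⊗[R] A)),
      PrimeSpectrum.comap (Algebra.TensorProduct.includeRight : A →ₐ[R] B ⊗[R] A).toRingHom q ≠ p) :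
    ∃ (n : ℕ) (g : MvPolynomial (ULift.{u} (Fin n)) R →ₐ[R] A),
      ∀ q ∈ closure (PrimeSpectrum.comap (Algebra.TensorProduct.map (AlgHom.id R B) g).toRingHom ''
          PrimeSpectrum.zeroLocus (J : Set (B ⊗[R] A))),
        PrimeSpectrum.comap (Algebra.TensorProduct.includeRight :
          MvPolynomial (ULift.{u} (Fin n)) R →ₐ[R] B ⊗[R] _).toRingHom q ≠
            PrimeSpectrum.comap g.toRingHom p := by
  classical
  let ι₂ : A →ₐ[R] B ⊗[R] A := Algebra.TensorProduct.includeRight
  obtain ⟨f, hfp, hf⟩ : ∃ f : A, f ∉ p.asIdeal ∧ ι₂ f ∈ J ⊔ p.asIdeal.map ι₂.toRingHom := by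
    by_contra! hne
    obtain ⟨q, hq, hle, hdisj⟩ := Ideal.exists_le_prime_disjoint (J ⊔ p.asIdeal.map ι₂.toRingHom)
      (p.asIdeal.primeCompl.map ι₂.toRingHom) (Set.disjoint_left.2 fun x hx hx' => by
        obtain ⟨a, ha, rfl⟩ := hx'
        exact hne a ha hx)
    refine h ⟨q, hq⟩ (fun x hx => hle (Ideal.mem_sup_left hx)) (PrimeSpectrum.ext ?_)
    refine le_antisymm (fun a ha => ?_) (Ideal.map_le_iff_le_comap.1 (le_sup_right.trans hle))
    by_contra hap
    exact Set.disjoint_left.1 hdisj ha ⟨a, hap, rfl⟩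
  obtain ⟨j, hj, e, he, hje⟩ := Submodule.mem_sup.1 hf
  obtain ⟨w, hw⟩ : ∃ w : B ⊗[R] ↥(p.asIdeal.restrictScalars R),
      LinearMap.lTensor B (p.asIdeal.restrictScalars R).subtype w = e := by
    refine Submodule.span_induction (fun x hx => ?_) ⟨0, map_zero _⟩ ?_ ?_ he
    · obtain ⟨a, ha, rfl⟩ := hx
      exact ⟨1 ⊗ₜ ⟨a, ha⟩, rfl⟩
    · rintro x y - - ⟨w, rfl⟩ ⟨w', rfl⟩
      exact ⟨w + w', map_add _ _ _⟩
    · rintro c x - ⟨w, rfl⟩
      induction c using TensorProduct.induction_on with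
      | zero => exact ⟨0, by rw [zero_smul, map_zero]⟩
      | add c d hc hd =>
        obtain ⟨wc, hc⟩ := hc
        obtain ⟨wd, hd⟩ := hd
        exact ⟨wc + wd, by rw [map_add, hc, hd, add_smul]⟩
      | tmul b a =>
        induction w using TensorProduct.induction_on with
        | zero => exact ⟨0, by simp⟩
        | add v v' hv hv' =>
          obtain ⟨wv, hv⟩ := hv
          obtain ⟨wv', hv'⟩ := hv'
          exact ⟨wv + wv', by rw [map_add, map_add, hv, hv', smul_add]⟩
        | tmul b' q =>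
          exact ⟨(b * b') ⊗ₜ ⟨a * q.1, p.asIdeal.mul_mem_left a q.2⟩, by
            simp [LinearMap.lTensor_tmul, smul_eq_mul, Algebra.TensorProduct.tmul_mul_tmul]⟩
  obtain ⟨n, bq, hbq⟩ : ∃ (n : ℕ) (bq : Fin n → B × ↥(p.asIdeal.restrictScalars R)),
      w = ∑ i, (bq i).1 ⊗ₜ (bq i).2 := by
    obtain ⟨s, hs⟩ := TensorProduct.exists_finset (R := R) w
    refine ⟨s.card, fun i => (s.equivFin.symm i).1, ?_⟩
    rw [hs, ← Finset.sum_coe_sort s]
    exact (Equiv.sum_comp s.equivFin.symm fun i : ↥s => i.1.1 ⊗ₜ[R] i.1.2).symm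
  let g : MvPolynomial (ULift.{u} (Fin (n + 1))) R →ₐ[R] A :=
    MvPolynomial.aeval fun i => (Fin.cons f fun k => ((bq k).2 : A) : Fin (n + 1) → A) i.down
  refine ⟨n + 1, g, fun q hq hqp => hfp ?_⟩
  let G := Algebra.TensorProduct.map (AlgHom.id R B) g
  have hmem : J.comap G.toRingHom ≤ q.asIdeal := by
    have hsub : closure (PrimeSpectrum.comap G.toRingHom '' PrimeSpectrum.zeroLocus (J : Set (B ⊗[R] A))) ⊆
        PrimeSpectrum.zeroLocus (J.comap G.toRingHom : Set _) := by
      refine closure_minimal ?_ (PrimeSpectrum.isClosed_zeroLocus _)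
      rintro _ ⟨r, hr, rfl⟩
      exact fun x hx => hr hx
    exact hsub hq
  let x0 : MvPolynomial (ULift.{u} (Fin (n + 1))) R := MvPolynomial.X ⟨0⟩
  let x (k : Fin n) : MvPolynomial (ULift.{u} (Fin (n + 1))) R := MvPolynomial.X ⟨k.succ⟩
  have hgx0 : g x0 = f := by simp [g, x0]
  have hgx : ∀ k, g (x k) = (bq k).2 := fun k => by simp [g, x]
  let jL : B ⊗[R] MvPolynomial (ULift.{u} (Fin (n + 1))) R := 1 ⊗ₜ x0 - ∑ k, (bq k).1 ⊗ₜ x k
  have hG : G jL = j := by
    have he' : e = ∑ k, (bq k).1 ⊗ₜ ((bq k).2 : A) := by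
      rw [← hw, hbq, map_sum]
      rfl
    simp only [jL, map_sub, map_sum, G, Algebra.TensorProduct.map_tmul, AlgHom.coe_id, id_eq, hgx0, hgx]
    rw [← he', sub_eq_iff_eq_add, hje]
    rfl
  have hjL : jL ∈ q.asIdeal := hmem (show G jL ∈ J from hG ▸ hj)
  have hxk : ∀ k, (bq k).1 ⊗ₜ x k ∈ q.asIdeal := fun k => by
    have hk : x k ∈ (PrimeSpectrum.comap g.toRingHom p).asIdeal :=
      show g (x k) ∈ p.asIdeal by rw [hgx]; exact (bq k).2.2
    rw [← hqp] at hk
    have := q.asIdeal.mul_mem_left ((bq k).1 ⊗ₜ[R] (1 : MvPolynomial (ULift.{u} (Fin (n + 1))) R)) hk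
    simpa [PrimeSpectrum.comap_asIdeal, Algebra.TensorProduct.tmul_mul_tmul] using this
  have h0 : (1 : B) ⊗ₜ x0 ∈ q.asIdeal := by
    have := q.asIdeal.add_mem hjL (q.asIdeal.sum_mem fun k (_ : k ∈ Finset.univ) => hxk k)
    simpa [jL] using this
  have : x0 ∈ (PrimeSpectrum.comap g.toRingHom p).asIdeal := by
    rw [← hqp]; exact h0
  rw [← hgx0]; exact this

variable {S : Scheme.{u}}

/-- The affine space `Spec R[X₁,…,Xₙ]` over `Spec R`, as a morphism over `S`. -/
noncomputable def polyHom {R : CommRingCat.{u}} (str : Spec R ⟶ S) (n : ℕ) :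
    Over.mk (Spec.map (CommRingCat.ofHom (MvPolynomial.C : R →+* MvPolynomial (ULift.{u} (Fin n)) R)) ≫ str) ⟶
      Over.mk str :=
  Over.homMk (Spec.map (CommRingCat.ofHom MvPolynomial.C)) rfl

/-- Closedness of the map on points after base change along `ψ` follows from closedness after base
change to affine spaces. -/
theorem isClosedMap_snd_of_forall_polynomial {R A : CommRingCat.{u}} (str : Spec R ⟶ S) (ψ : R ⟶ A)
    {X : Sp S} (hX : IsAlgSpace X) [CompactSpace (Points X)] (f : X ⟶ (yon S).obj (Over.mk str))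
    (h : ∀ n, IsClosedMap (Points.map (pullback.snd f ((yon S).map (polyHom str n))))) :
    IsClosedMap (Points.map (pullback.snd f
      ((yon S).map (Over.homMk (Spec.map ψ) : Over.mk (Spec.map ψ ≫ str) ⟶ Over.mk str)))) := by
  classical
  let Tt : Over S := Over.mk (Spec.map ψ ≫ str)
  let k : Tt ⟶ Over.mk str := Over.homMk (Spec.map ψ)
  change IsClosedMap (Points.map (pullback.snd f ((yon S).map k)))
  obtain ⟨U₀, a₀, hU₀, ha₀, ha₀s⟩ := exists_affine_atlas hX
  let φ₀ : U₀ ⟶ Over.mk str := (yon S).preimage (a₀ ≫ f)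
  let φ : R ⟶ Γ(U₀.left, ⊤) := Spec.preimage (U₀.left.isoSpec.inv ≫ φ₀.left)
  have hφ : Spec.map φ = U₀.left.isoSpec.inv ≫ φ₀.left := Spec.map_preimage _
  let U : Over S := Over.mk (Spec.map φ ≫ str)
  let e : U ≅ U₀ := Over.isoMk U₀.left.isoSpec.symm (by
    change U₀.left.isoSpec.inv ≫ U₀.hom = Spec.map φ ≫ str
    rw [hφ, Category.assoc]
    exact congrArg _ (Over.w φ₀).symm)
  let a : (yon S).obj U ⟶ X := (yon S).map e.hom ≫ a₀
  let u : U ⟶ Over.mk str := Over.homMk (Spec.map φ)
  have haf : a ≫ f = (yon S).map u := by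
    have : e.hom ≫ φ₀ = u := Over.OverMorphism.ext hφ.symm
    rw [← this, Functor.map_comp, Category.assoc, Functor.map_preimage]
  have hae : RepWith @Etale a :=
    repWith_comp (repWith_of_isIso ((yon S).map e.hom)) ha₀
  have has : Function.Surjective (Points.map a) := by
    intro x
    obtain ⟨y, rfl⟩ := surjective_map_of_repWith le_rfl ha₀s x
    exact ⟨Points.map ((yon S).map e.inv) y, by
      rw [← Points.map_comp, ← Category.assoc, ← Functor.map_comp, e.inv_hom_id, CategoryTheory.Functor.map_id,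
        Category.id_comp]⟩
  letI : Algebra R A := ψ.hom.toAlgebra
  letI : Algebra R Γ(U₀.left, ⊤) := φ.hom.toAlgebra
  -- base change of the chart
  have chart : ∀ (C : Type u) [CommRing C] [Algebra R C],
      let T : Over S := Over.mk (Spec.map (CommRingCat.ofHom (algebraMap R C)) ≫ str)
      let π : T ⟶ Over.mk str := Over.homMk (Spec.map (CommRingCat.ofHom (algebraMap R C))) rfl
      let UT : Over S := Over.mk (Spec.map (CommRingCat.ofHom
        (Algebra.TensorProduct.includeLeftRingHom : Γ(U₀.left, ⊤) →+* Γ(U₀.left, ⊤) ⊗[R] C)) ≫ U.hom)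
      ∃ (pU : UT ⟶ U) (pT : UT ⟶ T),
        pU.left = Spec.map (CommRingCat.ofHom Algebra.TensorProduct.includeLeftRingHom) ∧
        pT.left = Spec.map (CommRingCat.ofHom
          (Algebra.TensorProduct.includeRight : C →ₐ[R] Γ(U₀.left, ⊤) ⊗[R] C).toRingHom) ∧
        IsPullback pU pT u π := by
    intro C _ _
    dsimp only
    let pU : Over.mk (Spec.map (CommRingCat.ofHom (Algebra.TensorProduct.includeLeftRingHom :
        Γ(U₀.left, ⊤) →+* Γ(U₀.left, ⊤) ⊗[R] C)) ≫ U.hom) ⟶ U := Over.homMk (Spec.map _) rfl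
    have sqS := isPullback_SpecMap_of_isPushout (CommRingCat.ofHom (algebraMap R Γ(U₀.left, ⊤)))
      (CommRingCat.ofHom (algebraMap R C)) (CommRingCat.ofHom Algebra.TensorProduct.includeLeftRingHom)
      (CommRingCat.ofHom (Algebra.TensorProduct.includeRight : C →ₐ[R] Γ(U₀.left, ⊤) ⊗[R] C).toRingHom)
      (CommRingCat.isPushout_tensorProduct R Γ(U₀.left, ⊤) C)
    refine ⟨pU, Over.homMk _ ?_, rfl, rfl, IsPullback.of_map (Over.forget S) ?_ sqS⟩
    · exact (Category.assoc _ _ _).symm.trans (((congrArg (· ≫ str) sqS.w.symm)).trans (Category.assoc _ _ _))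
    · exact Over.OverMorphism.ext sqS.w
  intro W hW
  obtain ⟨pU, pT, epU, epT, sqT⟩ := chart A
  let aT := pullback.lift (f := f) (g := (yon S).map k) ((yon S).map pU ≫ a) ((yon S).map pT)
    (by rw [Category.assoc, haf, ← Functor.map_comp, ← Functor.map_comp]; exact congrArg _ sqT.w)
  have sqaT : IsPullback ((yon S).map pU) aT a (pullback.fst f ((yon S).map k)) := by
    refine IsPullback.of_bot ?_ (pullback.lift_fst _ _ _).symm (IsPullback.of_hasPullback f ((yon S).map k))
    rw [pullback.lift_snd, haf]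
    exact sqT.map (yon S)
  let WT : Set ↥(Spec (CommRingCat.of (Γ(U₀.left, ⊤) ⊗[R] A))) := Points.ofPt aT ⁻¹' W
  have hWT : IsClosed WT := hW.preimage (Points.continuous_ofPt aT)
  have hsT : ∀ x, ∃ y, Points.ofPt aT y = x := fun x => by
    obtain ⟨y, hy⟩ := has (Points.map (pullback.fst f ((yon S).map k)) x)
    obtain ⟨z, -, hz⟩ := exists_point_of_isPullback sqaT y x hy
    obtain ⟨t, rfl⟩ := (Points.schemeEquiv _).surjective z
    exact ⟨t, (Points.ofPt_eq_map_ofScheme aT t).trans hz⟩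
  have hTimg : ∀ t, Points.map (pullback.snd f ((yon S).map k)) (Points.ofPt aT t) =
      Points.ofScheme Tt (pT.left t) := fun t => by
    rw [Points.map_ofPt, pullback.lift_snd]
    exact (Points.ofPt_eq_map_ofScheme ((yon S).map pT) t).trans (Points.map_yon_map_apply pT t)
  rw [← closure_subset_iff_isClosed]
  intro y hy
  obtain ⟨z, rfl⟩ := (Points.schemeEquiv Tt).surjective y
  by_contra hnot
  obtain ⟨J, hJ⟩ := (PrimeSpectrum.isClosed_iff_zeroLocus_ideal WT).1 hWT
  obtain ⟨n, g, hg⟩ := exists_finite_witness J z fun q hq he => hnot ⟨Points.ofPt aT q,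
    show q ∈ WT from hJ ▸ hq, by
      rw [hTimg]
      refine congrArg (Points.ofScheme Tt) ?_
      rw [epT]
      exact he⟩
  -- the polynomial base change
  obtain ⟨qU, qT, eqU, eqT, sqP⟩ := chart (MvPolynomial (ULift.{u} (Fin n)) R)
  let P₀ : Over S := Over.mk (Spec.map (CommRingCat.ofHom
    (MvPolynomial.C : R →+* MvPolynomial (ULift.{u} (Fin n)) R)) ≫ str)
  let aP := pullback.lift (f := f) (g := (yon S).map (polyHom str n)) ((yon S).map qU ≫ a)
    ((yon S).map qT)
    (by rw [Category.assoc, haf, ← Functor.map_comp, ← Functor.map_comp]; exact congrArg _ sqP.w)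
  have sqaP : IsPullback ((yon S).map qU) aP a (pullback.fst f ((yon S).map (polyHom str n))) := by
    refine IsPullback.of_bot ?_ (pullback.lift_fst _ _ _).symm
      (IsPullback.of_hasPullback f ((yon S).map (polyHom str n)))
    rw [pullback.lift_snd, haf]
    exact sqP.map (yon S)
  let gz : Tt ⟶ P₀ := Over.homMk (Spec.map (CommRingCat.ofHom g.toRingHom)) (by
    change Spec.map _ ≫ Spec.map _ ≫ str = Spec.map ψ ≫ str
    rw [← Category.assoc, ← Spec.map_comp]
    congr 2
    exact CommRingCat.hom_ext g.comp_algebraMap)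
  have hgz : gz ≫ polyHom str n = k := Over.OverMorphism.ext (by
    change Spec.map _ ≫ Spec.map _ = Spec.map ψ
    rw [← Spec.map_comp]
    exact congrArg _ (CommRingCat.hom_ext g.comp_algebraMap))
  let m := pullback.lift (f := f) (g := (yon S).map (polyHom str n))
    (pullback.fst f ((yon S).map k)) (pullback.snd f ((yon S).map k) ≫ (yon S).map gz)
    (by rw [Category.assoc, ← Functor.map_comp, hgz, pullback.condition])
  let G : sqT.flip.cone.pt ⟶ sqP.flip.cone.pt := sqP.lift pU (pT ≫ gz)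
    (sqT.w.trans ((congrArg (pT ≫ ·) hgz.symm).trans (Category.assoc _ _ _).symm))
  have hG : G.left = Spec.map (CommRingCat.ofHom
      (Algebra.TensorProduct.map (AlgHom.id R Γ(U₀.left, ⊤)) g).toRingHom) := by
    apply (sqP.map (Over.forget S)).hom_ext
    · change G.left ≫ qU.left = _ ≫ qU.left
      rw [← Over.comp_left, sqP.lift_fst, epU, eqU, ← Spec.map_comp]
      congr 1
      ext b
      simp
    · change G.left ≫ qT.left = _ ≫ qT.left
      rw [← Over.comp_left, sqP.lift_snd, Over.comp_left, epT, eqT, ← Spec.map_comp]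
      change Spec.map _ ≫ Spec.map _ = _
      rw [← Spec.map_comp]
      congr 1
  have sqG : IsPullback ((yon S).map G) aT aP m := by
    refine IsPullback.of_right ?_ ?_ sqaP
    · rw [← Functor.map_comp, sqP.lift_fst, pullback.lift_fst]
      exact sqaT
    · apply pullback.hom_ext
      · simp only [Category.assoc, aP, aT, m, pullback.lift_fst]
        rw [← Category.assoc, ← Functor.map_comp, sqP.lift_fst]
      · simp only [Category.assoc, aP, m, pullback.lift_snd]
        rw [← Category.assoc, pullback.lift_snd, ← Functor.map_comp, ← Functor.map_comp, sqP.lift_snd]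
  let C₀ : Set (Points (pullback f ((yon S).map (polyHom str n)))) := closure (Points.map m '' W)
  have hC₀ : Points.ofPt aP ⁻¹' C₀ = closure (G.left '' WT) := by
    have hopen : IsOpenMap (Points.ofPt aP) :=
      isOpenMap_ofPt_of_repWith etale_le_universallyOpen (repWith_of_isPullback sqaP hae)
    rw [show C₀ = closure (Points.map m '' W) from rfl,
      hopen.preimage_closure_eq_closure_preimage (Points.continuous_ofPt aP)]
    congr 1
    exact preimage_ofPt_image sqG.flip W
  have hmem : Points.map ((yon S).map gz) (Points.ofScheme Tt z) ∈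
      Points.map (pullback.snd f ((yon S).map (polyHom str n))) '' C₀ := by
    refine ((h n) C₀ isClosed_closure).closure_subset
      (map_mem_closure (Points.continuous_map _) hy fun x hx => ?_)
    obtain ⟨x₀, hx₀, rfl⟩ := hx
    refine ⟨Points.map m x₀, subset_closure ⟨x₀, hx₀, rfl⟩, ?_⟩
    rw [← Points.map_comp, ← Points.map_comp, pullback.lift_snd]
  obtain ⟨x, hx, hxe⟩ := hmem
  have hsP : ∃ t, Points.ofPt aP t = x := by
    obtain ⟨y, hy'⟩ := has (Points.map (pullback.fst f ((yon S).map (polyHom str n))) x)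
    obtain ⟨w, -, hw⟩ := exists_point_of_isPullback sqaP y x hy'
    obtain ⟨t, rfl⟩ := (Points.schemeEquiv _).surjective w
    exact ⟨t, (Points.ofPt_eq_map_ofScheme aP t).trans hw⟩
  obtain ⟨t, rfl⟩ := hsP
  have ht : t ∈ closure (G.left '' WT) := hC₀.le hx
  rw [hG, hJ] at ht
  refine hg t ht (Eq.trans (by rw [eqT]; rfl) (?_ : qT.left t = gz.left z))
  apply (Points.schemeEquiv P₀).injective
  refine Eq.trans ?_ (hxe.trans (Points.map_yon_map_apply gz z))
  rw [Points.map_ofPt, pullback.lift_snd]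
  exact ((Points.ofPt_eq_map_ofScheme ((yon S).map qT) t).trans (Points.map_yon_map_apply qT t)).symm

/-- Closedness descends to base changes along morphisms which induce embeddings on points. -/
theorem isClosedMap_of_isPullback_of_isEmbedding {P Q P' Q' : Sp S} {h : P' ⟶ P} {s' : P' ⟶ Q'}
    {s : P ⟶ Q} {g : Q' ⟶ Q} (sq : IsPullback h s' s g) (he : IsEmbedding (Points.map h))
    (hs : IsClosedMap (Points.map s)) : IsClosedMap (Points.map s') := by
  intro W hW
  obtain ⟨W₀, hW₀, rfl⟩ := he.isInducing.isClosed_iff.1 hW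
  rw [← image_eq_preimage_image_of_isPullback sq]
  exact (hs _ hW₀).preimage (Points.continuous_map g)

/-- A quasi-compact morphism is universally closed if it is closed after base change to affine
spaces over a scheme covering the target. -/
theorem isUnivClosedMor_of_affineSpace {X Y : Sp S} (hX : IsAlgSpace X) (hY : IsAlgSpace Y)
    {f : X ⟶ Y} (hqc : IsQuasiCompactMor f) {V : Over S} (p : (yon S).obj V ⟶ Y)
    (hps : RepWith @Surjective p)
    (hpe : RepWith @Etale p)
    (hcl : ∀ (n : ℕ) (P : Sp S) (fst : P ⟶ X)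
      (snd : P ⟶ (yon S).obj (Over.mk ((𝔸(ULift.{u} (Fin n); V.left) ↘ V.left) ≫ V.hom))),
      IsPullback fst snd f
        ((yon S).map (Over.homMk (𝔸(ULift.{u} (Fin n); V.left) ↘ V.left)) ≫ p) →
        IsClosedMap (Points.map snd)) :
    IsUnivClosedMor f := by
  classical
  intro Z Z' hZ g fst snd sq
  obtain ⟨ι, T, b, hT, hb, hbo, hbc⟩ := exists_affine_family hZ
  let T' (i : ι) : Over S := hpe.rep.pullback (b i ≫ g)
  let s' (i : ι) : T' i ⟶ T i := hpe.rep.snd (b i ≫ g)
  let t' (i : ι) : T' i ⟶ V := (yon S).preimage (hpe.rep.fst (b i ≫ g))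
  have hsq' : ∀ i, IsPullback ((yon S).map (t' i)) ((yon S).map (s' i)) p (b i ≫ g) := fun i => by
    rw [show (yon S).map (t' i) = hpe.rep.fst (b i ≫ g) from (yon S).map_preimage _]
    exact hpe.rep.isPullback _
  let K := Σ i : ι, { O : (T' i).left.affineOpens × V.left.affineOpens //
    (O.1.1 : Set ↥(T' i).left) ⊆ (t' i).left ⁻¹' (O.2.1 : Set ↥V.left) }
  let R₀ (κ : K) : CommRingCat.{u} := Γ(V.left, κ.2.1.2.1)
  let A₀ (κ : K) : CommRingCat.{u} := Γ((T' κ.1).left, κ.2.1.1.1)
  let str (κ : K) : Spec (R₀ κ) ⟶ S := κ.2.1.2.2.fromSpec ≫ V.hom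
  let ψ (κ : K) : R₀ κ ⟶ A₀ κ := (t' κ.1).left.appLE _ _ κ.2.2
  have hψ : ∀ κ : K, Spec.map (ψ κ) ≫ κ.2.1.2.2.fromSpec = κ.2.1.1.2.fromSpec ≫ (t' κ.1).left :=
    fun κ => κ.2.1.2.2.SpecMap_appLE_fromSpec (t' κ.1).left κ.2.1.1.2 κ.2.2
  let E (κ : K) : Over S := Over.mk (Spec.map (ψ κ) ≫ str κ)
  let jV (κ : K) : Over.mk (str κ) ⟶ V := Over.homMk κ.2.1.2.2.fromSpec rfl
  let jE (κ : K) : E κ ⟶ T' κ.1 := Over.homMk κ.2.1.1.2.fromSpec (by
    change _ = Spec.map (ψ κ) ≫ κ.2.1.2.2.fromSpec ≫ V.hom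
    rw [← Category.assoc, hψ, Category.assoc]
    exact congrArg _ (Over.w (t' κ.1)).symm)
  let kE (κ : K) : E κ ⟶ Over.mk (str κ) := Over.homMk (Spec.map (ψ κ)) rfl
  have hjk : ∀ κ, kE κ ≫ jV κ = jE κ ≫ t' κ.1 := fun κ => Over.OverMorphism.ext (hψ κ)
  let c (κ : K) : (yon S).obj (E κ) ⟶ Z := (yon S).map (jE κ) ≫ (yon S).map (s' κ.1) ≫ b κ.1
  have hc : ∀ κ, c κ ≫ g = (yon S).map (kE κ) ≫ (yon S).map (jV κ) ≫ p := fun κ => by
    rw [← Category.assoc ((yon S).map (kE κ)), ← Functor.map_comp, hjk, Functor.map_comp]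
    simp only [c, Category.assoc]
    rw [(hsq' κ.1).w]
  have hce : ∀ κ, RepWith @Etale (c κ) := fun κ =>
    repWith_comp ((repWith_yon_map_iff _ _).2 (inferInstanceAs (Etale κ.2.1.1.2.fromSpec)))
      (repWith_comp ((repWith_yon_map_iff _ _).2 (hpe.property_snd _)) (hb κ.1))
  have hcc : ∀ z : Points Z, ∃ κ, z ∈ Set.range (Points.map (c κ)) := fun z => by
    obtain ⟨i, x, rfl⟩ := hbc z
    obtain ⟨v, hv⟩ := surjective_map_of_repWith le_rfl hps (Points.map (b i ≫ g) x)
    obtain ⟨x', -, hx'⟩ := exists_point_of_isPullback (hsq' i) v x hv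
    obtain ⟨y, rfl⟩ := (Points.schemeEquiv (T' i)).surjective x'
    obtain ⟨Ov, hOv, hyv, -⟩ := TopologicalSpace.Opens.isBasis_iff_nbhd.mp V.left.isBasis_affineOpens
      (TopologicalSpace.Opens.mem_top ((t' i).left y))
    obtain ⟨Ot, hOt, hyt, hle⟩ := TopologicalSpace.Opens.isBasis_iff_nbhd.mp (T' i).left.isBasis_affineOpens
      (show y ∈ (t' i).left ⁻¹ᵁ Ov from hyv)
    let κ : K := ⟨i, ⟨(⟨Ot, hOt⟩, ⟨Ov, hOv⟩), hle⟩⟩
    obtain ⟨w, hw⟩ : y ∈ Set.range (jE κ).left := by
      rw [show Set.range (jE κ).left = _ from hOt.range_fromSpec]; exact hyt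
    refine ⟨κ, Points.schemeHomeo (E κ) w, ?_⟩
    rw [← hx']
    simp only [c, Points.map_comp]
    rw [Points.map_yon_map_apply, hw]
    rfl
  refine isClosedMap_of_family snd (fun κ => isOpenMap_map_of_repWith etale_le_universallyOpen (hce κ))
    hcc fun κ => ?_
  let f₀ := pullback.snd f ((yon S).map (jV κ) ≫ p)
  have hX₀ := isAlgSpace_pullback hY.diag hX (IsAlgSpace.yon_obj (Over.mk (str κ))) f ((yon S).map (jV κ) ≫ p)
  have : CompactSpace ↥(Over.mk (str κ)).left := inferInstanceAs (CompactSpace ↥(Spec (R₀ κ)))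
  have := compactSpace_points_of_isQuasiCompactSp (hqc (IsAlgSpace.yon_obj _)
    (isQuasiCompactSp_yon_iff.2 this) _ _ _ (IsPullback.of_hasPullback f ((yon S).map (jV κ) ≫ p)))
  have hkey : IsClosedMap (Points.map (pullback.snd f₀ ((yon S).map (kE κ)))) := by
    refine isClosedMap_snd_of_forall_polynomial (str κ) (ψ κ) hX₀ f₀ fun n => ?_
    let N := ULift.{u} (Fin n)
    let AV : Over S := Over.mk ((𝔸(N; V.left) ↘ V.left) ≫ V.hom)
    let πV : AV ⟶ V := Over.homMk (𝔸(N; V.left) ↘ V.left)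
    let sp : Spec (CommRingCat.of (MvPolynomial N (R₀ κ))) ⟶ 𝔸(N; V.left) :=
      (AffineSpace.SpecIso N (R₀ κ)).inv ≫ AffineSpace.map N κ.2.1.2.2.fromSpec
    have hsp : sp ≫ (𝔸(N; V.left) ↘ V.left) =
        Spec.map (CommRingCat.ofHom MvPolynomial.C) ≫ κ.2.1.2.2.fromSpec := by
      simp only [sp, Category.assoc, AffineSpace.map_over, AffineSpace.SpecIso_inv_over_assoc]
    let q : Over.mk (Spec.map (CommRingCat.ofHom (MvPolynomial.C : R₀ κ →+* MvPolynomial N (R₀ κ))) ≫
        str κ) ⟶ AV := Over.homMk sp (by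
      change sp ≫ (𝔸(N; V.left) ↘ V.left) ≫ V.hom = _
      rw [← Category.assoc, hsp]
      exact Category.assoc _ _ _)
    have hq : q ≫ πV = polyHom (str κ) n ≫ jV κ := Over.OverMorphism.ext hsp
    have : IsOpenImmersion (AffineSpace.map N κ.2.1.2.2.fromSpec) :=
      MorphismProperty.of_isPullback (P := @IsOpenImmersion) (AffineSpace.isPullback_map _).flip inferInstance
    have hqi : IsImmersion q.left := inferInstanceAs (IsImmersion sp)
    let big := pullback.fst f ((yon S).map πV ≫ p)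
    have sqB := IsPullback.of_hasPullback f ((yon S).map πV ≫ p)
    have sq₀ := (IsPullback.of_hasPullback f₀ ((yon S).map (polyHom (str κ) n))).paste_horiz
      (IsPullback.of_hasPullback f ((yon S).map (jV κ) ≫ p))
    have e : (yon S).map (polyHom (str κ) n) ≫ (yon S).map (jV κ) ≫ p =
        (yon S).map q ≫ (yon S).map πV ≫ p :=
      (Category.assoc _ _ _).symm.trans ((congrArg (· ≫ p) (((yon S).map_comp _ _).symm.trans
        ((congrArg (yon S).map hq.symm).trans ((yon S).map_comp _ _)))).trans (Category.assoc _ _ _))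
    rw [e] at sq₀
    let h := sqB.lift (pullback.fst f₀ ((yon S).map (polyHom (str κ) n)) ≫
        pullback.fst f ((yon S).map (jV κ) ≫ p))
      (pullback.snd f₀ ((yon S).map (polyHom (str κ) n)) ≫ (yon S).map q)
      (sq₀.w.trans (Category.assoc _ _ _).symm)
    have sqh : IsPullback h (pullback.snd f₀ ((yon S).map (polyHom (str κ) n))) (pullback.snd f _)
        ((yon S).map q) := by
      refine IsPullback.of_right ?_ (sqB.lift_snd _ _ _) sqB
      rw [sqB.lift_fst]
      exact sq₀
    exact isClosedMap_of_isPullback_of_isEmbedding sqh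
      (isEmbedding_of_immersion (isAlgSpace_pullback hY.diag hX (IsAlgSpace.yon_obj _) f _) h
        (repWith_of_isPullback sqh.flip ((repWith_yon_map_iff _ _).2 hqi))).1
      (hcl n _ _ _ sqB)
  have sq₁ := (IsPullback.of_hasPullback snd (c κ)).paste_horiz sq
  rw [hc] at sq₁
  have sq₂ := (IsPullback.of_hasPullback f₀ ((yon S).map (kE κ))).paste_horiz
    (IsPullback.of_hasPullback f ((yon S).map (jV κ) ≫ p))
  rw [← IsPullback.isoIsPullback_hom_snd _ _ sq₁ sq₂]
  intro W hW
  have := hkey _ ((pointsHomeo (sq₁.isoIsPullback _ _ sq₂)).isClosedMap W hW)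
  rw [← Set.image_comp, ← map_iso_comp] at this
  exact this

/-- A scheme locally of finite presentation over an etale chart is locally of finite presentation
over the space. -/
theorem locP_lfp_of_chart {Y : Sp S} {T V : Over S} (π : T ⟶ V) (hπ : LocallyOfFinitePresentation π.left)
    (p : (yon S).obj V ⟶ Y) (hp : RepWith @Etale p) :
    LocP @LocallyOfFinitePresentation ((yon S).map π ≫ p) :=
  locP_of_repWith etLocal_lfp (repWith_comp ((repWith_yon_map_iff _ _).2 hπ)
    (repWith_le (fun _ _ g (hg : Etale g) => (inferInstance : LocallyOfFinitePresentation g)) hp))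

end Groth.Agent.H12AlgSp
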