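import Groth.Agent.H12AlgSp.RepBySp

/-!
Unramified morphisms are locally quasi-finite; monomorphisms locally of finite type are unramified.
-/

universe u

open CategoryTheory CategoryTheory.Limits AlgebraicGeometry Opposite
open AlgSp Groth.Agent.H13AlgSp

namespace Groth.Agent.H12AlgSp

variable {S : Scheme.{u}}

theorem lqf_of_unramified {X Y : Scheme.{u}} (g : X ⟶ Y) [FormallyUnramified g] [LocallyOfFiniteType g] :
    LocallyQuasiFinite g := by
  rw [HasRingHomProperty.iff_appLE (P := @LocallyQuasiFinite)]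
  intro W O e
  have h₁ := HasRingHomProperty.appLE @FormallyUnramified g ‹_› W O e
  have h₂ := HasRingHomProperty.appLE @LocallyOfFiniteType g ‹_› W O e
  algebraize [(g.appLE W.1 O.1 e).hom]
  exact (inferInstance : Algebra.QuasiFinite Γ(Y, W.1) Γ(X, O.1))

theorem locP_lqf_of_unramified {X Y : Sp S} {f : X ⟶ Y} (h : LocP (@LocallyOfFiniteType ⊓ @FormallyUnramified) f) :
    LocP (@LocallyQuasiFinite ⊓ @LocallyOfFiniteType) f :=
  locP_mono (fun _ _ g ⟨h₁, h₂⟩ => by
    have : LocallyOfFiniteType g := h₁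
    have : FormallyUnramified g := h₂
    exact ⟨lqf_of_unramified g, h₁⟩) h

/-- A monomorphism locally of finite type to a scheme is locally quasi-finite. -/
theorem locP_lqf_of_mono {P : Sp S} (hP : IsAlgSpace P) {T : Over S} (π : P ⟶ (yon S).obj T) [Mono π]
    (h : LocP @LocallyOfFiniteType π) : LocP (@LocallyQuasiFinite ⊓ @LocallyOfFiniteType) π := by
  obtain ⟨W, a, ha, has⟩ := hP.atlas
  obtain ⟨g, hg⟩ := (yon S).map_surjective (a ≫ π)
  have hT : RepWith @Etale (𝟙 ((yon S).obj T)) := repWith_of_isIso _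
  have hw : a ≫ π = (yon S).map g ≫ 𝟙 _ := by rw [Category.comp_id, hg]
  have hgl : LocallyOfFiniteType g.left := h a (𝟙 _) g ha hT hw
  obtain ⟨R, r₁, r₂', sq⟩ := ha.rep a
  obtain ⟨r₂, rfl⟩ := (yon S).map_surjective r₂'
  have hr₁ : Etale r₁.left := ha.property _ _ r₁ sq
  have sq₁ : IsPullback ((yon S).map r₂) ((yon S).map r₁) (a ≫ π) (a ≫ π) :=
    ⟨⟨by rw [← Category.assoc, ← Category.assoc, sq.w]⟩, ⟨PullbackCone.isLimitOfCompMono a a π sq.cone sq.isLimit⟩⟩
  rw [← hg] at sq₁
  have sq₂ : IsPullback r₂.left r₁.left g.left g.left :=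
    (IsPullback.of_map_of_faithful (yon S) sq₁).map (Over.forget S)
  let δ := pullback.diagonal g.left
  have hsnd : Etale (pullback.snd g.left g.left) := by
    rw [← sq₂.isoPullback_inv_snd]
    exact inferInstanceAs (Etale (sq₂.isoPullback.inv ≫ r₁.left))
  have : Etale δ := etale_section (pullback.snd g.left g.left) δ (pullback.diagonal_snd _)
  have : Mono δ := mono_of_mono_fac (pullback.diagonal_snd g.left)
  have : IsOpenImmersion δ := IsOpenImmersion.of_flat_of_mono _
  have hu : FormallyUnramified g.left := inferInstance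
  refine locP_lqf_of_unramified ?_
  exact locP_of_one_chart (etLocal_inf etLocal_lft etLocal_formallyUnramified) g ha has hT hw ⟨hgl, hu⟩

end Groth.Agent.H12AlgSp
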