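import Groth.Agent.H12AlgSp.Proper
import Groth.Prelude.Def_AlgSpMor5

/-!
Valuative criteria for morphisms of algebraic spaces: formal properties, separated and representable morphisms.
-/

set_option linter.unusedVariables false

universe u

open CategoryTheory CategoryTheory.Limits AlgebraicGeometry Opposite
open AlgSp

namespace Groth.Agent.H12AlgSp

variable {S : Scheme.{u}} {X Y Z : Sp S}

theorem specMap_comp {A B C : Type u} [CommRing A] [CommRing B] [CommRing C] (f : A →+* B) (g : B →+* C) :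
    Spec.map (CommRingCat.ofHom (g.comp f)) = Spec.map (CommRingCat.ofHom g) ≫ Spec.map (CommRingCat.ofHom f) := by
  rw [CommRingCat.ofHom_comp, Spec.map_comp]

theorem overSpec_comp {A B C : Type u} [CommRing A] [CommRing B] [CommRing C] (f : A →+* B) (g : B →+* C)
    {T : Scheme.{u}} (s : Spec (CommRingCat.of A) ⟶ T) :
    Spec.map (CommRingCat.ofHom (g.comp f)) ≫ s =
      Spec.map (CommRingCat.ofHom g) ≫ Spec.map (CommRingCat.ofHom f) ≫ s := by
  rw [specMap_comp, Category.assoc]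

section maps

variable {f : X ⟶ Y} {v : ValSq f} (e : v.DomExt)

/-- `Spec A' ⟶ Spec A` over the base. -/
noncomputable abbrev phiHom : e.ptA' ⟶ v.ptA := Over.homMk (Spec.map (CommRingCat.ofHom e.φ)) rfl

/-- `Spec K' ⟶ Spec A'` over the base. -/
noncomputable abbrev jHom : e.ptK' ⟶ e.ptA' :=
  Over.homMk (Spec.map (CommRingCat.ofHom (algebraMap e.A' e.K'))) rfl

/-- `Spec K' ⟶ Spec K` over the base. -/
noncomputable abbrev psiHom : e.ptK' ⟶ v.ptK :=
  Over.homMk (Spec.map (CommRingCat.ofHom e.ψ)) (by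
    change Spec.map _ ≫ Spec.map _ ≫ _ = Spec.map _ ≫ Spec.map _ ≫ _
    rw [← Spec.map_comp_assoc, ← Spec.map_comp_assoc, ← CommRingCat.ofHom_comp,
      ← CommRingCat.ofHom_comp, e.comm])

theorem jHom_phiHom : jHom e ≫ phiHom e = psiHom e ≫ v.j := by
  ext1
  change Spec.map _ ≫ Spec.map _ = Spec.map _ ≫ Spec.map _
  rw [← Spec.map_comp, ← Spec.map_comp, ← CommRingCat.ofHom_comp, ← CommRingCat.ofHom_comp, e.comm]

theorem bot_comm : (yon S).map (jHom e) ≫ (yon S).map (phiHom e) ≫ v.bot =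
    (yon S).map (psiHom e) ≫ v.top ≫ f := by
  refine ((Functor.map_comp_assoc _ _ _ _).symm.trans ?_).trans (congrArg _ v.comm).symm
  rw [jHom_phiHom, Functor.map_comp, Category.assoc]

theorem hasLift_iff : e.HasLift ↔ ∃ l : (yon S).obj e.ptA' ⟶ X,
    (yon S).map (jHom e) ≫ l = (yon S).map (psiHom e) ≫ v.top ∧ l ≫ f = (yon S).map (phiHom e) ≫ v.bot :=
  Iff.rfl

/-- The trivial extension. -/
abbrev idExt (v : ValSq f) : v.DomExt where
  A' := v.A
  K' := v.K
  φ := RingHom.id _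
  ψ := RingHom.id _
  comm := rfl
  isLocalHom := ⟨fun _ h => h⟩

end maps

theorem exists_retype {X' Y' : Sp S} {h : X' ⟶ Y'} (v : ValSq h) {g : Y ⟶ Z}
    (top : (yon S).obj v.ptK ⟶ Y) (bot : (yon S).obj v.ptA ⟶ Z) (c : top ≫ g = (yon S).map v.j ≫ bot)
    (hg : ExistVC g) :
    ∃ (e : v.DomExt) (l : (yon S).obj e.ptA' ⟶ Y),
      (yon S).map (jHom e) ≫ l = (yon S).map (psiHom e) ≫ top ∧ l ≫ g = (yon S).map (phiHom e) ≫ bot := by
  obtain ⟨⟨A', K', φ, ψ, comm, loc⟩, l, h₁, h₂⟩ := hg { A := v.A, K := v.K, str := v.str, top := top, bot := bot, comm := c }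
  exact ⟨{ A' := A', K' := K', φ := φ, ψ := ψ, comm := comm, isLocalHom := loc }, l, h₁, h₂⟩

theorem existVC_of_strict {f : X ⟶ Y} (h : ExistVCStrict f) : ExistVC f := fun sq => by
  obtain ⟨l, hl₁, hl₂⟩ := h sq
  refine ⟨idExt sq, (hasLift_iff _).2 ⟨(yon S).map (phiHom (idExt sq)) ≫ l, ?_, ?_⟩⟩
  · rw [← hl₁, ← Functor.map_comp_assoc, ← Functor.map_comp_assoc, jHom_phiHom]
  · rw [Category.assoc, hl₂]

theorem existVC_of_isPullback {X' Z : Sp S} {f : X ⟶ Y} {g : Z ⟶ Y} {fst : X' ⟶ X} {f' : X' ⟶ Z}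
    (sq : IsPullback fst f' f g) (h : ExistVC f) : ExistVC f' := by
  intro v
  obtain ⟨e₀, l, hl₁, hl₂⟩ := h
    { A := v.A, K := v.K, str := v.str, top := v.top ≫ fst, bot := v.bot ≫ g
      comm := by rw [Category.assoc, sq.w, ← Category.assoc, v.comm, Category.assoc] }
  let e : v.DomExt :=
    { A' := e₀.A', K' := e₀.K', φ := e₀.φ, ψ := e₀.ψ, comm := e₀.comm, isLocalHom := e₀.isLocalHom }
  obtain ⟨l', h₁, h₂⟩ := sq.exists_lift l ((yon S).map (phiHom e) ≫ v.bot)
    (hl₂.trans (Category.assoc _ _ _).symm)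
  refine ⟨e, (hasLift_iff e).2 ⟨l', sq.hom_ext ?_ ?_, h₂⟩⟩
  · rw [Category.assoc, Category.assoc, h₁]
    exact hl₁
  · rw [Category.assoc, Category.assoc, h₂]
    exact bot_comm e

theorem uniqVC_of_isPullback {X' Z : Sp S} {f : X ⟶ Y} {g : Z ⟶ Y} {fst : X' ⟶ X} {f' : X' ⟶ Z}
    (sq : IsPullback fst f' f g) (h : UniqVC f) : UniqVC f' := by
  intro v l l' h₁ h₂ h₁' h₂'
  refine sq.hom_ext ?_ (h₂.trans h₂'.symm)
  refine h { A := v.A, K := v.K, str := v.str, top := v.top ≫ fst, bot := v.bot ≫ g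
             comm := by rw [Category.assoc, sq.w, ← Category.assoc, v.comm, Category.assoc] } _ _ ?_ ?_ ?_ ?_
  · exact (Category.assoc _ _ _).symm.trans (congrArg (· ≫ fst) h₁)
  · exact (Category.assoc _ _ _).trans ((congrArg (l ≫ ·) sq.w).trans
      ((Category.assoc _ _ _).symm.trans (congrArg (· ≫ g) h₂)))
  · exact (Category.assoc _ _ _).symm.trans (congrArg (· ≫ fst) h₁')
  · exact (Category.assoc _ _ _).trans ((congrArg (l' ≫ ·) sq.w).trans
      ((Category.assoc _ _ _).symm.trans (congrArg (· ≫ g) h₂')))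

theorem uniqVC_comp {f : X ⟶ Y} {g : Y ⟶ Z} (hf : UniqVC f) (hg : UniqVC g) : UniqVC (f ≫ g) := by
  intro v l l' h₁ h₂ h₁' h₂'
  have e : l ≫ f = l' ≫ f := hg
    { A := v.A, K := v.K, str := v.str, top := v.top ≫ f, bot := v.bot
      comm := by rw [Category.assoc]; exact v.comm } _ _
    ((Category.assoc _ _ _).symm.trans (congrArg (· ≫ f) h₁)) ((Category.assoc _ _ _).trans h₂)
    ((Category.assoc _ _ _).symm.trans (congrArg (· ≫ f) h₁')) ((Category.assoc _ _ _).trans h₂')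
  exact hf { A := v.A, K := v.K, str := v.str, top := v.top, bot := l ≫ f
             comm := by rw [← h₁]; exact Category.assoc _ _ _ } l l' h₁ rfl h₁' e.symm

theorem hasLiftExt_of_comp {h : X ⟶ Z} (v : ValSq h) {B L C M : Type u} [CommRing B] [Field L] [Algebra B L]
    [CommRing C] [IsDomain C] [ValuationRing C] [Field M] [Algebra C M] [IsFractionRing C M]
    (φ : v.A →+* B) (ψ : v.K →+* L) (φ' : B →+* C) (ψ' : L →+* M)
    (c : (algebraMap C M).comp (φ'.comp φ) = (ψ'.comp ψ).comp (algebraMap v.A v.K))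
    (hloc : IsLocalHom (φ'.comp φ))
    (l : (yon S).obj (Over.mk (Spec.map (CommRingCat.ofHom φ') ≫ Spec.map (CommRingCat.ofHom φ) ≫ v.str)) ⟶ X)
    {sL : Spec (CommRingCat.of L) ⟶ S}
    (b₁ : Over.mk (Spec.map (CommRingCat.ofHom (algebraMap C M)) ≫
      Spec.map (CommRingCat.ofHom φ') ≫ Spec.map (CommRingCat.ofHom φ) ≫ v.str) ⟶ Over.mk sL)
    (b₂ : Over.mk sL ⟶ v.ptK)
    (hb₁ : b₁.left = Spec.map (CommRingCat.ofHom ψ')) (hb₂ : b₂.left = Spec.map (CommRingCat.ofHom ψ))
    (h₁ : (yon S).map (Over.homMk (Spec.map (CommRingCat.ofHom (algebraMap C M))) rfl :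
        Over.mk (Spec.map (CommRingCat.ofHom (algebraMap C M)) ≫
          Spec.map (CommRingCat.ofHom φ') ≫ Spec.map (CommRingCat.ofHom φ) ≫ v.str) ⟶ Over.mk _) ≫ l =
      (yon S).map b₁ ≫ (yon S).map b₂ ≫ v.top)
    (h₂ : l ≫ h = (yon S).map (Over.homMk (Spec.map (CommRingCat.ofHom φ') ≫ Spec.map (CommRingCat.ofHom φ))
      (Category.assoc _ _ _)) ≫ v.bot) :
    v.HasLiftExt := by
  have hi : Spec.map (CommRingCat.ofHom φ') ≫ Spec.map (CommRingCat.ofHom φ) ≫ v.str =
      Spec.map (CommRingCat.ofHom (φ'.comp φ)) ≫ v.str := (overSpec_comp φ φ' v.str).symm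
  let d : v.DomExt :=
    { A' := C, K' := M, φ := φ'.comp φ, ψ := ψ'.comp ψ, comm := c, isLocalHom := hloc }
  let i : d.ptA' ⟶ Over.mk (Spec.map (CommRingCat.ofHom φ') ≫ Spec.map (CommRingCat.ofHom φ) ≫ v.str) :=
    Over.homMk (𝟙 _) ((Category.id_comp _).trans hi)
  let iK : Over.mk (Spec.map (CommRingCat.ofHom (algebraMap C M)) ≫
        Spec.map (CommRingCat.ofHom (φ'.comp φ)) ≫ v.str) ⟶
        Over.mk (Spec.map (CommRingCat.ofHom (algebraMap C M)) ≫
          Spec.map (CommRingCat.ofHom φ') ≫ Spec.map (CommRingCat.ofHom φ) ≫ v.str) :=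
    Over.homMk (𝟙 _) ((Category.id_comp _).trans
      (congrArg (Spec.map (CommRingCat.ofHom (algebraMap C M)) ≫ ·) hi))
  refine ⟨d, (hasLift_iff d).2 ⟨(yon S).map i ≫ l, ?_, ?_⟩⟩
  · refine Eq.trans ?_ ((congrArg ((yon S).map iK ≫ ·) h₁).trans ?_)
    · rw [← Functor.map_comp_assoc, ← Functor.map_comp_assoc]
      congr 2
    · rw [← Functor.map_comp_assoc, ← Functor.map_comp_assoc]
      congr 2
      refine Over.OverMorphism.ext ?_
      change (𝟙 _ ≫ b₁.left) ≫ b₂.left = Spec.map (CommRingCat.ofHom (ψ'.comp ψ))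
      rw [Category.id_comp, hb₁, hb₂, specMap_comp]
  · rw [Category.assoc, h₂, ← Functor.map_comp_assoc]
    congr 2
    refine Over.OverMorphism.ext ?_
    change 𝟙 _ ≫ _ ≫ _ = Spec.map (CommRingCat.ofHom (φ'.comp φ))
    rw [Category.id_comp, specMap_comp]

theorem existVC_comp {f : X ⟶ Y} {g : Y ⟶ Z} (hf : ExistVC f) (hg : ExistVC g) : ExistVC (f ≫ g) := by
  intro v
  obtain ⟨e, l, hl₁, hl₂⟩ := exists_retype v (v.top ≫ f) v.bot ((Category.assoc _ _ _).trans v.comm) hg
  obtain ⟨e', hl'⟩ := hf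
    { A := e.A', K := e.K', str := Spec.map (CommRingCat.ofHom e.φ) ≫ v.str
      top := (yon S).map (psiHom e) ≫ v.top, bot := l, comm := (Category.assoc _ _ _).trans hl₁.symm }
  obtain ⟨l', h₁, h₂⟩ := (hasLift_iff e').1 hl'
  have := e.isLocalHom; have := e'.isLocalHom
  refine hasLiftExt_of_comp v e.φ e.ψ e'.φ e'.ψ (RingHom.ext fun a => ?_)
    (RingHom.isLocalHom_comp e'.φ e.φ) l' (psiHom e') (psiHom e) rfl rfl h₁ ?_
  · exact (RingHom.congr_fun e'.comm (e.φ a)).trans (congrArg e'.ψ (RingHom.congr_fun e.comm a))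
  · refine ((Category.assoc _ _ _).symm.trans (congrArg (· ≫ g) h₂)).trans
      ((Category.assoc _ _ _).trans ((congrArg (_ ≫ ·) hl₂).trans ?_))
    exact ((yon S).map_comp_assoc _ _ _).symm

/-- Separated morphisms satisfy uniqueness. -/
theorem uniqVC_of_isSeparatedMor {f : X ⟶ Y} (hf : IsSeparatedMor f) : UniqVC f := by
  intro v l l' h₁ h₂ h₁' h₂'
  let x := pullback.lift l l' (h₂.trans h₂'.symm)
  obtain ⟨W, w, k, sq⟩ := hf.rep x
  have : IsClosedImmersion w.left := hf.property x k w sq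
  obtain ⟨s, -, hs⟩ := sq.exists_lift v.top ((yon S).map v.j) (by
    apply pullback.hom_ext
    · simp only [x, Category.assoc, pullback.diagonal_fst, Category.comp_id, pullback.lift_fst]
      exact h₁.symm
    · simp only [x, Category.assoc, pullback.diagonal_snd, Category.comp_id, pullback.lift_snd]
      exact h₁'.symm)
  obtain ⟨s', rfl⟩ := (yon S).map_surjective s
  have e : s' ≫ w = v.j := (yon S).map_injective (by rw [Functor.map_comp, hs])
  have hd : IsDominant (Spec.map (CommRingCat.ofHom (algebraMap v.A v.K))) := by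
    rw [isDominant_iff]
    exact PrimeSpectrum.denseRange_comap_iff_ker_le_nilRadical _ |>.2 (by
      rw [CommRingCat.hom_ofHom, (RingHom.injective_iff_ker_eq_bot _).1 (IsFractionRing.injective v.A v.K)]
      exact bot_le)
  have : IsDominant (s'.left ≫ w.left) := by
    rw [← Over.comp_left, e]; exact hd
  have : IsDominant w.left := IsDominant.of_comp s'.left w.left
  have : Surjective w.left := Surjective.of_universallyClosed_of_isDominant w.left
  have : AlgebraicGeometry.IsReduced v.ptA.left :=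
    inferInstanceAs (AlgebraicGeometry.IsReduced (Spec (CommRingCat.of v.A)))
  have : IsIso w.left := isIso_of_isClosedImmersion_of_surjective w.left
  have : IsIso w := by
    have : IsIso ((Over.forget S).map w) := ‹IsIso w.left›
    exact isIso_of_reflects_iso w (Over.forget S)
  have e₂ := sq.w =≫ pullback.fst f f
  have e₃ := sq.w =≫ pullback.snd f f
  simp only [x, Category.assoc, pullback.diagonal_fst, pullback.diagonal_snd, Category.comp_id,
    pullback.lift_fst, pullback.lift_snd] at e₂ e₃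
  exact (cancel_epi ((yon S).map w)).1 (e₂.symm.trans e₃)

/-- A point of a scheme over a valuation ring that extends after a dominating extension extends. -/
theorem exists_section_of_extension {A K A' K' : Type u} [CommRing A] [IsDomain A] [ValuationRing A]
    [Field K] [Algebra A K] [IsFractionRing A K] [CommRing A'] [IsDomain A'] [ValuationRing A']
    [Field K'] [Algebra A' K'] [IsFractionRing A' K'] (φ : A →+* A') (ψ : K →+* K')
    (comm : (algebraMap A' K').comp φ = ψ.comp (algebraMap A K)) [IsLocalHom φ]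
    {P : Scheme.{u}} (p : P ⟶ Spec (.of A)) (a : Spec (.of K) ⟶ P)
    (ha : a ≫ p = Spec.map (CommRingCat.ofHom (algebraMap A K))) (l : Spec (.of A') ⟶ P)
    (hl : l ≫ p = Spec.map (CommRingCat.ofHom φ))
    (hal : Spec.map (CommRingCat.ofHom (algebraMap A' K')) ≫ l = Spec.map (CommRingCat.ofHom ψ) ≫ a) :
    ∃ s : Spec (.of A) ⟶ P, s ≫ p = 𝟙 _ ∧ Spec.map (CommRingCat.ofHom (algebraMap A K)) ≫ s = a := by
  obtain ⟨U, hU, hx⟩ : ∃ U : P.Opens, IsAffineOpen U ∧ l (IsLocalRing.closedPoint A') ∈ U :=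
    let ⟨U, hU, hx, _⟩ := TopologicalSpace.Opens.isBasis_iff_nbhd.mp P.isBasis_affineOpens
      (TopologicalSpace.Opens.mem_top (l (IsLocalRing.closedPoint A')))
    ⟨U, hU, hx⟩
  have hlU : ∀ y, l y ∈ U := fun y =>
    ((IsLocalRing.specializes_closedPoint y).map l.continuous).mem_open U.2 hx
  have haU : ∀ y, a y ∈ U := fun y => by
    let η : ↥(Spec (CommRingCat.of K')) := default
    have h := hlU (Spec.map (CommRingCat.ofHom (algebraMap A' K')) η)
    rw [← Scheme.Hom.comp_apply, hal, Scheme.Hom.comp_apply] at h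
    rwa [Subsingleton.elim y]
  have := hU
  let e := hU.isoSpec
  obtain ⟨l₁, hl₁⟩ : ∃ l₁ : Spec (.of A') ⟶ Spec Γ(P, U), l₁ ≫ hU.fromSpec = l :=
    ⟨IsOpenImmersion.lift U.ι l (by rintro _ ⟨y, rfl⟩; simpa using hlU y) ≫ hU.isoSpec.hom,
      by rw [Category.assoc, hU.isoSpec_hom_fromSpec, IsOpenImmersion.lift_fac]⟩
  obtain ⟨a₁, ha₁⟩ : ∃ a₁ : Spec (.of K) ⟶ Spec Γ(P, U), a₁ ≫ hU.fromSpec = a :=
    ⟨IsOpenImmersion.lift U.ι a (by rintro _ ⟨y, rfl⟩; simpa using haU y) ≫ hU.isoSpec.hom,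
      by rw [Category.assoc, hU.isoSpec_hom_fromSpec, IsOpenImmersion.lift_fac]⟩
  obtain ⟨μ, hμ⟩ := Spec.homEquiv.symm.surjective l₁
  obtain ⟨α, hα⟩ := Spec.homEquiv.symm.surjective a₁
  have hl₁' : Spec.map μ = l₁ := hμ
  have ha₁' : Spec.map α = a₁ := hα
  have hsq : ψ.comp α.hom = (algebraMap A' K').comp μ.hom := by
    have e1 : Spec.map (α ≫ CommRingCat.ofHom ψ) = Spec.map (μ ≫ CommRingCat.ofHom (algebraMap A' K')) := by
      rw [Spec.map_comp, Spec.map_comp, hl₁', ha₁', ← cancel_mono hU.fromSpec, Category.assoc,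
        Category.assoc, hl₁, ha₁, hal]
    exact congrArg CommRingCat.Hom.hom (Spec.map_injective e1)
  have hrange : ∀ r, α.hom r ∈ (algebraMap A K).range := by
    intro r
    obtain ⟨y, hy⟩ | ⟨y, hy⟩ := ValuationRing.isInteger_or_isInteger A (α.hom r)
    · exact ⟨y, hy⟩
    · by_cases hu : IsUnit y
      · obtain ⟨u, rfl⟩ := hu
        refine ⟨(u⁻¹ : Aˣ), ?_⟩
        rw [map_units_inv, hy, inv_inv]
      · by_cases hy0 : α.hom r = 0
        · exact ⟨0, by rw [map_zero, hy0]⟩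
        exfalso
        have h1 : φ y * μ.hom r = 1 := by
          apply IsFractionRing.injective A' K'
          have c₁ := RingHom.congr_fun comm y
          have c₂ := RingHom.congr_fun hsq r
          simp only [RingHom.comp_apply] at c₁ c₂
          rw [map_mul, c₁, ← c₂, ← map_mul, hy, inv_mul_cancel₀ hy0, map_one, map_one]
        exact hu (IsUnit.of_map φ y (IsUnit.of_mul_eq_one _ h1))
  let inj : A ≃+* (algebraMap A K).range :=
    RingEquiv.ofBijective (algebraMap A K).rangeRestrict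
      ⟨fun x y h => IsFractionRing.injective A K (congrArg Subtype.val h), (algebraMap A K).rangeRestrict_surjective⟩
  let ρ : Γ(P, U) ⟶ CommRingCat.of A :=
    CommRingCat.ofHom (inj.symm.toRingHom.comp (α.hom.codRestrict _ hrange))
  have hρ : ρ ≫ CommRingCat.ofHom (algebraMap A K) = α := by
    ext r
    exact congrArg Subtype.val (inj.apply_symm_apply ⟨α.hom r, hrange r⟩)
  refine ⟨Spec.map ρ ≫ hU.fromSpec, ?_, ?_⟩
  · obtain ⟨τ, hτ⟩ := Spec.homEquiv.symm.surjective (Spec.map ρ ≫ hU.fromSpec ≫ p)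
    have hτ' : Spec.map τ = Spec.map ρ ≫ hU.fromSpec ≫ p := hτ
    have h2 : Spec.map (CommRingCat.ofHom (algebraMap A K)) ≫ Spec.map τ =
        Spec.map (CommRingCat.ofHom (algebraMap A K)) := by
      rw [hτ', ← Spec.map_comp_assoc, hρ, ha₁', ← Category.assoc, ha₁, ha]
    have h3 : τ = 𝟙 _ := by
      rw [← Spec.map_comp] at h2
      ext r
      exact IsFractionRing.injective A K (ConcreteCategory.congr_hom (Spec.map_injective h2) r)
    rw [Category.assoc, ← hτ', h3, Spec.map_id]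
  · rw [← Spec.map_comp_assoc, hρ, ha₁', ha₁]

theorem hasLift_of_representable {f : X ⟶ Y} (hf : Representable f) (v : ValSq f) (e : v.DomExt)
    (he : e.HasLift) : v.HasLift := by
  obtain ⟨l, hl₁, hl₂⟩ := he
  obtain ⟨P, p, k, sq⟩ := hf v.bot
  obtain ⟨a, ha₁, ha₂⟩ := sq.exists_lift v.top ((yon S).map v.j) v.comm
  obtain ⟨b, hb₁, hb₂⟩ := sq.exists_lift l _ hl₂
  obtain ⟨a, rfl⟩ := (yon S).map_surjective a
  obtain ⟨b, rfl⟩ := (yon S).map_surjective b
  have ha : a ≫ p = v.j := (yon S).map_injective (by rw [Functor.map_comp, ha₂])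
  have hb := (yon S).map_injective ((Functor.map_comp (yon S) b p).trans hb₂)
  have hab : (Over.homMk (Spec.map (CommRingCat.ofHom (algebraMap e.A' e.K'))) rfl : e.ptK' ⟶ e.ptA') ≫ b =
      (Over.homMk (Spec.map (CommRingCat.ofHom e.ψ)) (by
          change Spec.map _ ≫ Spec.map _ ≫ _ = Spec.map _ ≫ Spec.map _ ≫ _
          rw [← Spec.map_comp_assoc, ← Spec.map_comp_assoc, ← CommRingCat.ofHom_comp,
            ← CommRingCat.ofHom_comp, e.comm]) : e.ptK' ⟶ v.ptK) ≫ a := by
    apply (yon S).map_injective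
    rw [Functor.map_comp, Functor.map_comp]
    refine sq.hom_ext ?_ ?_
    · simp only [Category.assoc, hb₁, ha₁, hl₁]
    · rw [Category.assoc, Category.assoc, ha₂, hb₂, ← Functor.map_comp, ← Functor.map_comp]
      exact congrArg _ (jHom_phiHom e)
  have := e.isLocalHom
  obtain ⟨s, hs₁, hs₂⟩ := exists_section_of_extension e.φ e.ψ e.comm (P := P.left) p.left a.left
    (by rw [← Over.comp_left, ha]; rfl) b.left (by rw [← Over.comp_left, hb]; rfl)
    (congrArg CommaMorphism.left hab)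
  have hps : s ≫ P.hom = v.str := by
    rw [← Over.w p, ← Category.assoc, hs₁]; exact Category.id_comp _
  refine ⟨(yon S).map (Over.homMk s hps : v.ptA ⟶ P) ≫ k, ?_, ?_⟩
  · rw [← ha₁, ← Functor.map_comp_assoc]
    congr 2
    ext1
    exact hs₂
  · rw [Category.assoc, sq.w, ← Functor.map_comp_assoc]
    have : (Over.homMk s hps : v.ptA ⟶ P) ≫ p = 𝟙 _ := by ext1; exact hs₁
    rw [this]
    exact (congrArg (· ≫ v.bot) ((yon S).map_id _)).trans (Category.id_comp _)

theorem existVC_iff_strict_of_representable {f : X ⟶ Y} (hf : Representable f) :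
    ExistVC f ↔ ExistVCStrict f :=
  ⟨fun h v => let ⟨e, he⟩ := h v; hasLift_of_representable hf v e he, existVC_of_strict⟩

end Groth.Agent.H12AlgSp
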