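import Groth.Agent.H12AlgSp.ValuativeQS
import Mathlib.AlgebraicGeometry.Morphisms.Flat

/-!
Lifting valuation rings along flat morphisms of algebraic spaces.
-/

set_option linter.unusedVariables false

universe u

open CategoryTheory CategoryTheory.Limits AlgebraicGeometry Opposite Topology IsLocalRing
open AlgSp

namespace Groth.Agent.H12AlgSp

/-- Flat morphisms of schemes lift specializations. -/
theorem exists_generalization_of_flat {U T : Scheme.{u}} (f : U ⟶ T) [Flat f] [IsAffine T] (u : ↥U) {t : ↥T}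
    (h : t ⤳ f u) : ∃ u₀, u₀ ⤳ u ∧ f u₀ = t := by
  obtain ⟨O, hO, hu⟩ : ∃ O : U.Opens, IsAffineOpen O ∧ u ∈ O :=
    let ⟨O, hO, hu, _⟩ := TopologicalSpace.Opens.isBasis_iff_nbhd.mp U.isBasis_affineOpens
      (TopologicalSpace.Opens.mem_top u)
    ⟨O, hO, hu⟩
  have : IsAffine O.toScheme := hO
  let g := O.ι ≫ f
  have hgen : GeneralizingMap (PrimeSpectrum.comap g.appTop.hom) :=
    RingHom.Flat.generalizingMap_comap (HasRingHomProperty.appTop @Flat g inferInstance)
  let eT := T.isoSpec.hom.homeomorph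
  let eO := O.toScheme.isoSpec.hom.homeomorph
  have hnat : ∀ x, eT (g x) = PrimeSpectrum.comap g.appTop.hom (eO x) := fun x => by
    change T.isoSpec.hom (g x) = Spec.map g.appTop (O.toScheme.isoSpec.hom x)
    rw [← Scheme.Hom.comp_apply, ← Scheme.Hom.comp_apply, Scheme.isoSpec_hom_naturality]
  obtain ⟨q, hq, hqt⟩ := hgen (a := eO ⟨u, hu⟩) (b := eT t) (by rw [← hnat]; exact h.map eT.continuous)
  obtain ⟨q, rfl⟩ := eO.surjective q
  refine ⟨O.ι q, ?_, ?_⟩
  · have : q ⤳ (⟨u, hu⟩ : O.toScheme) := by simpa using hq.map eO.symm.continuous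
    exact this.map O.ι.continuous
  · rw [← hnat] at hqt
    exact (Scheme.Hom.comp_apply O.ι f q).symm.trans (eT.injective hqt)

variable {S : Scheme.{u}} {X Y : Sp S}

/-- Along a flat morphism, a map from the spectrum of a valuation ring lifts after an extension. -/
theorem exists_lift_valuation_of_flat (hX : IsAlgSpace X) (hY : IsAlgSpace Y) {f : X ⟶ Y}
    (hf : LocP @Flat f) (A : Type u) [CommRing A] [IsDomain A] [ValuationRing A]
    (str : Spec (.of A) ⟶ S) (b : (yon S).obj (Over.mk str) ⟶ Y)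
    (hb : Points.ofPt b (closedPoint A) ∈ Set.range (Points.map f)) :
    ∃ (A' : Type u) (_ : CommRing A') (_ : IsDomain A') (_ : ValuationRing A') (φ : A →+* A'),
      Function.Injective φ ∧ IsLocalHom φ ∧
      ∃ l : (yon S).obj (Over.mk (Spec.map (CommRingCat.ofHom φ) ≫ str)) ⟶ X,
        l ≫ f = (yon S).map (Over.homMk (Spec.map (CommRingCat.ofHom φ)) rfl :
          Over.mk (Spec.map (CommRingCat.ofHom φ) ≫ str) ⟶ Over.mk str) ≫ b := by
  let T : Over S := Over.mk str
  have hT := IsAlgSpace.yon_obj (S := S) T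
  have : IsAffine T.left := inferInstanceAs (IsAffine (Spec (CommRingCat.of A)))
  let c : ↥T.left := closedPoint A
  let sd := pullback.snd f b
  have hP := isAlgSpace_pullback hY.diag hX hT f b
  obtain ⟨x, hx⟩ := hb
  obtain ⟨p, -, hp⟩ := exists_point_of_isPullback (IsPullback.of_hasPullback f b) x (Points.ofScheme T c)
    (hx.trans (Points.ofPt_eq_map_ofScheme b c))
  obtain ⟨U, a, ha, has⟩ := hP.atlas
  obtain ⟨h, hh⟩ := (yon S).map_surjective (a ≫ sd)
  obtain ⟨u, rfl⟩ := surjective_ofPt_of_repWith le_rfl has p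
  have hfl : LocP @Flat sd := locP_of_isPullback etLocal_flat (IsPullback.of_hasPullback f b) hX hY hT hf
  have : Flat h.left := hfl a (𝟙 _) h ha (repWith_id _ T) (by rw [hh, Category.comp_id])
  have hu : h.left u = c := by
    apply (Points.schemeHomeo T).injective
    refine Eq.trans ?_ hp
    rw [Points.map_ofPt, ← hh, ← Category.comp_id ((yon S).map h), ofPt_map]
    rfl
  let η : ↥T.left := (⊥ : PrimeSpectrum A)
  obtain ⟨u₀, hu₀, hu₀η⟩ := exists_generalization_of_flat h.left u (t := η)
    (hu.symm ▸ specializes_closedPoint (R := A) η)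
  obtain ⟨A', b', hb', hbw⟩ := exists_valuation_of_specializes (𝟙 U.left) u₀ hu₀
  obtain ⟨φ, hφ⟩ := Spec.map_surjective (R := CommRingCat.of A) (S := CommRingCat.of A') (b' ≫ h.left)
  have hinj : Function.Injective φ.hom := by
    rw [RingHom.injective_iff_ker_eq_bot, eq_bot_iff]
    intro r hr
    let q : ↥(Spec (CommRingCat.of A')) :=
      Spec.map (CommRingCat.ofHom (algebraMap A' (U.left.residueField u₀))) default
    have hq : Spec.map φ q = η := by
      rw [hφ, ← Scheme.Hom.comp_apply, ← Category.assoc, hbw, Category.comp_id, Scheme.Hom.comp_apply,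
        Scheme.fromSpecResidueField_apply, hu₀η]
    have h2 : r ∈ (η : PrimeSpectrum A).asIdeal := by
      rw [← hq]
      change φ.hom r ∈ (q : PrimeSpectrum A').asIdeal
      rw [RingHom.mem_ker.1 hr]
      exact Ideal.zero_mem _
    exact h2
  refine ⟨A', inferInstance, inferInstance, inferInstance, φ.hom, hinj, isLocalHom_of_closedPoint ?_, ?_⟩
  · rw [CommRingCat.ofHom_hom, hφ, Scheme.Hom.comp_apply, hb']
    exact hu
  · let k : Over.mk (Spec.map (CommRingCat.ofHom φ.hom) ≫ str) ⟶ U := Over.homMk b' (by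
      change b' ≫ U.hom = Spec.map (CommRingCat.ofHom φ.hom) ≫ str
      rw [CommRingCat.ofHom_hom, hφ, Category.assoc]
      exact congrArg (b' ≫ ·) (Over.w h).symm)
    refine ⟨(yon S).map k ≫ a ≫ pullback.fst f b, ?_⟩
    simp only [Category.assoc, pullback.condition]
    rw [← Category.assoc a, ← hh, ← Functor.map_comp_assoc]
    congr 2
    exact Over.OverMorphism.ext hφ.symm

end Groth.Agent.H12AlgSp
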