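import Groth.Agent.H12AlgSp.ValuativeFlat
import Groth.Agent.H12AlgSp.RingPoint

/-!
A refined valuative criterion: squares through a dense quasi-compact morphism suffice.
-/

set_option linter.unusedVariables false

universe u

open CategoryTheory CategoryTheory.Limits AlgebraicGeometry Opposite Topology IsLocalRing
open AlgSp

namespace Groth.Agent.H12AlgSp

/-! ### Morphisms from spectra to affine schemes -/

section rmap

variable {T : Scheme.{u}} [IsAffine T]

/-- The ring map of a morphism from a spectrum to an affine scheme. -/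
noncomputable def rmap {R : Type u} [CommRing R] (x : Spec (CommRingCat.of R) ⟶ T) : Γ(T, ⊤) →+* R :=
  (Spec.preimage (x ≫ T.isoSpec.hom)).hom

/-- The morphism from a spectrum to an affine scheme of a ring map. -/
noncomputable def ofRmap {R : Type u} [CommRing R] (ρ : Γ(T, ⊤) →+* R) : Spec (CommRingCat.of R) ⟶ T :=
  Spec.map (CommRingCat.ofHom ρ) ≫ T.isoSpec.inv

theorem specMap_rmap {R : Type u} [CommRing R] (x : Spec (CommRingCat.of R) ⟶ T) :
    Spec.map (CommRingCat.ofHom (rmap x)) = x ≫ T.isoSpec.hom := by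
  rw [rmap, CommRingCat.ofHom_hom, Spec.map_preimage]

theorem rmap_ext {R : Type u} [CommRing R] {x y : Spec (CommRingCat.of R) ⟶ T} (h : rmap x = rmap y) :
    x = y := by
  rw [← cancel_mono T.isoSpec.hom, ← specMap_rmap, ← specMap_rmap, h]

theorem rmap_comp {R R' : Type u} [CommRing R] [CommRing R'] (g : R →+* R')
    (x : Spec (CommRingCat.of R) ⟶ T) :
    rmap (Spec.map (CommRingCat.ofHom g) ≫ x) = g.comp (rmap x) := by
  have h : Spec.map (CommRingCat.ofHom (rmap (Spec.map (CommRingCat.ofHom g) ≫ x))) =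
      Spec.map (CommRingCat.ofHom (g.comp (rmap x))) := by
    rw [specMap_rmap, CommRingCat.ofHom_comp, Spec.map_comp, specMap_rmap, Category.assoc]
  exact congrArg CommRingCat.Hom.hom (Spec.map_injective h)

theorem rmap_ofRmap {R : Type u} [CommRing R] (ρ : Γ(T, ⊤) →+* R) : rmap (ofRmap ρ) = ρ := by
  have h : Spec.map (CommRingCat.ofHom (rmap (ofRmap ρ))) = Spec.map (CommRingCat.ofHom ρ) := by
    rw [specMap_rmap, ofRmap, Category.assoc, Iso.inv_hom_id, Category.comp_id]
  exact congrArg CommRingCat.Hom.hom (Spec.map_injective h)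

theorem ext_of_fraction {R L : Type u} [CommRing R] [CommRing L] (g : R →+* L) (hg : Function.Injective g)
    {x y : Spec (CommRingCat.of R) ⟶ T}
    (h : Spec.map (CommRingCat.ofHom g) ≫ x = Spec.map (CommRingCat.ofHom g) ≫ y) : x = y := by
  refine rmap_ext (RingHom.ext fun r => hg ?_)
  have := congrArg rmap h
  rw [rmap_comp, rmap_comp] at this
  exact RingHom.congr_fun this r

end rmap

/-- A field-valued point factors through the residue field of its image. -/
theorem exists_residue_factor {O : Scheme.{u}} {L : Type u} [Field L] (y : Spec (CommRingCat.of L) ⟶ O)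
    (o : ↥O) (ho : y (closedPoint L) = o) :
    ∃ ι : O.residueField o ⟶ CommRingCat.of L, y = Spec.map ι ≫ O.fromSpecResidueField o := by
  subst ho
  exact ⟨_, (Scheme.descResidueField_stalkClosedPointTo_fromSpecResidueField L O y).symm⟩

/-- Points in the closure of the image of a morphism of affine schemes are specializations of image points. -/
theorem exists_specializes_of_dense {W O : Scheme.{u}} [IsAffine W] [IsAffine O] (g : W ⟶ O)
    (hd : DenseRange g) (o : ↥O) : ∃ w, g w ⤳ o := by
  let eO := O.isoSpec.hom.homeomorph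
  let eW := W.isoSpec.hom.homeomorph
  have hnat : ∀ x, eO (g x) = PrimeSpectrum.comap g.appTop.hom (eW x) := fun x => by
    change O.isoSpec.hom (g x) = Spec.map g.appTop (W.isoSpec.hom x)
    rw [← Scheme.Hom.comp_apply, ← Scheme.Hom.comp_apply, Scheme.isoSpec_hom_naturality]
  have hd' : DenseRange (PrimeSpectrum.comap g.appTop.hom) := by
    have h1 : DenseRange (eO ∘ g) := eO.surjective.denseRange.comp hd eO.continuous
    have h2 : eO ∘ g = PrimeSpectrum.comap g.appTop.hom ∘ eW := funext hnat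
    rw [h2] at h1
    exact h1.mono (Set.range_comp_subset_range _ _)
  have hker := (PrimeSpectrum.denseRange_comap_iff_ker_le_nilRadical _).1 hd'
  let P : Ideal Γ(O, ⊤) := (eO o : PrimeSpectrum Γ(O, ⊤)).asIdeal
  have : P.IsPrime := (eO o : PrimeSpectrum Γ(O, ⊤)).isPrime
  obtain ⟨q, hq, hqP⟩ := Ideal.exists_minimalPrimes_le (I := RingHom.ker g.appTop.hom) (J := P)
    (hker.trans (nilradical_le_prime P))
  obtain ⟨p', hp', -, hp''⟩ := Ideal.exists_comap_eq_of_mem_minimalPrimes g.appTop.hom (I := ⊥) q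
    (by rwa [← RingHom.ker_eq_comap_bot])
  obtain ⟨w, hw⟩ := eW.surjective ⟨p', hp'⟩
  refine ⟨w, ?_⟩
  have : eO (g w) ⤳ eO o := by
    rw [hnat, hw]
    exact (PrimeSpectrum.le_iff_specializes _ _).1 (by
      change p'.comap g.appTop.hom ≤ P
      rw [hp'']; exact hqP)
  simpa using this.map eO.symm.continuous

variable {S : Scheme.{u}} {X Y U : Sp S}

open RPt

section affinePoints

variable {V : Over S} {R R' : Type u} [CommRing R] [CommRing R']

/-- The morphism of schemes of a point of a representable sheaf. -/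
noncomputable def toSch (p : RPt ((yon S).obj V) R) : Spec (CommRingCat.of R) ⟶ V.left :=
  ((yon S).preimage p.hom).left

theorem ofSch_toSch (p : RPt ((yon S).obj V) R) : ofSch (toSch p) = p := by
  obtain ⟨x, rfl⟩ := exists_eq_ofSch p
  congr 1
  simp only [toSch, ofSch, Functor.preimage_map]
  rfl

theorem toSch_ofSch (x : Spec (CommRingCat.of R) ⟶ V.left) : toSch (ofSch (O := V) x) = x :=
  ofSch_injective (ofSch_toSch _)

variable [IsAffine V.left]

/-- The ring map of a point of an affine scheme. -/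
noncomputable def vr (p : RPt ((yon S).obj V) R) : Γ(V.left, ⊤) →+* R :=
  rmap (toSch p)

theorem vr_res (g : R →+* R') (p : RPt ((yon S).obj V) R) : vr (res g p) = g.comp (vr p) := by
  obtain ⟨x, rfl⟩ := exists_eq_ofSch p
  simp only [vr, res_ofSch, toSch_ofSch, rmap_comp]

theorem vr_ext {p q : RPt ((yon S).obj V) R} (h : vr p = vr q) : p = q := by
  rw [← ofSch_toSch p, ← ofSch_toSch q, rmap_ext h]

theorem eq_of_res_injective {g : R →+* R'} (hg : Function.Injective g) {p q : RPt ((yon S).obj V) R}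
    (h : res g p = res g q) : p = q := by
  refine vr_ext (RingHom.ext fun r => hg ?_)
  have := congrArg vr h
  rw [vr_res, vr_res] at this
  exact RingHom.congr_fun this r

end affinePoints

/-- An affine scheme covering a dense open part of a chart. -/
theorem exists_dense_chart (hX : IsAlgSpace X) (hU : IsAlgSpace U) {h : U ⟶ X} (hh : IsQuasiCompactMor h)
    (hd : DenseRange (Points.map h)) {O : Over S} [IsAffine O.left] (ao : (yon S).obj O ⟶ X)
    (hoo : IsOpenMap (Points.map ao)) :
    ∃ (W : Over S) (g : W ⟶ O) (q : (yon S).obj W ⟶ U), IsAffine W.left ∧ DenseRange g.left ∧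
      q ≫ h = (yon S).map g ≫ ao := by
  have hO' := IsAlgSpace.yon_obj (S := S) O
  have := compactSpace_points_of_isQuasiCompactSp (isQuasiCompactMor_pullback hh O ao)
  obtain ⟨W, p, hW, hp, hps⟩ := exists_affine_atlas (isAlgSpace_pullback hX.diag hU hO' h ao)
  obtain ⟨g, hg⟩ := (yon S).map_surjective (p ≫ pullback.snd h ao)
  refine ⟨W, g, p ≫ pullback.fst h ao, hW, ?_, by rw [Category.assoc, pullback.condition, hg, Category.assoc]⟩
  have h1 : Dense (Points.map ao ⁻¹' Set.range (Points.map h)) := hd.preimage hoo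
  rw [← range_snd_of_isPullback (IsPullback.of_hasPullback h ao)] at h1
  have h2 : Set.range (Points.map (pullback.snd h ao)) = Points.schemeHomeo O '' Set.range g.left := by
    ext y
    constructor
    · rintro ⟨z, rfl⟩
      obtain ⟨w, rfl⟩ := surjective_ofPt_of_repWith le_rfl hps z
      refine ⟨g.left w, ⟨w, rfl⟩, ?_⟩
      rw [Points.map_ofPt, ← hg, ← Category.comp_id ((yon S).map g), ofPt_map]
      rfl
    · rintro ⟨_, ⟨w, rfl⟩, rfl⟩
      refine ⟨Points.ofPt p w, ?_⟩
      rw [Points.map_ofPt, ← hg, ← Category.comp_id ((yon S).map g), ofPt_map]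
      rfl
  rw [h2] at h1
  intro y
  have h3 := h1 (Points.schemeHomeo O y)
  rw [← (Points.schemeHomeo O).image_closure] at h3
  obtain ⟨y', hy', e⟩ := h3
  exact (Points.schemeHomeo O).injective e ▸ hy'

/-- The existence part from squares through a dense quasi-compact morphism, over an affine target. -/
theorem existVC_of_dense_affine (hX : IsAlgSpace X) {V : Over S} [IsAffine V.left]
    {f : X ⟶ (yon S).obj V} {h : U ⟶ X} (hh : IsQuasiCompactMor h) (hU : IsAlgSpace U)
    (hd : DenseRange (Points.map h))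
    (hv₁ : ∀ sq : ValSq f, (∃ t, t ≫ h = sq.top) → sq.HasUniq)
    (hv₂ : ∀ sq : ValSq f, (∃ t, t ≫ h = sq.top) → sq.HasLiftExt) :
    ExistVC f := by
  intro v
  let T₀ : RPt X v.K := ⟨_, v.top⟩
  let η : ↥v.ptK.left := (default : ↥(Spec (CommRingCat.of v.K)))
  obtain ⟨ι₀, T, a, hT, hae, hao, hac⟩ := exists_affine_family hX
  obtain ⟨i₀, hi₀⟩ := hac (Points.ofPt v.top η)
  rw [range_map_yon] at hi₀
  obtain ⟨o, ho⟩ := hi₀
  obtain ⟨O, ao, hO, hoe, hoo, o, hox⟩ : ∃ (O : Over S) (ao : (yon S).obj O ⟶ X), IsAffine O.left ∧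
      RepWith @Etale ao ∧ IsOpenMap (Points.map ao) ∧ ∃ o, Points.ofPt ao o = Points.ofPt v.top η :=
    ⟨T i₀, a i₀, hT i₀, hae i₀, hao i₀, o, ho⟩
  obtain ⟨W, g, q, hW, hgd, hqh⟩ := exists_dense_chart hX hU hh hd ao hoo
  obtain ⟨w, hw⟩ := exists_specializes_of_dense g.left hgd o
  obtain ⟨B, b, hb, hbw⟩ := exists_valuation_of_specializes g.left w hw
  obtain ⟨ι, hι⟩ := exists_residue_factor (Spec.map (CommRingCat.ofHom (residue B)) ≫ b) o (by
    rw [Scheme.Hom.comp_apply]
    exact (congrArg b (comap_closedPoint (residue B))).trans hb)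
  obtain ⟨W', k₁, k₂, sqW⟩ := (hX.representable_from_yon ao) v.top
  obtain ⟨k₂, rfl⟩ := (yon S).map_surjective k₂
  obtain ⟨w', hw'⟩ : o ∈ Set.range k₂.left := by
    rw [← preimage_ofPt_range sqW.flip, Set.mem_preimage, hox]
    exact ofPt_mem_range v.top η
  obtain ⟨iΩ, hiΩ⟩ := exists_residue_factor (W'.left.fromSpecResidueField w' ≫ k₂.left) o
    ((congrArg k₂.left (Scheme.fromSpecResidueField_apply w' _)).trans hw')
  obtain ⟨ψ₁, hψ₁⟩ := Spec.map_surjective (R := CommRingCat.of v.K) (S := W'.left.residueField w')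
    (W'.left.fromSpecResidueField w' ≫ k₁.left)
  let po : RPt X (O.left.residueField o) := post ao (ofSch (O.left.fromSpecResidueField o))
  -- the two presentations of the given point agree over the common field
  have K1 : res ψ₁.hom T₀ = res iΩ.hom po := by
    have hT₀ : T₀ = post v.top (ofSch (O := v.ptK) (R := v.K) (𝟙 _)) := by
      refine RPt.ext' (Category.id_comp _).symm ?_
      simp only [T₀, post, ofSch]
      rw [← Functor.map_comp_assoc]
      refine Eq.trans (congrArg (· ≫ v.top) (congrArg (yon S).map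
        (show _ = 𝟙 v.ptK from Over.OverMorphism.ext (Category.id_comp _)))) ?_
      exact (congrArg (· ≫ v.top) ((yon S).map_id _)).trans (Category.id_comp _)
    rw [hT₀, ← post_res, res_ofSch, Category.comp_id, ← post_res, res_ofSch, CommRingCat.ofHom_hom,
      CommRingCat.ofHom_hom, ← hiΩ, hψ₁]
    refine ((congrArg (post v.top) (post_ofSch k₁ _)).symm.trans ?_).trans
      (congrArg (post ao) (post_ofSch k₂ _))
    rw [post_post, post_post, sqW.w]
  -- the valuation ring dominating the generization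
  let pB : RPt X B := post ao (ofSch b)
  have K2 : res (residue B) pB = res ι.hom po := by
    simp only [pB, po]
    rw [← post_res, res_ofSch, hι, ← post_res, res_ofSch, CommRingCat.ofHom_hom]
  let tU : RPt U (W.left.residueField w) := post q (ofSch (W.left.fromSpecResidueField w))
  have K3 : post h tU = res B.subtype pB := by
    simp only [tU, pB]
    rw [post_post, hqh, ← post_post, post_ofSch, ← post_res, res_ofSch]
    exact congrArg (fun z => post ao (ofSch z)) hbw.symm
  -- the valuation rings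
  obtain ⟨AΩ, hAΩ⟩ := exists_comap_eq ψ₁.hom (rangeValuationSubring v.A v.K)
  let A₀ : ValuationSubring (O.left.residueField o) := AΩ.comap iΩ.hom
  obtain ⟨A₁, hA₁⟩ := exists_comap_eq ι.hom A₀
  let b₀ : RPt ((yon S).obj V) v.A := ⟨v.str, v.bot⟩
  have hc₀ : post f T₀ = res (algebraMap v.A v.K) b₀ := valSq_comm v
  let ρB := vr (post f pB)
  have hρC : ∀ r, (B.subtype.comp ρB) r ∈ composite B A₁ := fun r => by
    refine mem_composite.2 ⟨(ρB r).2, ?_⟩
    change ((residue B).comp (vr (post f pB))) r ∈ A₁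
    rw [← vr_res, ← post_res, K2, post_res, vr_res, RingHom.comp_apply, hA₁]
    change iΩ.hom (vr (post f po) r) ∈ AΩ
    have e : iΩ.hom.comp (vr (post f po)) = ψ₁.hom.comp ((algebraMap v.A v.K).comp (vr b₀)) :=
      (vr_res iΩ.hom (post f po)).symm.trans <| (congrArg vr ((post_res f iΩ.hom po).symm.trans <|
        (congrArg (post f) K1.symm).trans <| (post_res f ψ₁.hom T₀).trans (congrArg (res ψ₁.hom) hc₀))).trans <|
        (vr_res _ _).trans (congrArg _ (vr_res _ _))
    rw [show iΩ.hom (vr (post f po) r) = _ from RingHom.congr_fun e r]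
    exact (hAΩ _).2 ⟨_, rfl⟩
  let C := composite B A₁
  let ρC : Γ(V.left, ⊤) →+* C := (B.subtype.comp ρB).codRestrict C.toSubring hρC
  let bC : RPt ((yon S).obj V) C := ofSch (ofRmap ρC)
  have hbC : vr bC = ρC := by simp only [bC, vr, toSch_ofSch, rmap_ofRmap]
  have hc₂ : post (h ≫ f) tU = res (algebraMap C (W.left.residueField w)) bC := by
    rw [← post_post, K3, post_res]
    refine vr_ext ?_
    rw [vr_res, vr_res, hbC]
    rfl
  obtain ⟨L, _, ψ, C', φ, l, hC', hφ, hl₁, hl₂⟩ := exists_lift_subring hv₂ bC tU hc₂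
  have hC'' : ∀ x, ψ x ∈ C' ↔ x ∈ C := fun x => (hC' x).trans
    ⟨fun ⟨c, hc⟩ => hc ▸ c.2, fun hx => ⟨⟨x, hx⟩, rfl⟩⟩
  obtain ⟨B', hCB', hB'⟩ := exists_overring_extension ψ (B := B) (C := C) (fun x hx => composite_le hx) C' hC''
  let inc : C' →+* B' := Subring.inclusion (S := C'.toSubring) (T := B'.toSubring) hCB'
  let ιB : B →+* B' := (ψ.comp B.subtype).codRestrict B'.toSubring fun x => (hB' _).2 x.2
  have hιB : IsLocalHom ιB := by
    refine ⟨fun x hx => ?_⟩
    obtain ⟨u', hu⟩ := hx
    have e := congrArg (fun z : B' => (z : L)) u'.mul_inv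
    simp only [MulMemClass.coe_mul, hu, OneMemClass.coe_one] at e
    have h2 : ψ ((x : W.left.residueField w)⁻¹) ∈ B' := by
      rw [map_inv₀]
      exact (eq_inv_of_mul_eq_one_right e).symm ▸ SetLike.coe_mem _
    have h3 : (x : W.left.residueField w) ≠ 0 := fun h0 => by
      have : ((ιB x : B') : L) = 0 := by change ψ (x : W.left.residueField w) = 0; rw [h0, map_zero]
      rw [this, zero_mul] at e
      exact zero_ne_one e
    exact IsUnit.of_mul_eq_one (⟨_, (hB' _).1 h2⟩ : B) (Subtype.ext (mul_inv_cancel₀ h3))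
  have hlift : res inc l = res ιB pB := by
    have hL₁ : res (algebraMap B' L) (res inc l) = post h (res ψ tU) := by
      rw [res_res, post_res]
      exact hl₁
    have hL₂ : res (algebraMap B' L) (res ιB pB) = post h (res ψ tU) := by
      rw [res_res, post_res, K3, res_res]
      rfl
    refine lift_unique hv₁ (res ψ tU) _ _ hL₁ hL₂ (eq_of_res_injective (g := algebraMap B' L)
      Subtype.val_injective ?_)
    rw [← post_res, ← post_res, hL₁, hL₂]
  -- the residual valuation ring
  let A₂ := residueImage hCB'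
  let ι₂ : ResidueField B →+* ResidueField B' := ResidueField.map ιB
  let r₂ : C' →+* A₂ := ((residue B').comp inc).codRestrict A₂.toSubring fun c => ⟨c, rfl⟩
  have K4 : res A₂.subtype (res r₂ l) = res (ι₂.comp ι.hom) po := by
    rw [res_res, show A₂.subtype.comp r₂ = (residue B').comp inc from rfl, ← res_res, hlift, res_res,
      show (residue B').comp ιB = ι₂.comp (residue B) from RingHom.ext fun _ => rfl, ← res_res, K2, res_res]
  have hA₂ : ∀ x, (ι₂.comp ι.hom) x ∈ A₂ ↔ x ∈ A₀ := fun x => by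
    rw [RingHom.comp_apply, ← hA₁]
    obtain ⟨⟨y, hy⟩, hyx⟩ := residue_surjective (ι.hom x)
    rw [← hyx]
    change residue B' ⟨ψ y, (hB' y).2 hy⟩ ∈ A₂ ↔ _
    rw [mem_residueImage hCB', hC'']
    exact ⟨fun h => (mem_composite.1 h).2, fun h => mem_composite.2 ⟨hy, h⟩⟩
  obtain ⟨Ω, _, i', j', A₃, hij, hi', hj'⟩ :=
    exists_common_extension iΩ.hom (ι₂.comp ι.hom) A₀ AΩ A₂ (fun _ => Iff.rfl) hA₂
  let j₃ : A₂ →+* A₃ := (j'.comp A₂.subtype).codRestrict A₃.toSubring fun x => (hj' _).2 x.2
  let ψ₃ : v.K →+* Ω := i'.comp ψ₁.hom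
  let φ₃ : v.A →+* A₃ := (ψ₃.comp (algebraMap v.A v.K)).codRestrict A₃.toSubring
    fun x => (hi' _).2 ((hAΩ _).2 ⟨x, rfl⟩)
  let l₃ := res j₃ (res r₂ l)
  have h₃ : res (algebraMap A₃ Ω) l₃ = res ψ₃ T₀ := by
    simp only [l₃]
    rw [res_res, show (algebraMap A₃ Ω).comp j₃ = j'.comp A₂.subtype from rfl, ← res_res, K4, res_res, ← hij,
      ← res_res, ← K1]
    exact res_res _ _ _
  refine hasLiftExt_of_subring v A₃ ψ₃ (fun x => (hi' _).trans (hAΩ x)) l₃ φ₃ (fun _ => rfl) h₃ ?_
  refine eq_of_res_injective (g := algebraMap A₃ Ω) Subtype.val_injective ?_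
  rw [← post_res, h₃, post_res, hc₀, res_res, res_res]
  rfl

/-- The existence part from squares through a dense quasi-compact morphism. -/
theorem existVC_of_dense (hX : IsAlgSpace X) (hY : IsAlgSpace Y) (hU : IsAlgSpace U) {f : X ⟶ Y} {h : U ⟶ X}
    (hh : IsQuasiCompactMor h) (hd : DenseRange (Points.map h))
    (hv₁ : ∀ sq : ValSq f, (∃ t, t ≫ h = sq.top) → sq.HasUniq)
    (hv₂ : ∀ sq : ValSq f, (∃ t, t ≫ h = sq.top) → sq.HasLiftExt) :
    ExistVC f := by
  intro v
  obtain ⟨ι₀, T, b, hT, hbe, hbo, hbc⟩ := exists_affine_family hY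
  obtain ⟨i, hi⟩ := hbc (Points.ofPt v.bot (closedPoint v.A : ↥(Spec (CommRingCat.of v.A))))
  have := hT i
  have hTs := IsAlgSpace.yon_obj (S := S) (T i)
  have hbfl : LocP @Flat (b i) := locP_of_repWith etLocal_flat
    (repWith_le (fun _ _ k (_ : Etale k) => inferInstanceAs (Flat k)) (hbe i))
  obtain ⟨A', _, _, _, φ, hφinj, hφloc, l', hl'⟩ :=
    exists_lift_valuation_of_flat hTs hY hbfl v.A v.str v.bot hi
  let K' := FractionRing A'
  let ψ : v.K →+* K' := IsFractionRing.lift (g := (algebraMap A' K').comp φ)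
    ((IsFractionRing.injective A' K').comp hφinj)
  let e₁ : v.DomExt :=
    { A' := A', K' := K', φ := φ, ψ := ψ
      comm := RingHom.ext fun a => (IsFractionRing.lift_algebraMap (K := v.K) (g := (algebraMap A' K').comp φ) ((IsFractionRing.injective A' K').comp hφinj) a).symm
      isLocalHom := hφloc }
  let P := pullback f (b i)
  let fst : P ⟶ X := pullback.fst f (b i)
  let snd : P ⟶ (yon S).obj (T i) := pullback.snd f (b i)
  have hP : IsAlgSpace P := isAlgSpace_pullback hY.diag hX hTs f (b i)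
  -- the base change of the dense morphism
  let U' := pullback h fst
  have hU' : IsAlgSpace U' := isAlgSpace_pullback hX.diag hU hP h fst
  let h' : U' ⟶ P := pullback.snd h fst
  have hh' : IsQuasiCompactMor h' := isQuasiCompactMor_of_isPullback (IsPullback.of_hasPullback h fst) hh
  have hfo : IsOpenMap (Points.map fst) := isOpenMap_map_of_repWith etale_le_universallyOpen
    (repWith_of_isPullback (IsPullback.of_hasPullback f (b i)).flip (hbe i))
  have hd' : DenseRange (Points.map h') := by
    have h1 : Dense (Points.map fst ⁻¹' Set.range (Points.map h)) := hd.preimage hfo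
    rwa [← range_snd_of_isPullback (IsPullback.of_hasPullback h fst)] at h1
  have hw₁ : ∀ sq : ValSq snd, (∃ t, t ≫ h' = sq.top) → sq.HasUniq := by
    rintro sq ⟨t, ht⟩ l₁ l₂ a₁ a₂ c₁ c₂
    refine pullback.hom_ext ?_ (a₂.trans c₂.symm)
    refine hv₁ { A := sq.A, K := sq.K, str := sq.str, top := sq.top ≫ fst, bot := sq.bot ≫ b i
                 comm := ?_ } ⟨t ≫ pullback.fst h fst, ?_⟩ _ _ ?_ ?_ ?_ ?_
    · rw [Category.assoc, pullback.condition, ← Category.assoc, sq.comm, Category.assoc]
    · exact (Category.assoc _ _ _).trans ((congrArg (t ≫ ·) pullback.condition).trans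
        ((Category.assoc _ _ _).symm.trans (congrArg (· ≫ fst) ht)))
    · exact (Category.assoc _ _ _).symm.trans (congrArg (· ≫ fst) a₁)
    · exact (Category.assoc _ _ _).trans ((congrArg (l₁ ≫ ·) pullback.condition).trans
        ((Category.assoc _ _ _).symm.trans (congrArg (· ≫ b i) a₂)))
    · exact (Category.assoc _ _ _).symm.trans (congrArg (· ≫ fst) c₁)
    · exact (Category.assoc _ _ _).trans ((congrArg (l₂ ≫ ·) pullback.condition).trans
        ((Category.assoc _ _ _).symm.trans (congrArg (· ≫ b i) c₂)))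
  have hw₂ : ∀ sq : ValSq snd, (∃ t, t ≫ h' = sq.top) → sq.HasLiftExt := by
    rintro sq ⟨t, ht⟩
    have hc : (sq.top ≫ fst) ≫ f = (yon S).map sq.j ≫ sq.bot ≫ b i := by
      rw [Category.assoc, pullback.condition, ← Category.assoc, sq.comm, Category.assoc]
    obtain ⟨e, he⟩ := hv₂ { A := sq.A, K := sq.K, str := sq.str, top := sq.top ≫ fst, bot := sq.bot ≫ b i
                            comm := hc } ⟨t ≫ pullback.fst h fst, by
        exact (Category.assoc _ _ _).trans ((congrArg (t ≫ ·) pullback.condition).trans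
        ((Category.assoc _ _ _).symm.trans (congrArg (· ≫ fst) ht)))⟩
    obtain ⟨l, g₁, g₂⟩ := (hasLift_iff e).1 he
    let e' : sq.DomExt :=
      { A' := e.A', K' := e.K', φ := e.φ, ψ := e.ψ, comm := e.comm, isLocalHom := e.isLocalHom }
    refine ⟨e', (hasLift_iff e').2 ⟨pullback.lift l ((yon S).map (phiHom e') ≫ sq.bot)
      (g₂.trans (Category.assoc _ _ _).symm), pullback.hom_ext ?_ ?_, pullback.lift_snd _ _ _⟩⟩
    · exact (Category.assoc _ _ _).trans ((congrArg (_ ≫ ·) (pullback.lift_fst _ _ _)).trans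
        (g₁.trans (Category.assoc _ _ _).symm))
    · exact (Category.assoc _ _ _).trans ((congrArg (_ ≫ ·) (pullback.lift_snd _ _ _)).trans
        ((bot_comm e').trans (Category.assoc _ _ _).symm))
  have hex : ExistVC snd := existVC_of_dense_affine hP hh' hU' hd' hw₁ hw₂
  -- the square over the affine chart
  obtain ⟨top', ht₁, ht₂⟩ := (IsPullback.of_hasPullback f (b i)).exists_lift
    ((yon S).map (psiHom e₁) ≫ v.top) ((yon S).map (jHom e₁) ≫ l') (by
      rw [Category.assoc, Category.assoc, hl']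
      exact (bot_comm e₁).symm)
  obtain ⟨e₂, he₂⟩ := hex { A := A', K := K', str := e₁.ptA'.hom, top := top', bot := l', comm := ht₂ }
  obtain ⟨l, g₁, g₂⟩ := (hasLift_iff e₂).1 he₂
  have := e₂.isLocalHom
  refine hasLiftExt_of_comp v φ ψ e₂.φ e₂.ψ (RingHom.ext fun a => ?_) (RingHom.isLocalHom_comp e₂.φ φ)
    (l ≫ fst) (psiHom e₂) (psiHom e₁) rfl rfl ?_ ?_
  · exact (RingHom.congr_fun e₂.comm (φ a)).trans (congrArg e₂.ψ (RingHom.congr_fun e₁.comm a))
  · refine (Category.assoc _ _ _).symm.trans ((congrArg (· ≫ fst) g₁).trans ?_)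
    exact (Category.assoc _ _ _).trans (congrArg (_ ≫ ·) ht₁)
  · refine (Category.assoc _ _ _).trans ((congrArg (l ≫ ·) pullback.condition).trans
      ((Category.assoc _ _ _).symm.trans ((congrArg (· ≫ b i) g₂).trans ((Category.assoc _ _ _).trans
        ((congrArg (_ ≫ ·) hl').trans ?_)))))
    exact ((yon S).map_comp_assoc _ _ _).symm

/-- The refined valuative criterion. -/
theorem refined_valuative (hX : IsAlgSpace X) (hY : IsAlgSpace Y) (hU : IsAlgSpace U) {f : X ⟶ Y} {h : U ⟶ X}
    (hf : IsQuasiCompactMor f) (hh : IsQuasiCompactMor h) (hd : DenseRange (Points.map h))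
    (hv : ∀ sq : ValSq f, (∃ t, t ≫ h = sq.top) → sq.HasUniq ∧ sq.HasLiftExt) :
    IsUnivClosedMor f ∧ (IsQuasiSeparatedMor f → IsSeparatedMor f) := by
  refine ⟨isUnivClosedMor_of_existVC hX hY hf
    (existVC_of_dense hX hY hU hh hd (fun sq e => (hv sq e).1) fun sq e => (hv sq e).2), fun hqs => ?_⟩
  have hXX := isAlgSpace_pullback hY.diag hX hX f f
  refine (isSeparatedMor_iff hX hY f).1.2 (isUnivClosedMor_of_existVC hX hXX
    (isQuasiCompactMor_of_repWith hX hXX hqs) (existVC_of_dense hX hXX hU hh hd ?_ ?_))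
  · intro sq _ l₁ l₂ _ a₂ _ c₂
    have e := (a₂.trans c₂.symm) =≫ pullback.fst f f
    simpa only [Category.assoc, pullback.diagonal_fst, Category.comp_id] using e
  · rintro sq ⟨t, ht⟩
    have h₁ := sq.comm =≫ pullback.fst f f
    have h₂ := sq.comm =≫ pullback.snd f f
    simp only [Category.assoc, pullback.diagonal_fst, pullback.diagonal_snd, Category.comp_id] at h₁ h₂
    have hc : sq.top ≫ f = (yon S).map sq.j ≫ sq.bot ≫ pullback.fst f f ≫ f := by
      refine (congrArg (· ≫ f) h₁).trans ?_
      simp only [Category.assoc]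
    have e : sq.bot ≫ pullback.fst f f = sq.bot ≫ pullback.snd f f :=
      (hv { A := sq.A, K := sq.K, str := sq.str, top := sq.top, bot := sq.bot ≫ pullback.fst f f ≫ f
            comm := hc } ⟨t, ht⟩).1 _ _ h₁.symm (Category.assoc _ _ _) h₂.symm
        ((Category.assoc _ _ _).trans (by rw [← pullback.condition]))
    refine ⟨idExt sq, (hasLift_iff _).2 ⟨(yon S).map (phiHom (idExt sq)) ≫ sq.bot ≫ pullback.fst f f, ?_, ?_⟩⟩
    · refine ((Functor.map_comp_assoc _ _ _ _).symm.trans ?_).trans (congrArg (_ ≫ ·) h₁.symm)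
      rw [jHom_phiHom, Functor.map_comp, Category.assoc]
    · apply pullback.hom_ext
      · simp only [Category.assoc, pullback.diagonal_fst, Category.comp_id]
      · simp only [Category.assoc, pullback.diagonal_snd, Category.comp_id]
        rw [e]

end Groth.Agent.H12AlgSp
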